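import Groth.Agent.DualLib.RelTop.StalkLoc
import Groth.Agent.FlatCrit.Inj
import Groth.Agent.EGA41Lib.FlatRegularSeq
import Groth.Agent.Props12.FinLocFree
import Groth.Agent.PicLib.FiniteSetTriv
import Groth.Agent.CAlgH3.Depth
import Groth.Agent.AssSch12.Primary
import Groth.Agent.RefHullLib.Coh
import Groth.Agent.Coherent.FinitePres
import Groth.Prelude.Def_RelCanon
import Mathlib.RingTheory.Nakayama

/-!
# Invertibility from stalks; depth from `(S₂)` with full support
-/

set_option autoImplicit false
set_option backward.isDefEq.respectTransparency false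
set_option linter.style.haveILetI false
set_option linter.unusedSectionVars false

universe u

open CategoryTheory CategoryTheory.Limits AlgebraicGeometry TopologicalSpace IsLocalRing TensorProduct

namespace Groth.Agent.DualLib.RelTop

open Groth.Agent EGA43.DimFormula

/-- A finite flat module whose closed fibre is free of rank one is free of rank one. -/
theorem nonempty_equiv_of_fibre {A B R : Type u} [CommRing A] [IsLocalRing A] [IsNoetherianRing A] [CommRing B] [IsLocalRing B]
    [IsNoetherianRing B] [Algebra A B] [IsLocalHom (algebraMap A B)] [CommRing R] [Algebra B R]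
    (hs : Function.Surjective (algebraMap B R))
    (hk : RingHom.ker (algebraMap B R) = (maximalIdeal A).map (algebraMap A B))
    (M : Type u) [AddCommGroup M] [Module B M] [Module A M] [IsScalarTower A B M] [Module.Finite B M]
    [Module.Flat A M] (e : R ⊗[B] M ≃ₗ[R] R) : Nonempty (M ≃ₗ[B] B) := by
  let I : Ideal B := RingHom.ker (algebraMap B R)
  have hI : I ≤ maximalIdeal B := hk.trans_le
    (Ideal.map_le_iff_le_comap.2 fun a ha => map_nonunit (algebraMap A B) a ha)
  obtain ⟨m, hm⟩ := TensorProduct.mk_surjective B M R hs (e.symm 1)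
  let u : B →ₗ[B] M := LinearMap.toSpanSingleton B M m
  have hker : ∀ x : M, (1 : R) ⊗ₜ[B] x = 0 ↔ x ∈ I • (⊤ : Submodule B M) := fun x => by
    let e2 : (B ⧸ I) ≃ₗ[B] R :=
      { RingHom.quotientKerEquivOfSurjective (f := algebraMap B R) hs with
        map_smul' := fun c x => by
          obtain ⟨x, rfl⟩ := Ideal.Quotient.mk_surjective x
          show algebraMap B R (c * x) = c • algebraMap B R x
          rw [map_mul, Algebra.smul_def] }
    have h1 : (TensorProduct.congr e2 (LinearEquiv.refl B M)) ((1 : B ⧸ I) ⊗ₜ[B] x) = (1 : R) ⊗ₜ[B] x := by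
      show algebraMap B R 1 ⊗ₜ[B] x = _
      rw [map_one]
    rw [← h1, LinearEquiv.map_eq_zero_iff, ← LinearEquiv.map_eq_zero_iff (TensorProduct.quotTensorEquivQuotSMul M I),
      show (TensorProduct.quotTensorEquivQuotSMul M I) ((1 : B ⧸ I) ⊗ₜ[B] x) = Submodule.Quotient.mk x from by
        rw [show (1 : B ⧸ I) = Ideal.Quotient.mk I 1 from rfl]
        exact (TensorProduct.quotTensorEquivQuotSMul_mk_tmul I 1 x).trans (congrArg _ (one_smul B x)),
      Submodule.Quotient.mk_eq_zero]
  have hum : ∀ b : B, e ((1 : R) ⊗ₜ[B] (b • m)) = algebraMap B R b := fun b => by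
    rw [TensorProduct.tmul_smul, ← algebraMap_smul R b ((1 : R) ⊗ₜ[B] m), map_smul,
      show (1 : R) ⊗ₜ[B] m = e.symm 1 from hm, e.apply_symm_apply, smul_eq_mul, mul_one]
  have hsurj : Function.Surjective u := by
    rw [← LinearMap.range_eq_top]
    refine le_antisymm le_top (Submodule.le_of_le_smul_of_le_jacobson_bot (Module.finite_def.1 inferInstance)
      (hI.trans (maximalIdeal_le_jacobson _)) fun x _ => ?_)
    obtain ⟨b, hb⟩ := hs (e ((1 : R) ⊗ₜ[B] x))
    have h0 : (1 : R) ⊗ₜ[B] (x - b • m) = 0 := e.injective (by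
      rw [TensorProduct.tmul_sub, map_sub, hum, hb, sub_self, map_zero])
    exact Submodule.mem_sup.2 ⟨b • m, ⟨b, rfl⟩, x - b • m, (hker _).1 h0, add_sub_cancel _ _⟩
  have hres : ∀ N : Submodule B M, N = I • (⊤ : Submodule B M) →
      N.restrictScalars A = maximalIdeal A • (⊤ : Submodule A M) := by
    rintro N rfl
    rw [show I = (maximalIdeal A).map (algebraMap A B) from hk, Ideal.smul_restrictScalars,
      Submodule.restrictScalars_top]
  have hinj : Function.Injective ((u.restrictScalars A).lTensor (ResidueField A)) := by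
    rw [injective_iff_map_eq_zero]
    intro z hz
    obtain ⟨b, rfl⟩ := TensorProduct.mk_surjective A B (ResidueField A) Ideal.Quotient.mk_surjective z
    have hbm : u b ∈ I • (⊤ : Submodule B M) := by
      rw [← Submodule.restrictScalars_mem A, hres _ rfl, ← LinearMap.ker_tensorProductMk]
      exact hz
    have hbI : b ∈ I := by
      show algebraMap B R b = 0
      rw [← hum b, (hker (b • m)).2 hbm, map_zero]
    have hbA : b ∈ maximalIdeal A • (⊤ : Submodule A B) := by
      rw [Ideal.smul_top_eq_map, Submodule.restrictScalars_mem, ← hk]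
      exact hbI
    rw [← LinearMap.ker_tensorProductMk] at hbA
    exact hbA
  exact ⟨(LinearEquiv.ofBijective u ⟨FlatCrit.injective_of_injective_mod_max (S := B) (u.restrictScalars A) hinj
    (EGA41Lib.map_le_jacobson_of_le (maximalIdeal A) le_rfl), hsurj⟩).symm⟩

variable {X : Scheme.{u}} [IsLocallyNoetherian X]

/-- A coherent module with a stalk free of rank one is invertible near the point. -/
theorem invertibleAt_of_stalk_equiv {M : X.Modules} (hM : Coh.IsCoh M) (x : X)
    (e : M.presheaf.stalk x ≃ₗ[X.presheaf.stalk x] X.presheaf.stalk x) : RelCanon.InvertibleAt M x := by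
  haveI : Coh.IsQCoh M := hM.1
  haveI : Module.Free (X.presheaf.stalk x) (M.presheaf.stalk x) := Module.Free.of_equiv e.symm
  obtain ⟨U, n, hx, ⟨i⟩⟩ := Props12.exists_nhd_free M (Coherent.isFP_of_isCoh hM) x ‹_›
  obtain ⟨W, hW, hxW, hWU⟩ := exists_isAffineOpen_mem_and_subset (x := x) (U := U) hx
  obtain ⟨b⟩ := Props12.exists_basis_sections i hWU
  let _ := (X.presheaf.germ W x hxW).hom.toAlgebra
  let _ := Module.compHom (M.presheaf.stalk x) (X.presheaf.germ W x hxW).hom
  have : IsScalarTower Γ(X, W) (X.presheaf.stalk x) (M.presheaf.stalk x) :=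
    IsScalarTower.of_algebraMap_smul fun _ _ => rfl
  let φ : Γ(M, W) →ₗ[Γ(X, W)] M.presheaf.stalk x :=
    { toFun := M.presheaf.germ W x hxW
      map_add' := map_add _
      map_smul' := QCohLoc.germ_smul' (M := M) hxW }
  have := EGA43.QcohFP.isLocalizedModule_germ M hW hxW φ fun _ => rfl
  have := hW.isLocalization_stalk ⟨x, hxW⟩
  let b' := b.ofIsLocalizedModule (X.presheaf.stalk x) (hW.primeIdealOf ⟨x, hxW⟩).asIdeal.primeCompl φ
  have hn : n = 1 := by
    have h := Module.finrank_eq_card_basis b'
    rw [LinearEquiv.finrank_eq e, Module.finrank_self, Fintype.card_fin] at h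
    exact h.symm
  subst hn
  exact ⟨U, hx, ⟨i ≪≫ PicLib.freeModOneIso _⟩⟩

/-- `(S₂)` at a point gives depth two at generizations of dimension at least two, when the support contains the
points of an open containing every point of dimension at most one. -/
theorem two_le_depth_of_skAt {F : X.Modules} (hF : Coh.IsCoh F) (z : X) (h : RelCanon.SkAt 2 F z) (U : X.Opens)
    (hdim : ∀ w : X, w ⤳ z → w ∉ U → (2 : WithBot ℕ∞) ≤ ringKrullDim (X.presheaf.stalk w))
    (hne : ∀ v : X, v ⤳ z → v ∈ U → Nontrivial (F.presheaf.stalk v)) :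
    ∀ w : X, w ⤳ z → w ∉ U → (2 : ℕ∞) ≤ _root_.LocCoh.depth (X.presheaf.stalk w) (F.presheaf.stalk w) := by
  intro w hwz hwU
  obtain ⟨p, rfl⟩ := exists_toPt hwz
  rw [← depth_toPt F hF.1 z p]
  let R := X.presheaf.stalk z
  let N := F.presheaf.stalk z
  haveI : Module.Finite R N := AssSch12.finite_stalk hF z
  let Rp := Localization.AtPrime p.asIdeal
  let Np := LocalizedModule p.asIdeal.primeCompl N
  have hdimloc : ∀ q : PrimeSpectrum R, ringKrullDim (X.presheaf.stalk (toPt z q)) = ringKrullDim (Localization.AtPrime q.asIdeal) := fun q => by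
    letI := (X.presheaf.stalkSpecializes (toPt_specializes z q)).hom.toAlgebra
    haveI : IsLocalization.AtPrime (X.presheaf.stalk (toPt z q)) q.asIdeal := (stalk_loc F hF.1 z q).1
    exact ringKrullDim_eq_of_ringEquiv (IsLocalization.algEquiv q.asIdeal.primeCompl _ _).toRingEquiv
  have hsupp : Module.support Rp Np = Set.univ := by
    refine Set.eq_univ_of_forall fun P => ?_
    let Q : Ideal R := P.asIdeal.comap (algebraMap R Rp)
    have hQp : Q ≤ p.asIdeal := by
      rw [← IsLocalization.AtPrime.under_maximalIdeal Rp p.asIdeal]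
      exact Ideal.comap_mono (le_maximalIdeal P.isPrime.ne_top)
    obtain ⟨Q₀, hQ₀, hQ₀Q⟩ := Ideal.exists_minimalPrimes_le (I := (⊥ : Ideal R)) (J := Q) bot_le
    haveI := hQ₀.1.1
    let q₀ : PrimeSpectrum R := ⟨Q₀, hQ₀.1.1⟩
    have hv : toPt z q₀ ∈ U := by
      by_contra hv
      have h2 := hdim _ (toPt_specializes z q₀) hv
      rw [hdimloc, IsLocalization.AtPrime.ringKrullDim_eq_height Q₀ (Localization.AtPrime Q₀),
        Ideal.height_eq_zero_iff.2 hQ₀] at h2
      exact absurd h2 (by decide)
    haveI := hne _ (toPt_specializes z q₀) hv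
    haveI : Nontrivial (LocalizedModule Q₀.primeCompl N) := by
      letI := (X.presheaf.stalkSpecializes (toPt_specializes z q₀)).hom.toAlgebra
      letI := Module.compHom (F.presheaf.stalk (toPt z q₀)) (X.presheaf.stalkSpecializes (toPt_specializes z q₀)).hom
      obtain ⟨-, ρ, hρ⟩ := stalk_loc F hF.1 z q₀
      haveI := hρ
      exact (IsLocalizedModule.iso Q₀.primeCompl ρ).toEquiv.nontrivial
    obtain ⟨n, hn⟩ := (Module.mem_support_iff_exists_annihilator (p := q₀)).1 (Module.mem_support_iff.2 ‹_›)
    refine Module.mem_support_iff_exists_annihilator.2 ⟨LocalizedModule.mkLinearMap p.asIdeal.primeCompl N n, fun r hr => ?_⟩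
    obtain ⟨⟨a, s⟩, rfl⟩ := IsLocalization.mk'_surjective p.asIdeal.primeCompl r
    rw [Submodule.mem_annihilator_span_singleton] at hr
    have ha : algebraMap R Rp a • LocalizedModule.mkLinearMap p.asIdeal.primeCompl N n = 0 := by
      rw [← IsLocalization.mk'_spec Rp a s, mul_comm, mul_smul, hr, smul_zero]
    rw [algebraMap_smul, ← map_smul] at ha
    obtain ⟨v, hv'⟩ := (IsLocalizedModule.eq_zero_iff p.asIdeal.primeCompl _).1 ha
    rw [Submonoid.smul_def, smul_smul] at hv'
    have hvQ : (v : R) ∉ Q₀ := fun hc => v.2 (hQp (hQ₀Q hc))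
    have haQ : a ∈ Q₀ := (hQ₀.1.1.mem_or_mem (hn (Submodule.mem_annihilator_span_singleton _ _ |>.2 hv'))).resolve_left hvQ
    exact IsLocalization.mk'_mem_iff.2 (hQ₀Q haQ)
  have hsd : Module.supportDim Rp Np = ringKrullDim Rp := by
    rw [Module.supportDim, hsupp]
    exact Order.krullDim_eq_of_orderIso OrderIso.Set.univ
  have := h p.asIdeal
  rw [hsd, ← hdimloc, min_eq_left (show ((2 : ℕ) : WithBot ℕ∞) ≤ ringKrullDim (X.presheaf.stalk (toPt z p)) by simpa using hdim _ hwz hwU)] at this
  exact WithBot.coe_le_coe.1 this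

end Groth.Agent.DualLib.RelTop
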