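import Groth.Agent.DualLib.RelTop.RelS2Glue
import Groth.Agent.DualLib.RelTop.InvStalk
import Groth.Agent.DCat.PullTensor
import Groth.Agent.EGA43.InjFibre.Scheme
import Groth.Agent.Coherent.SupportPullback

/-!
# Reflexive powers of the relative dualizing sheaf on a fibre
-/

set_option autoImplicit false
set_option backward.isDefEq.respectTransparency false
set_option linter.style.haveILetI false
set_option linter.unusedSectionVars false

universe u

open CategoryTheory CategoryTheory.Limits AlgebraicGeometry TopologicalSpace IsLocalRing TensorProduct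

namespace Groth.Agent.DualLib.RelTop

open Groth.Agent EGA43.DimFormula

variable {X : Scheme.{u}}

/-- Tensor powers commute with pullback. -/
theorem nonempty_pull_tensorPow {Y : Scheme.{u}} (g : Y ⟶ X) (L : X.Modules) :
    ∀ n : ℕ, Nonempty ((Scheme.Modules.pullback g).obj (CohB1.tensorPow L n) ≅
      CohB1.tensorPow ((Scheme.Modules.pullback g).obj L) n)
  | 0 => ⟨PicLoc.pullbackStructureIso g⟩
  | n + 1 => by
    obtain ⟨e⟩ := nonempty_pull_tensorPow g L n
    exact ⟨DCat.PullTensor.pullTensorIso g (CohB1.tensorPow L n) L ≪≫ AmpleLib.tensorIso e (Iso.refl _)⟩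

/-- Tensor powers of isomorphic modules. -/
theorem nonempty_tensorPow_iso {L L' : X.Modules} (e : L ≅ L') :
    ∀ n : ℕ, Nonempty (CohB1.tensorPow L n ≅ CohB1.tensorPow L' n)
  | 0 => ⟨Iso.refl _⟩
  | n + 1 => by
    obtain ⟨e'⟩ := nonempty_tensorPow_iso e n
    exact ⟨AmpleLib.tensorIso e' e⟩

/-- Restriction to a preimage commutes with pullback. -/
theorem nonempty_pull_restrict {Y : Scheme.{u}} (g : Y ⟶ X) (U : X.Opens) {M N : X.Modules}
    (e : M.restrict U.ι ≅ N.restrict U.ι) :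
    Nonempty (((Scheme.Modules.pullback g).obj M).restrict (g ⁻¹ᵁ U).ι ≅
      ((Scheme.Modules.pullback g).obj N).restrict (g ⁻¹ᵁ U).ι) := by
  let j := (g ⁻¹ᵁ U).ι
  let gU : ((g ⁻¹ᵁ U : Y.Opens) : Scheme.{u}) ⟶ (U : Scheme.{u}) := g ∣_ U
  have h : gU ≫ U.ι = j ≫ g := morphismRestrict_ι g U
  let sw : ∀ K : X.Modules, (Scheme.Modules.pullback gU).obj (K.restrict U.ι) ≅
      ((Scheme.Modules.pullback g).obj K).restrict j := fun K =>
    (Scheme.Modules.pullback gU).mapIso ((Scheme.Modules.restrictFunctorIsoPullback U.ι).app K) ≪≫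
      (Scheme.Modules.pullbackComp gU U.ι).app K ≪≫ (Scheme.Modules.pullbackCongr h).app K ≪≫
      ((Scheme.Modules.pullbackComp j g).app K).symm ≪≫
      ((Scheme.Modules.restrictFunctorIsoPullback j).app _).symm
  exact ⟨(sw M).symm ≪≫ (Scheme.Modules.pullback gU).mapIso e ≪≫ sw N⟩

/-- The stalks of modules isomorphic on an open agree there. -/
theorem nonempty_stalk_equiv_of_mem [IsLocallyNoetherian X] {F G : X.Modules} (hF : Coh.IsCoh F) (hG : Coh.IsCoh G)
    (U : X.Opens) (φ : F.restrict U.ι ≅ G.restrict U.ι) (y : X) (hy : y ∈ U) :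
    Nonempty (F.presheaf.stalk y ≃ₗ[X.presheaf.stalk y] G.presheaf.stalk y) :=
  nonempty_stalk_equiv_of_restrict hF hG U φ y (fun _ hz hzU => absurd (hz.mem_open U.isOpen hy) hzU)
    (fun _ hz hzU => absurd (hz.mem_open U.isOpen hy) hzU)

/-- Local dimensions at a point of a fibre. -/
theorem dim_fibre_pt {T : Scheme.{u}} (f : X ⟶ T) (t : T) (w : f.fiber t) :
    ringKrullDim ((f.fiber t).presheaf.stalk w) =
      ringKrullDim ((f.fiber (f (f.fiberι t w))).presheaf.stalk (f.asFiber (f.fiberι t w))) := by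
  have key : ∀ (x : X) (q : T), f x = q → ∀ v : f.fiber q, f.fiberι q v = x →
      ringKrullDim ((f.fiber q).presheaf.stalk v) = ringKrullDim ((f.fiber (f x)).presheaf.stalk (f.asFiber x)) := by
    intro x q hq
    subst hq
    intro v hv
    obtain rfl : v = f.asFiber x := (f.fiberι _).isEmbedding.injective (hv.trans (f.fiberι_asFiber x).symm)
    rfl
  exact key _ t (EGA43.Chevalley.apply_fiberι f t w) w rfl

variable {A : Type u} [CommRing A] [IsNoetherianRing A] (Y : Scheme.{u}) [Y.Over (Spec (CommRingCat.of A))]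
  [IsProper (Y ↘ Spec (CommRingCat.of A))] (d : ℕ)

/-- The structure map of a fibre inherits the relative dimension. -/
theorem hasRelDim_fibre (hd : Cyc.HasRelDim (Y ↘ Spec (CommRingCat.of A)) d) (t : Spec (CommRingCat.of A)) :
    Cyc.HasRelDim ((Y ↘ Spec (CommRingCat.of A)).fiberToSpecResidueField t) d := by
  let f := Y ↘ Spec (CommRingCat.of A)
  let Y' := f.fiber t
  let ι : Y' ⟶ Y := f.fiberι t
  let k := (Spec (CommRingCat.of A)).residueField t
  let f' : Y' ⟶ Spec (CommRingCat.of k) := f.fiberToSpecResidueField t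
  let g := (Spec (CommRingCat.of A)).fromSpecResidueField t
  have hsq : IsPullback ι f' f g := IsPullback.of_hasPullback _ _
  haveI : IsProper f' := MorphismProperty.of_isPullback hsq ‹_›
  intro q
  refine (EGA43.Chevalley.forall_components_fiber_iff f' q (fun e => e = (d : WithBot ℕ∞))).2 fun x hx hmax => ?_
  have htr : DimLib.trdegHom (f'.residueFieldMap x).hom = DimLib.trdegHom (f.residueFieldMap (ι x)).hom := by
    rw [← EGA43.Chevalley.trdegHom_residueFieldMap_postcomp f' g x, ← CycLib28.trdegHom_congr hsq.w x,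
      EGA43.Chevalley.trdegHom_residueFieldMap_comp ι f x]
  rw [htr]
  refine (EGA43.Chevalley.forall_components_fiber_iff f t (fun e => e = (d : WithBot ℕ∞))).1 (hd t) (ι x)
    (EGA43.Chevalley.apply_fiberι f t x) fun w hw hwt => ?_
  obtain ⟨w', rfl⟩ : w ∈ Set.range (f.fiberι t) := by rw [f.range_fiberι]; exact hwt
  exact congrArg ι (hmax w' (ι.isEmbedding.isInducing.specializes_iff.1 hw) (Subsingleton.elim _ _))

/-- The dualizing sheaf of a fibre is coherent. -/
theorem isCoh_fibre_dualizing (hd : Cyc.HasRelDim (Y ↘ Spec (CommRingCat.of A)) d) (t : Spec (CommRingCat.of A))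
    (ωt : ((Y ↘ Spec (CommRingCat.of A)).fiber t).Modules)
    (hωt : @RelCanon.IsDualizingSheaf ((Spec (CommRingCat.of A)).residueField t) _
      ((Y ↘ Spec (CommRingCat.of A)).fiber t) ⟨(Y ↘ Spec (CommRingCat.of A)).fiberToSpecResidueField t⟩ d ωt) :
    Coh.IsCoh ωt := by
  let f := Y ↘ Spec (CommRingCat.of A)
  let Y' := f.fiber t
  let k := (Spec (CommRingCat.of A)).residueField t
  let f' : Y' ⟶ Spec (CommRingCat.of k) := f.fiberToSpecResidueField t
  have hsq : IsPullback (f.fiberι t) f' f ((Spec (CommRingCat.of A)).fromSpecResidueField t) :=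
    IsPullback.of_hasPullback _ _
  haveI : IsNoetherianRing k := inferInstance
  haveI : IsProper f' := MorphismProperty.of_isPullback hsq ‹_›
  letI : Y'.Over (Spec (CommRingCat.of k)) := ⟨f'⟩
  haveI : IsProper (Y' ↘ Spec (CommRingCat.of k)) := ‹IsProper f'›
  exact (isCoh_and_two_le_depth (A := k) (Y := Y') d (hasRelDim_fibre Y d hd t) ωt hωt).1

/-- **Reflexive powers of the relative dualizing sheaf restrict to those of a fibre** where they satisfy relative `(S₂)`
or are known to have depth two off the Gorenstein locus. -/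
theorem nonempty_fibre_refPow_stalk (hS : RelCanon.IsSkMor (Y ↘ Spec (CommRingCat.of A)) 2)
    (hd : Cyc.HasRelDim (Y ↘ Spec (CommRingCat.of A)) d) (ω : Y.Modules) (hω : RelCanon.IsDualizingSheaf A Y d ω)
    (t : Spec (CommRingCat.of A)) (ωt : ((Y ↘ Spec (CommRingCat.of A)).fiber t).Modules)
    (hωt : @RelCanon.IsDualizingSheaf ((Spec (CommRingCat.of A)).residueField t) _
      ((Y ↘ Spec (CommRingCat.of A)).fiber t) ⟨(Y ↘ Spec (CommRingCat.of A)).fiberToSpecResidueField t⟩ d ωt)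
    (Yo : Y.Opens) (hYo : (Yo : Set Y) ⊆ RelCanon.gorLocus (Y ↘ Spec (CommRingCat.of A)))
    (z : (Y ↘ Spec (CommRingCat.of A)).fiber t)
    (hdim : ∀ w, w ⤳ z → (Y ↘ Spec (CommRingCat.of A)).fiberι t w ∉ Yo →
      (2 : WithBot ℕ∞) ≤ ringKrullDim ((((Y ↘ Spec (CommRingCat.of A))).fiber t).presheaf.stalk w))
    (m : ℕ)
    (hsk : RelCanon.SkAt 2 ((Scheme.Modules.pullback ((Y ↘ Spec (CommRingCat.of A)).fiberι t)).obj
      (RelCanon.refPowZ ω m)) z) :
    Nonempty (((Scheme.Modules.pullback ((Y ↘ Spec (CommRingCat.of A)).fiberι t)).obj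
        (RelCanon.refPowZ ω m)).presheaf.stalk z ≃ₗ[((Y ↘ Spec (CommRingCat.of A)).fiber t).presheaf.stalk z]
      (RelCanon.refPowZ ωt m).presheaf.stalk z) := by
  haveI : ∀ (U V : Scheme.{u}) (j : U ⟶ V) [IsOpenImmersion j],
      PreservesFiniteLimits (Scheme.Modules.restrictFunctor j) := fun U V j _ =>
    DCat.PullPerf.preservesFiniteLimits_restrict j
  let f := Y ↘ Spec (CommRingCat.of A)
  haveI : Flat f := hS.1
  haveI : IsNoetherianRing (CommRingCat.of A) := ‹IsNoetherianRing A›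
  haveI : IsLocallyNoetherian Y := LocallyOfFiniteType.isLocallyNoetherian f
  let Y' := f.fiber t
  haveI : LocallyOfFiniteType (f.fiberToSpecResidueField t) :=
    MorphismProperty.pullback_snd _ _ inferInstance
  haveI : IsLocallyNoetherian Y' := LocallyOfFiniteType.isLocallyNoetherian (f.fiberToSpecResidueField t)
  let ι : Y' ⟶ Y := f.fiberι t
  let U' : Y'.Opens := ι ⁻¹ᵁ Yo
  obtain ⟨hωc, -⟩ := isCoh_and_two_le_depth (A := A) (Y := Y) d hd ω hω
  have hωtc := isCoh_fibre_dualizing Y d hd t ωt hωt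
  obtain ⟨-, hinv⟩ := gor_open_and_invertible A Y d hd ω hω
  obtain ⟨eC⟩ := nonempty_fibre_iso_on_cm A Y d hd ω hω Yo
    (fun y hy => ⟨(hYo hy).1, by haveI := (hYo hy).2; exact LocCoh.isCohenMacaulayLocalRing_of_gorenstein⟩) t ωt hωt
  let T := CohB1.tensorPow ω m
  let T' := CohB1.tensorPow ωt m
  have hT : Coh.IsCoh T := isCoh_tensorPow hωc m
  have hT' : Coh.IsCoh T' := isCoh_tensorPow hωtc m
  have hTi : ∀ x : Y, x ∈ Yo → RelCanon.InvertibleAt T x :=
    invertibleAt_tensorPow Yo ω (fun x hx => hinv x (hYo hx)) m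
  obtain ⟨eD⟩ := nonempty_restrict_ddual Yo hT hTi
  let F := RefHull.ddual T
  have hFc : Coh.IsCoh F :=
    RefHullLib.isCoh_dual (RefHullLib.isCoh_dual hT (Coherent.isCoh_structureModule Y)) (Coherent.isCoh_structureModule Y)
  let N := (Scheme.Modules.pullback ι).obj F
  have hNc : Coh.IsCoh N :=
    ⟨haveI := hFc.1; EGA43.InjFibre.isQCoh_pullback ι F, Coherent.isFT_pullback_qcoh ι hFc.1 hFc.2⟩
  obtain ⟨e1⟩ := nonempty_pull_restrict ι Yo eD.symm
  obtain ⟨e2⟩ := nonempty_pull_tensorPow ι ω m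
  obtain ⟨e3⟩ := nonempty_restrict_tensorPow U' ((Scheme.Modules.pullback ι).obj ω) m
  obtain ⟨e4⟩ := nonempty_tensorPow_iso eC m
  obtain ⟨e5⟩ := nonempty_restrict_tensorPow U' ωt m
  have hTinv : ∀ v : Y', v ∈ U' → RelCanon.InvertibleAt T' v := by
    intro v hv
    have hωti : RelCanon.InvertibleAt ωt v := by
      refine invertibleAt_of_restrict_iso U' eC v hv ?_
      obtain ⟨W, hW, ⟨eW⟩⟩ := hinv (ι v) (hYo hv)
      obtain ⟨eW'⟩ := nonempty_pull_restrict ι W (M := ω) (N := Coh.structureModule Y)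
        (eW ≪≫ (Scheme.Modules.restrictUnitIso W.ι).symm)
      exact ⟨ι ⁻¹ᵁ W, hW, ⟨eW' ≪≫ (Scheme.Modules.restrictFunctor (ι ⁻¹ᵁ W).ι).mapIso
        (PicLoc.pullbackStructureIso ι) ≪≫ Scheme.Modules.restrictUnitIso _⟩⟩
    obtain ⟨V, hvV, ⟨eV⟩⟩ := hωti
    exact invertibleAt_tensorPow V ωt (fun x hx => ⟨V, hx, ⟨eV⟩⟩) m v hvV
  obtain ⟨e6⟩ := nonempty_restrict_ddual U' hT' hTinv
  let φ : N.restrict U'.ι ≅ (RefHull.ddual T').restrict U'.ι :=
    e1 ≪≫ (Scheme.Modules.restrictFunctor U'.ι).mapIso e2 ≪≫ e3 ≪≫ e4.symm ≪≫ e5.symm ≪≫ e6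
  have hD' : Coh.IsCoh (RefHull.dual T') := RefHullLib.isCoh_dual hT' (Coherent.isCoh_structureModule Y')
  have hGc : Coh.IsCoh (RefHull.ddual T') := RefHullLib.isCoh_dual hD' (Coherent.isCoh_structureModule Y')
  have hne : ∀ v : Y', v ⤳ z → v ∈ U' → Nontrivial (N.presheaf.stalk v) := by
    intro v _ hv
    obtain ⟨a⟩ := exists_stalk_equiv_of_invertibleAt (invertibleAt_of_restrict_iso U' (φ ≪≫ e6.symm) v hv (hTinv v hv))
    exact a.toEquiv.nontrivial
  have h1 := two_le_depth_of_skAt hNc z hsk U' (fun w hw hwU => hdim w hw hwU) hne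
  refine nonempty_stalk_equiv_of_restrict hNc hGc U' φ z h1 fun w hw hwU => ?_
  refine two_le_depth_dual hD' w (two_le_depth_fibre f hS t w fun x hx => ?_)
  have key : ∀ (x : Y) (q : Spec (CommRingCat.of A)), f x = q → ∀ v : f.fiber q, f.fiberι q v = x →
      (2 : WithBot ℕ∞) ≤ ringKrullDim ((f.fiber q).presheaf.stalk v) →
      (2 : WithBot ℕ∞) ≤ ringKrullDim ((f.fiber (f x)).presheaf.stalk (f.asFiber x)) := by
    intro x q hq
    subst hq
    intro v hv h2
    obtain rfl : v = f.asFiber x := (f.fiberι _).isEmbedding.injective (hv.trans (f.fiberι_asFiber x).symm)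
    exact h2
  exact key x t (by rw [← hx]; exact EGA43.Chevalley.apply_fiberι f t w) w hx (hdim w hw hwU)

/-- **Invertibility of a reflexive power is read on the fibre** where the power satisfies relative `(S₂)`. -/
theorem invertibleAt_refPow_iff_fibre (hS : RelCanon.IsSkMor (Y ↘ Spec (CommRingCat.of A)) 2)
    (hd : Cyc.HasRelDim (Y ↘ Spec (CommRingCat.of A)) d) (ω : Y.Modules) (hω : RelCanon.IsDualizingSheaf A Y d ω)
    (t : Spec (CommRingCat.of A)) (ωt : ((Y ↘ Spec (CommRingCat.of A)).fiber t).Modules)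
    (hωt : @RelCanon.IsDualizingSheaf ((Spec (CommRingCat.of A)).residueField t) _
      ((Y ↘ Spec (CommRingCat.of A)).fiber t) ⟨(Y ↘ Spec (CommRingCat.of A)).fiberToSpecResidueField t⟩ d ωt)
    (Yo : Y.Opens) (hYo : (Yo : Set Y) ⊆ RelCanon.gorLocus (Y ↘ Spec (CommRingCat.of A)))
    (z : (Y ↘ Spec (CommRingCat.of A)).fiber t)
    (hdim : ∀ w, w ⤳ z → (Y ↘ Spec (CommRingCat.of A)).fiberι t w ∉ Yo →
      (2 : WithBot ℕ∞) ≤ ringKrullDim ((((Y ↘ Spec (CommRingCat.of A))).fiber t).presheaf.stalk w))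
    (m : ℕ)
    (hfl : FlatMod.IsFlatOverAt (Y ↘ Spec (CommRingCat.of A)) (RelCanon.refPowZ ω m)
      ((Y ↘ Spec (CommRingCat.of A)).fiberι t z))
    (hsk : RelCanon.SkAt 2 ((Scheme.Modules.pullback ((Y ↘ Spec (CommRingCat.of A)).fiberι t)).obj
      (RelCanon.refPowZ ω m)) z) :
    RelCanon.InvertibleAt (RelCanon.refPowZ ω m) ((Y ↘ Spec (CommRingCat.of A)).fiberι t z) ↔
      RelCanon.InvertibleAt (RelCanon.refPowZ ωt m) z := by
  haveI : ∀ (U V : Scheme.{u}) (j : U ⟶ V) [IsOpenImmersion j],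
      PreservesFiniteLimits (Scheme.Modules.restrictFunctor j) := fun U V j _ =>
    DCat.PullPerf.preservesFiniteLimits_restrict j
  let f := Y ↘ Spec (CommRingCat.of A)
  haveI : IsNoetherianRing (CommRingCat.of A) := ‹IsNoetherianRing A›
  haveI : IsLocallyNoetherian Y := LocallyOfFiniteType.isLocallyNoetherian f
  let Y' := f.fiber t
  haveI : LocallyOfFiniteType (f.fiberToSpecResidueField t) :=
    MorphismProperty.pullback_snd _ _ inferInstance
  haveI : IsLocallyNoetherian Y' := LocallyOfFiniteType.isLocallyNoetherian (f.fiberToSpecResidueField t)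
  let ι : Y' ⟶ Y := f.fiberι t
  let y := ι z
  obtain ⟨hωc, -⟩ := isCoh_and_two_le_depth (A := A) (Y := Y) d hd ω hω
  have hωtc := isCoh_fibre_dualizing Y d hd t ωt hωt
  have hFc : Coh.IsCoh (RelCanon.refPowZ ω m) := RefHullLib.isCoh_dual (RefHullLib.isCoh_dual (isCoh_tensorPow hωc m)
    (Coherent.isCoh_structureModule Y)) (Coherent.isCoh_structureModule Y)
  have hGc : Coh.IsCoh (RelCanon.refPowZ ωt m) := RefHullLib.isCoh_dual (RefHullLib.isCoh_dual (isCoh_tensorPow hωtc m)
    (Coherent.isCoh_structureModule Y')) (Coherent.isCoh_structureModule Y')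
  obtain ⟨e⟩ := nonempty_fibre_refPow_stalk Y d hS hd ω hω t ωt hωt Yo hYo z hdim m hsk
  let B := Y.presheaf.stalk y
  let R := Y'.presheaf.stalk z
  letI : Algebra B R := (ι.stalkMap z).hom.toAlgebra
  let M := (RelCanon.refPowZ ω m).presheaf.stalk y
  let ep : ((Scheme.Modules.pullback ι).obj (RelCanon.refPowZ ω m)).presheaf.stalk z ≃ₗ[R] R ⊗[B] M :=
    ((ModStalk.pullbackStalkIso ι z).app (RelCanon.refPowZ ω m)).toLinearEquiv
  constructor
  · intro h
    obtain ⟨a⟩ := exists_stalk_equiv_of_invertibleAt h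
    exact invertibleAt_of_stalk_equiv hGc z (((e.symm.trans ep).trans
      (AlgebraTensorModule.congr (LinearEquiv.refl R R) a)).trans (AlgebraTensorModule.rid B R R))
  · intro h
    obtain ⟨a⟩ := exists_stalk_equiv_of_invertibleAt h
    let Aₜ := (Spec (CommRingCat.of A)).presheaf.stalk (f y)
    letI : Algebra Aₜ B := (f.stalkMap y).hom.toAlgebra
    haveI : IsLocalHom (algebraMap Aₜ B) := inferInstanceAs (IsLocalHom (f.stalkMap y).hom)
    letI := FlatMod.moduleStalkOver f (RelCanon.refPowZ ω m) y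
    haveI : IsScalarTower Aₜ B M := IsScalarTower.of_compHom _ _ _
    haveI : Module.Flat Aₜ M := hfl
    haveI : Module.Finite B M := AssSch12.finite_stalk hFc y
    obtain ⟨hsurj, hker⟩ := Props12.stalkMap_fiberι f t z
    obtain ⟨b⟩ := nonempty_equiv_of_fibre (A := Aₜ) (R := R) hsurj hker M ((ep.symm.trans e).trans a)
    exact invertibleAt_of_stalk_equiv hFc y b

end Groth.Agent.DualLib.RelTop
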