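import Groth.Agent.DualLib.RelTop.Tools
import Groth.Agent.DQCoh.PscFinite
import Groth.Agent.Dual22Lib.RpushBound

/-!
# The bottom cohomology of a direct image along an affine morphism, compatibly with endomorphisms
-/

set_option autoImplicit false
set_option backward.isDefEq.respectTransparency false
set_option backward.defeqAttrib.useBackward true
set_option linter.style.haveILetI false
set_option linter.unusedSectionVars false
set_option synthInstance.maxHeartbeats 200000
set_option maxHeartbeats 1000000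

universe u

open CategoryTheory CategoryTheory.Limits CategoryTheory.Pretriangulated DerivedCategory AlgebraicGeometry
open Groth.Agent.DCat Groth.Agent.DQCoh

attribute [local instance] HasDerivedCategory.standard
attribute [-instance] Int.instConditionallyCompleteLinearOrder

namespace Groth.Agent.DualLib.RelTop

variable {X Y : Scheme.{u}} (ι : X ⟶ Y) [IsAffineHom ι] [DCoh.HasRpush ι]

/-- A comparison for modules in degree zero, compatibly with endomorphisms. -/
theorem exists_push_single (F : X.Modules) [hF : Coh.IsQCoh F] :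
    ∃ e : DCoh.HD ((DCoh.Rpush ι).obj ((singleFunctor X.Modules 0).obj F)) 0 ≅ (Scheme.Modules.pushforward ι).obj F,
      ∀ ψ : F ⟶ F, (homologyFunctor Y.Modules 0).map ((DCoh.Rpush ι).map ((singleFunctor X.Modules 0).map ψ)) ≫ e.hom =
        e.hom ≫ (Scheme.Modules.pushforward ι).map ψ := by
  let C := (HomologicalComplex.single X.Modules (ComplexShape.up ℤ) 0).obj F
  have hq : ∀ n : ℤ, Coh.IsQCoh (C.X n) := fun n => by
    by_cases hn : n = 0
    · subst hn
      exact Coherent.isQCoh_of_iso (HomologicalComplex.singleObjXSelf (ComplexShape.up ℤ) 0 F).symm (h := hF)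
    · exact Coherent.isQCoh_of_isZero (HomologicalComplex.isZero_single_obj_X _ _ _ _ hn)
  haveI := isIso_unit_qcoh ι C hq fun n i hi => by
    haveI := hq n
    exact isZero_rpush_affine ι _ i hi
  let q := HomotopyCategory.quotient X.Modules (ComplexShape.up ℤ)
  let q' := HomotopyCategory.quotient Y.Modules (ComplexShape.up ℤ)
  let η := (DCoh.pushKh ι).totalRightDerivedUnit DerivedCategory.Qh
    (HomotopyCategory.quasiIso X.Modules (ComplexShape.up ℤ))
  let sX := HomologicalComplex.single X.Modules (ComplexShape.up ℤ) 0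
  let sY := HomologicalComplex.single Y.Modules (ComplexShape.up ℤ) 0
  let p := Scheme.Modules.pushforward ι
  let α : sX ⋙ q ⋙ DCoh.pushKh ι ⟶ sX ⋙ q ⋙ DerivedCategory.Qh ⋙ DCoh.Rpush ι :=
    Functor.whiskerLeft sX (Functor.whiskerLeft q η)
  let β₁ : singleFunctor X.Modules 0 ⋙ DCoh.Rpush ι ≅ sX ⋙ q ⋙ DerivedCategory.Qh ⋙ DCoh.Rpush ι :=
    Functor.isoWhiskerRight (singleFunctorIsoCompQ X.Modules 0 ≪≫
      Functor.isoWhiskerLeft sX (quotientCompQhIso X.Modules).symm) (DCoh.Rpush ι)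
  let β₂ : sX ⋙ q ⋙ DCoh.pushKh ι ≅ p ⋙ singleFunctor Y.Modules 0 :=
    Functor.isoWhiskerLeft sX ((Functor.associator _ _ _).symm ≪≫
      Functor.isoWhiskerRight (p.mapHomotopyCategoryFactors (ComplexShape.up ℤ)) DerivedCategory.Qh ≪≫
      Functor.associator _ _ _ ≪≫ Functor.isoWhiskerLeft _ (quotientCompQhIso Y.Modules)) ≪≫
    (Functor.associator _ _ _).symm ≪≫
      Functor.isoWhiskerRight (HomologicalComplex.singleMapHomologicalComplex p (ComplexShape.up ℤ) 0) _ ≪≫
      Functor.associator _ _ _ ≪≫ Functor.isoWhiskerLeft p (singleFunctorIsoCompQ Y.Modules 0).symm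
  haveI : IsIso (α.app F) := ‹IsIso (η.app _)›
  let e₀ : (DCoh.Rpush ι).obj ((singleFunctor X.Modules 0).obj F) ≅ (singleFunctor Y.Modules 0).obj (p.obj F) :=
    β₁.app F ≪≫ (asIso (α.app F)).symm ≪≫ β₂.app F
  have h₀ : ∀ ψ : F ⟶ F, (DCoh.Rpush ι).map ((singleFunctor X.Modules 0).map ψ) ≫ e₀.hom =
      e₀.hom ≫ (singleFunctor Y.Modules 0).map (p.map ψ) := fun ψ => by
    have h1 := β₁.hom.naturality ψ
    have h2 := α.naturality ψ
    have h3 := β₂.hom.naturality ψ
    simp only [Functor.comp_map] at h1 h2 h3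
    have h2' : (DCoh.Rpush ι).map (DerivedCategory.Qh.map (q.map (sX.map ψ))) ≫ inv (α.app F) =
        inv (α.app F) ≫ (DCoh.pushKh ι).map (q.map (sX.map ψ)) := by
      rw [IsIso.comp_inv_eq, Category.assoc]
      erw [h2]
      rw [IsIso.inv_hom_id_assoc]
    simp only [e₀, Iso.trans_hom, Iso.app_hom, Iso.symm_hom, asIso_inv, Category.assoc]
    erw [reassoc_of% h1, reassoc_of% h2', h3]
  refine ⟨(homologyFunctor Y.Modules 0).mapIso e₀ ≪≫ (singleFunctorCompHomologyFunctorIso Y.Modules 0).app (p.obj F),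
    fun ψ => ?_⟩
  simp only [Iso.trans_hom, Functor.mapIso_hom, Iso.app_hom, ← Functor.map_comp_assoc, h₀]
  rw [Functor.map_comp, Category.assoc, Category.assoc]
  congr 1
  exact (singleFunctorCompHomologyFunctorIso Y.Modules 0).hom.naturality (p.map ψ)

/-- **The bottom cohomology of a direct image**, compatibly with endomorphisms. -/
theorem exists_bottom_Rpush [∀ (U V : Scheme.{u}) (j : U ⟶ V) [IsOpenImmersion j],
      PreservesFiniteLimits (Scheme.Modules.restrictFunctor j)] (K : DCoh.D X) (m : ℤ)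
    [K.IsGE m] (hK : Coh.IsQCoh (DCoh.HD K m)) :
    ∃ e : DCoh.HD ((DCoh.Rpush ι).obj K) m ≅ (Scheme.Modules.pushforward ι).obj (DCoh.HD K m),
      ∀ φ : K ⟶ K, (homologyFunctor Y.Modules m).map ((DCoh.Rpush ι).map φ) ≫ e.hom =
        e.hom ≫ (Scheme.Modules.pushforward ι).map ((homologyFunctor X.Modules m).map φ) := by
  let t := DerivedCategory.TStructure.t (C := X.Modules)
  obtain ⟨_, _⟩ := DCat.exists_commShift_Rpush ι
  let K' := K⟦m⟧
  haveI : K'.IsGE 0 := t.isGE_shift K m m 0 (by omega)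
  let σX := (homologyFunctor X.Modules 0).shiftIso m 0 m (by omega)
  let σY := (homologyFunctor Y.Modules 0).shiftIso m 0 m (by omega)
  haveI hK' : Coh.IsQCoh (DCoh.HD K' 0) := Coherent.isQCoh_of_iso (σX.app K).symm (h := hK)
  let N := (t.truncLT 1).obj K'
  let C := (t.truncGE 1).obj K'
  have hT := t.triangleLTGE_distinguished 1 K'
  haveI hC : C.IsGE 1 := t.isGE_truncGE_obj ..
  haveI hNle : N.IsLE 0 := t.isLE_truncLT_obj _ _ _ (by omega)
  haveI hNge : N.IsGE 0 := by
    haveI : (C⟦(-1 : ℤ)⟧).IsGE 2 := t.isGE_shift _ 1 (-1) 2 (by omega)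
    exact t.isGE₂ _ (inv_rot_of_distTriang _ hT) 0 (t.isGE_of_ge (C⟦(-1 : ℤ)⟧) 0 2 (by omega))
      (inferInstanceAs (K'.IsGE 0))
  let j : N ⟶ K' := (t.truncLTι 1).app K'
  haveI : IsIso ((homologyFunctor X.Modules 0).map j) := by
    haveI : Mono ((homologyFunctor X.Modules 0).map j) :=
      (HomologySequence.mono_homologyMap_mor₁_iff _ hT (-1) 0 (by omega)).2
        ((isZero_of_isGE C 1 (-1) (by omega)).eq_of_src _ _)
    haveI : Epi ((homologyFunctor X.Modules 0).map j) :=
      (HomologySequence.epi_homologyMap_mor₁_iff _ hT 0).2 ((isZero_of_isGE C 1 0 (by omega)).eq_of_tgt _ _)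
    exact isIso_of_mono_of_epi _
  have hT' := (DCoh.Rpush ι).map_distinguished _ hT
  haveI : ((DCoh.Rpush ι).obj C).IsGE 1 := Dual22Lib.RepLib.isGE_Rpush ι C 1
  haveI : IsIso ((homologyFunctor Y.Modules 0).map ((DCoh.Rpush ι).map j)) := by
    haveI : Mono ((homologyFunctor Y.Modules 0).map ((DCoh.Rpush ι).map j)) :=
      (HomologySequence.mono_homologyMap_mor₁_iff _ hT' (-1) 0 (by omega)).2
        ((isZero_of_isGE ((DCoh.Rpush ι).obj C) 1 (-1) (by omega)).eq_of_src _ _)
    haveI : Epi ((homologyFunctor Y.Modules 0).map ((DCoh.Rpush ι).map j)) :=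
      (HomologySequence.epi_homologyMap_mor₁_iff _ hT' 0).2
        ((isZero_of_isGE ((DCoh.Rpush ι).obj C) 1 0 (by omega)).eq_of_tgt _ _)
    exact isIso_of_mono_of_epi _
  obtain ⟨F, ⟨eN⟩⟩ := exists_iso_singleFunctor_obj_of_isGE_of_isLE N 0
  let sF := (singleFunctorCompHomologyFunctorIso X.Modules 0).app F
  let eF : DCoh.HD K m ≅ F :=
    (σX.app K).symm ≪≫ (asIso ((homologyFunctor X.Modules 0).map j)).symm ≪≫
      (homologyFunctor X.Modules 0).mapIso eN ≪≫ sF
  haveI : Coh.IsQCoh F := Coherent.isQCoh_of_iso eF (h := hK)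
  obtain ⟨eP, heP⟩ := exists_push_single ι F
  refine ⟨(σY.app _).symm ≪≫ (homologyFunctor Y.Modules 0).mapIso (((DCoh.Rpush ι).commShiftIso m).app K).symm ≪≫
    (asIso ((homologyFunctor Y.Modules 0).map ((DCoh.Rpush ι).map j))).symm ≪≫
    (homologyFunctor Y.Modules 0).mapIso ((DCoh.Rpush ι).mapIso eN) ≪≫ eP ≪≫
    (Scheme.Modules.pushforward ι).mapIso eF.symm, fun φ => ?_⟩
  let φ' : K' ⟶ K' := φ⟦m⟧'
  let φN : N ⟶ N := (t.truncLT 1).map φ'
  have hj : φN ≫ j = j ≫ φ' := (t.truncLTι 1).naturality φ'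
  obtain ⟨ψ, hψ⟩ := (singleFunctor X.Modules 0).map_surjective (eN.inv ≫ φN ≫ eN.hom)
  have hψN : φN ≫ eN.hom = eN.hom ≫ (singleFunctor X.Modules 0).map ψ := by
    rw [hψ, Iso.hom_inv_id_assoc]
  -- the six squares
  have s1 : (homologyFunctor Y.Modules m).map ((DCoh.Rpush ι).map φ) ≫ σY.inv.app _ =
      σY.inv.app _ ≫ (homologyFunctor Y.Modules 0).map (((DCoh.Rpush ι).map φ)⟦m⟧') :=
    σY.inv.naturality _
  have s2 : ((DCoh.Rpush ι).map φ)⟦m⟧' ≫ ((DCoh.Rpush ι).commShiftIso m).inv.app K =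
      ((DCoh.Rpush ι).commShiftIso m).inv.app K ≫ (DCoh.Rpush ι).map φ' :=
    ((DCoh.Rpush ι).commShiftIso m).inv.naturality φ
  have s3 : (homologyFunctor Y.Modules 0).map ((DCoh.Rpush ι).map φ') ≫
      inv ((homologyFunctor Y.Modules 0).map ((DCoh.Rpush ι).map j)) =
      inv ((homologyFunctor Y.Modules 0).map ((DCoh.Rpush ι).map j)) ≫
        (homologyFunctor Y.Modules 0).map ((DCoh.Rpush ι).map φN) := by
    rw [IsIso.comp_inv_eq, Category.assoc, ← Functor.map_comp, ← Functor.map_comp, hj, Functor.map_comp,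
      Functor.map_comp, IsIso.inv_hom_id_assoc]
  have s6 : ψ ≫ eF.inv = eF.inv ≫ (homologyFunctor X.Modules m).map φ := by
    rw [Iso.comp_inv_eq, Category.assoc]
    refine (Iso.eq_inv_comp _).2 ?_
    have t1 : (homologyFunctor X.Modules m).map φ ≫ σX.inv.app K =
        σX.inv.app K ≫ (homologyFunctor X.Modules 0).map φ' := σX.inv.naturality φ
    have t2 : (homologyFunctor X.Modules 0).map φ' ≫ inv ((homologyFunctor X.Modules 0).map j) =
        inv ((homologyFunctor X.Modules 0).map j) ≫ (homologyFunctor X.Modules 0).map φN := by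
      rw [IsIso.comp_inv_eq, Category.assoc, ← Functor.map_comp, hj, Functor.map_comp, IsIso.inv_hom_id_assoc]
    have t3 : (homologyFunctor X.Modules 0).map ((singleFunctor X.Modules 0).map ψ) ≫ sF.hom = sF.hom ≫ ψ :=
      (singleFunctorCompHomologyFunctorIso X.Modules 0).hom.naturality ψ
    simp only [eF, Iso.trans_hom, Iso.symm_hom, Iso.app_inv, asIso_inv, Functor.mapIso_hom, Category.assoc]
    rw [reassoc_of% t1, reassoc_of% t2, ← Functor.map_comp_assoc, hψN, Functor.map_comp_assoc, t3]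
  simp only [Iso.trans_hom, Iso.symm_hom, Iso.app_inv, asIso_inv, Functor.mapIso_hom, Functor.mapIso_inv, Category.assoc]
  rw [reassoc_of% s1, ← Functor.map_comp_assoc, s2, Functor.map_comp_assoc, reassoc_of% s3, ← Functor.map_comp_assoc,
    ← Functor.map_comp, hψN, Functor.map_comp, Functor.map_comp_assoc, reassoc_of% (heP ψ), ← Functor.map_comp, s6,
    Functor.map_comp]

end Groth.Agent.DualLib.RelTop
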