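import Groth.Agent.DualLib.RelTop.GorChart
import Groth.Agent.DualLib.RelTop.PushBottom
import Groth.Agent.DualLib.RelTop.FibrePow
import Groth.Agent.ZClosLib.Criterion
import Groth.Agent.AmpleLib.CounitEpi
import Groth.Agent.AmpleLib.Generated
import Groth.Agent.SerreDual.LocFreeCriterion
import Groth.Agent.Dual22Lib.Torsion
import Groth.Agent.Coherent.CohBC.FibreField
import Groth.Agent.CycLib28.RelDimBC
import Groth.Agent.CycLib28.PB.Square
import Groth.Agent.S3626
import Groth.Agent.H8Coh.RpushVanishBC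

/-!
# Base change of the relative dualizing sheaf on the Gorenstein locus, for an arbitrary Noetherian base
-/

set_option autoImplicit false
set_option backward.isDefEq.respectTransparency false
set_option backward.defeqAttrib.useBackward true
set_option linter.style.haveILetI false
set_option linter.unusedSectionVars false
set_option synthInstance.maxHeartbeats 200000
set_option maxHeartbeats 1000000

universe u

open CategoryTheory CategoryTheory.Limits CategoryTheory.Pretriangulated DerivedCategory AlgebraicGeometry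
open Groth.Agent.DCat
open scoped TensorProduct

attribute [local instance] HasDerivedCategory.standard
attribute [-instance] Int.instConditionallyCompleteLinearOrder

namespace Groth.Agent.DualLib.RelTop

/-- A surjective endomorphism-type map between modules free of rank one is bijective. -/
theorem bijective_of_surjective_of_equiv {R M N : Type u} [CommRing R] [AddCommGroup M] [AddCommGroup N] [Module R M]
    [Module R N] (eM : M ≃ₗ[R] R) (eN : N ≃ₗ[R] R) (l : M →ₗ[R] N) (hl : Function.Surjective l) :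
    Function.Bijective l := by
  refine ⟨?_, hl⟩
  let c : R →ₗ[R] R := eN.toLinearMap ∘ₗ l ∘ₗ eM.symm.toLinearMap
  have hc : Function.Injective c :=
    OrzechProperty.injective_of_surjective_endomorphism c ((eN.surjective.comp hl).comp eM.symm.surjective)
  intro a b h
  apply eM.injective
  apply hc
  show eN (l (eM.symm (eM a))) = eN (l (eM.symm (eM b)))
  rw [eM.symm_apply_apply, eM.symm_apply_apply, h]

/-- The counit of inverse and direct image along an affine morphism is an epimorphism. -/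
theorem epi_counit_of_affine {X Y : Scheme.{u}} (p : X ⟶ Y) [IsAffineHom p] (M : X.Modules) [Coh.IsQCoh M] :
    Epi ((Scheme.Modules.pullbackPushforwardAdjunction p).counit.app M) := by
  refine AmpleLib.epi_counit_of_globallyGenerated p M fun x => ?_
  obtain ⟨V, hV, hxV, -⟩ := exists_isAffineOpen_mem_and_subset (x := p x) (U := ⊤) trivial
  have : IsAffine (p ⁻¹ᵁ V).toScheme := hV.preimage p
  haveI : Coh.IsQCoh (M.restrict (p ⁻¹ᵁ V).ι) := H8Coh.isQCoh_restrictOpen (p ⁻¹ᵁ V) M
  exact ⟨V, hxV, AmpleLib.globallyGenerated_of_isQuasiAffine _⟩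

/-- Generation by images is invariant under isomorphisms. -/
theorem span_range_of_eq_conj {X : Scheme.{u}} (t : X) {ι : Type*} {P P' Q Q' : X.Modules} (a : P ≅ P') (c : Q' ≅ Q)
    (σ : ι → (P ⟶ Q)) (σ' : ι → (P' ⟶ Q')) (h : ∀ i, σ i = a.hom ≫ σ' i ≫ c.hom)
    (hgen : Submodule.span (X.presheaf.stalk t) (⋃ i, Set.range ((DerSch.stalkFunctor X t).map (σ' i)).hom) = ⊤) :
    Submodule.span (X.presheaf.stalk t) (⋃ i, Set.range ((DerSch.stalkFunctor X t).map (σ i)).hom) = ⊤ := by
  let S := DerSch.stalkFunctor X t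
  let cl := (S.mapIso c).toLinearEquiv
  have key : (⋃ i, Set.range (S.map (σ i)).hom) = cl.toLinearMap '' ⋃ i, Set.range (S.map (σ' i)).hom := by
    rw [Set.image_iUnion]
    refine Set.iUnion_congr fun i => ?_
    have ha : Function.Surjective (S.map a.hom).hom := (S.mapIso a).toLinearEquiv.surjective
    rw [h i, S.map_comp, S.map_comp, ← Set.range_comp, ModuleCat.hom_comp, ModuleCat.hom_comp,
      LinearMap.coe_comp, LinearMap.coe_comp, ha.range_comp]
    rfl
  rw [key, ← Submodule.map_span, hgen, Submodule.map_top, LinearMap.range_eq_top]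
  exact cl.surjective

/-- The direct image of the structure sheaf along a map of affine schemes is generated by the scalars. -/
theorem span_stalk_push_one {B : Type u} [CommRing B] {T : Scheme.{u}} [IsAffine T] (g : Spec (CommRingCat.of B) ⟶ T)
    (hq : Coh.IsQCoh ((Scheme.Modules.pushforward g).obj (Coh.structureModule (Spec (CommRingCat.of B))))) (t : T) :
    letI : (Spec (CommRingCat.of B)).Over (Spec (CommRingCat.of B)) := ⟨𝟙 _⟩
    Submodule.span (T.presheaf.stalk t) (⋃ b : B, Set.range ((DerSch.stalkFunctor T t).map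
      ((SheafOfModules.unitToPushforwardObjUnit g.toRingCatSheafHom : Coh.structureModule T ⟶
          (Scheme.Modules.pushforward g).obj (Coh.structureModule (Spec (CommRingCat.of B)))) ≫
        (Scheme.Modules.pushforward g).map (b • 𝟙 (Coh.structureModule (Spec (CommRingCat.of B)))))).hom) = ⊤ := by
  letI : (Spec (CommRingCat.of B)).Over (Spec (CommRingCat.of B)) := ⟨𝟙 _⟩
  let T' := Spec (CommRingCat.of B)
  let M := (Scheme.Modules.pushforward g).obj (Coh.structureModule T')
  haveI : Coh.IsQCoh M := hq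
  have hM := SerreDual.span_germ_top_eq_top (AmpleLib.globallyGenerated_of_isQuasiAffine M) t
  refine eq_top_iff.2 (hM ▸ Submodule.span_le.2 ?_)
  rintro _ ⟨s, rfl⟩
  refine Submodule.subset_span ?_
  obtain ⟨b, hb⟩ : ∃ b : B, Coh.toGlobal (T' ↘ Spec (CommRingCat.of B)) b = (show Γ(T', ⊤) from s) :=
    ⟨(Scheme.ΓSpecIso (CommRingCat.of B)).hom (show Γ(T', ⊤) from s),
      (Scheme.ΓSpecIso (CommRingCat.of B)).hom_inv_id_apply (show Γ(T', ⊤) from s)⟩
  refine Set.mem_iUnion.2 ⟨b, (Coh.structureModule T).presheaf.germ ⊤ t (show t ∈ (⊤ : T.Opens) from trivial)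
    (show Γ(T, ⊤) from 1), ?_⟩
  refine (ZClosLib.stalkMap_germ _ t (show t ∈ (⊤ : T.Opens) from trivial) _).trans (congrArg _ ?_)
  show ((b • 𝟙 (Coh.structureModule T')).app (g ⁻¹ᵁ ⊤)).hom (g.app ⊤ (1 : Γ(T, ⊤))) = s
  refine (KLin.smul_app_apply ..).trans ?_
  show T'.presheaf.map (homOfLE (le_top : g ⁻¹ᵁ ⊤ ≤ ⊤)).op (Coh.toGlobal (T' ↘ Spec (CommRingCat.of B)) b) *
    (g.app ⊤ (1 : Γ(T, ⊤))) = s
  rw [hb, map_one, mul_one]
  show T'.presheaf.map (𝟙 _) _ = _
  rw [CategoryTheory.Functor.map_id]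
  rfl

/-- A map out of an inverse image kills a stalk generated by images it kills. -/
theorem stalk_map_eq_zero_of_gen {X X' : Scheme.{u}} (p : X' ⟶ X) {ι : Type*} {P Q : X.Modules} (σ : ι → (P ⟶ Q))
    {C : X'.Modules} (ψ : (Scheme.Modules.pullback p).obj Q ⟶ C) (h : ∀ i, (Scheme.Modules.pullback p).map (σ i) ≫ ψ = 0)
    (v : X') (hgen : Submodule.span (X.presheaf.stalk (p v))
      (⋃ i, Set.range ((DerSch.stalkFunctor X (p v)).map (σ i)).hom) = ⊤) :
    (DerSch.stalkFunctor X' v).map ψ = 0 := by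
  let S := DerSch.stalkFunctor X (p v)
  let S' := DerSch.stalkFunctor X' v
  let R := X.presheaf.stalk (p v)
  let R' := X'.presheaf.stalk v
  letI : Algebra R R' := (p.stalkMap v).hom.toAlgebra
  let θ := ModStalk.pullbackStalkIso p v
  let N : X.Modules → ModuleCat.{u} R := fun M => S.obj M
  let l : R' ⊗[R] (N Q) →ₗ[R'] S'.obj C := ((θ.app Q).inv ≫ S'.map ψ).hom
  have hl : ∀ (i : ι) (n : N P) (r : R'), l (r ⊗ₜ[R] (S.map (σ i)).hom n) = 0 := fun i n r => by
    have h1 := θ.inv.naturality (σ i)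
    have h2 : (ModuleCat.extendScalars (p.stalkMap v).hom).map (S.map (σ i)) ≫ θ.inv.app Q ≫ S'.map ψ = 0 := by
      erw [reassoc_of% h1]
      show θ.inv.app P ≫ S'.map ((Scheme.Modules.pullback p).map (σ i)) ≫ S'.map ψ = 0
      rw [← Functor.map_comp, h i, Functor.map_zero, comp_zero]
    have h3 := congrArg ModuleCat.Hom.hom h2
    exact LinearMap.congr_fun h3 (r ⊗ₜ[R] n)
  have hl0 : ∀ z, l z = 0 := fun z => by
    induction z using TensorProduct.induction_on with
    | zero => exact map_zero l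
    | add x y hx hy => rw [map_add, hx, hy, add_zero]
    | tmul r m =>
      have hm : m ∈ Submodule.span R (⋃ i, Set.range (S.map (σ i)).hom) := by
        rw [hgen]; trivial
      revert r
      induction hm using Submodule.span_induction with
      | mem m hm =>
        intro r
        obtain ⟨i, n, rfl⟩ := Set.mem_iUnion.1 hm
        exact hl i n r
      | zero => intro r; rw [TensorProduct.tmul_zero, map_zero]
      | add x y _ _ hx hy => intro r; rw [TensorProduct.tmul_add, map_add, hx r, hy r, add_zero]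
      | smul c x _ hx => intro r; rw [← TensorProduct.smul_tmul]; exact hx _
  rw [← cancel_epi (θ.app Q).inv, comp_zero]
  ext z
  exact hl0 z

/-- Surjectivity at a stalk from the vanishing of the projection to the cokernel. -/
theorem surjective_stalk_of_cokernel {X : Scheme.{u}} {M N : X.Modules} (β : M ⟶ N) (v : X)
    (h : (DerSch.stalkFunctor X v).map (cokernel.π β) = 0) :
    Function.Surjective ((DerSch.stalkFunctor X v).map β).hom := by
  have hc : cokernel.π ((DerSch.stalkFunctor X v).map β) = 0 := by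
    rw [← PreservesCokernel.π_iso_hom, h, zero_comp]
  haveI : Epi ((DerSch.stalkFunctor X v).map β) := Abelian.epi_of_cokernel_π_eq_zero _ hc
  exact (ModuleCat.epi_iff_surjective _).1 inferInstance

variable [∀ (U V : Scheme.{u}) (j : U ⟶ V) [IsOpenImmersion j], PreservesFiniteLimits (Scheme.Modules.restrictFunctor j)]

variable (A : Type u) [CommRing A] [IsNoetherianRing A] (Y : Scheme.{u}) [Y.Over (Spec (CommRingCat.of A))]
  [IsProper (Y ↘ Spec (CommRingCat.of A))] [Flat (Y ↘ Spec (CommRingCat.of A))] (d : ℕ)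
  (hd : Cyc.HasRelDim (Y ↘ Spec (CommRingCat.of A)) d)

include hd

/-- **Base change on the Gorenstein locus.** -/
theorem exists_iso_on_gor (ω : Y.Modules) (hω : RelCanon.IsDualizingSheaf A Y d ω)
    (B : Type u) [CommRing B] [IsNoetherianRing B] (φ : A →+* B) (Y' : Scheme.{u}) [Y'.Over (Spec (CommRingCat.of B))]
    (p : Y' ⟶ Y)
    (hp : IsPullback p (Y' ↘ Spec (CommRingCat.of B)) (Y ↘ Spec (CommRingCat.of A)) (Spec.map (CommRingCat.ofHom φ)))
    (ω' : Y'.Modules) (hω' : RelCanon.IsDualizingSheaf B Y' d ω') :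
    ∃ β : (Scheme.Modules.pullback p).obj ω ⟶ ω', ∀ U' : Y'.Opens,
      (∀ v : Y', v ∈ U' → p v ∈ RelCanon.gorLocus (Y ↘ Spec (CommRingCat.of A))) →
      IsIso ((Scheme.Modules.restrictFunctor U'.ι).map β) := by
  let f := Y ↘ Spec (CommRingCat.of A)
  let f' := Y' ↘ Spec (CommRingCat.of B)
  let T := Spec (CommRingCat.of A)
  let T' := Spec (CommRingCat.of B)
  let g : T' ⟶ T := Spec.map (CommRingCat.ofHom φ)
  have hsq : IsPullback p f' f g := hp
  haveI : IsNoetherianRing (CommRingCat.of A) := ‹IsNoetherianRing A›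
  haveI : IsNoetherianRing (CommRingCat.of B) := ‹IsNoetherianRing B›
  haveI : IsNoetherian T := {}
  haveI : IsNoetherian T' := {}
  haveI : IsAffineHom g := inferInstance
  haveI : IsAffineHom p := MorphismProperty.of_isPullback hsq.flip ‹IsAffineHom g›
  haveI : IsProper f' := MorphismProperty.of_isPullback hsq ‹IsProper f›
  haveI : IsProper (Y' ↘ T') := ‹IsProper f'›
  haveI : Flat f' := MorphismProperty.of_isPullback hsq ‹Flat f›
  haveI : Flat (Y' ↘ T') := ‹Flat f'›
  haveI : CompactSpace Y := QuasiCompact.compactSpace_of_compactSpace f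
  haveI : QuasiSeparatedSpace Y := quasiSeparatedSpace_of_quasiSeparated f
  haveI : CompactSpace Y' := QuasiCompact.compactSpace_of_compactSpace f'
  haveI : QuasiSeparatedSpace Y' := quasiSeparatedSpace_of_quasiSeparated f'
  haveI : IsLocallyNoetherian Y' := LocallyOfFiniteType.isLocallyNoetherian f'
  haveI : ∀ (S : CommRingCat.{u}), PreservesFiniteLimits (tilde.functor S) :=
    Groth.Agent.AffSchLib.preservesFiniteLimits_tilde
  haveI := DCat.hasRpush f
  haveI := DCat.hasRpush f'
  haveI : DCoh.HasRpush (Y' ↘ T') := DCat.hasRpush _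
  haveI : DCoh.HasRpush (Y ↘ T) := DCat.hasRpush _
  haveI := DCat.hasRpush g
  haveI := DCat.hasRpush p
  have hf : DCoh.RpushPreservesQCoh f := fun K hK => DQCoh.isQCohD_Rpush f K hK
  have hf' : DCoh.RpushPreservesQCoh f' := fun K hK => DQCoh.isQCohD_Rpush f' K hK
  have hg : DCoh.RpushPreservesQCoh g := fun K hK => DQCoh.isQCohD_Rpush g K hK
  have hι : DCoh.RpushPreservesQCoh p := fun K hK => DQCoh.isQCohD_Rpush p K hK
  haveI := Dual22Lib.AdjGeom.isLeftAdjoint_RpushQ f hf
  haveI := Dual22Lib.AdjGeom.isLeftAdjoint_RpushQ f' hf'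
  let a := (DCoh.RpushQ f hf).rightAdjoint
  let adj : DCoh.RpushQ f hf ⊣ a := Adjunction.ofIsLeftAdjoint _
  let a' := (DCoh.RpushQ f' hf').rightAdjoint
  let adj' : DCoh.RpushQ f' hf' ⊣ a' := Adjunction.ofIsLeftAdjoint _
  haveI hOqc : Coh.IsQCoh (Coh.structureModule T) := Coherent.isQCoh_structureModule
  haveI hO'qc : Coh.IsQCoh (Coh.structureModule T') := Coherent.isQCoh_structureModule
  let O : DCoh.DQCoh T := ⟨DCoh.inD T (Coh.structureModule T), FlatBC14.isQCohD_inD _⟩
  let O' : DCoh.DQCoh T' := ⟨DCoh.inD T' (Coh.structureModule T'), FlatBC14.isQCohD_inD _⟩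
  obtain ⟨hdual, -⟩ := isDualizingSheaf_HD (fibre_dim_le f d hd) hf a adj O ⟨Iso.refl _⟩
  obtain ⟨eω⟩ := nonempty_iso_of_isDualizingSheaf hdual hω
  have hfib' : ∀ y, topologicalKrullDim (f'.fiber y) ≤ (d : WithBot ℕ∞) := fun y =>
    (Coherent.CohBC.topologicalKrullDim_fiber_of_isPullback hsq y).le.trans (fibre_dim_le f d hd _)
  obtain ⟨hdual', hge'⟩ := isDualizingSheaf_HD (A := B) (X := Y') hfib' hf' a' adj' O' ⟨Iso.refl _⟩
  obtain ⟨eω'⟩ := nonempty_iso_of_isDualizingSheaf hdual' hω'
  haveI hω'q : Coh.IsQCoh ω' := Coherent.isQCoh_of_iso eω' (h := (a'.obj O').property _)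
  haveI : (a'.obj O').obj.IsGE (-(d : ℤ)) := hge'
  -- the two bottom cohomologies
  obtain ⟨e, hξ⟩ := Groth.Agent.S3602.result Y T Y' T' f g f' p hsq (Or.inl ‹_›) hf hf' hg hι a a' adj adj'
  haveI := hξ O'
  obtain ⟨eP, heP⟩ := exists_push_single g (Coh.structureModule T')
  obtain ⟨eB, heB⟩ := exists_bottom_Rpush p (a'.obj O').obj (-(d : ℤ)) ((a'.obj O').property _)
  let K₀ := (DCoh.RpushQ g hg).obj O'
  let H0 := homologyFunctor T.Modules 0
  let Hd := ObjectProperty.ι (DCoh.IsQCohD (X := Y)) ⋙ homologyFunctor Y.Modules (-(d : ℤ))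
  let push := Scheme.Modules.pushforward p
  let pull := Scheme.Modules.pullback p
  let ξ := Dual3.xi adj adj' e O'
  -- scalars
  letI : T'.Over (Spec (CommRingCat.of B)) := ⟨𝟙 _⟩
  haveI : f'.IsOver (Spec (CommRingCat.of B)) := ⟨Category.comp_id _⟩
  obtain ⟨_, _⟩ := DCat.exists_commShift_Rpush f'
  haveI := Dual6Lib.BCShriekAffine.linear_Rpush (A := B) f'
  haveI : (DCoh.RpushQ f' hf').Additive := ⟨fun {_ _ _ _} => InducedCategory.hom_ext ((DCoh.Rpush f').map_add)⟩
  haveI : (DCoh.RpushQ f' hf').Linear B :=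
    ⟨fun {_ _} x r => InducedCategory.hom_ext ((DCoh.Rpush f').map_smul r x.hom)⟩
  have ha' : ∀ b : B, a'.map (b • 𝟙 O') = b • 𝟙 (a'.obj O') := fun b => by
    apply (adj'.homEquiv _ _).symm.injective
    rw [adj'.homEquiv_counit, adj'.homEquiv_counit, adj'.counit_naturality, Functor.map_smul,
      CategoryTheory.Functor.map_id, Linear.smul_comp, Category.id_comp, Linear.comp_smul, Category.comp_id]
  have hnat : ∀ m : O' ⟶ O', (DCoh.RpushQ p hι).map (a'.map m) ≫ ξ = ξ ≫ a.map ((DCoh.RpushQ g hg).map m) := fun m => by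
    simp only [ξ, Dual3.xi]
    erw [← adj.homEquiv_naturality_right, ← adj.homEquiv_naturality_left]
    congr 1
    have h1 := e.hom.naturality (a'.map m)
    simp only [Functor.comp_map, Functor.comp_obj] at h1
    simp only [Category.assoc, ← Functor.map_comp]
    erw [reassoc_of% h1, ← Functor.map_comp, adj'.counit_naturality]
    exact congrArg _ ((DCoh.RpushQ g hg).map_comp _ _)
  -- the generating maps
  obtain ⟨eK⟩ := DQCoh.nonempty_Rpush_inD g (Coh.structureModule T')
  let η₁ : Coh.structureModule T ⟶ (Scheme.Modules.pushforward g).obj (Coh.structureModule T') :=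
    SheafOfModules.unitToPushforwardObjUnit g.toRingCatSheafHom
  let sO := singleFunctorCompHomologyFunctorIso T.Modules 0
  let αg : (Scheme.Modules.pushforward g).obj (Coh.structureModule T') ≅
      (Scheme.Modules.pushforward g).obj (Coh.structureModule T') :=
    (sO.app _).symm ≪≫ H0.mapIso eK.symm ≪≫ eP
  let u : O ⟶ K₀ := InducedCategory.homMk ((singleFunctor T.Modules 0).map (η₁ ≫ αg.inv) ≫ eK.inv)
  have hu : H0.map u.hom ≫ eP.hom = sO.hom.app _ ≫ η₁ := by
    have hn : H0.map ((singleFunctor T.Modules 0).map (η₁ ≫ αg.inv)) = sO.hom.app _ ≫ (η₁ ≫ αg.inv) ≫ sO.inv.app _ := by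
      have := sO.hom.naturality (η₁ ≫ αg.inv)
      simp only [Functor.comp_map, Functor.id_map] at this
      rw [← cancel_mono (sO.hom.app _)]
      refine this.trans ?_
      simp only [Category.assoc]
      erw [Iso.inv_hom_id_app, Category.comp_id]
      rfl
    show H0.map ((singleFunctor T.Modules 0).map (η₁ ≫ αg.inv) ≫ eK.inv) ≫ eP.hom = _
    rw [Functor.map_comp, hn]
    have h2 : αg.hom = sO.inv.app _ ≫ H0.map eK.inv ≫ eP.hom := rfl
    simp only [Category.assoc]
    erw [← h2]
    rw [Iso.inv_hom_id, Category.comp_id]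
  let q : B → (O ⟶ K₀) := fun b => u ≫ (DCoh.RpushQ g hg).map (b • 𝟙 O')
  have hq : ∀ b : B, H0.map (q b).hom ≫ eP.hom =
      sO.hom.app _ ≫ η₁ ≫ (Scheme.Modules.pushforward g).map (b • 𝟙 (Coh.structureModule T')) := fun b => by
    have hb : (b • 𝟙 O').hom = (singleFunctor T'.Modules 0).map (b • 𝟙 (Coh.structureModule T')) := by
      rw [Functor.map_smul, CategoryTheory.Functor.map_id]
      rfl
    show H0.map (u.hom ≫ (DCoh.Rpush g).map (b • 𝟙 O').hom) ≫ eP.hom = _
    rw [hb, Functor.map_comp, Category.assoc]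
    erw [heP, reassoc_of% hu]
  have hgen : ∀ t : T, Submodule.span (T.presheaf.stalk t)
      (⋃ b, Set.range ((DerSch.stalkFunctor T t).map (H0.map (q b).hom)).hom) = ⊤ := fun t => by
    refine span_range_of_eq_conj t (sO.app _) eP.symm _
      (fun b => η₁ ≫ (Scheme.Modules.pushforward g).map (b • 𝟙 (Coh.structureModule T'))) (fun b => ?_)
      (span_stalk_push_one g (Coherent.isQCoh_of_iso eP (h := K₀.property 0)) t)
    rw [← cancel_mono eP.hom]
    refine (hq b).trans ?_
    simp
    rfl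
  -- the comparison map
  haveI : IsIso ξ := ‹_›
  let L : Hd.obj (a.obj K₀) ≅ push.obj ω' := Hd.mapIso (asIso ξ).symm ≪≫ eB ≪≫ push.mapIso eω'
  have hL : ∀ b : B, Hd.map (a.map ((DCoh.RpushQ g hg).map (b • 𝟙 O'))) ≫ L.hom =
      L.hom ≫ push.map (b • 𝟙 ω') := fun b => by
    have h1 : a.map ((DCoh.RpushQ g hg).map (b • 𝟙 O')) ≫ inv ξ =
        inv ξ ≫ (DCoh.RpushQ p hι).map (a'.map (b • 𝟙 O')) := by
      rw [IsIso.comp_inv_eq, Category.assoc, hnat, IsIso.inv_hom_id_assoc]
    have h2 : (homologyFunctor Y'.Modules (-(d : ℤ))).map (a'.map (b • 𝟙 O')).hom ≫ eω'.hom =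
        eω'.hom ≫ (b • 𝟙 ω') := by
      rw [ha']
      show (homologyFunctor Y'.Modules (-(d : ℤ))).map (b • 𝟙 (a'.obj O').obj) ≫ eω'.hom = _
      rw [Dual22Lib.Torsion.homologyMap_smul_id, Linear.smul_comp, Category.id_comp, Linear.comp_smul, Category.comp_id]
    simp only [L, Iso.trans_hom, Functor.mapIso_hom, Iso.symm_hom, asIso_inv, Category.assoc]
    rw [← Functor.map_comp_assoc, h1, Functor.map_comp_assoc]
    congr 1
    erw [reassoc_of% (heB (a'.map (b • 𝟙 O')).hom)]
    rw [← push.map_comp, h2, push.map_comp]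
  let s : ω ⟶ push.obj ω' := eω.inv ≫ Hd.map (a.map u) ≫ L.hom
  let ε := (Scheme.Modules.pullbackPushforwardAdjunction p).counit
  let β : pull.obj ω ⟶ ω' := pull.map s ≫ ε.app ω'
  refine ⟨β, fun U' hU' => ?_⟩
  let π := cokernel.π β
  haveI : Coh.IsQCoh (pull.obj ω) := by
    haveI : Coh.IsQCoh ω := Coherent.isQCoh_of_iso eω (h := (a.obj O).property _)
    exact EGA43.InjFibre.isQCoh_pullback p ω
  have hψ : ∀ b : B, pull.map (Hd.map (a.map (q b)) ≫ L.hom) ≫ ε.app ω' ≫ π = 0 := fun b => by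
    have h1 : Hd.map (a.map (q b)) ≫ L.hom = eω.hom ≫ s ≫ push.map (b • 𝟙 ω') := by
      simp only [q, s, Functor.map_comp, Category.assoc, hL]
      exact (Iso.hom_inv_id_assoc eω _).symm
    have h2 : pull.map (push.map (b • 𝟙 ω')) ≫ ε.app ω' = ε.app ω' ≫ (b • 𝟙 ω') := ε.naturality _
    rw [h1, Functor.map_comp, Functor.map_comp, Category.assoc, Category.assoc, reassoc_of% h2, Linear.smul_comp,
      Category.id_comp, Linear.comp_smul, Linear.comp_smul]
    have h3 : pull.map s ≫ ε.app ω' ≫ π = 0 := by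
      rw [← Category.assoc]; exact cokernel.condition β
    rw [h3, smul_zero, comp_zero]
  -- surjectivity at the stalks
  have hsurj : ∀ v : Y', p v ∈ RelCanon.gorLocus f →
      Function.Surjective ((DerSch.stalkFunctor Y' v).map β).hom := fun v hv => by
    let S := DerSch.stalkFunctor Y (p v)
    let S' := DerSch.stalkFunctor Y' v
    have hspan := span_range_of_gor A Y d hd hf a adj O ⟨Iso.refl _⟩ (p v) hv K₀ q (hgen (f (p v)))
    let ψ : pull.obj (Hd.obj (a.obj K₀)) ⟶ cokernel β := pull.map L.hom ≫ ε.app ω' ≫ π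
    have h0 : ∀ b, pull.map (Hd.map (a.map (q b))) ≫ ψ = 0 := fun b => by
      show pull.map (Hd.map (a.map (q b))) ≫ pull.map L.hom ≫ ε.app ω' ≫ π = 0
      rw [← Functor.map_comp_assoc]; exact hψ b
    have h := stalk_map_eq_zero_of_gen p (fun b => Hd.map (a.map (q b))) ψ h0 v hspan
    refine surjective_stalk_of_cokernel β v ?_
    haveI : Epi (ε.app ω') := epi_counit_of_affine p ω'
    simp only [ψ, Functor.map_comp] at h
    exact (cancel_epi (S'.map (ε.app ω'))).1 (by
      rw [comp_zero]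
      exact (cancel_epi (S'.map (pull.map L.hom))).1 (by rw [comp_zero]; exact h))
  -- both sides are invertible
  have hd' : Cyc.HasRelDim f' d := by
    obtain ⟨i, hi, h1, h2⟩ : ∃ (i : Y' ⟶ pullback f g) (_ : IsIso i), i ≫ pullback.fst f g = p ∧
        i ≫ pullback.snd f g = f' :=
      ⟨hsq.isoPullback.hom, inferInstance, hsq.isoPullback_hom_fst, hsq.isoPullback_hom_snd⟩
    rw [← h2]
    haveI : LocallyOfFiniteType (pullback.snd f g) := MorphismProperty.pullback_snd _ _ inferInstance
    exact CycLib28.PB.hasRelDim_iso_comp (asIso i) _ (CycLib28.hasRelDim_snd f g hd)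
  obtain ⟨-, hinv⟩ := gor_open_and_invertible A Y d hd ω hω
  obtain ⟨-, hinv'⟩ := gor_open_and_invertible B Y' d hd' ω' hω'
  refine ZClosLib.isIso_of_bijective_stalk _ fun x => ?_
  let v : Y' := U'.ι x
  have hv : p v ∈ RelCanon.gorLocus f := hU' v x.2
  have hv' : v ∈ RelCanon.gorLocus f' := (Groth.Agent.S3626.result Y T Y' T' f g f' p hsq v).2 hv
  obtain ⟨eN⟩ := exists_stalk_equiv_of_invertibleAt (hinv' v hv')
  obtain ⟨eM⟩ : Nonempty ((pull.obj ω).presheaf.stalk v ≃ₗ[Y'.presheaf.stalk v] Y'.presheaf.stalk v) := by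
    obtain ⟨W, hW, ⟨eW⟩⟩ := hinv (p v) hv
    obtain ⟨eW'⟩ := nonempty_pull_restrict p W (M := ω) (N := Coh.structureModule Y)
      (eW ≪≫ (Scheme.Modules.restrictUnitIso W.ι).symm)
    exact exists_stalk_equiv_of_invertibleAt ⟨p ⁻¹ᵁ W, hW,
      ⟨eW' ≪≫ (Scheme.Modules.restrictFunctor (p ⁻¹ᵁ W).ι).mapIso
        (PicLoc.pullbackStructureIso p) ≪≫ Scheme.Modules.restrictUnitIso _⟩⟩
  haveI : IsNoetherianRing (Y'.presheaf.stalk v) := inferInstance
  have hb : Function.Bijective ((DerSch.stalkFunctor Y' v).map β).hom :=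
    bijective_of_surjective_of_equiv eM eN _ (hsurj v hv)
  let ν := Scheme.Modules.restrictStalkNatIso U'.ι x
  have hn := ν.hom.naturality β
  have key : (ν.hom.app ω').hom ∘ ZClosLib.stalkMap ((Scheme.Modules.restrictFunctor U'.ι).map β) x =
      ((DerSch.stalkFunctor Y' v).map β).hom ∘ (ν.hom.app (pull.obj ω)).hom :=
    funext fun z => ConcreteCategory.congr_hom hn z
  refine (Function.Bijective.of_comp_iff' (ConcreteCategory.bijective_of_isIso (ν.hom.app ω')) _).1 ?_
  exact key ▸ hb.comp (ConcreteCategory.bijective_of_isIso (ν.hom.app (pull.obj ω)))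

end Groth.Agent.DualLib.RelTop
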