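import Groth.Agent.DualLib.RelTop.FibreOpen
import Groth.Agent.EGA43.Chevalley.Fibre
import Groth.Agent.EGA43.CMChart.Main

/-!
# Fibres have dualizing sheaves
-/

set_option autoImplicit false
set_option backward.isDefEq.respectTransparency false
set_option backward.defeqAttrib.useBackward true
set_option linter.style.haveILetI false
set_option linter.unusedSectionVars false
set_option synthInstance.maxHeartbeats 200000
set_option maxHeartbeats 1000000

universe u

open CategoryTheory CategoryTheory.Limits CategoryTheory.Pretriangulated DerivedCategory AlgebraicGeometry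
open Groth.Agent.DCat

attribute [local instance] HasDerivedCategory.standard
attribute [-instance] Int.instConditionallyCompleteLinearOrder

namespace Groth.Agent.DualLib.RelTop

/-- Fibres of proper morphisms have dualizing sheaves in the relative dimension. -/
theorem exists_fibre_dualizing (A : Type u) [CommRing A] [IsNoetherianRing A] (Y : Scheme.{u})
    [Y.Over (Spec (CommRingCat.of A))] [IsProper (Y ↘ Spec (CommRingCat.of A))] (d : ℕ)
    (hd : Cyc.HasRelDim (Y ↘ Spec (CommRingCat.of A)) d) (t : Spec (CommRingCat.of A)) :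
    ∃ ωt : ((Y ↘ Spec (CommRingCat.of A)).fiber t).Modules,
      @RelCanon.IsDualizingSheaf ((Spec (CommRingCat.of A)).residueField t) _
        ((Y ↘ Spec (CommRingCat.of A)).fiber t) ⟨(Y ↘ Spec (CommRingCat.of A)).fiberToSpecResidueField t⟩ d ωt := by
  haveI : ∀ (U V : Scheme.{u}) (j : U ⟶ V) [IsOpenImmersion j],
      PreservesFiniteLimits (Scheme.Modules.restrictFunctor j) := fun U V j _ =>
    DCat.PullPerf.preservesFiniteLimits_restrict j
  let f := Y ↘ Spec (CommRingCat.of A)
  let T := Spec (CommRingCat.of A)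
  let k := T.residueField t
  let T' := Spec (CommRingCat.of k)
  let g : T' ⟶ T := T.fromSpecResidueField t
  let Y' := f.fiber t
  let f' : Y' ⟶ T' := f.fiberToSpecResidueField t
  have hsq : IsPullback (f.fiberι t) f' f g := IsPullback.of_hasPullback _ _
  haveI : IsProper f' := MorphismProperty.of_isPullback hsq ‹_›
  letI : Y'.Over T' := ⟨f'⟩
  haveI : IsProper (Y' ↘ T') := ‹IsProper f'›
  haveI : IsNoetherianRing k := inferInstance
  haveI : IsNoetherianRing (CommRingCat.of k) := ‹IsNoetherianRing k›
  haveI : IsNoetherian T' := {}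
  haveI : IsLocallyNoetherian Y' := LocallyOfFiniteType.isLocallyNoetherian f'
  haveI : CompactSpace Y' := QuasiCompact.compactSpace_of_compactSpace f'
  haveI : QuasiSeparatedSpace Y' := quasiSeparatedSpace_of_quasiSeparated f'
  haveI : ∀ (S : CommRingCat.{u}), PreservesFiniteLimits (tilde.functor S) :=
    Groth.Agent.AffSchLib.preservesFiniteLimits_tilde
  haveI := DCat.hasRpush f'
  haveI : DCoh.HasRpush (Y' ↘ T') := DCat.hasRpush _
  have hf' : DCoh.RpushPreservesQCoh f' := fun K hK => DQCoh.isQCohD_Rpush f' K hK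
  haveI := Dual22Lib.AdjGeom.isLeftAdjoint_RpushQ f' hf'
  let a' := (DCoh.RpushQ f' hf').rightAdjoint
  let adj' : DCoh.RpushQ f' hf' ⊣ a' := Adjunction.ofIsLeftAdjoint _
  haveI : Coh.IsQCoh (Coh.structureModule T') := Coherent.isQCoh_structureModule
  let O' : DCoh.DQCoh T' := ⟨DCoh.inD T' (Coh.structureModule T'), FlatBC14.isQCohD_inD _⟩
  have hfib' : ∀ y, topologicalKrullDim ((Y' ↘ T').fiber y) ≤ (d : WithBot ℕ∞) := fun y =>
    (((Y' ↘ T').fiberι y).isEmbedding.isInducing.topologicalKrullDim_le).trans (fibre_dim_le f d hd t)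
  obtain ⟨hdual', -⟩ := isDualizingSheaf_HD (A := k) (X := Y') hfib' hf' a' adj' O' ⟨Iso.refl _⟩
  exact ⟨_, hdual'⟩

end Groth.Agent.DualLib.RelTop
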