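import Groth.Agent.DualLib.RelTop.SkAscend
import Groth.Agent.DualLib.RelTop.FibreExists
import Groth.Agent.FlatMor12.CMMor
import Groth.Agent.CommAlg6.GeomFib

/-!
# The fibres of an `S₂`-morphism, and invertibility under isomorphisms of double duals
-/

set_option autoImplicit false
set_option backward.isDefEq.respectTransparency false
set_option linter.style.haveILetI false
set_option linter.unusedSectionVars false
set_option maxHeartbeats 800000

universe u

open CategoryTheory CategoryTheory.Limits AlgebraicGeometry TopologicalSpace IsLocalRing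

namespace Groth.Agent.DualLib.RelTop

open Groth.Agent

/-- Over a field the fibre at a point is the scheme itself, on stalks. -/
theorem exists_fibre_stalk_over_field {K : Type u} [Field K] {Z : Scheme.{u}} (p : Z ⟶ Spec (CommRingCat.of K)) (z : Z) :
    Nonempty ((p.fiber (p z)).presheaf.stalk (p.asFiber z) ≃+* Z.presheaf.stalk z) := by
  obtain ⟨e⟩ := FlatMor12.fibreStalk_equiv p z
  have hm : (IsLocalRing.maximalIdeal ((Spec (CommRingCat.of K)).presheaf.stalk (p z))).map (p.stalkMap z).hom = ⊥ := by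
    let q : PrimeSpectrum K := p z
    letI : Algebra K ((Spec (CommRingCat.of K)).presheaf.stalk (p z)) :=
      (StructureSheaf.toStalk K q).hom.toAlgebra
    haveI : IsLocalization.AtPrime ((Spec (CommRingCat.of K)).presheaf.stalk (p z)) q.asIdeal :=
      StructureSheaf.IsLocalization.to_stalk (CommRingCat.of K) q
    rw [← IsLocalization.AtPrime.map_eq_maximalIdeal q.asIdeal ((Spec (CommRingCat.of K)).presheaf.stalk (p z)),
      show q.asIdeal = ⊥ from (Ideal.eq_bot_or_top q.asIdeal).resolve_right q.2.ne_top, Ideal.map_bot, Ideal.map_bot]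
  exact ⟨e.trans ((Ideal.quotEquivOfEq hm).trans (RingEquiv.quotientBot _))⟩

variable {X T : Scheme.{u}} (f : X ⟶ T) [IsLocallyNoetherian T] [LocallyOfFiniteType f]

/-- The fibres of an `S₂`-morphism are `S₂`-morphisms to the residue fields. -/
theorem isSkMor_fibre (hS : RelCanon.IsSkMor f 2) (t : T) : RelCanon.IsSkMor (f.fiberToSpecResidueField t) 2 := by
  haveI : Flat f := hS.1
  refine ⟨MorphismProperty.pullback_snd _ _ ‹Flat f›, MorphismProperty.pullback_snd _ _ ‹LocallyOfFiniteType f›,
    fun z => ?_⟩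
  let p := f.fiberToSpecResidueField t
  have key : ∀ (x : X) (s : T), f x = s → ∀ v : f.fiber s, f.fiberι s v = x →
      _root_.LocCoh.HasSk 2 ((f.fiber s).presheaf.stalk v) ((f.fiber s).presheaf.stalk v) := by
    intro x s hs
    subst hs
    intro v hv
    obtain rfl : v = f.asFiber x := (f.fiberι _).isEmbedding.injective (hv.trans (f.fiberι_asFiber x).symm)
    exact (EGA43.FibDepth.hasSk_congr (EGA43.FibDepth.unitStalkEquiv (f.asFiber x)) 2).2 (hS.2.2 x)
  haveI : LocallyOfFiniteType p := MorphismProperty.pullback_snd _ _ ‹LocallyOfFiniteType f›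
  haveI : IsLocallyNoetherian (f.fiber t) := LocallyOfFiniteType.isLocallyNoetherian p
  obtain ⟨e⟩ := exists_fibre_stalk_over_field p z
  haveI : IsNoetherianRing ((p.fiber (p z)).presheaf.stalk (p.asFiber z)) := isNoetherianRing_of_ringEquiv _ e.symm
  exact (EGA43.FibDepth.hasSk_congr (EGA43.FibDepth.unitStalkEquiv (p.asFiber z)) 2).1
    (CommAlg6.hasSk_of_ringEquiv e.symm (key _ t (EGA43.Chevalley.apply_fiberι f t z) z rfl))

/-- Dimension two off an open on a fibre over its residue field. -/
theorem dim_fibre_off (Xo : X.Opens)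
    (hdim : ∀ x : X, x ∉ Xo → (2 : WithBot ℕ∞) ≤ ringKrullDim ((f.fiber (f x)).presheaf.stalk (f.asFiber x)))
    (t : T) (z : f.fiber t) (hz : f.fiberι t z ∉ Xo) :
    (2 : WithBot ℕ∞) ≤ ringKrullDim (((f.fiberToSpecResidueField t).fiber ((f.fiberToSpecResidueField t) z)).presheaf.stalk
      ((f.fiberToSpecResidueField t).asFiber z)) := by
  obtain ⟨e⟩ := exists_fibre_stalk_over_field (f.fiberToSpecResidueField t) z
  refine le_of_le_of_eq ?_ (ringKrullDim_eq_of_ringEquiv e).symm
  have key : ∀ (x : X) (s : T), f x = s → x ∉ Xo → ∀ v : f.fiber s, f.fiberι s v = x →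
      (2 : WithBot ℕ∞) ≤ ringKrullDim ((f.fiber s).presheaf.stalk v) := by
    intro x s hs
    subst hs
    intro hx v hv
    obtain rfl : v = f.asFiber x := (f.fiberι _).isEmbedding.injective (hv.trans (f.fiberι_asFiber x).symm)
    exact hdim x hx
  exact key _ t (EGA43.Chevalley.apply_fiberι f t z) hz z rfl

/-- Invertibility of a pullback passes to a module isomorphic to its double dual. -/
theorem invertibleAt_of_ddual_pullback {Y : Scheme.{u}} [IsLocallyNoetherian Y] [IsLocallyNoetherian X] (g : Y ⟶ X)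
    {G : X.Modules} (hG : Coh.IsCoh G) {G' : Y.Modules}
    (i : RefHull.ddual ((Scheme.Modules.pullback g).obj G) ≅ G') (y : Y) (h : RelCanon.InvertibleAt G (g y)) :
    RelCanon.InvertibleAt G' y := by
  have hP : Coh.IsCoh ((Scheme.Modules.pullback g).obj G) :=
    ⟨haveI := hG.1; EGA43.InjFibre.isQCoh_pullback g G, Coherent.isFT_pullback_qcoh g hG.1 hG.2⟩
  exact invertibleAt_of_restrict_iso ⊤ ((Scheme.Modules.restrictFunctor (⊤ : Y.Opens).ι).mapIso i.symm) y trivial
    (invertibleAt_dual (RefHullLib.isCoh_dual hP (Coherent.isCoh_structureModule Y)) y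
      (invertibleAt_dual hP y (invertibleAt_pullback g y h)))

/-- Relative `(S₂)` of a pullback, transported along an isomorphism. -/
theorem relSk_of_iso_pullback {Y T' : Scheme.{u}} [IsLocallyNoetherian T'] [IsLocallyNoetherian X] [IsLocallyNoetherian Y]
    (g : Y ⟶ X) (f' : Y ⟶ T') [LocallyOfFiniteType f'] [Flat f'] (h : T' ⟶ T) (sq : IsPullback g f' f h)
    {G : X.Modules} (hG : Coh.IsCoh G) {G' : Y.Modules} (i : (Scheme.Modules.pullback g).obj G ≅ G')
    (Xo : X.Opens) (hGi : ∀ x : X, x ∈ Xo → RelCanon.InvertibleAt G x)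
    (hfib : ∀ (t : T) (z : f.fiber t), f.fiberι t z ∉ Xo →
      (2 : ℕ∞) ≤ _root_.LocCoh.depth ((f.fiber t).presheaf.stalk z)
        (((Scheme.Modules.pullback (f.fiberι t)).obj G).presheaf.stalk z))
    (hsk : RelCanon.RelSk f 2 G) : RelCanon.RelSk f' 2 G' := by
  intro y
  let t' := f' y
  let v := f'.asFiber y
  obtain ⟨hflat, -⟩ := two_le_depth_pullback g f f' h sq hG Xo hfib fun x hx =>
    isFlatOverAt_of_invertibleAt f' x (invertibleAt_pullback g x (hGi _ hx))
  obtain ⟨q, _, hw, sq'⟩ := exists_fibre_map g f f' h sq t'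
  let P := (Scheme.Modules.pullback g).obj G
  let ι := f.fiberι (h t')
  let ι' := f'.fiberι t'
  let N := (Scheme.Modules.pullback ι).obj G
  have hN : Coh.IsCoh N :=
    ⟨haveI := hG.1; EGA43.InjFibre.isQCoh_pullback ι G, Coherent.isFT_pullback_qcoh ι hG.1 hG.2⟩
  let eN : (Scheme.Modules.pullback q).obj N ≅ (Scheme.Modules.pullback ι').obj P :=
    (Scheme.Modules.pullbackComp q ι).app G ≪≫ (Scheme.Modules.pullbackCongr hw).app G ≪≫
      ((Scheme.Modules.pullbackComp ι' g).app G).symm
  haveI : LocallyOfFiniteType (f.fiberToSpecResidueField (h t')) :=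
    MorphismProperty.pullback_snd _ _ inferInstance
  letI : Algebra (IsLocalRing.ResidueField (T.presheaf.stalk (h t'))) (IsLocalRing.ResidueField (T'.presheaf.stalk t')) :=
    (h.residueFieldMap t').hom.toAlgebra
  have key : ∀ (x : X) (s : T), f x = s → ∀ w : f.fiber s, f.fiberι s w = x →
      RelCanon.SkAt 2 ((Scheme.Modules.pullback (f.fiberι s)).obj G) w := by
    intro x s hs
    subst hs
    intro w hw'
    obtain rfl : w = f.asFiber x := (f.fiberι _).isEmbedding.injective (hw'.trans (f.fiberι_asFiber x).symm)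
    exact (hsk x).2
  have h1 : RelCanon.SkAt 2 ((Scheme.Modules.pullback q).obj N) v :=
    skAt_pullback_field (k := IsLocalRing.ResidueField (T.presheaf.stalk (h t')))
      (k' := IsLocalRing.ResidueField (T'.presheaf.stalk t')) q (f.fiberToSpecResidueField (h t')) (f'.fiberToSpecResidueField t') sq' hN v
      (key _ (h t') (EGA43.Chevalley.apply_fiberι f (h t') (q v)) (q v) rfl)
  have h2 : RelCanon.SkAt 2 ((Scheme.Modules.pullback ι').obj P) v :=
    (EGA43.FibDepth.hasSk_congr ((DerSch.stalkFunctor (f'.fiber t') v).mapIso eN).toLinearEquiv 2).1 h1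
  obtain ⟨a, b⟩ := relSkAt_of_stalk_equiv f' (G := G') t' v
    ((DerSch.stalkFunctor Y (ι' v)).mapIso i).toLinearEquiv (hflat _) h2
  exact ⟨(f'.fiberι_asFiber y) ▸ a, b⟩

/-- Depth two of the fibre restrictions of a relatively `(S₂)` module off an open where it is invertible. -/
theorem two_le_depth_fibre_of_relSk [IsLocallyNoetherian X] {G : X.Modules} (hG : Coh.IsCoh G) (Xo : X.Opens)
    (hdim : ∀ x : X, x ∉ Xo → (2 : WithBot ℕ∞) ≤ ringKrullDim ((f.fiber (f x)).presheaf.stalk (f.asFiber x)))
    (hGi : ∀ x : X, x ∈ Xo → RelCanon.InvertibleAt G x) (hsk : RelCanon.RelSk f 2 G)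
    (t : T) (z : f.fiber t) (hz : f.fiberι t z ∉ Xo) :
    (2 : ℕ∞) ≤ _root_.LocCoh.depth ((f.fiber t).presheaf.stalk z)
      (((Scheme.Modules.pullback (f.fiberι t)).obj G).presheaf.stalk z) := by
  haveI : LocallyOfFiniteType (f.fiberToSpecResidueField t) :=
    MorphismProperty.pullback_snd _ _ inferInstance
  haveI : IsLocallyNoetherian (f.fiber t) := LocallyOfFiniteType.isLocallyNoetherian (f.fiberToSpecResidueField t)
  have hN : Coh.IsCoh ((Scheme.Modules.pullback (f.fiberι t)).obj G) :=
    ⟨haveI := hG.1; EGA43.InjFibre.isQCoh_pullback _ G, Coherent.isFT_pullback_qcoh _ hG.1 hG.2⟩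
  have key : ∀ (x : X) (s : T), f x = s → ∀ v : f.fiber s, f.fiberι s v = x →
      RelCanon.SkAt 2 ((Scheme.Modules.pullback (f.fiberι s)).obj G) v ∧
        (x ∉ Xo → (2 : WithBot ℕ∞) ≤ ringKrullDim ((f.fiber s).presheaf.stalk v)) := by
    intro x s hs
    subst hs
    intro v hv
    obtain rfl : v = f.asFiber x := (f.fiberι _).isEmbedding.injective (hv.trans (f.fiberι_asFiber x).symm)
    exact ⟨(hsk x).2, hdim x⟩
  have key' := fun v : f.fiber t => key _ t (EGA43.Chevalley.apply_fiberι f t v) v rfl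
  exact two_le_depth_of_skAt hN z (key' z).1 (f.fiberι t ⁻¹ᵁ Xo) (fun w _ hw => (key' w).2 hw)
    (fun w _ hw => by
      obtain ⟨c⟩ := exists_stalk_equiv_of_invertibleAt (invertibleAt_pullback (f.fiberι t) w (hGi _ hw))
      exact c.toEquiv.nontrivial) z (specializes_refl z) hz

end Groth.Agent.DualLib.RelTop
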