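import Groth.Agent.DualLib.RelTop.FibreOpen
import Groth.Agent.S1341

/-!
# The relative dualizing sheaf is flat at Cohen–Macaulay points
-/

set_option autoImplicit false
set_option backward.isDefEq.respectTransparency false
set_option backward.defeqAttrib.useBackward true
set_option linter.style.haveILetI false
set_option linter.unusedSectionVars false
set_option synthInstance.maxHeartbeats 100000

universe u

open CategoryTheory CategoryTheory.Limits CategoryTheory.Pretriangulated DerivedCategory AlgebraicGeometry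

attribute [local instance] HasDerivedCategory.standard
attribute [-instance] Int.instConditionallyCompleteLinearOrder

namespace Groth.Agent.DualLib.RelTop

open Groth.Agent

variable [∀ (U V : Scheme.{u}) (j : U ⟶ V) [IsOpenImmersion j], PreservesFiniteLimits (Scheme.Modules.restrictFunctor j)]

variable (A : Type u) [CommRing A] [IsNoetherianRing A] (Y : Scheme.{u}) [Y.Over (Spec (CommRingCat.of A))]
  [IsProper (Y ↘ Spec (CommRingCat.of A))] [Flat (Y ↘ Spec (CommRingCat.of A))] (d : ℕ)
  (hd : Cyc.HasRelDim (Y ↘ Spec (CommRingCat.of A)) d)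

include hd

/-- Flatness of the dualizing sheaf at a Cohen–Macaulay point. -/
theorem isFlatOverAt_of_cm (ω : Y.Modules) (hω : RelCanon.IsDualizingSheaf A Y d ω) (y : Y)
    (hy : MoreMor.IsCMAt (Y ↘ Spec (CommRingCat.of A)) y) :
    FlatMod.IsFlatOverAt (Y ↘ Spec (CommRingCat.of A)) ω y := by
  let f := Y ↘ Spec (CommRingCat.of A)
  let T := Spec (CommRingCat.of A)
  haveI : IsNoetherianRing (CommRingCat.of A) := ‹IsNoetherianRing A›
  haveI : IsNoetherian T := {}
  haveI : CompactSpace Y := QuasiCompact.compactSpace_of_compactSpace f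
  haveI : QuasiSeparatedSpace Y := quasiSeparatedSpace_of_quasiSeparated f
  haveI : IsLocallyNoetherian Y := LocallyOfFiniteType.isLocallyNoetherian f
  haveI : LocallyOfFinitePresentation f := LocallyOfFinitePresentation.iff_locallyOfFiniteType.2 inferInstance
  haveI : ∀ (S : CommRingCat.{u}), PreservesFiniteLimits (tilde.functor S) :=
    Groth.Agent.AffSchLib.preservesFiniteLimits_tilde
  let U : Y.Opens := ⟨_, (Groth.Agent.S1341.result f).1⟩
  let j : (U : Scheme.{u}) ⟶ Y := U.ι
  haveI := DCat.hasRpush f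
  have hf : DCoh.RpushPreservesQCoh f := fun K hK => DQCoh.isQCohD_Rpush f K hK
  haveI := Dual22Lib.AdjGeom.isLeftAdjoint_RpushQ f hf
  let a := (DCoh.RpushQ f hf).rightAdjoint
  let adj : DCoh.RpushQ f hf ⊣ a := Adjunction.ofIsLeftAdjoint _
  haveI : Coh.IsQCoh (Coh.structureModule T) := Coherent.isQCoh_structureModule
  let O : DCoh.DQCoh T := ⟨DCoh.inD T (Coh.structureModule T), FlatBC14.isQCohD_inD _⟩
  obtain ⟨hdual, -⟩ := isDualizingSheaf_HD (fibre_dim_le f d hd) hf a adj O ⟨Iso.refl _⟩
  obtain ⟨eω⟩ := nonempty_iso_of_isDualizingSheaf hdual hω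
  let c : DEt.Compactification (j ≫ f) :=
    { Xbar := Y, j := j, fbar := f, isOpenImmersion := inferInstance, isProper := ‹_›, fac := rfl }
  haveI : DCoh.HasRpush c.fbar := ‹DCoh.HasRpush f›
  haveI : Dual3.IsSepFT (j ≫ f) := by
    haveI : QuasiCompact j := inferInstance
    exact ⟨inferInstance, inferInstance, inferInstance⟩
  haveI : Dual3.IsSepFT (𝟙 T) := ⟨inferInstance, inferInstance, inferInstance⟩
  have hCMU : ∀ x : (U : Scheme.{u}), MoreMor.IsCMAt (j ≫ f) x := fun x =>
    (EGA43.CMChart.isCMAt_comp_iff j f x).2 x.2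
  have hdU : ∀ (y : T) (Z : Set ↥((j ≫ f).fiber y)), Z ∈ irreducibleComponents ↥((j ≫ f).fiber y) →
      topologicalKrullDim ↥Z = (d : WithBot ℕ∞) := fun y => by
    refine (EGA43.Chevalley.forall_components_fiber_iff (j ≫ f) y (fun e => e = (d : WithBot ℕ∞))).2 fun x hx hmax => ?_
    rw [EGA43.Chevalley.trdegHom_residueFieldMap_comp j f x]
    refine (EGA43.Chevalley.forall_components_fiber_iff f y (fun e => e = (d : WithBot ℕ∞))).1 (hd y) (j x) hx
      fun w hw hwy => ?_
    let w' : (U : Scheme.{u}) := ⟨w, hw.mem_open U.isOpen x.2⟩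
    exact congrArg j (hmax w' (j.isOpenEmbedding.isInducing.specializes_iff.1 hw) hwy)
  obtain ⟨-, -, hfl⟩ := Groth.Agent.S3614.result T (U : Scheme.{u}) T (j ≫ f) (𝟙 _) (j ≫ f) (Category.comp_id _)
    hCMU d hdU c hf a adj O ⟨Iso.refl _⟩
  let e : DCoh.HD ((Dual3.shriekC c a).obj O) (-(d : ℤ)) ≅ (Scheme.Modules.pullback j).obj ω :=
    DCat.SuppOpen.hdMapIso (Scheme.Modules.restrictFunctor j) (a.obj O).obj _ ≪≫
      (Scheme.Modules.restrictFunctor j).mapIso eω ≪≫ (Scheme.Modules.restrictFunctorIsoPullback j).app ω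
  let y' : (U : Scheme.{u}) := ⟨y, hy⟩
  exact (Coherent.CohBC.isFlatOverAt_restrict_iff (π := f) (π' := j ≫ f) (a := j) (j := 𝟙 T)
    (Category.comp_id _).symm ω y').1 (EGA43.DvrCrit.isFlatOverAt_of_iso _ e y' (hfl y'))

end Groth.Agent.DualLib.RelTop
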