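import Groth.Agent.DualLib.RelTop.CMChart
import Groth.Agent.DualLib.RelTop.ArbBC
import Groth.Agent.DualLib.RelTop.ArbQGor
import Groth.Agent.DualLib.RelTop.FlatCM

/-!
# Base change of the relative dualizing sheaf on the Cohen–Macaulay locus, for an arbitrary Noetherian base
-/

set_option autoImplicit false
set_option backward.isDefEq.respectTransparency false
set_option backward.defeqAttrib.useBackward true
set_option linter.style.haveILetI false
set_option linter.unusedSectionVars false
set_option synthInstance.maxHeartbeats 200000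
set_option maxHeartbeats 1000000

universe u

open CategoryTheory CategoryTheory.Limits CategoryTheory.Pretriangulated DerivedCategory AlgebraicGeometry
open Groth.Agent.DCat
open scoped TensorProduct

attribute [local instance] HasDerivedCategory.standard
attribute [-instance] Int.instConditionallyCompleteLinearOrder

namespace Groth.Agent.DualLib.RelTop

variable [∀ (U V : Scheme.{u}) (j : U ⟶ V) [IsOpenImmersion j], PreservesFiniteLimits (Scheme.Modules.restrictFunctor j)]

variable (A : Type u) [CommRing A] [IsNoetherianRing A] (Y : Scheme.{u}) [Y.Over (Spec (CommRingCat.of A))]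
  [IsProper (Y ↘ Spec (CommRingCat.of A))] [Flat (Y ↘ Spec (CommRingCat.of A))] (d : ℕ)
  (hd : Cyc.HasRelDim (Y ↘ Spec (CommRingCat.of A)) d)

include hd

/-- **The base change map is surjective on the Cohen–Macaulay locus.** -/
theorem exists_surjective_on_cm (ω : Y.Modules) (hω : RelCanon.IsDualizingSheaf A Y d ω)
    (B : Type u) [CommRing B] [IsNoetherianRing B] (φ : A →+* B) (Y' : Scheme.{u}) [Y'.Over (Spec (CommRingCat.of B))]
    (p : Y' ⟶ Y)
    (hp : IsPullback p (Y' ↘ Spec (CommRingCat.of B)) (Y ↘ Spec (CommRingCat.of A)) (Spec.map (CommRingCat.ofHom φ)))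
    (ω' : Y'.Modules) (hω' : RelCanon.IsDualizingSheaf B Y' d ω') :
    ∃ β : (Scheme.Modules.pullback p).obj ω ⟶ ω', ∀ v : Y', MoreMor.IsCMAt (Y ↘ Spec (CommRingCat.of A)) (p v) →
      Function.Surjective ((DerSch.stalkFunctor Y' v).map β).hom := by
  let f := Y ↘ Spec (CommRingCat.of A)
  let f' := Y' ↘ Spec (CommRingCat.of B)
  let T := Spec (CommRingCat.of A)
  let T' := Spec (CommRingCat.of B)
  let g : T' ⟶ T := Spec.map (CommRingCat.ofHom φ)
  have hsq : IsPullback p f' f g := hp
  haveI : IsNoetherianRing (CommRingCat.of A) := ‹IsNoetherianRing A›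
  haveI : IsNoetherianRing (CommRingCat.of B) := ‹IsNoetherianRing B›
  haveI : IsNoetherian T := {}
  haveI : IsNoetherian T' := {}
  haveI : IsAffineHom g := inferInstance
  haveI : IsAffineHom p := MorphismProperty.of_isPullback hsq.flip ‹IsAffineHom g›
  haveI : IsProper f' := MorphismProperty.of_isPullback hsq ‹IsProper f›
  haveI : IsProper (Y' ↘ T') := ‹IsProper f'›
  haveI : Flat f' := MorphismProperty.of_isPullback hsq ‹Flat f›
  haveI : Flat (Y' ↘ T') := ‹Flat f'›
  haveI : CompactSpace Y := QuasiCompact.compactSpace_of_compactSpace f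
  haveI : QuasiSeparatedSpace Y := quasiSeparatedSpace_of_quasiSeparated f
  haveI : CompactSpace Y' := QuasiCompact.compactSpace_of_compactSpace f'
  haveI : QuasiSeparatedSpace Y' := quasiSeparatedSpace_of_quasiSeparated f'
  haveI : IsLocallyNoetherian Y' := LocallyOfFiniteType.isLocallyNoetherian f'
  haveI : ∀ (S : CommRingCat.{u}), PreservesFiniteLimits (tilde.functor S) :=
    Groth.Agent.AffSchLib.preservesFiniteLimits_tilde
  haveI := DCat.hasRpush f
  haveI := DCat.hasRpush f'
  haveI : DCoh.HasRpush (Y' ↘ T') := DCat.hasRpush _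
  haveI : DCoh.HasRpush (Y ↘ T) := DCat.hasRpush _
  haveI := DCat.hasRpush g
  haveI := DCat.hasRpush p
  have hf : DCoh.RpushPreservesQCoh f := fun K hK => DQCoh.isQCohD_Rpush f K hK
  have hf' : DCoh.RpushPreservesQCoh f' := fun K hK => DQCoh.isQCohD_Rpush f' K hK
  have hg : DCoh.RpushPreservesQCoh g := fun K hK => DQCoh.isQCohD_Rpush g K hK
  have hι : DCoh.RpushPreservesQCoh p := fun K hK => DQCoh.isQCohD_Rpush p K hK
  haveI := Dual22Lib.AdjGeom.isLeftAdjoint_RpushQ f hf
  haveI := Dual22Lib.AdjGeom.isLeftAdjoint_RpushQ f' hf'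
  let a := (DCoh.RpushQ f hf).rightAdjoint
  let adj : DCoh.RpushQ f hf ⊣ a := Adjunction.ofIsLeftAdjoint _
  let a' := (DCoh.RpushQ f' hf').rightAdjoint
  let adj' : DCoh.RpushQ f' hf' ⊣ a' := Adjunction.ofIsLeftAdjoint _
  haveI hOqc : Coh.IsQCoh (Coh.structureModule T) := Coherent.isQCoh_structureModule
  haveI hO'qc : Coh.IsQCoh (Coh.structureModule T') := Coherent.isQCoh_structureModule
  let O : DCoh.DQCoh T := ⟨DCoh.inD T (Coh.structureModule T), FlatBC14.isQCohD_inD _⟩
  let O' : DCoh.DQCoh T' := ⟨DCoh.inD T' (Coh.structureModule T'), FlatBC14.isQCohD_inD _⟩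
  obtain ⟨hdual, -⟩ := isDualizingSheaf_HD (fibre_dim_le f d hd) hf a adj O ⟨Iso.refl _⟩
  obtain ⟨eω⟩ := nonempty_iso_of_isDualizingSheaf hdual hω
  have hfib' : ∀ y, topologicalKrullDim (f'.fiber y) ≤ (d : WithBot ℕ∞) := fun y =>
    (Coherent.CohBC.topologicalKrullDim_fiber_of_isPullback hsq y).le.trans (fibre_dim_le f d hd _)
  obtain ⟨hdual', hge'⟩ := isDualizingSheaf_HD (A := B) (X := Y') hfib' hf' a' adj' O' ⟨Iso.refl _⟩
  obtain ⟨eω'⟩ := nonempty_iso_of_isDualizingSheaf hdual' hω'
  haveI hω'q : Coh.IsQCoh ω' := Coherent.isQCoh_of_iso eω' (h := (a'.obj O').property _)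
  haveI : (a'.obj O').obj.IsGE (-(d : ℤ)) := hge'
  -- the two bottom cohomologies
  obtain ⟨e, hξ⟩ := Groth.Agent.S3602.result Y T Y' T' f g f' p hsq (Or.inl ‹_›) hf hf' hg hι a a' adj adj'
  haveI := hξ O'
  obtain ⟨eP, heP⟩ := exists_push_single g (Coh.structureModule T')
  obtain ⟨eB, heB⟩ := exists_bottom_Rpush p (a'.obj O').obj (-(d : ℤ)) ((a'.obj O').property _)
  let K₀ := (DCoh.RpushQ g hg).obj O'
  let H0 := homologyFunctor T.Modules 0
  let Hd := ObjectProperty.ι (DCoh.IsQCohD (X := Y)) ⋙ homologyFunctor Y.Modules (-(d : ℤ))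
  let push := Scheme.Modules.pushforward p
  let pull := Scheme.Modules.pullback p
  let ξ := Dual3.xi adj adj' e O'
  -- scalars
  letI : T'.Over (Spec (CommRingCat.of B)) := ⟨𝟙 _⟩
  haveI : f'.IsOver (Spec (CommRingCat.of B)) := ⟨Category.comp_id _⟩
  obtain ⟨_, _⟩ := DCat.exists_commShift_Rpush f'
  haveI := Dual6Lib.BCShriekAffine.linear_Rpush (A := B) f'
  haveI : (DCoh.RpushQ f' hf').Additive := ⟨fun {_ _ _ _} => InducedCategory.hom_ext ((DCoh.Rpush f').map_add)⟩
  haveI : (DCoh.RpushQ f' hf').Linear B :=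
    ⟨fun {_ _} x r => InducedCategory.hom_ext ((DCoh.Rpush f').map_smul r x.hom)⟩
  have ha' : ∀ b : B, a'.map (b • 𝟙 O') = b • 𝟙 (a'.obj O') := fun b => by
    apply (adj'.homEquiv _ _).symm.injective
    rw [adj'.homEquiv_counit, adj'.homEquiv_counit, adj'.counit_naturality, Functor.map_smul,
      CategoryTheory.Functor.map_id, Linear.smul_comp, Category.id_comp, Linear.comp_smul, Category.comp_id]
  have hnat : ∀ m : O' ⟶ O', (DCoh.RpushQ p hι).map (a'.map m) ≫ ξ = ξ ≫ a.map ((DCoh.RpushQ g hg).map m) := fun m => by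
    simp only [ξ, Dual3.xi]
    erw [← adj.homEquiv_naturality_right, ← adj.homEquiv_naturality_left]
    congr 1
    have h1 := e.hom.naturality (a'.map m)
    simp only [Functor.comp_map, Functor.comp_obj] at h1
    simp only [Category.assoc, ← Functor.map_comp]
    erw [reassoc_of% h1, ← Functor.map_comp, adj'.counit_naturality]
    exact congrArg _ ((DCoh.RpushQ g hg).map_comp _ _)
  -- the generating maps
  obtain ⟨eK⟩ := DQCoh.nonempty_Rpush_inD g (Coh.structureModule T')
  let η₁ : Coh.structureModule T ⟶ (Scheme.Modules.pushforward g).obj (Coh.structureModule T') :=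
    SheafOfModules.unitToPushforwardObjUnit g.toRingCatSheafHom
  let sO := singleFunctorCompHomologyFunctorIso T.Modules 0
  let αg : (Scheme.Modules.pushforward g).obj (Coh.structureModule T') ≅
      (Scheme.Modules.pushforward g).obj (Coh.structureModule T') :=
    (sO.app _).symm ≪≫ H0.mapIso eK.symm ≪≫ eP
  let u : O ⟶ K₀ := InducedCategory.homMk ((singleFunctor T.Modules 0).map (η₁ ≫ αg.inv) ≫ eK.inv)
  have hu : H0.map u.hom ≫ eP.hom = sO.hom.app _ ≫ η₁ := by
    have hn : H0.map ((singleFunctor T.Modules 0).map (η₁ ≫ αg.inv)) = sO.hom.app _ ≫ (η₁ ≫ αg.inv) ≫ sO.inv.app _ := by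
      have := sO.hom.naturality (η₁ ≫ αg.inv)
      simp only [Functor.comp_map, Functor.id_map] at this
      rw [← cancel_mono (sO.hom.app _)]
      refine this.trans ?_
      simp only [Category.assoc]
      erw [Iso.inv_hom_id_app, Category.comp_id]
      rfl
    show H0.map ((singleFunctor T.Modules 0).map (η₁ ≫ αg.inv) ≫ eK.inv) ≫ eP.hom = _
    rw [Functor.map_comp, hn]
    have h2 : αg.hom = sO.inv.app _ ≫ H0.map eK.inv ≫ eP.hom := rfl
    simp only [Category.assoc]
    erw [← h2]
    rw [Iso.inv_hom_id, Category.comp_id]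
  let q : B → (O ⟶ K₀) := fun b => u ≫ (DCoh.RpushQ g hg).map (b • 𝟙 O')
  have hq : ∀ b : B, H0.map (q b).hom ≫ eP.hom =
      sO.hom.app _ ≫ η₁ ≫ (Scheme.Modules.pushforward g).map (b • 𝟙 (Coh.structureModule T')) := fun b => by
    have hb : (b • 𝟙 O').hom = (singleFunctor T'.Modules 0).map (b • 𝟙 (Coh.structureModule T')) := by
      rw [Functor.map_smul, CategoryTheory.Functor.map_id]
      rfl
    show H0.map (u.hom ≫ (DCoh.Rpush g).map (b • 𝟙 O').hom) ≫ eP.hom = _
    rw [hb, Functor.map_comp, Category.assoc]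
    erw [heP, reassoc_of% hu]
  have hgen : ∀ t : T, Submodule.span (T.presheaf.stalk t)
      (⋃ b, Set.range ((DerSch.stalkFunctor T t).map (H0.map (q b).hom)).hom) = ⊤ := fun t => by
    refine span_range_of_eq_conj t (sO.app _) eP.symm _
      (fun b => η₁ ≫ (Scheme.Modules.pushforward g).map (b • 𝟙 (Coh.structureModule T'))) (fun b => ?_)
      (span_stalk_push_one g (Coherent.isQCoh_of_iso eP (h := K₀.property 0)) t)
    rw [← cancel_mono eP.hom]
    refine (hq b).trans ?_
    simp
    rfl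
  -- the comparison map
  haveI : IsIso ξ := ‹_›
  let L : Hd.obj (a.obj K₀) ≅ push.obj ω' := Hd.mapIso (asIso ξ).symm ≪≫ eB ≪≫ push.mapIso eω'
  have hL : ∀ b : B, Hd.map (a.map ((DCoh.RpushQ g hg).map (b • 𝟙 O'))) ≫ L.hom =
      L.hom ≫ push.map (b • 𝟙 ω') := fun b => by
    have h1 : a.map ((DCoh.RpushQ g hg).map (b • 𝟙 O')) ≫ inv ξ =
        inv ξ ≫ (DCoh.RpushQ p hι).map (a'.map (b • 𝟙 O')) := by
      rw [IsIso.comp_inv_eq, Category.assoc, hnat, IsIso.inv_hom_id_assoc]
    have h2 : (homologyFunctor Y'.Modules (-(d : ℤ))).map (a'.map (b • 𝟙 O')).hom ≫ eω'.hom =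
        eω'.hom ≫ (b • 𝟙 ω') := by
      rw [ha']
      show (homologyFunctor Y'.Modules (-(d : ℤ))).map (b • 𝟙 (a'.obj O').obj) ≫ eω'.hom = _
      rw [Dual22Lib.Torsion.homologyMap_smul_id, Linear.smul_comp, Category.id_comp, Linear.comp_smul, Category.comp_id]
    simp only [L, Iso.trans_hom, Functor.mapIso_hom, Iso.symm_hom, asIso_inv, Category.assoc]
    rw [← Functor.map_comp_assoc, h1, Functor.map_comp_assoc]
    congr 1
    erw [reassoc_of% (heB (a'.map (b • 𝟙 O')).hom)]
    rw [← push.map_comp, h2, push.map_comp]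
  let s : ω ⟶ push.obj ω' := eω.inv ≫ Hd.map (a.map u) ≫ L.hom
  let ε := (Scheme.Modules.pullbackPushforwardAdjunction p).counit
  let β : pull.obj ω ⟶ ω' := pull.map s ≫ ε.app ω'
  refine ⟨β, fun v hv => ?_⟩
  let π := cokernel.π β
  haveI : Coh.IsQCoh (pull.obj ω) := by
    haveI : Coh.IsQCoh ω := Coherent.isQCoh_of_iso eω (h := (a.obj O).property _)
    exact EGA43.InjFibre.isQCoh_pullback p ω
  have hψ : ∀ b : B, pull.map (Hd.map (a.map (q b)) ≫ L.hom) ≫ ε.app ω' ≫ π = 0 := fun b => by
    have h1 : Hd.map (a.map (q b)) ≫ L.hom = eω.hom ≫ s ≫ push.map (b • 𝟙 ω') := by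
      simp only [q, s, Functor.map_comp, Category.assoc, hL]
      exact (Iso.hom_inv_id_assoc eω _).symm
    have h2 : pull.map (push.map (b • 𝟙 ω')) ≫ ε.app ω' = ε.app ω' ≫ (b • 𝟙 ω') := ε.naturality _
    rw [h1, Functor.map_comp, Functor.map_comp, Category.assoc, Category.assoc, reassoc_of% h2, Linear.smul_comp,
      Category.id_comp, Linear.comp_smul, Linear.comp_smul]
    have h3 : pull.map s ≫ ε.app ω' ≫ π = 0 := by
      rw [← Category.assoc]; exact cokernel.condition β
    rw [h3, smul_zero, comp_zero]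
  -- surjectivity at the stalks
  suffices hsurj : Function.Surjective ((DerSch.stalkFunctor Y' v).map β).hom from hsurj
  focus
    let S := DerSch.stalkFunctor Y (p v)
    let S' := DerSch.stalkFunctor Y' v
    have hspan := span_range_of_cm A Y d hd hf a adj O ⟨Iso.refl _⟩ (p v) hv K₀ _ eK q (hgen (f (p v)))
    let ψ : pull.obj (Hd.obj (a.obj K₀)) ⟶ cokernel β := pull.map L.hom ≫ ε.app ω' ≫ π
    have h0 : ∀ b, pull.map (Hd.map (a.map (q b))) ≫ ψ = 0 := fun b => by
      show pull.map (Hd.map (a.map (q b))) ≫ pull.map L.hom ≫ ε.app ω' ≫ π = 0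
      rw [← Functor.map_comp_assoc]; exact hψ b
    have h := stalk_map_eq_zero_of_gen p (fun b => Hd.map (a.map (q b))) ψ h0 v hspan
    refine surjective_stalk_of_cokernel β v ?_
    haveI : Epi (ε.app ω') := epi_counit_of_affine p ω'
    simp only [ψ, Functor.map_comp] at h
    exact (cancel_epi (S'.map (ε.app ω'))).1 (by
      rw [comp_zero]
      exact (cancel_epi (S'.map (pull.map L.hom))).1 (by rw [comp_zero]; exact h))

end Groth.Agent.DualLib.RelTop
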