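import Groth.Agent.DualLib.RelTop.Main
import Groth.Agent.DualLib.OmegaExt
import Groth.Agent.EGA43.Chevalley.ConditionT
import Groth.Agent.RefHullLib.Restrict
import Groth.Agent.CycLib28.RelDimBC
import Groth.Agent.DualLib.ShriekFlatSheaf

/-!
# Depth of the relative dualizing sheaf where the fibres have dimension at least two
-/

set_option autoImplicit false
set_option backward.isDefEq.respectTransparency false
set_option backward.defeqAttrib.useBackward true
set_option linter.style.haveILetI false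
set_option linter.unusedSectionVars false
set_option synthInstance.maxHeartbeats 100000

universe u

open CategoryTheory CategoryTheory.Limits CategoryTheory.Pretriangulated DerivedCategory AlgebraicGeometry
open scoped TensorProduct

attribute [local instance] HasDerivedCategory.standard
attribute [-instance] Int.instConditionallyCompleteLinearOrder

namespace Groth.Agent.DualLib.RelTop

open Groth.Agent.DualLib.FiniteAdjoint

section Ring

/-- Two vanishing local `Ext`s give depth two. -/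
theorem two_le_depth_of_torsion {B : Type u} [CommRing B] [IsNoetherianRing B] (q : Ideal B) [q.IsPrime]
    (H : Type u) [AddCommGroup H] [Module B H] [Module.Finite B H]
    (h : ∀ e : ℤ, e ≤ 1 → ∀ θ : E (Dual.inD B H) (B ⧸ q) e, ∃ s ∈ q.primeCompl, s • θ = 0) :
    (2 : ℕ∞) ≤ _root_.LocCoh.depth (Localization.AtPrime q) (LocalizedModule q.primeCompl H) := by
  let S := Localization.AtPrime q
  haveI : Module.Flat B S := IsLocalization.flat S q.primeCompl
  haveI := preservesFiniteLimits_flat (A := B) (B := S)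
  haveI := preservesFiniteColimits_ext (A := B) (B := S)
  haveI : (Dual.inD B H).IsGE 0 :=
    (inferInstance : ((singleFunctor (ModuleCat.{u} B) 0).obj (ModuleCat.of B H)).IsGE 0)
  obtain ⟨eM⟩ := nonempty_ext_tensor (B := S) (ModuleCat.of B (B ⧸ q))
  obtain ⟨eH⟩ := nonempty_ext_tensor (B := S) (ModuleCat.of B H)
  let eF : (ModuleCat.extendScalars.{u, u, u} (algebraMap B S)).obj (ModuleCat.of B (B ⧸ q)) ≃ₗ[S]
      S ⧸ IsLocalRing.maximalIdeal S :=
    eM ≪≫ₗ (Algebra.TensorProduct.quotIdealMapEquivTensorQuot S q).symm.toLinearEquiv ≪≫ₗ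
      Submodule.quotEquivOfEq _ _ (IsLocalization.AtPrime.map_eq_maximalIdeal q S)
  let eY : (extD (algebraMap B S)).obj (Dual.inD B H) ≅ Dual.inD S (LocalizedModule q.primeCompl H) :=
    extSingle (B := S) H ≪≫ (singleFunctor (ModuleCat.{u} S) 0).mapIso
      (eH ≪≫ₗ (LocalizedModule.equivTensorProduct q.primeCompl H).symm).toModuleIso
  refine (Groth.Agent.LocCoh.natCast_le_idealDepth_iff_ext _ _ 2).2 fun i hi => ?_
  haveI h0 := (subsingleton_E_iff (B := S) q.primeCompl (B ⧸ q) (Y := Dual.inD B H) (a := 0) inferInstance (i : ℤ)).2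
    (h i (by omega))
  haveI : Subsingleton (E (Dual.inD S (LocalizedModule q.primeCompl H)) (S ⧸ IsLocalRing.maximalIdeal S) (i : ℤ)) :=
    ((Linear.homCongr S (Iso.refl _) ((shiftFunctor (Dual.D S) (i : ℤ)).mapIso eY.symm)) ≪≫ₗ
      (econgr _ eF (i : ℤ))).injective.subsingleton
  exact (Abelian.Ext.homEquiv (X := ModuleCat.of S (S ⧸ IsLocalRing.maximalIdeal S))
    (Y := ModuleCat.of S (LocalizedModule q.primeCompl H)) (n := i)).injective.subsingleton

/-- Maps into the bottom cohomology, shifted by at most one, are maps into the complex. -/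
theorem exists_injective_bottom {B : Type u} [CommRing B] (K : Dual.D B) (m : ℤ) [K.IsGE m]
    (M : Type u) [AddCommGroup M] [Module B M] (e : ℤ) (he : e ≤ 1) :
    ∃ j : E (Dual.inD B (Dual.HD B K m)) M e →ₗ[B] E K M (e + m), Function.Injective j := by
  let t := DerivedCategory.TStructure.t (C := ModuleCat.{u} B)
  let N := (t.truncLT (m + 1)).obj K
  have hT := t.triangleLTGE_distinguished (m + 1) K
  let C := (t.truncGE (m + 1)).obj K
  haveI hC : C.IsGE (m + 1) := t.isGE_truncGE_obj ..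
  haveI hNle : N.IsLE m := t.isLE_truncLT_obj _ _ _ (by omega)
  haveI hNge : N.IsGE m := by
    haveI : (C⟦(-1 : ℤ)⟧).IsGE (m + 2) := t.isGE_shift _ (m + 1) (-1) (m + 2) (by omega)
    exact t.isGE₂ _ (inv_rot_of_distTriang _ hT) m (t.isGE_of_ge (C⟦(-1 : ℤ)⟧) m (m + 2) (by omega))
      (inferInstanceAs (K.IsGE m))
  let ι : N ⟶ K := (t.truncLTι (m + 1)).app K
  haveI : IsIso ((homologyFunctor (ModuleCat.{u} B) m).map ι) := by
    haveI : Mono ((homologyFunctor (ModuleCat.{u} B) m).map ι) :=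
      (HomologySequence.mono_homologyMap_mor₁_iff _ hT (m - 1) m (by omega)).2
        ((isZero_of_isGE C (m + 1) (m - 1) (by omega)).eq_of_src _ _)
    haveI : Epi ((homologyFunctor (ModuleCat.{u} B) m).map ι) :=
      (HomologySequence.epi_homologyMap_mor₁_iff _ hT m).2
        ((isZero_of_isGE C (m + 1) m (by omega)).eq_of_tgt _ _)
    exact isIso_of_mono_of_epi _
  obtain ⟨F, ⟨eN⟩⟩ := exists_iso_singleFunctor_obj_of_isGE_of_isLE N m
  let eF : Dual.HD B K m ≃ₗ[B] F :=
    ((asIso ((homologyFunctor (ModuleCat.{u} B) m).map ι)).symm ≪≫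
      (homologyFunctor (ModuleCat.{u} B) m).mapIso eN ≪≫
      (singleFunctorCompHomologyFunctorIso (ModuleCat.{u} B) m).app F).toLinearEquiv
  let eS : Dual.inD B (Dual.HD B K m) ≅ N⟦m⟧ :=
    (singleFunctor (ModuleCat.{u} B) 0).mapIso (eF.toModuleIso) ≪≫
      (((singleFunctors (ModuleCat.{u} B)).shiftIso m 0 m (by omega)).app F).symm ≪≫
      (shiftFunctor (Dual.D B) m).mapIso eN.symm
  let φ : (Dual.inD B (Dual.HD B K m))⟦e⟧ ⟶ K⟦e + m⟧ :=
    eS.hom⟦e⟧' ≫ (ι⟦m⟧')⟦e⟧' ≫ (shiftFunctorAdd' (Dual.D B) m e (e + m) (by omega)).inv.app K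
  refine ⟨Linear.rightComp B (Dual.inD B M) φ, ?_⟩
  rw [injective_iff_map_eq_zero]
  intro θ hθ
  have hθ' : θ ≫ φ = 0 := hθ
  have h1 : (θ ≫ eS.hom⟦e⟧') ≫ (ι⟦m⟧')⟦e⟧' = 0 := by
    rw [← cancel_mono ((shiftFunctorAdd' (Dual.D B) m e (e + m) (by omega)).inv.app K), zero_comp]
    simpa only [φ, Category.assoc] using hθ'
  have hT2 := Triangle.shift_distinguished _ (Triangle.shift_distinguished _ hT m) e
  haveI hC1 : (C⟦m⟧).IsGE 1 := t.isGE_shift _ (m + 1) m 1 (by omega)
  haveI hC2 : (((C⟦m⟧)⟦e⟧)⟦(-1 : ℤ)⟧).IsGE (2 - e) := by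
    haveI : ((C⟦m⟧)⟦e⟧).IsGE (1 - e) := t.isGE_shift _ 1 e (1 - e) (by omega)
    exact t.isGE_shift _ (1 - e) (-1) (2 - e) (by omega)
  haveI : (Dual.inD B M).IsLE 0 :=
    (inferInstance : ((singleFunctor (ModuleCat.{u} B) 0).obj (ModuleCat.of B M)).IsLE 0)
  obtain ⟨ψ, hψ⟩ := Triangle.coyoneda_exact₂ _ (inv_rot_of_distTriang _ hT2) (θ ≫ eS.hom⟦e⟧') (by
    show (θ ≫ eS.hom⟦e⟧') ≫ (e.negOnePow • (shiftFunctor (Dual.D B) e).map (m.negOnePow • ι⟦m⟧')) = 0
    rw [Functor.map_units_smul, Linear.comp_units_smul, Linear.comp_units_smul, h1, smul_zero, smul_zero])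
  have hψ0 : ψ = 0 := DerivedCategory.TStructure.t.zero (X := Dual.inD B M)
    (Y := ((C⟦m⟧)⟦e⟧)⟦(-1 : ℤ)⟧) ψ 0 (2 - e) (by omega)
  rw [hψ0, zero_comp] at hψ
  rw [← cancel_mono (eS.hom⟦e⟧'), zero_comp]
  exact hψ

variable {R B : Type u} [CommRing R] [IsNoetherianRing R] [CommRing B] [Algebra R B] [Algebra.FiniteType R B]
  {n : ℕ} (ψ : MvPolynomial (Fin n) R →ₐ[R] B) (hψ : Function.Surjective ψ)
  [DRing.HasLBaseChange (algebraMap R (MvPolynomial (Fin n) R))]
  {Rψ : Dual.D (MvPolynomial (Fin n) R) ⥤ Dual.D B} (adj : DRing.restrictD ψ.toRingHom ⊣ Rψ)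

include hψ adj

/-- `Ext^i(B/q, φ^! R)` is torsion at `q` below minus the transcendence degree. -/
theorem E_torsion (q : PrimeSpectrum B) (i : ℤ) (hi : i < -(EGA43.FibDepth.trd R q : ℤ))
    (θ : E (Dual2.shriekVia n Rψ (Dual.inD R R)) (B ⧸ q.asIdeal) i) :
    ∃ s ∈ q.asIdeal.primeCompl, s • θ = 0 := by
  let P := MvPolynomial (Fin n) R
  letI : Algebra P B := ψ.toRingHom.toAlgebra
  obtain ⟨b⟩ := Shriek.nonempty_lbase_inD (R := R) (n := n)
  let L := Dual.inD P P
  let p : Ideal P := q.asIdeal.comap ψ.toRingHom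
  let w : (Dual2.shriekVia n Rψ (Dual.inD R R))⟦i⟧ ≅ (Rψ.obj L)⟦(n : ℤ) + i⟧ :=
    ((shiftFunctorAdd' (Dual.D B) (n : ℤ) i ((n : ℤ) + i) rfl).symm.app _) ≪≫
      (shiftFunctor (Dual.D B) ((n : ℤ) + i)).mapIso (Rψ.mapIso b)
  let τ : E (Dual2.shriekVia n Rψ (Dual.inD R R)) (B ⧸ q.asIdeal) i ≃ₗ[B]
      E (Rψ.obj L) (B ⧸ q.asIdeal) ((n : ℤ) + i) :=
    Linear.homCongr B (Iso.refl _) w
  obtain ⟨e, he⟩ := exists_relE (A := P) (B := B) adj (B ⧸ q.asIdeal) L ((n : ℤ) + i)
  let l : P →ₗ[P] res P B (B ⧸ q.asIdeal) :=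
    { toFun := fun a => (Ideal.Quotient.mk q.asIdeal (ψ a) : B ⧸ q.asIdeal)
      map_add' := fun a b => by rw [map_add, map_add]; first | done | rfl
      map_smul' := fun a b => by
        show Ideal.Quotient.mk q.asIdeal (ψ (a * b)) = ψ a • Ideal.Quotient.mk q.asIdeal (ψ b)
        rw [map_mul]; first | done | rfl }
  let φ : (P ⧸ p) →ₗ[P] res P B (B ⧸ q.asIdeal) :=
    Submodule.liftQ _ l fun a ha => Ideal.Quotient.eq_zero_iff_mem.2 ha
  have hφ : Function.Bijective φ := by
    refine ⟨?_, fun z => ?_⟩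
    · rw [← LinearMap.ker_eq_bot, Submodule.ker_liftQ, eq_bot_iff]
      rintro _ ⟨a, ha, rfl⟩
      rw [Submodule.mem_bot, Submodule.mkQ_apply, Submodule.Quotient.mk_eq_zero]
      exact (Ideal.Quotient.eq_zero_iff_mem (I := q.asIdeal)).1 ha
    · obtain ⟨z', rfl⟩ := Ideal.Quotient.mk_surjective (z : B ⧸ q.asIdeal)
      obtain ⟨a, rfl⟩ := hψ z'
      exact ⟨Submodule.Quotient.mk a, rfl⟩
  let Φ := (τ.toAddEquiv.trans e).trans (econgr L (LinearEquiv.ofBijective φ hφ) ((n : ℤ) + i)).toAddEquiv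
  have hΦ : ∀ (a : P) (x), Φ (algebraMap P B a • x) = a • Φ x := fun a x => by
    show econgr L _ _ (e (τ (algebraMap P B a • x))) = a • econgr L _ _ (e (τ x))
    rw [map_smul, he, map_smul]
  have hT : EGA43.FibDepth.trd R (⟨p, inferInstance⟩ : PrimeSpectrum P) = EGA43.FibDepth.trd R q := by
    rw [← EGA43.FibDepth.trd_comap_of_surjectiveOnStalks ψ (RingHom.surjectiveOnStalks_of_surjective hψ) q]
    rfl
  obtain ⟨s, hs, h0⟩ : ∃ s ∈ p.primeCompl, s • Φ θ = 0 := by
    rcases le_or_gt (EGA43.FibDepth.trd R q) n with htn | htn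
    · refine Shriek.localized_E_torsion p p (n - EGA43.FibDepth.trd R q) ?_ _ (by omega) _
      rw [IsLocalization.AtPrime.map_eq_maximalIdeal p (Localization.AtPrime p)]
      have h1 := Shriek.natCast_le_depth_add_trd n (⟨p, inferInstance⟩ : PrimeSpectrum P)
      rw [hT] at h1
      refine (ENat.add_le_add_iff_right (ENat.natCast_ne_top (EGA43.FibDepth.trd R q))).1 (le_trans ?_ h1)
      exact_mod_cast (show n - EGA43.FibDepth.trd R q + EGA43.FibDepth.trd R q ≤ n by omega)
    · haveI : (Dual.inD P P).IsGE 0 := inferInstance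
      haveI := subsingleton_E_of_lt (W := L) 0 (P ⧸ p) ((n : ℤ) + i) (by omega)
      exact ⟨1, one_mem _, Subsingleton.elim _ _⟩
  refine ⟨algebraMap P B s, hs, Φ.injective ?_⟩
  rw [hΦ, h0, map_zero]

/-- **Depth two of the bottom cohomology of `φ^! R`.** -/
theorem two_le_depth_bottom [IsNoetherianRing B] (d : ℕ) [(Dual2.shriekVia n Rψ (Dual.inD R R)).IsGE (-(d : ℤ))]
    [Module.Finite B (Dual.HD B (Dual2.shriekVia n Rψ (Dual.inD R R)) (-(d : ℤ)))]
    (q : PrimeSpectrum B) (hq : EGA43.FibDepth.trd R q + 2 ≤ d) :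
    (2 : ℕ∞) ≤ _root_.LocCoh.depth (Localization.AtPrime q.asIdeal)
      (LocalizedModule q.asIdeal.primeCompl (Dual.HD B (Dual2.shriekVia n Rψ (Dual.inD R R)) (-(d : ℤ)))) := by
  refine two_le_depth_of_torsion q.asIdeal _ fun e he θ => ?_
  obtain ⟨j, hj⟩ := exists_injective_bottom (Dual2.shriekVia n Rψ (Dual.inD R R)) (-(d : ℤ)) (B ⧸ q.asIdeal) e he
  obtain ⟨s, hs, h0⟩ := E_torsion ψ hψ adj q (e + -(d : ℤ)) (by omega) (j θ)
  exact ⟨s, hs, hj (by rw [map_smul, h0, map_zero])⟩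

omit hψ adj in
/-- Transcendence degree of a point over its image. -/
theorem trdegHom_specMap' (q : PrimeSpectrum B) :
    DimLib.trdegHom ((Spec.map (CommRingCat.ofHom (algebraMap R B))).residueFieldMap q).hom =
      EGA43.FibDepth.trd R q := by
  have h0 := EGA43.DimFormula.trdegHom_specMap (R := CommRingCat.of R) (S := CommRingCat.of B)
    (CommRingCat.ofHom (algebraMap R B)) q
  have hA : (CommRingCat.ofHom (algebraMap R B)).hom.toAlgebra = ‹Algebra R B› :=
    Algebra.algebra_ext _ _ fun _ => rfl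
  rw [hA] at h0
  exact h0

end Ring

section Scheme

/-- Depth at a point of a chart on which the module is tilde. -/
theorem depth_stalk_chart {R : CommRingCat.{u}} [IsNoetherianRing R] {X : Scheme.{u}}
    (j : Spec R ⟶ X) [IsOpenImmersion j] (M : X.Modules) (N : ModuleCat.{u} R)
    (e : M.restrict j ≅ tilde (R := R) N) (p : ↥(Spec R)) :
    _root_.LocCoh.depth (X.presheaf.stalk (j p)) (M.presheaf.stalk (j p)) =
      _root_.LocCoh.depth (Localization.AtPrime p.asIdeal) (LocalizedModule p.asIdeal.primeCompl N) := by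
  let Z : (Spec R).Modules := tilde (R := R) N
  let O := (Spec R).presheaf.stalk p
  obtain ⟨φ, e₁, he₁, -, -⟩ := RefHullLib.exists_semilinear_restrict j M p
  let e₂ : (M.restrict j).presheaf.stalk p ≃ₗ[O] Z.presheaf.stalk p :=
    ((DerSch.stalkFunctor (Spec R) p).mapIso e).toLinearEquiv
  letI : Algebra (X.presheaf.stalk (j p)) O := φ.toRingHom.toAlgebra
  letI : Module (X.presheaf.stalk (j p)) (Z.presheaf.stalk p) := Module.compHom _ φ.toRingHom
  haveI : IsScalarTower (X.presheaf.stalk (j p)) O (Z.presheaf.stalk p) :=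
    IsScalarTower.of_algebraMap_smul fun _ _ => rfl
  let e' : M.presheaf.stalk (j p) ≃ₗ[X.presheaf.stalk (j p)] Z.presheaf.stalk p :=
    { e₁.trans e₂.toAddEquiv with
      map_smul' := fun a v => (congrArg e₂ (he₁ a v)).trans (map_smul e₂ (φ a) (e₁ v)) }
  rw [CAlgH3.depth_congr e', ← CAlgH3.depth_of_surjective (R := X.presheaf.stalk (j p)) (S := O) φ.surjective]
  letI : Algebra R O := (StructureSheaf.toStalk R p).hom.toAlgebra
  haveI : IsLocalization.AtPrime O p.asIdeal := StructureSheaf.IsLocalization.to_stalk R p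
  haveI : IsScalarTower R O (Z.presheaf.stalk p) := IsScalarTower.of_algebraMap_smul fun _ _ => rfl
  let B := Localization.AtPrime p.asIdeal
  let eB := IsLocalization.algEquiv p.asIdeal.primeCompl B O
  letI : Algebra B O := eB.toRingEquiv.toRingHom.toAlgebra
  letI : Module B (Z.presheaf.stalk p) := Module.compHom _ eB.toRingEquiv.toRingHom
  haveI : IsScalarTower B O (Z.presheaf.stalk p) := IsScalarTower.of_algebraMap_smul fun _ _ => rfl
  haveI : IsScalarTower R B (Z.presheaf.stalk p) :=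
    IsScalarTower.of_algebraMap_smul fun r m => by
      show eB (algebraMap R B r) • m = r • m
      rw [eB.commutes]
      rfl
  rw [CAlgH3.depth_of_surjective (R := B) (S := O) eB.surjective]
  exact (CAlgH3.depth_congr ((IsLocalizedModule.iso p.asIdeal.primeCompl
    (tilde.toStalk N p).hom).extendScalarsOfIsLocalization p.asIdeal.primeCompl B)).symm

/-- Stalks at a point of a chart on which the module is tilde. -/
theorem exists_stalk_chart {R : CommRingCat.{u}} {X : Scheme.{u}}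
    (j : Spec R ⟶ X) [IsOpenImmersion j] (M : X.Modules) (N : ModuleCat.{u} R)
    (e : M.restrict j ≅ tilde (R := R) N) (p : ↥(Spec R)) :
    ∃ (φ : X.presheaf.stalk (j p) ≃+* Localization.AtPrime p.asIdeal)
      (ε : M.presheaf.stalk (j p) ≃+ LocalizedModule p.asIdeal.primeCompl N), ∀ a v, ε (a • v) = φ a • ε v := by
  let Z : (Spec R).Modules := tilde (R := R) N
  let O := (Spec R).presheaf.stalk p
  obtain ⟨φ₁, e₁, he₁, -, -⟩ := RefHullLib.exists_semilinear_restrict j M p
  let e₂ : (M.restrict j).presheaf.stalk p ≃ₗ[O] Z.presheaf.stalk p :=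
    ((DerSch.stalkFunctor (Spec R) p).mapIso e).toLinearEquiv
  letI : Algebra R O := (StructureSheaf.toStalk R p).hom.toAlgebra
  haveI : IsLocalization.AtPrime O p.asIdeal := StructureSheaf.IsLocalization.to_stalk R p
  haveI : IsScalarTower R O (Z.presheaf.stalk p) := IsScalarTower.of_algebraMap_smul fun _ _ => rfl
  let B := Localization.AtPrime p.asIdeal
  let eB := IsLocalization.algEquiv p.asIdeal.primeCompl B O
  letI : Module B (Z.presheaf.stalk p) := Module.compHom _ eB.toRingEquiv.toRingHom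
  haveI : IsScalarTower R B (Z.presheaf.stalk p) :=
    IsScalarTower.of_algebraMap_smul fun r m => by
      show eB (algebraMap R B r) • m = r • m
      rw [eB.commutes]
      rfl
  let e₃ := (IsLocalizedModule.iso p.asIdeal.primeCompl
    (tilde.toStalk N p).hom).extendScalarsOfIsLocalization p.asIdeal.primeCompl B
  refine ⟨φ₁.trans eB.symm.toRingEquiv, (e₁.trans e₂.toAddEquiv).trans e₃.symm.toAddEquiv, fun a v => ?_⟩
  show e₃.symm (e₂ (e₁ (a • v))) = eB.symm (φ₁ a) • e₃.symm (e₂ (e₁ v))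
  rw [he₁, map_smul, ← map_smul e₃.symm]
  refine congrArg e₃.symm ?_
  show φ₁ a • e₂ (e₁ v) = eB (eB.symm (φ₁ a)) • e₂ (e₁ v)
  rw [eB.apply_symm_apply]

variable [∀ (U V : Scheme.{u}) (j : U ⟶ V) [IsOpenImmersion j], PreservesFiniteLimits (Scheme.Modules.restrictFunctor j)]

variable (A : Type u) [CommRing A] [IsNoetherianRing A] (Y : Scheme.{u}) [Y.Over (Spec (CommRingCat.of A))]
  [IsProper (Y ↘ Spec (CommRingCat.of A))] (d : ℕ) (hd : Cyc.HasRelDim (Y ↘ Spec (CommRingCat.of A)) d)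

include hd

/-- The relative dualizing sheaf is coherent, of depth at least two where the local rings of the fibres have
dimension at least two. -/
theorem isCoh_and_two_le_depth (ω : Y.Modules) (hω : RelCanon.IsDualizingSheaf A Y d ω) :
    Coh.IsCoh ω ∧ ∀ y : Y,
      (2 : WithBot ℕ∞) ≤ ringKrullDim (((Y ↘ Spec (CommRingCat.of A)).fiber ((Y ↘ Spec (CommRingCat.of A)) y)).presheaf.stalk
        ((Y ↘ Spec (CommRingCat.of A)).asFiber y)) →
      (2 : ℕ∞) ≤ _root_.LocCoh.depth (Y.presheaf.stalk y) (ω.presheaf.stalk y) := by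
  let f := Y ↘ Spec (CommRingCat.of A)
  haveI : IsNoetherianRing (CommRingCat.of A) := ‹IsNoetherianRing A›
  haveI : IsNoetherian (Spec (CommRingCat.of A)) := {}
  haveI : CompactSpace Y := QuasiCompact.compactSpace_of_compactSpace f
  haveI : QuasiSeparatedSpace Y := quasiSeparatedSpace_of_quasiSeparated f
  haveI : IsLocallyNoetherian Y := LocallyOfFiniteType.isLocallyNoetherian f
  haveI := DCat.hasRpush f
  haveI : ∀ (S : CommRingCat.{u}), PreservesFiniteLimits (tilde.functor S) :=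
    Groth.Agent.AffSchLib.preservesFiniteLimits_tilde
  have h : DCoh.RpushPreservesQCoh f := fun K hK => DQCoh.isQCohD_Rpush f K hK
  haveI := Dual22Lib.AdjGeom.isLeftAdjoint_RpushQ f h
  let a := (DCoh.RpushQ f h).rightAdjoint
  let adj : DCoh.RpushQ f h ⊣ a := Adjunction.ofIsLeftAdjoint _
  haveI : Coh.IsQCoh (Coh.structureModule (Spec (CommRingCat.of A))) := Coherent.isQCoh_structureModule
  let O : DCoh.DQCoh (Spec (CommRingCat.of A)) :=
    ⟨DCoh.inD _ (Coh.structureModule (Spec (CommRingCat.of A))), FlatBC14.isQCohD_inD _⟩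
  obtain ⟨hdual, hge⟩ := isDualizingSheaf_HD (fibre_dim_le f d hd) h a adj O ⟨Iso.refl _⟩
  obtain ⟨eω⟩ := nonempty_iso_of_isDualizingSheaf hdual hω
  let c : DEt.Compactification f :=
    { Xbar := Y, j := 𝟙 Y, fbar := f, isOpenImmersion := inferInstance, isProper := ‹_›, fac := Category.id_comp f }
  haveI : DCoh.HasRpush c.fbar := ‹DCoh.HasRpush f›
  haveI : IsOpenImmersion c.j := c.isOpenImmersion
  let G := (Dual3.shriekC c a).obj O
  obtain ⟨eG⟩ : Nonempty (G ≅ (a.obj O).obj) := DCat.PCTriangle.rd_id (a.obj O).obj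
  let eH : DCoh.HD G (-(d : ℤ)) ≅ ω := (homologyFunctor _ _).mapIso eG ≪≫ eω
  have hchart : ∀ y : Y, ∃ C : ShriekLocal.Chart f G y,
      (Dual2.shriekVia C.n C.Rψ (Dual.inD C.R C.R)).IsGE (-(d : ℤ)) ∧
      Module.Finite C.B (Dual.HD C.B (Dual2.shriekVia C.n C.Rψ (Dual.inD C.R C.R)) (-(d : ℤ))) := by
    intro y
    obtain ⟨C⟩ := ShriekLocal.nonempty_chart c h a adj O ⟨Iso.refl _⟩ y
    refine ⟨C, (DRingLib.isGE_iff_HD _ _).2 fun i hi => ?_, ?_⟩
    · refine (Module.support_eq_empty_iff (R := C.B)).1 (Set.eq_empty_iff_forall_notMem.2 fun q hq => ?_)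
      have hdim : FlatMor.fibreDimAt (Spec.map (CommRingCat.ofHom (algebraMap C.R C.B))) q = (d : WithBot ℕ∞) :=
        (AlgSpLib.fibreDimAt_eq_of_etale_square C.jX C.jY C.comm q).symm.trans
          (ShriekCM.fibreDimAt_eq_of_components f d hd (C.jX q))
      have := Shriek.neg_le_of_nontrivial C.ψ C.surj C.adj q d hdim.le i hq
      omega
    · exact (Dual22Lib.bounded_finite_shriekVia C.ψ C.surj C.adj (Dual.inD C.R C.R) 0 (fun i hi =>
        (DRingLib.isGE_iff_HD (Dual.inD C.R C.R) 0).1 inferInstance i hi)).2 (fun i => by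
          rcases eq_or_ne i 0 with rfl | hi
          · exact DRingLib.finite_of_iso (DRingLib.hfInD _).symm (Module.Finite.self _)
          · haveI := DualLib.hd_single_subsingleton (A := C.R) C.R i hi
            infer_instance) (-(d : ℤ))
  have hcoh : Coh.IsCoh ω := by
    refine DQCoh.CohExt.isCoh_of_iso eH ?_
    choose C _hge hfin using hchart
    refine KZeroLib.isCoh_of_cover _ (fun x : Y => (C x).jX.opensRange)
      (TopologicalSpace.IsOpenCover.mk (eq_top_iff.2 fun x _ => TopologicalSpace.Opens.mem_iSup.2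
        ⟨x, (C x).pt, (C x).hpt⟩)) fun x => ?_
    obtain ⟨e⟩ := ShriekFlatSheaf.nonempty_HD_chart (C x) (-(d : ℤ))
    haveI := hfin x
    have hc := AlgzLib.isCoh_tilde (A := (C x).B)
      ((homologyFunctor (ModuleCat.{u} (C x).B) (-(d : ℤ))).obj (Dual2.shriekVia (C x).n (C x).Rψ (Dual.inD (C x).R (C x).R)))
    let k := (C x).jX.isoOpensRange
    have hk : k.inv ≫ (C x).jX = (C x).jX.opensRange.ι := (C x).jX.isoOpensRange_inv_comp
    have hc' := DQCoh.CohExt.isCoh_of_iso e.symm hc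
    haveI : Coh.IsQCoh ((DCoh.HD G (-(d : ℤ))).restrict (C x).jX) := hc'.1
    exact DQCoh.CohExt.isCoh_of_iso
      (((Scheme.Modules.restrictFunctorComp k.inv (C x).jX).app (DCoh.HD G (-(d : ℤ)))).symm ≪≫
        (Scheme.Modules.restrictFunctorCongr hk).app (DCoh.HD G (-(d : ℤ))))
      (⟨(inferInstance : Coh.IsQCoh (((DCoh.HD G (-(d : ℤ))).restrict (C x).jX).restrict k.inv)),
        AffSchLib.isFT_restrict k.inv _ hc'.2⟩)
  refine ⟨hcoh, fun y hy => ?_⟩
  obtain ⟨C, hCge, hfin⟩ := hchart y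
  haveI := hCge
  haveI := hfin
  obtain ⟨eC⟩ := ShriekFlatSheaf.nonempty_HD_chart C (-(d : ℤ))
  refine le_of_le_of_eq ?_ (CAlgH3.depth_congr (R := Y.presheaf.stalk y) ((DerSch.stalkFunctor Y y).mapIso eH).toLinearEquiv)
  show _ ≤ _root_.LocCoh.depth (Y.presheaf.stalk y) ((DCoh.HD G (-(d : ℤ))).presheaf.stalk y)
  rw [← C.hpt, depth_stalk_chart C.jX (DCoh.HD G (-(d : ℤ))) _ eC C.pt]
  refine two_le_depth_bottom C.ψ C.surj C.adj d C.pt ?_
  let g := Spec.map (CommRingCat.ofHom (algebraMap C.R C.B))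
  have htr : DimLib.trdegHom (f.residueFieldMap (C.jX C.pt)).hom = EGA43.FibDepth.trd C.R C.pt := by
    rw [← EGA43.Chevalley.trdegHom_residueFieldMap_comp C.jX f C.pt,
      CycLib28.trdegHom_congr C.comm C.pt, EGA43.Chevalley.trdegHom_residueFieldMap_postcomp g C.jY C.pt,
      trdegHom_specMap' C.pt]
  rw [C.hpt] at htr
  have hsum := EGA43.DimFormula.fibre_dim_formula f y
  rw [ShriekCM.fibreDimAt_eq_of_components f d hd y, htr] at hsum
  have h2 : ((2 : ℕ) : WithBot ℕ∞) + ((EGA43.FibDepth.trd C.R C.pt : ℕ) : WithBot ℕ∞) ≤ (d : WithBot ℕ∞) :=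
    (add_le_add_left (show ((2 : ℕ) : WithBot ℕ∞) ≤ _ by exact_mod_cast hy) _).trans hsum.le
  have h3 : 2 + EGA43.FibDepth.trd C.R C.pt ≤ d := by exact_mod_cast h2
  omega

end Scheme

end Groth.Agent.DualLib.RelTop
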