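import Groth.Agent.DualLib.RelTop.EndLocal
import Groth.Agent.DualLib.RelTop.Depth
import Groth.Agent.DualLib.EndShriek
import Groth.Agent.DualLib.OmegaCM

/-!
# Self-extensions of the relative dualizing sheaf at Cohen–Macaulay points
-/

set_option autoImplicit false
set_option backward.isDefEq.respectTransparency false
set_option backward.defeqAttrib.useBackward true
set_option linter.style.haveILetI false
set_option linter.unusedSectionVars false
set_option synthInstance.maxHeartbeats 100000

universe u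

open CategoryTheory CategoryTheory.Limits CategoryTheory.Pretriangulated DerivedCategory AlgebraicGeometry
open scoped TensorProduct

attribute [local instance] HasDerivedCategory.standard
attribute [-instance] Int.instConditionallyCompleteLinearOrder

namespace Groth.Agent.DualLib.RelTop

/-- Every extension of `M` by itself splits. -/
def Split (T : Type u) [CommRing T] (M : Type u) [AddCommGroup M] [Module T M] : Prop :=
  ∀ (E : Type u) [AddCommGroup E] [Module T E] (i : M →ₗ[T] E) (p : E →ₗ[T] M),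
    Function.Injective i → Function.Surjective p → Function.Exact i p → ∃ s : M →ₗ[T] E, p ∘ₗ s = LinearMap.id

/-- Transport of `Split` along an isomorphism. -/
theorem split_congr {T : Type u} [CommRing T] {M N : Type u} [AddCommGroup M] [Module T M] [AddCommGroup N]
    [Module T N] (e : M ≃ₗ[T] N) (h : Split T M) : Split T N := by
  intro E _ _ i p hi hp hip
  obtain ⟨s, hs⟩ := h E (i ∘ₗ e.toLinearMap) (e.symm.toLinearMap ∘ₗ p) (hi.comp e.injective)
    (e.symm.surjective.comp hp) (fun x => by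
      simp only [LinearMap.comp_apply, LinearEquiv.coe_coe, LinearEquiv.map_eq_zero_iff, LinearMap.coe_comp,
        Function.comp_apply]
      rw [hip x]
      exact ⟨fun ⟨y, hy⟩ => ⟨e.symm y, by simpa using hy⟩, fun ⟨y, hy⟩ => ⟨e y, hy⟩⟩)
  refine ⟨s ∘ₗ e.symm.toLinearMap, LinearMap.ext fun x => e.symm.injective ?_⟩
  simpa using LinearMap.congr_fun hs (e.symm x)

/-- Transport of `Split` along a semilinear isomorphism. -/
theorem split_semilinear {R S : Type u} [CommRing R] [CommRing S] (φ : R ≃+* S) {M N : Type u}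
    [AddCommGroup M] [Module R M] [AddCommGroup N] [Module S N] (e : M ≃+ N)
    (he : ∀ (r : R) (m : M), e (r • m) = φ r • e m) (h : Split R M) : Split S N := by
  intro E _ _ i p hi hp hip
  letI : Module R E := Module.compHom E φ.toRingHom
  have hsmul : ∀ (r : R) (x : E), r • x = φ r • x := fun _ _ => rfl
  let i' : M →ₗ[R] E :=
    { toFun := fun m => i (e m)
      map_add' := fun a b => by rw [map_add, map_add]
      map_smul' := fun r m => by rw [he, map_smul, RingHom.id_apply, hsmul] }
  let p' : E →ₗ[R] M :=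
    { toFun := fun x => e.symm (p x)
      map_add' := fun a b => by rw [map_add, map_add]
      map_smul' := fun r x => e.injective (by
        rw [RingHom.id_apply, he, e.apply_symm_apply, e.apply_symm_apply, hsmul, map_smul]) }
  obtain ⟨s, hs⟩ := h E i' p' (hi.comp e.injective) (e.symm.surjective.comp hp) (fun x => by
    show e.symm (p x) = 0 ↔ x ∈ Set.range fun m => i (e m)
    rw [AddEquiv.map_eq_zero_iff, hip x]
    exact ⟨fun ⟨y, hy⟩ => ⟨e.symm y, by simpa using hy⟩, fun ⟨y, hy⟩ => ⟨e y, hy⟩⟩)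
  refine ⟨{ toFun := fun n => s (e.symm n), map_add' := fun a b => by rw [map_add, map_add],
            map_smul' := fun c n => ?_ }, LinearMap.ext fun n => ?_⟩
  · obtain ⟨r, rfl⟩ := φ.surjective c
    obtain ⟨m, rfl⟩ := e.surjective n
    rw [← he, e.symm_apply_apply, e.symm_apply_apply, map_smul, RingHom.id_apply, hsmul]
  · exact e.symm.injective (LinearMap.congr_fun hs (e.symm n))

/-- Splitting from the vanishing of `Hom(M, M[1])`. -/
theorem split_of_subsingleton {T : Type u} [CommRing T] {M : ModuleCat.{u} T}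
    (h : Subsingleton ((singleFunctor (ModuleCat.{u} T) 0).obj M ⟶ ((singleFunctor (ModuleCat.{u} T) 0).obj M)⟦(1 : ℤ)⟧)) :
    Split T M := by
  intro E _ _ i p hi hp hip
  let S : ShortComplex (ModuleCat.{u} T) :=
    ShortComplex.mk (X₁ := M) (X₂ := ModuleCat.of T E) (X₃ := M) (ModuleCat.ofHom i) (ModuleCat.ofHom p)
      (ModuleCat.hom_ext (LinearMap.ext fun x => (hip (i x)).2 ⟨x, rfl⟩))
  have hS : S.ShortExact :=
    { exact := (ShortComplex.ShortExact.moduleCat_exact_iff_function_exact S).2 hip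
      mono_f := (ModuleCat.mono_iff_injective _).2 hi
      epi_g := (ModuleCat.epi_iff_surjective _).2 hp }
  obtain ⟨g, hg⟩ := Triangle.coyoneda_exact₃ _ hS.singleTriangle_distinguished (𝟙 _)
    (Subsingleton.elim (h := h) _ _)
  refine ⟨((singleFunctor (ModuleCat.{u} T) 0).preimage g).hom, ?_⟩
  have : (singleFunctor (ModuleCat.{u} T) 0).preimage g ≫ S.g = 𝟙 S.X₃ := by
    apply (singleFunctor (ModuleCat.{u} T) 0).map_injective
    rw [Functor.map_comp, Functor.map_preimage, CategoryTheory.Functor.map_id]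
    exact hg.symm
  exact LinearMap.ext fun x => congrArg (fun t => t.hom x) this

/-- Removing a shift. -/
theorem subsingleton_unshift {T : Type u} [CommRing T] (X : Dual.D T) (k : ℤ)
    (h : Subsingleton (X⟦k⟧ ⟶ (X⟦k⟧)⟦(1 : ℤ)⟧)) : Subsingleton (X ⟶ X⟦(1 : ℤ)⟧) :=
  Function.Injective.subsingleton (f := fun f => f⟦k⟧' ≫ (shiftComm X (1 : ℤ) k).hom) fun a b hab =>
    (shiftFunctor (Dual.D T) k).map_injective ((cancel_mono _).1 hab)

section Ring

variable {R B : Type u} [CommRing R] [IsNoetherianRing R] [CommRing B] [IsNoetherianRing B] [Algebra R B]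
  [Algebra.FiniteType R B] [Module.Flat R B]
  {n : ℕ} (ψ : MvPolynomial (Fin n) R →ₐ[R] B) (hψ : Function.Surjective ψ)
  [DRing.HasLBaseChange (algebraMap R (MvPolynomial (Fin n) R))]
  {Rψ : Dual.D (MvPolynomial (Fin n) R) ⥤ Dual.D B} (adj : DRing.restrictD ψ.toRingHom ⊣ Rψ)

include hψ adj

/-- Extensions of `H^m_q` by itself split where `φ^! R` is concentrated in degree `m`. -/
theorem split_of_concentrated (q : PrimeSpectrum B) (m b : ℤ)
    [(Dual2.shriekVia n Rψ (Dual.inD R R)).IsGE b]
    (hz : ∀ i : ℤ, i ≠ m → q ∉ Module.support B (Dual.HD B (Dual2.shriekVia n Rψ (Dual.inD R R)) i)) :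
    Split (Localization.AtPrime q.asIdeal)
        (LocalizedModule q.asIdeal.primeCompl (Dual.HD B (Dual2.shriekVia n Rψ (Dual.inD R R)) m)) := by
  let K := Dual2.shriekVia n Rψ (Dual.inD R R)
  let T := Localization.AtPrime q.asIdeal
  haveI : Module.Flat B T := IsLocalization.flat T q.asIdeal.primeCompl
  haveI := preservesFiniteLimits_flat (A := B) (B := T)
  haveI := preservesFiniteColimits_ext (A := B) (B := T)
  have hle : K.IsLE 0 := (DRingLib.isLE_iff_HD _ _).2 fun i hi => by
    refine (Module.support_eq_empty_iff (R := B)).1 (Set.eq_empty_iff_forall_notMem.2 fun p hp => ?_)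
    have := Shriek.le_zero_of_nontrivial ψ hψ adj p.asIdeal i hp
    omega
  have hfin := (Dual22Lib.bounded_finite_shriekVia ψ hψ adj (Dual.inD R R) 0 (fun i hi =>
        (DRingLib.isGE_iff_HD (Dual.inD R R) 0).1 inferInstance i hi)).2 (fun i => by
          rcases eq_or_ne i 0 with rfl | hi
          · exact DRingLib.finite_of_iso (DRingLib.hfInD _).symm (Module.Finite.self _)
          · haveI := DualLib.hd_single_subsingleton (A := R) R i hi
            infer_instance)
  haveI hend : Subsingleton ((extD (algebraMap B T)).obj K ⟶ ((extD (algebraMap B T)).obj K)⟦(1 : ℤ)⟧) := by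
    refine (subsingleton_iff_torsion (B := T) q.asIdeal.primeCompl (X := K) ⟨b, 0, inferInstance, hle, hfin⟩
      (a := b) inferInstance 1).2 fun θ => ⟨1, one_mem _, ?_⟩
    haveI := (Omega.bijective_smul_id_shriekVia ψ hψ adj).2 1 (by norm_num)
    exact Subsingleton.elim (α := K ⟶ K⟦(1 : ℤ)⟧) _ _
  let G := (extD (algebraMap B T)).obj K
  have hzG : ∀ i : ℤ, i ≠ m → Subsingleton (Dual.HD T G i) := fun i hi =>
    not_nontrivial_iff_subsingleton.1 fun hn => hz i hi ((OmegaCM.mem_support_iff_extD K q i).2 hn)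
  haveI : G.IsGE m := (DRingLib.isGE_iff_HD _ _).2 fun i hi => hzG i (by omega)
  haveI : G.IsLE m := (DRingLib.isLE_iff_HD _ _).2 fun i hi => hzG i (by omega)
  obtain ⟨F, ⟨eG⟩⟩ := exists_iso_singleFunctor_obj_of_isGE_of_isLE G m
  obtain ⟨eT⟩ := nonempty_HD_tensor q.asIdeal.primeCompl K m
  let eF : F ≃ₗ[T] LocalizedModule q.asIdeal.primeCompl (Dual.HD B K m) :=
    ((singleFunctorCompHomologyFunctorIso (ModuleCat.{u} T) m).app F).toLinearEquiv.symm ≪≫ₗ
      ((homologyFunctor (ModuleCat.{u} T) m).mapIso eG.symm).toLinearEquiv ≪≫ₗ eT ≪≫ₗ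
      (LocalizedModule.equivTensorProduct q.asIdeal.primeCompl (Dual.HD B K m)).symm
  let eS : G ≅ ((singleFunctor (ModuleCat.{u} T) 0).obj F)⟦-m⟧ :=
    eG ≪≫ ((singleFunctors (ModuleCat.{u} T)).shiftIso (-m) m 0 (by omega)).symm.app F
  refine split_congr eF (split_of_subsingleton (subsingleton_unshift _ (-m) ?_))
  exact (Iso.homCongr eS ((shiftFunctor (Dual.D T) (1 : ℤ)).mapIso eS)).symm.injective.subsingleton

end Ring

section Scheme

variable [∀ (U V : Scheme.{u}) (j : U ⟶ V) [IsOpenImmersion j], PreservesFiniteLimits (Scheme.Modules.restrictFunctor j)]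

variable (A : Type u) [CommRing A] [IsNoetherianRing A] (Y : Scheme.{u}) [Y.Over (Spec (CommRingCat.of A))]
  [IsProper (Y ↘ Spec (CommRingCat.of A))] [Flat (Y ↘ Spec (CommRingCat.of A))] (d : ℕ)
  (hd : Cyc.HasRelDim (Y ↘ Spec (CommRingCat.of A)) d)

include hd

/-- At a Cohen–Macaulay point the self-extensions of the stalk of the dualizing sheaf split. -/
theorem split_stalk (ω : Y.Modules) (hω : RelCanon.IsDualizingSheaf A Y d ω) (y : Y)
    (hy : MoreMor.IsCMAt (Y ↘ Spec (CommRingCat.of A)) y) :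
    Split (Y.presheaf.stalk y) (ω.presheaf.stalk y) := by
  let f := Y ↘ Spec (CommRingCat.of A)
  haveI : IsNoetherianRing (CommRingCat.of A) := ‹IsNoetherianRing A›
  haveI : IsNoetherian (Spec (CommRingCat.of A)) := {}
  haveI : CompactSpace Y := QuasiCompact.compactSpace_of_compactSpace f
  haveI : QuasiSeparatedSpace Y := quasiSeparatedSpace_of_quasiSeparated f
  haveI : IsLocallyNoetherian Y := LocallyOfFiniteType.isLocallyNoetherian f
  haveI := DCat.hasRpush f
  haveI : ∀ (S : CommRingCat.{u}), PreservesFiniteLimits (tilde.functor S) :=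
    Groth.Agent.AffSchLib.preservesFiniteLimits_tilde
  have h : DCoh.RpushPreservesQCoh f := fun K hK => DQCoh.isQCohD_Rpush f K hK
  haveI := Dual22Lib.AdjGeom.isLeftAdjoint_RpushQ f h
  let a := (DCoh.RpushQ f h).rightAdjoint
  let adj : DCoh.RpushQ f h ⊣ a := Adjunction.ofIsLeftAdjoint _
  haveI : Coh.IsQCoh (Coh.structureModule (Spec (CommRingCat.of A))) := Coherent.isQCoh_structureModule
  let O : DCoh.DQCoh (Spec (CommRingCat.of A)) :=
    ⟨DCoh.inD _ (Coh.structureModule (Spec (CommRingCat.of A))), FlatBC14.isQCohD_inD _⟩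
  obtain ⟨hdual, hge⟩ := isDualizingSheaf_HD (fibre_dim_le f d hd) h a adj O ⟨Iso.refl _⟩
  obtain ⟨eω⟩ := nonempty_iso_of_isDualizingSheaf hdual hω
  let c : DEt.Compactification f :=
    { Xbar := Y, j := 𝟙 Y, fbar := f, isOpenImmersion := inferInstance, isProper := ‹_›, fac := Category.id_comp f }
  haveI : DCoh.HasRpush c.fbar := ‹DCoh.HasRpush f›
  haveI : IsOpenImmersion c.j := c.isOpenImmersion
  let G := (Dual3.shriekC c a).obj O
  obtain ⟨eG⟩ : Nonempty (G ≅ (a.obj O).obj) := DCat.PCTriangle.rd_id (a.obj O).obj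
  let eH : DCoh.HD G (-(d : ℤ)) ≅ ω := (homologyFunctor _ _).mapIso eG ≪≫ eω
  obtain ⟨C⟩ := ShriekLocal.nonempty_chart c h a adj O ⟨Iso.refl _⟩ y
  haveI := ShriekGor.flat_chart C
  have hdim := ShriekCM.fibreDimAt_eq_of_components f d hd
  haveI : (Dual2.shriekVia C.n C.Rψ (Dual.inD C.R C.R)).IsGE (-(d : ℤ)) := (DRingLib.isGE_iff_HD _ _).2 fun i hi => by
    refine (Module.support_eq_empty_iff (R := C.B)).1 (Set.eq_empty_iff_forall_notMem.2 fun q hq => ?_)
    have hdim' : FlatMor.fibreDimAt (Spec.map (CommRingCat.ofHom (algebraMap C.R C.B))) q = (d : WithBot ℕ∞) :=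
      (AlgSpLib.fibreDimAt_eq_of_etale_square C.jX C.jY C.comm q).symm.trans (hdim (C.jX q))
    have := Shriek.neg_le_of_nontrivial C.ψ C.surj C.adj q d hdim'.le i hq
    omega
  have hB := split_of_concentrated C.ψ C.surj C.adj C.pt (-(d : ℤ)) (-(d : ℤ)) fun i hi hmem => by
    rcases lt_or_gt_of_ne hi with hlt | hgt
    · haveI := (DRingLib.isGE_iff_HD (Dual2.shriekVia C.n C.Rψ (Dual.inD C.R C.R)) (-(d : ℤ))).1 inferInstance i hlt
      exact Module.notMem_support_iff.2 inferInstance hmem
    · exact (ShriekCM.support_of_cm C d (hdim y) hy).1 i hgt hmem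
  obtain ⟨eC⟩ := ShriekFlatSheaf.nonempty_HD_chart C (-(d : ℤ))
  obtain ⟨φ, e, he⟩ := exists_stalk_chart C.jX (DCoh.HD G (-(d : ℤ))) _ eC C.pt
  have h1 := split_semilinear φ.symm e.symm (fun r m => e.injective (by
    rw [he, e.apply_symm_apply, e.apply_symm_apply, φ.apply_symm_apply])) hB
  rw [C.hpt] at h1
  let eY := ((DerSch.stalkFunctor Y y).mapIso eH).toLinearEquiv
  exact split_semilinear (RingEquiv.refl _) eY.toAddEquiv (fun r x => map_smul eY r x) h1

end Scheme

end Groth.Agent.DualLib.RelTop
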