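import Groth.Agent.DualLib.RelTop.LiftCrit
import Groth.Agent.DualLib.RelTop.ExtLocal

/-!
# Splitting of self-extensions from the localizations

A finite module `W` over a Noetherian ring such that at every prime either its self-extensions split and
`End W` is the ring, or the ring has depth three and `W` depth two, has only split self-extensions.
-/

set_option autoImplicit false
set_option backward.isDefEq.respectTransparency false
set_option linter.style.haveILetI false
set_option linter.unusedSectionVars false

universe u

open IsLocalRing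

namespace Groth.Agent.DualLib.RelTop

open Groth.Agent

variable {B : Type u} [CommRing B] [IsNoetherianRing B]

theorem locDepth_eq_zero_of_assoc (p : Ideal B) [p.IsPrime] {M : Type u} [AddCommGroup M] [Module B M]
    [Module.Finite B M] (hp : p ∈ associatedPrimes B M) : locDepth p M = 0 := by
  have h := Module.associatedPrimes.mem_associatedPrimes_atPrime_of_mem_associatedPrimes hp
  haveI : Nontrivial (LocalizedModule p.primeCompl M) := by
    by_contra hn
    haveI := not_nontrivial_iff_subsingleton.1 hn
    rw [associatedPrimes.eq_empty_of_subsingleton] at h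
    exact Set.notMem_empty _ h
  exact CAlgH3.depth_eq_zero_iff.2 h

/-- A finite module, locally zero or of positive depth at every prime, is zero. -/
theorem subsingleton_of_local {M : Type u} [AddCommGroup M] [Module B M] [Module.Finite B M]
    (h : ∀ (p : Ideal B) [p.IsPrime], (∀ x : M, ∃ t ∉ p, t • x = 0) ∨ 1 ≤ locDepth p M) : Subsingleton M := by
  by_contra hM
  haveI : Nontrivial M := not_subsingleton_iff_nontrivial.1 hM
  obtain ⟨p, hp⟩ := associatedPrimes.nonempty B M
  haveI : p.IsPrime := IsAssociatedPrime.isPrime hp
  rcases h p with h0 | h1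
  · obtain ⟨x, hx⟩ := hp.eq_radical_colon
    obtain ⟨t, htp, ht⟩ := h0 x
    exact htp (hx ▸ Ideal.le_radical (Submodule.mem_colon_singleton.2 ((Submodule.mem_bot B).2 ht)))
  · rw [locDepth_eq_zero_of_assoc p hp] at h1
    exact absurd h1 (by norm_num)

section

variable {W : Type u} [AddCommGroup W] [Module B W] [Module.Finite B W]

/-- `End W` is the ring, from the localizations. -/
theorem bijective_end_of_local
    (h : ∀ (p : Ideal B) [p.IsPrime],
      (Function.Bijective fun r : Localization.AtPrime p =>
        r • (LinearMap.id : LocalizedModule p.primeCompl W →ₗ[Localization.AtPrime p] LocalizedModule p.primeCompl W)) ∨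
      (2 ≤ locDepth p B ∧ 2 ≤ locDepth p W)) :
    Function.Bijective (LinearMap.lsmul B W) := by
  have := Module.finitePresentation_of_finite B W
  let Φ := LinearMap.lsmul B W
  let g := fun (p : Ideal B) [p.IsPrime] => LocalizedModule.mkLinearMap p.primeCompl W
  have hK : Subsingleton (LinearMap.ker Φ) := subsingleton_of_local fun p _ => by
    rcases h p with hb | hd
    · refine Or.inl fun x => ?_
      have hx0 : algebraMap B (Localization.AtPrime p) x.1 = 0 := hb.1 (LinearMap.ext fun w => by
        induction w using LocalizedModule.induction_on with | _ m s =>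
        show algebraMap B (Localization.AtPrime p) x.1 • LocalizedModule.mk m s =
          (0 : Localization.AtPrime p) • LocalizedModule.mk m s
        rw [algebraMap_smul, zero_smul, LocalizedModule.smul'_mk,
          show x.1 • m = 0 from LinearMap.congr_fun (LinearMap.mem_ker.1 x.2) m, LocalizedModule.zero_mk])
      obtain ⟨t, ht⟩ := (IsLocalization.map_eq_zero_iff p.primeCompl _ _).1 hx0
      exact ⟨t, t.2, Subtype.ext ht⟩
    · refine Or.inr ?_
      by_contra hlt
      rw [Order.one_le_iff_pos, pos_iff_ne_zero, not_not] at hlt
      haveI : Nontrivial (LocalizedModule p.primeCompl (LinearMap.ker Φ)) := by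
        by_contra hn
        haveI := not_nontrivial_iff_subsingleton.1 hn
        rw [show locDepth p (LinearMap.ker Φ) = ⊤ from CAlgH3.depth_eq_top_of_subsingleton] at hlt
        simp at hlt
      have hm := associatedPrimes.subset_of_injective
        (f := LocalizedModule.map p.primeCompl (LinearMap.ker Φ).subtype)
        (LocalizedModule.map_injective _ _ Subtype.val_injective) (CAlgH3.depth_eq_zero_iff.1 hlt)
      haveI : Nontrivial (LocalizedModule p.primeCompl B) := by
        by_contra hn
        haveI := not_nontrivial_iff_subsingleton.1 hn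
        rw [associatedPrimes.eq_empty_of_subsingleton] at hm
        exact Set.notMem_empty _ hm
      have h2 := hd.1
      rw [show locDepth p B = 0 from CAlgH3.depth_eq_zero_iff.2 hm] at h2
      simp at h2
  have hinj : Function.Injective Φ := LinearMap.ker_eq_bot.1 (Submodule.subsingleton_iff_eq_bot.1 hK)
  have hQ : Subsingleton ((W →ₗ[B] W) ⧸ LinearMap.range Φ) := subsingleton_of_local fun p _ => by
    rcases h p with hb | hd
    · refine Or.inl fun x => ?_
      obtain ⟨φ, rfl⟩ := Submodule.Quotient.mk_surjective _ x
      obtain ⟨c, hc⟩ := hb.2 (LocalizedModule.map p.primeCompl φ)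
      obtain ⟨⟨a, s⟩, rfl⟩ := IsLocalization.mk'_surjective p.primeCompl c
      have heq : g p ∘ₗ ((s : B) • φ) = g p ∘ₗ (a • LinearMap.id) := LinearMap.ext fun w => by
        have h1 := LinearMap.congr_fun hc (g p w)
        simp only [g, LinearMap.smul_apply, LinearMap.id_coe, id_eq, LocalizedModule.mkLinearMap_apply,
          LocalizedModule.map_mk] at h1
        show g p ((s : B) • φ w) = g p (a • w)
        rw [map_smul, map_smul]
        simp only [g, LocalizedModule.mkLinearMap_apply]
        rw [← h1, ← algebraMap_smul (Localization.AtPrime p) (s : B), smul_smul,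
          mul_comm, IsLocalization.mk'_spec, algebraMap_smul]
      obtain ⟨t, ht⟩ := Module.Finite.exists_smul_of_comp_eq_of_isLocalizedModule p.primeCompl (g p) _ _ heq
      refine ⟨t * s, fun hc => ((inferInstance : p.IsPrime).mem_or_mem hc).elim t.2 s.2, ?_⟩
      rw [← Submodule.Quotient.mk_smul, Submodule.Quotient.mk_eq_zero, ← smul_smul]
      exact ⟨t * a, LinearMap.ext fun w => by
        have := LinearMap.congr_fun ht w
        simp only [Submonoid.smul_def, LinearMap.smul_apply, LinearMap.id_coe, id_eq] at this
        show ((t : B) * a) • w = ((t : B) • (s : B) • φ) w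
        rw [LinearMap.smul_apply, LinearMap.smul_apply, mul_smul, ← this]⟩
    · refine Or.inr (le_trans (le_min ?_ ?_)
        (locDepth_exact p Φ (LinearMap.range Φ).mkQ hinj (Submodule.mkQ_surjective _)
          (LinearMap.exact_iff.2 (Submodule.ker_mkQ _))).2)
      · exact le_trans (le_trans (by norm_num) (le_min le_rfl hd.2)) (min_two_le_locDepth_hom p W W)
      · exact le_trans (show (1 : ℕ∞) ≤ 2 - 1 by decide) (tsub_le_tsub_right hd.1 1)
  exact ⟨hinj, fun φ => LinearMap.mem_range.1
    ((Submodule.Quotient.mk_eq_zero (LinearMap.range Φ) (x := φ)).1 (Subsingleton.elim _ _))⟩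

/-- Self-extensions split, from the localizations. -/
theorem split_of_local
    (h : ∀ (p : Ideal B) [p.IsPrime],
      (Split (Localization.AtPrime p) (LocalizedModule p.primeCompl W) ∧
        Function.Bijective fun r : Localization.AtPrime p =>
          r • (LinearMap.id : LocalizedModule p.primeCompl W →ₗ[Localization.AtPrime p] LocalizedModule p.primeCompl W)) ∨
      (3 ≤ locDepth p B ∧ 2 ≤ locDepth p W)) :
    Split B W := by
  intro E _ _ i q hi hq hiq
  have := Module.finitePresentation_of_finite B W
  haveI : Module.Finite B E := by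
    refine ⟨Submodule.fg_of_fg_map_of_fg_inf_ker q ?_ ?_⟩
    · rw [Submodule.map_top, LinearMap.range_eq_top.2 hq]; exact Module.Finite.fg_top
    · rw [top_inf_eq, LinearMap.exact_iff.1 hiq, ← Submodule.map_top]; exact Submodule.FG.map _ Module.Finite.fg_top
  have hΦ : Function.Bijective (LinearMap.lsmul B W) := bijective_end_of_local fun p _ =>
    (h p).imp And.right fun h2 => ⟨le_trans (by norm_num) h2.1, h2.2⟩
  let S : (W →ₗ[B] W) →ₗ[B] (W →ₗ[B] E) := LinearMap.compRight B i
  let T : (W →ₗ[B] E) →ₗ[B] (W →ₗ[B] W) := LinearMap.compRight B q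
  haveI hC : Subsingleton ((W →ₗ[B] W) ⧸ LinearMap.range T) := subsingleton_of_local fun p _ => by
    rcases h p with ⟨hs, -⟩ | hd
    · refine Or.inl fun x => ?_
      obtain ⟨φ, rfl⟩ := Submodule.Quotient.mk_surjective _ x
      let g := LocalizedModule.mkLinearMap p.primeCompl W
      let gE := LocalizedModule.mkLinearMap p.primeCompl E
      obtain ⟨sp, hsp⟩ := hs (LocalizedModule p.primeCompl E) (LocalizedModule.map p.primeCompl i)
        (LocalizedModule.map p.primeCompl q) (LocalizedModule.map_injective _ i hi)
        (LocalizedModule.map_surjective _ q hq) (LocalizedModule.map_exact _ i q hiq)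
      obtain ⟨u, s, hu⟩ := Module.FinitePresentation.exists_lift_of_isLocalizedModule p.primeCompl gE
        (sp.restrictScalars B ∘ₗ g)
      have heq : g ∘ₗ (q ∘ₗ u) = g ∘ₗ ((s : B) • LinearMap.id) := LinearMap.ext fun w => by
        have h1 := LinearMap.congr_fun hu w
        simp only [LinearMap.comp_apply, LinearMap.smul_apply, Submonoid.smul_def,
          LinearMap.coe_restrictScalars] at h1
        have h2 := LinearMap.congr_fun hsp (g w)
        simp only [LinearMap.comp_apply, LinearMap.id_coe, id_eq] at h2
        show g (q (u w)) = g ((s : B) • w)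
        rw [map_smul, ← h2]
        calc g (q (u w)) = LocalizedModule.map p.primeCompl q (gE (u w)) := by
              simp [g, gE, LocalizedModule.map_mk]
          _ = _ := by rw [h1, LinearMap.map_smul_of_tower]
      obtain ⟨t, ht⟩ := Module.Finite.exists_smul_of_comp_eq_of_isLocalizedModule p.primeCompl g _ _ heq
      refine ⟨t * s, fun hc => ((inferInstance : p.IsPrime).mem_or_mem hc).elim t.2 s.2, ?_⟩
      rw [← Submodule.Quotient.mk_smul, Submodule.Quotient.mk_eq_zero, ← smul_smul]
      exact ⟨(t : B) • (u ∘ₗ φ), LinearMap.ext fun w => by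
        have := LinearMap.congr_fun ht (φ w)
        simp only [Submonoid.smul_def, LinearMap.smul_apply, LinearMap.comp_apply, LinearMap.id_coe, id_eq] at this
        simpa [T, smul_smul] using this⟩
    · refine Or.inr ?_
      let Φ := LinearEquiv.ofBijective (LinearMap.lsmul B W) hΦ
      have hEnd : 3 ≤ locDepth p (W →ₗ[B] W) := hd.1.trans (locDepth_congr p Φ).le
      have hE : 2 ≤ locDepth p E := le_trans (le_min hd.2 hd.2) (locDepth_exact p i q hi hq hiq).1
      have hS : Function.Injective S := fun a b hab =>
        LinearMap.ext fun w => hi (LinearMap.congr_fun hab w)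
      have hST : Function.Exact S T.rangeRestrict := fun f => by
        constructor
        · intro hf
          have hf0 : ∀ w, f w ∈ LinearMap.range i := fun w =>
            (hiq _).1 (LinearMap.congr_fun (congrArg Subtype.val hf) w)
          refine ⟨(LinearEquiv.ofInjective i hi).symm.toLinearMap ∘ₗ LinearMap.codRestrict _ f hf0,
            LinearMap.ext fun w => ?_⟩
          show i ((LinearEquiv.ofInjective i hi).symm ⟨f w, _⟩) = f w
          exact congrArg Subtype.val ((LinearEquiv.ofInjective i hi).apply_symm_apply ⟨f w, hf0 w⟩)
        · rintro ⟨a, rfl⟩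
          exact Subtype.ext (LinearMap.ext fun w => (hiq _).2 ⟨a w, rfl⟩)
      have hI : (2 : ℕ∞) ≤ locDepth p (LinearMap.range T) := by
        refine le_trans (le_min ?_ ?_) (locDepth_exact p S T.rangeRestrict hS T.surjective_rangeRestrict hST).2
        · exact le_trans (le_min le_rfl hE) (min_two_le_locDepth_hom p W E)
        · exact le_trans (show (2 : ℕ∞) ≤ 3 - 1 by decide) (tsub_le_tsub_right hEnd 1)
      refine le_trans (le_min ?_ ?_)
        (locDepth_exact (M' := LinearMap.range T) (M := W →ₗ[B] W) (M'' := (W →ₗ[B] W) ⧸ LinearMap.range T) p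
          (LinearMap.range T).subtype (LinearMap.range T).mkQ
          (Submodule.injective_subtype _) (Submodule.mkQ_surjective _) (LinearMap.exact_subtype_mkQ _)).2
      · exact le_trans (by norm_num) hEnd
      · exact le_trans (show (1 : ℕ∞) ≤ 2 - 1 by decide) (tsub_le_tsub_right hI 1)
  obtain ⟨s, hs⟩ := (Submodule.Quotient.mk_eq_zero (LinearMap.range T) (x := LinearMap.id)).1 (Subsingleton.elim _ _)
  exact ⟨s, hs⟩

end

end Groth.Agent.DualLib.RelTop
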