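import Groth.Agent.DualLib.RelTop.FibrePow
import Groth.Agent.CycLib28.PB.Ops.DualSeq
import Groth.Agent.Surf15.HomShIso
import Groth.Agent.SerreDual.ExtShRestrict
import Groth.Agent.PicLib.FiniteSetTriv

/-!
# Duals commute with pullback where invertible
-/

set_option autoImplicit false
set_option backward.isDefEq.respectTransparency false
set_option linter.style.haveILetI false

universe u

open CategoryTheory CategoryTheory.Limits AlgebraicGeometry TopologicalSpace Opposite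

namespace Groth.Agent.DualLib.RelTop

open Groth.Agent

variable {X : Scheme.{u}}

/-- Invertibility on an open gives an invertible restriction. -/
theorem isInvertible_restrict (U : X.Opens) {L : X.Modules} (hL : ∀ x : X, x ∈ U → RelCanon.InvertibleAt L x) :
    PicF.IsInvertible (L.restrict U.ι) := fun w => by
  obtain ⟨V, hwV, ⟨eV⟩⟩ := hL w.1 w.2
  let V' : (U : Scheme.{u}).Opens := U.ι ⁻¹ᵁ V
  have hr : Set.range (V'.ι ≫ U.ι) ⊆ Set.range V.ι := by
    rintro _ ⟨v, rfl⟩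
    exact ⟨⟨_, v.2⟩, rfl⟩
  let l := IsOpenImmersion.lift V.ι (V'.ι ≫ U.ι) hr
  exact ⟨V', hwV, ⟨((Scheme.Modules.restrictFunctorComp V'.ι U.ι).app L).symm ≪≫
    (Scheme.Modules.restrictFunctorCongr (IsOpenImmersion.lift_fac V.ι (V'.ι ≫ U.ι) hr).symm).app L ≪≫
    (Scheme.Modules.restrictFunctorComp l V.ι).app L ≪≫
    (Scheme.Modules.restrictFunctor l).mapIso eV ≪≫ Scheme.Modules.restrictUnitIso l⟩⟩

/-- The dual restricts to the dual. -/
theorem nonempty_dual_restrict (U : X.Opens) (E : X.Modules) :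
    Nonempty ((RefHull.dual E).restrict U.ι ≅ RefHull.dual (E.restrict U.ι)) := by
  obtain ⟨a⟩ := Surf15.nonempty_homSh_iso E (Coh.structureModule X)
  obtain ⟨b⟩ := Surf15.nonempty_homSh_iso (E.restrict U.ι) (Coh.structureModule (U : Scheme.{u}))
  obtain ⟨cN⟩ := SerreDual.nonempty_internalHom_restrict U.ι E
  let c := cN.app (Coh.structureModule X)
  exact ⟨(Scheme.Modules.restrictFunctor U.ι).mapIso a ≪≫ c ≪≫
    (Coherent.internalHomFunctor _).mapIso (Scheme.Modules.restrictUnitIso U.ι) ≪≫ b.symm⟩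

/-- Duals of isomorphic modules. -/
theorem nonempty_dual_iso {A B : X.Modules} (i : A ≅ B) : Nonempty (RefHull.dual A ≅ RefHull.dual B) := by
  obtain ⟨a⟩ := Surf15.nonempty_homSh_iso A (Coh.structureModule X)
  obtain ⟨b⟩ := Surf15.nonempty_homSh_iso B (Coh.structureModule X)
  obtain ⟨c⟩ := CycLib28.PB.Ops.nonempty_dual_congr i
  exact ⟨a ≪≫ c.symm ≪≫ b.symm⟩

/-- Pullback commutes with the dual on an open where the module is invertible. -/
theorem nonempty_pull_dual_on {Y : Scheme.{u}} (g : Y ⟶ X) (U : X.Opens) (T : X.Modules)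
    (hT : ∀ x : X, x ∈ U → RelCanon.InvertibleAt T x) :
    Nonempty (((Scheme.Modules.pullback g).obj (RefHull.dual T)).restrict (g ⁻¹ᵁ U).ι ≅
      (RefHull.dual ((Scheme.Modules.pullback g).obj T)).restrict (g ⁻¹ᵁ U).ι) := by
  let j := (g ⁻¹ᵁ U).ι
  let gU : ((g ⁻¹ᵁ U : Y.Opens) : Scheme.{u}) ⟶ (U : Scheme.{u}) := g ∣_ U
  have h : gU ≫ U.ι = j ≫ g := morphismRestrict_ι g U
  let sw : ∀ K : X.Modules, (Scheme.Modules.pullback gU).obj (K.restrict U.ι) ≅
      ((Scheme.Modules.pullback g).obj K).restrict j := fun K =>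
    (Scheme.Modules.pullback gU).mapIso ((Scheme.Modules.restrictFunctorIsoPullback U.ι).app K) ≪≫
      (Scheme.Modules.pullbackComp gU U.ι).app K ≪≫ (Scheme.Modules.pullbackCongr h).app K ≪≫
      ((Scheme.Modules.pullbackComp j g).app K).symm ≪≫
      ((Scheme.Modules.restrictFunctorIsoPullback j).app _).symm
  obtain ⟨d1⟩ := nonempty_dual_restrict U T
  obtain ⟨d2⟩ := nonempty_dual_restrict (g ⁻¹ᵁ U) ((Scheme.Modules.pullback g).obj T)
  have hfree : FlatMod.IsFinLocFree (T.restrict U.ι) := fun x => by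
    obtain ⟨V, hV, hi⟩ := PicLib.isFinLocFreeOfRank_one (isInvertible_restrict U hT) x
    exact ⟨V, 1, hV, hi⟩
  obtain ⟨a⟩ := Surf15.nonempty_homSh_iso (T.restrict U.ι) (Coh.structureModule (U : Scheme.{u}))
  obtain ⟨b⟩ := Surf15.nonempty_homSh_iso ((Scheme.Modules.pullback gU).obj (T.restrict U.ι))
    (Coh.structureModule ((g ⁻¹ᵁ U : Y.Opens) : Scheme.{u}))
  obtain ⟨p⟩ := CycLib28.PB.Ops.nonempty_pullback_dual gU hfree
  obtain ⟨c⟩ := nonempty_dual_iso (sw T)
  exact ⟨(sw (RefHull.dual T)).symm ≪≫ (Scheme.Modules.pullback gU).mapIso (d1 ≪≫ a) ≪≫ p ≪≫ b.symm ≪≫ c ≪≫ d2.symm⟩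

end Groth.Agent.DualLib.RelTop
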