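import Groth.Agent.DualLib.RelTop.LiftCrit
import Groth.Agent.DualLib.RelTop.DualPull

/-!
# Duals restrict to duals on a fibre of depth three
-/

set_option autoImplicit false
set_option backward.isDefEq.respectTransparency false
set_option linter.style.haveILetI false
set_option linter.unusedSectionVars false

universe u

open CategoryTheory CategoryTheory.Limits AlgebraicGeometry TopologicalSpace IsLocalRing TensorProduct

namespace Groth.Agent.DualLib.RelTop

open Groth.Agent EGA43.DimFormula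

/-- Depth along an ideal for a module over a quotient ring. -/
theorem le_locDepth_of_surjective {B R : Type u} [CommRing B] [IsNoetherianRing B] [CommRing R] [IsNoetherianRing R]
    [Algebra B R] (hs : Function.Surjective (algebraMap B R)) (J : Ideal B) (r : ℕ) (N : Type u) [AddCommGroup N]
    [Module R N] [Module B N] [IsScalarTower B R N] [Module.Finite R N] (M : Type u) [AddCommGroup M] [Module B M]
    [Module.Finite B M] (e : M ≃ₗ[B] N)
    (h : ∀ p : Ideal R, ∀ [p.IsPrime], J.map (algebraMap B R) ≤ p →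
      (r : ℕ∞) ≤ _root_.LocCoh.depth (Localization.AtPrime p) (LocalizedModule p.primeCompl N)) :
    ∀ p : Ideal B, ∀ [p.IsPrime], J ≤ p → (r : ℕ∞) ≤ locDepth p M := by
  obtain ⟨fs, hl, hm, hw⟩ := (CAlgH.DepthCriterion.depth_ge_iff N (J.map (algebraMap B R)) r).1
    (fun p _ hp => h p hp)
  choose pre hpre using fun a : {a // a ∈ fs} => (Ideal.mem_map_iff_of_surjective _ hs).1 (hm a.1 a.2)
  let fs' := fs.attach.map pre
  have he : fs'.map (algebraMap B R) = fs := by
    rw [List.map_map]
    conv_rhs => rw [← fs.attach_map_subtype_val]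
    exact List.map_congr_left fun a _ => (hpre a).2
  intro p _ hp
  refine (CAlgH.DepthCriterion.depth_ge_iff M J r).2 ⟨fs', by simp [fs', hl], fun a ha => ?_, ?_⟩ p hp
  · obtain ⟨b, -, rfl⟩ := List.mem_map.1 ha
    exact (hpre b).1
  · rw [e.isWeaklyRegular_congr, ← RingTheory.Sequence.isWeaklyRegular_map_algebraMap_iff R, he]
    exact hw

variable {X : Scheme.{u}} [IsLocallyNoetherian X]

/-- The localized stalk of a module invertible at a generization is free. -/
theorem free_localized_of_invertibleAt {D : X.Modules} (hD : Coh.IsQCoh D) (y : X)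
    (q : PrimeSpectrum (X.presheaf.stalk y)) (h : RelCanon.InvertibleAt D (toPt y q)) :
    Module.Free (Localization.AtPrime q.asIdeal) (LocalizedModule q.asIdeal.primeCompl (D.presheaf.stalk y)) := by
  let hs := toPt_specializes y q
  let x := toPt y q
  letI := (X.presheaf.stalkSpecializes hs).hom.toAlgebra
  letI := Module.compHom (D.presheaf.stalk x) (X.presheaf.stalkSpecializes hs).hom
  haveI : IsScalarTower (X.presheaf.stalk y) (X.presheaf.stalk x) (D.presheaf.stalk x) :=
    IsScalarTower.of_algebraMap_smul fun _ _ => rfl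
  obtain ⟨hl, ρ, hρ⟩ := stalk_loc D hD y q
  haveI : IsLocalization.AtPrime (X.presheaf.stalk x) q.asIdeal := hl
  haveI := hρ
  let Bp := Localization.AtPrime q.asIdeal
  let e := IsLocalization.algEquiv q.asIdeal.primeCompl Bp (X.presheaf.stalk x)
  let _ : Algebra Bp (X.presheaf.stalk x) := e.toRingEquiv.toRingHom.toAlgebra
  let _ : Module Bp (D.presheaf.stalk x) := Module.compHom (D.presheaf.stalk x) e.toRingEquiv.toRingHom
  haveI : IsScalarTower Bp (X.presheaf.stalk x) (D.presheaf.stalk x) :=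
    IsScalarTower.of_algebraMap_smul fun _ _ => rfl
  haveI : IsScalarTower (X.presheaf.stalk y) Bp (D.presheaf.stalk x) :=
    IsScalarTower.of_algebraMap_smul fun r m => by
      show e (algebraMap (X.presheaf.stalk y) Bp r) • m = r • m
      rw [e.commutes]
      rfl
  obtain ⟨ε⟩ := exists_stalk_equiv_of_invertibleAt h
  let b : Bp ≃ₗ[Bp] X.presheaf.stalk x :=
    LinearEquiv.ofBijective (Algebra.linearMap Bp (X.presheaf.stalk x)) e.bijective
  exact Module.Free.of_equiv
    ((((IsLocalizedModule.iso q.asIdeal.primeCompl ρ).extendScalarsOfIsLocalization q.asIdeal.primeCompl Bp).trans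
      (ε.restrictScalars Bp)).trans b.symm).symm

variable {T : Scheme.{u}} (f : X ⟶ T) [IsLocallyNoetherian T] [LocallyOfFiniteType f]

/-- **Kollár's criterion on a fibre.** If a module on the fibre agreeing on an open with the restriction of a dual has
depth three off the open, then the dual is flat there and restricts to it. -/
theorem flat_and_stalk_equiv_of_depth_three (hS : RelCanon.IsSkMor f 2) (t : T) (z : f.fiber t) (Yo : X.Opens)
    (hdim : ∀ x : X, f x = t → x ∉ Yo →
      (2 : WithBot ℕ∞) ≤ ringKrullDim ((f.fiber (f x)).presheaf.stalk (f.asFiber x)))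
    (D : X.Modules) (hD : Coh.IsCoh D) (hDi : ∀ x : X, x ∈ Yo → RelCanon.InvertibleAt D x)
    (G' : (f.fiber t).Modules) (hG' : Coh.IsCoh G')
    (φ : ((Scheme.Modules.pullback (f.fiberι t)).obj (RefHull.dual D)).restrict (f.fiberι t ⁻¹ᵁ Yo).ι ≅
      G'.restrict (f.fiberι t ⁻¹ᵁ Yo).ι)
    (h3 : ∀ w : f.fiber t, w ⤳ z → f.fiberι t w ∉ Yo →
      (3 : ℕ∞) ≤ _root_.LocCoh.depth ((f.fiber t).presheaf.stalk w) (G'.presheaf.stalk w)) :
    FlatMod.IsFlatOverAt f (RefHull.dual D) (f.fiberι t z) ∧
      Nonempty (((Scheme.Modules.pullback (f.fiberι t)).obj (RefHull.dual D)).presheaf.stalk z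
        ≃ₗ[(f.fiber t).presheaf.stalk z] G'.presheaf.stalk z) := by
  haveI : Flat f := hS.1
  haveI : LocallyOfFiniteType (f.fiberToSpecResidueField t) :=
    MorphismProperty.pullback_snd _ _ inferInstance
  haveI : IsLocallyNoetherian (f.fiber t) := LocallyOfFiniteType.isLocallyNoetherian (f.fiberToSpecResidueField t)
  let ι := f.fiberι t
  let y := ι z
  let U' : (f.fiber t).Opens := ι ⁻¹ᵁ Yo
  let A := T.presheaf.stalk (f y)
  let B := X.presheaf.stalk y
  let R := (f.fiber t).presheaf.stalk z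
  letI : Algebra A B := (f.stalkMap y).hom.toAlgebra
  haveI : Module.Flat A B := Flat.stalkMap f y
  letI : Algebra B R := (ι.stalkMap z).hom.toAlgebra
  obtain ⟨hs, hk⟩ := Props12.stalkMap_fiberι f t z
  have hG : Coh.IsCoh (RefHull.dual D) := RefHullLib.isCoh_dual hD (Coherent.isCoh_structureModule X)
  have hqG : Coh.IsQCoh ((Scheme.Modules.pullback ι).obj (RefHull.dual D)) :=
    haveI := hG.1
    EGA43.InjFibre.isQCoh_pullback ι _
  let D' := (Scheme.Modules.pullback ι).obj D
  have hD' : Coh.IsCoh D' :=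
    ⟨haveI := hD.1; EGA43.InjFibre.isQCoh_pullback ι D, Coherent.isFT_pullback_qcoh ι hD.1 hD.2⟩
  have hD'd : Coh.IsCoh (RefHull.dual D') := RefHullLib.isCoh_dual hD' (Coherent.isCoh_structureModule _)
  have h2R : ∀ w : f.fiber t, ι w ∉ Yo →
      (2 : ℕ∞) ≤ _root_.LocCoh.depth ((f.fiber t).presheaf.stalk w) ((f.fiber t).presheaf.stalk w) := fun w hw =>
    two_le_depth_fibre f hS t w fun v hv => hdim v
      (by rw [← hv]; exact EGA43.Chevalley.apply_fiberι f t w) (by rwa [← hv])
  -- the fibre dual is `G'`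
  obtain ⟨π⟩ := nonempty_pull_dual_on ι Yo D hDi
  obtain ⟨eG⟩ := nonempty_stalk_equiv_of_restrict hD'd hG' U' (π.symm ≪≫ φ) z
    (fun w _ hw => two_le_depth_dual hD' w (h2R w hw))
    (fun w hwz hw => le_trans (by decide) (h3 w hwz hw))
  obtain ⟨eH⟩ := nonempty_dual_stalk_equiv hD' z
  let P := D.presheaf.stalk y
  haveI : Module.Finite B P := AssSch12.finite_stalk hD y
  let eP : D'.presheaf.stalk z ≃ₗ[R] R ⊗[B] P := ((ModStalk.pullbackStalkIso ι z).app D).toLinearEquiv
  let L : (R ⊗[B] P →ₗ[R] R) ≃ₗ[R] G'.presheaf.stalk z :=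
    ((LinearEquiv.arrowCongr eP.symm (LinearEquiv.refl R R)).trans eH.symm).trans eG
  -- the closed fibre as a quotient of the stalk
  let e2 : (B ⧸ mB A B) ≃ₗ[B] R :=
    (Submodule.quotEquivOfEq _ _ hk.symm).trans
      { RingHom.quotientKerEquivOfSurjective (f := algebraMap B R) hs with
        map_smul' := fun c x => by
          obtain ⟨x, rfl⟩ := Ideal.Quotient.mk_surjective x
          show algebraMap B R (c * x) = c • algebraMap B R x
          rw [map_mul, Algebra.smul_def] }
  letI : Module B (G'.presheaf.stalk z) := Module.compHom _ (algebraMap B R)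
  haveI : IsScalarTower B R (G'.presheaf.stalk z) := IsScalarTower.of_algebraMap_smul fun _ _ => rfl
  let L1 : (P →ₗ[B] B ⧸ mB A B) ≃ₗ[B] G'.presheaf.stalk z :=
    ((LinearEquiv.arrowCongr (LinearEquiv.refl B P) e2).trans
      ((LinearMap.liftBaseChangeEquiv R).restrictScalars B)).trans (L.restrictScalars B)
  haveI : Module.Finite R (G'.presheaf.stalk z) := AssSch12.finite_stalk hG' z
  let J := outIdeal Yo y
  have hpts : ∀ p : Ideal R, ∀ [p.IsPrime], J.map (algebraMap B R) ≤ p →
      ∃ w : f.fiber t, w ⤳ z ∧ ι w ∉ Yo ∧ ∃ h : p.IsPrime, toPt z ⟨p, h⟩ = w := by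
    intro p hp hJ
    refine ⟨toPt z ⟨p, hp⟩, toPt_specializes z _, ?_, hp, rfl⟩
    have h := (outIdeal_le_iff Yo y (PrimeSpectrum.comap (ι.stalkMap z).hom ⟨p, hp⟩)).1 (Ideal.map_le_iff_le_comap.1 hJ)
    rwa [← apply_toPt ι z ⟨p, hp⟩] at h
  have hfree : ∀ q : Ideal B, ∀ [q.IsPrime], ¬J ≤ q →
      Module.Free (Localization.AtPrime q) (LocalizedModule q.primeCompl P) := fun q hq hJ =>
    free_localized_of_invertibleAt hD.1 y ⟨q, hq⟩
      (hDi _ (not_not.1 fun hc => hJ ((outIdeal_le_iff Yo y ⟨q, hq⟩).2 hc)))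
  have hR : ∀ p : Ideal B, ∀ [p.IsPrime], J ≤ p → mB A B ≤ p → (2 : ℕ∞) ≤ locDepth p (B ⧸ mB A B) := by
    intro p hp hJ _
    refine le_locDepth_of_surjective hs J 2 R (B ⧸ mB A B) e2 (fun p' hp' hJ' => ?_) p hJ
    obtain ⟨w, -, hwo, _, rfl⟩ := hpts p' hJ'
    rw [← CAlgH3.depth_congr (LinearEquiv.ofBijective (LocalizedModule.map p'.primeCompl
      (SDiv28.unitStalkEquiv (X := f.fiber t) z).symm.toLinearMap)
        ⟨LocalizedModule.map_injective _ _ (LinearEquiv.injective _),
          LocalizedModule.map_surjective _ _ (LinearEquiv.surjective _)⟩),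
      depth_toPt (Coh.structureModule (f.fiber t)) (Coherent.isCoh_structureModule _).1 z ⟨p', hp'⟩,
      ← CAlgH3.depth_congr (SDiv28.unitStalkEquiv (X := f.fiber t) _)]
    exact h2R _ hwo
  have hL : ∀ p : Ideal B, ∀ [p.IsPrime], J ≤ p → mB A B ≤ p → (3 : ℕ∞) ≤ locDepth p (P →ₗ[B] B ⧸ mB A B) := by
    intro p hp hJ _
    refine le_locDepth_of_surjective hs J 3 (G'.presheaf.stalk z) (P →ₗ[B] B ⧸ mB A B) L1 (fun p' hp' hJ' => ?_) p hJ
    obtain ⟨w, hwz, hwo, _, rfl⟩ := hpts p' hJ'
    rw [depth_toPt G' hG'.1 z ⟨p', hp'⟩]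
    exact h3 _ hwz hwo
  obtain ⟨hsur, hker⟩ := lift_crit J P hfree hR hL
  -- the fibre of the dual
  let G := P →ₗ[B] B
  let eq1 : R ⊗[B] G ≃ₗ[B] G'.presheaf.stalk z :=
    (((TensorProduct.congr e2.symm (LinearEquiv.refl B G)).trans
      (TensorProduct.quotTensorEquivQuotSMul G (mB A B))).trans
      (Submodule.quotEquivOfEq _ _ hker.symm)).trans
      (((restrDual A B P).quotKerEquivOfSurjective hsur).trans L1)
  obtain ⟨eD⟩ := nonempty_dual_stalk_equiv hD y
  let ep : ((Scheme.Modules.pullback ι).obj (RefHull.dual D)).presheaf.stalk z ≃ₗ[R]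
      R ⊗[B] (RefHull.dual D).presheaf.stalk y :=
    ((ModStalk.pullbackStalkIso ι z).app (RefHull.dual D)).toLinearEquiv
  let eR : R ⊗[B] G ≃ₗ[R] G'.presheaf.stalk z := eq1.extendScalarsOfSurjective hs
  let eS : ((Scheme.Modules.pullback ι).obj (RefHull.dual D)).presheaf.stalk z ≃ₗ[R] G'.presheaf.stalk z :=
    (ep.trans (AlgebraTensorModule.congr (LinearEquiv.refl R R) eD)).trans eR
  refine ⟨(flat_and_depth f (RefHull.dual D) hG t z Yo (fun x _ hx => ?_) fun p hp => ?_).1, ⟨eS⟩⟩
  · haveI : Module.Finite (X.presheaf.stalk x) (D.presheaf.stalk x) := AssSch12.finite_stalk hD x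
    obtain ⟨a⟩ := nonempty_dual_stalk_equiv hD x
    obtain ⟨b⟩ := exists_stalk_equiv_of_invertibleAt (hDi x hx)
    let c : (RefHull.dual D).presheaf.stalk x ≃ₗ[X.presheaf.stalk x] X.presheaf.stalk x :=
      a.trans ((LinearEquiv.arrowCongr b (LinearEquiv.refl _ _)).trans (LinearMap.ringLmapEquivSelf _ _ _))
    letI := (f.stalkMap x).hom.toAlgebra
    letI := FlatMod.moduleStalkOver f (RefHull.dual D) x
    haveI : IsScalarTower (T.presheaf.stalk (f x)) (X.presheaf.stalk x) ((RefHull.dual D).presheaf.stalk x) :=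
      IsScalarTower.of_compHom _ _ _
    haveI : Module.Flat (T.presheaf.stalk (f x)) (X.presheaf.stalk x) := Flat.stalkMap f x
    exact Module.Flat.of_linearEquiv (c.restrictScalars (T.presheaf.stalk (f x)))
  · rw [CAlgH3.depth_congr (LinearEquiv.ofBijective (LocalizedModule.map p.asIdeal.primeCompl eS.toLinearMap)
      ⟨LocalizedModule.map_injective _ _ (LinearEquiv.injective _),
        LocalizedModule.map_surjective _ _ (LinearEquiv.surjective _)⟩), depth_toPt G' hG'.1 z p]
    exact le_trans (by decide) (h3 _ (toPt_specializes z p) hp)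

end Groth.Agent.DualLib.RelTop
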