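import Groth.Agent.DualLib.RelTop.ArtCrit
import Groth.Agent.DualLib.RelTop.LevelSurj
import Groth.Agent.DualLib.RelTop.LiftFibre
import Groth.Agent.EGA43.FibDepth.LociLocal

/-!
# Relative `(S₂)` of a reflexive power and the infinitesimal neighbourhoods of a fibre
-/

set_option autoImplicit false
set_option backward.isDefEq.respectTransparency false
set_option linter.style.haveILetI false
set_option linter.unusedSectionVars false
set_option maxHeartbeats 1000000

universe u

open CategoryTheory CategoryTheory.Limits AlgebraicGeometry TopologicalSpace IsLocalRing TensorProduct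

namespace Groth.Agent.DualLib.RelTop

open Groth.Agent EGA43.DimFormula

/-- The kernel of the map to a quotient tensored with a module. -/
theorem one_tmul_eq_zero_iff {S R : Type u} [CommRing S] [CommRing R] [Algebra S R]
    (hs : Function.Surjective (algebraMap S R)) (M : Type u) [AddCommGroup M] [Module S M] (v : M) :
    (1 : R) ⊗ₜ[S] v = 0 ↔ v ∈ RingHom.ker (algebraMap S R) • (⊤ : Submodule S M) := by
  let I : Ideal S := RingHom.ker (algebraMap S R)
  let e2 : (S ⧸ I) ≃ₗ[S] R :=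
    { RingHom.quotientKerEquivOfSurjective (f := algebraMap S R) hs with
      map_smul' := fun c x => by
        obtain ⟨x, rfl⟩ := Ideal.Quotient.mk_surjective x
        show algebraMap S R (c * x) = c • algebraMap S R x
        rw [map_mul, Algebra.smul_def] }
  have h1 : (TensorProduct.congr e2 (LinearEquiv.refl S M)) ((1 : S ⧸ I) ⊗ₜ[S] v) = (1 : R) ⊗ₜ[S] v := by
    show algebraMap S R 1 ⊗ₜ[S] v = _
    rw [map_one]
  rw [← h1, LinearEquiv.map_eq_zero_iff, ← LinearEquiv.map_eq_zero_iff (TensorProduct.quotTensorEquivQuotSMul M I),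
    show (TensorProduct.quotTensorEquivQuotSMul M I) ((1 : S ⧸ I) ⊗ₜ[S] v) = Submodule.Quotient.mk v from by
      rw [show (1 : S ⧸ I) = Ideal.Quotient.mk I 1 from rfl]
      exact (TensorProduct.quotTensorEquivQuotSMul_mk_tmul I 1 v).trans (congrArg _ (one_smul S v)),
    Submodule.Quotient.mk_eq_zero]

/-- Serre's condition pulls back along isomorphisms. -/
theorem skAt_pullback_iso {X X' : Scheme.{u}} [IsLocallyNoetherian X] [IsLocallyNoetherian X'] (e : X ≅ X')
    {N : X'.Modules} (hN : Coh.IsCoh N) (k : ℕ) (v : X) (h : RelCanon.SkAt k N (e.hom v)) :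
    RelCanon.SkAt k ((Scheme.Modules.pullback e.hom).obj N) v := by
  let N' := (Scheme.Modules.pullback e.hom).obj N
  have hN' : Coh.IsCoh N' :=
    ⟨haveI := hN.1; EGA43.InjFibre.isQCoh_pullback e.hom N, Coherent.isFT_pullback_qcoh e.hom hN.1 hN.2⟩
  have hv : e.inv (e.hom v) = v := by
    rw [← Scheme.Hom.comp_apply, e.hom_inv_id]; rfl
  suffices key : RelCanon.SkAt k N' (e.inv (e.hom v)) by rwa [hv] at key
  let w := e.hom v
  let R := X.presheaf.stalk (e.inv w)
  let S := X'.presheaf.stalk w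
  letI : Algebra R S := (e.inv.stalkMap w).hom.toAlgebra
  haveI : IsLocalHom (algebraMap R S) := inferInstanceAs (IsLocalHom (e.inv.stalkMap w).hom)
  haveI : Module.Flat R S := Flat.stalkMap e.inv w
  haveI : Module.Finite R (N'.presheaf.stalk (e.inv w)) := AssSch12.finite_stalk hN' _
  refine hasSk_descend_module (S := S) (N'.presheaf.stalk (e.inv w)) k ?_
  let eP : ((Scheme.Modules.pullback e.inv).obj N').presheaf.stalk w ≃ₗ[S] S ⊗[R] N'.presheaf.stalk (e.inv w) :=
    ((ModStalk.pullbackStalkIso e.inv w).app N').toLinearEquiv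
  let i : (Scheme.Modules.pullback e.inv).obj N' ≅ N :=
    (Scheme.Modules.pullbackComp e.inv e.hom).app N ≪≫ (Scheme.Modules.pullbackCongr e.inv_hom_id).app N ≪≫
      (Scheme.Modules.pullbackId X').app N
  exact (EGA43.FibDepth.hasSk_congr (((DerSch.stalkFunctor X' w).mapIso i).toLinearEquiv.symm.trans eP) k).1 h

variable {A A' : Type u} [CommRing A] [IsNoetherianRing A] [CommRing A'] [IsNoetherianRing A'] {Y Y' : Scheme.{u}}
  [Y.Over (Spec (CommRingCat.of A))] [IsProper (Y ↘ Spec (CommRingCat.of A))] [Y'.Over (Spec (CommRingCat.of A'))]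
  (p : Y' ⟶ Y) (φ : A →+* A')
  (hp : IsPullback p (Y' ↘ Spec (CommRingCat.of A')) (Y ↘ Spec (CommRingCat.of A)) (Spec.map (CommRingCat.ofHom φ)))
  [IsPreimmersion (Spec.map (CommRingCat.ofHom φ))]
  (d : ℕ) (hS : RelCanon.IsSkMor (Y ↘ Spec (CommRingCat.of A)) 2) (hd : Cyc.HasRelDim (Y ↘ Spec (CommRingCat.of A)) d)
  (ω : Y.Modules) (hω : RelCanon.IsDualizingSheaf A Y d ω) (ω' : Y'.Modules)
  (hω' : RelCanon.IsDualizingSheaf A' Y' d ω') (Yo : Y.Opens)
  (hYo : (Yo : Set Y) ⊆ RelCanon.gorLocus (Y ↘ Spec (CommRingCat.of A)))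
  (y : Y) (y' : Y') (hy : p y' = y)
  (ht : ∀ t' : Spec (CommRingCat.of A'), Spec.map (CommRingCat.ofHom φ) t' = (Y ↘ Spec (CommRingCat.of A)) y)
  (hdim : ∀ x : Y, (Y ↘ Spec (CommRingCat.of A)) x = (Y ↘ Spec (CommRingCat.of A)) y → x ∉ Yo →
    (2 : WithBot ℕ∞) ≤ ringKrullDim
      (((Y ↘ Spec (CommRingCat.of A)).fiber ((Y ↘ Spec (CommRingCat.of A)) x)).presheaf.stalk
        ((Y ↘ Spec (CommRingCat.of A)).asFiber x)))

include hp ht hS hdim

omit hS in
/-- Dimension two of the fibres of the base change off the open. -/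
theorem two_le_dim_baseChange_fibre (t' : Spec (CommRingCat.of A')) (w : (Y' ↘ Spec (CommRingCat.of A')).fiber t')
    (hw : p ((Y' ↘ Spec (CommRingCat.of A')).fiberι t' w) ∉ Yo) :
    (2 : WithBot ℕ∞) ≤ ringKrullDim (((Y' ↘ Spec (CommRingCat.of A')).fiber t').presheaf.stalk w) := by
  let f := Y ↘ Spec (CommRingCat.of A)
  obtain ⟨e, he⟩ := exists_fibre_iso f _ p φ hp t' (f y) (ht t')
  obtain ⟨r⟩ := exists_stalk_ringEquiv e w
  have hev : f.fiberι (f y) (e.hom w) = p ((Y' ↘ Spec (CommRingCat.of A')).fiberι t' w) := by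
    rw [← Scheme.Hom.comp_apply, he, Scheme.Hom.comp_apply]
  rw [← ringKrullDim_eq_of_ringEquiv r, dim_fibre_pt f (f y) (e.hom w)]
  exact hdim _ (EGA43.Chevalley.apply_fiberι f _ _) (hev ▸ hw)

include hd hω hω' hYo hy

/-- **Relative `(S₂)` of a reflexive power passes to the infinitesimal neighbourhoods of the fibre.** -/
theorem relSkAt_baseChange_refPow (m : ℕ)
    (hF : RelCanon.RelSkAt (Y ↘ Spec (CommRingCat.of A)) 2 (RelCanon.refPowZ ω m) y) :
    RelCanon.RelSkAt (Y' ↘ Spec (CommRingCat.of A')) 2 (RelCanon.refPowZ ω' m) y' := by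
  haveI : ∀ (U V : Scheme.{u}) (j : U ⟶ V) [IsOpenImmersion j],
      PreservesFiniteLimits (Scheme.Modules.restrictFunctor j) := fun U V j _ =>
    DCat.PullPerf.preservesFiniteLimits_restrict j
  let f := Y ↘ Spec (CommRingCat.of A)
  let f' := Y' ↘ Spec (CommRingCat.of A')
  haveI : Flat f := hS.1
  haveI : IsNoetherianRing (CommRingCat.of A) := ‹IsNoetherianRing A›
  haveI : IsNoetherianRing (CommRingCat.of A') := ‹IsNoetherianRing A'›
  haveI : IsLocallyNoetherian Y := LocallyOfFiniteType.isLocallyNoetherian f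
  haveI : IsProper f' := MorphismProperty.of_isPullback hp ‹_›
  haveI : Flat f' := MorphismProperty.of_isPullback hp ‹Flat f›
  haveI : IsLocallyNoetherian Y' := LocallyOfFiniteType.isLocallyNoetherian f'
  let t' := f' y'
  let v := f'.asFiber y'
  haveI : LocallyOfFiniteType (f.fiberToSpecResidueField (f y)) :=
    MorphismProperty.pullback_snd _ _ inferInstance
  haveI : IsLocallyNoetherian (f.fiber (f y)) :=
    LocallyOfFiniteType.isLocallyNoetherian (f.fiberToSpecResidueField (f y))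
  haveI : LocallyOfFiniteType (f'.fiberToSpecResidueField t') :=
    MorphismProperty.pullback_snd _ _ inferInstance
  haveI : IsLocallyNoetherian (f'.fiber t') := LocallyOfFiniteType.isLocallyNoetherian (f'.fiberToSpecResidueField t')
  obtain ⟨e, he⟩ := exists_fibre_iso f f' p φ hp t' (f y) (ht t')
  have hev : e.hom v = f.asFiber y := by
    apply (f.fiberι (f y)).isEmbedding.injective
    rw [← Scheme.Hom.comp_apply, he, Scheme.Hom.comp_apply, f.fiberι_asFiber, f'.fiberι_asFiber, hy]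
  obtain ⟨hωc, -⟩ := isCoh_and_two_le_depth (A := A) (Y := Y) d hd ω hω
  have hω'c := isCoh_baseChange_dualizing p φ hp (f y) ht d hS hd ω hω ω' hω' Yo hYo
  obtain ⟨⟨ψ⟩, -, hGi⟩ := nonempty_pull_refPow_on p φ hp (f y) ht d hS hd ω hω ω' hω' Yo hYo m
  let F := RelCanon.refPowZ ω m
  have hFc : Coh.IsCoh F := isCoh_refPowNat hωc m
  let ι' := f'.fiberι t'
  let N := (Scheme.Modules.pullback (f.fiberι (f y))).obj F
  have hNc : Coh.IsCoh N :=
    ⟨haveI := hFc.1; EGA43.InjFibre.isQCoh_pullback _ F, Coherent.isFT_pullback_qcoh _ hFc.1 hFc.2⟩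
  let P := (Scheme.Modules.pullback p).obj F
  have hPc : Coh.IsCoh P :=
    ⟨haveI := hFc.1; EGA43.InjFibre.isQCoh_pullback p F, Coherent.isFT_pullback_qcoh p hFc.1 hFc.2⟩
  let P' := (Scheme.Modules.pullback ι').obj P
  have hP'c : Coh.IsCoh P' :=
    ⟨haveI := hPc.1; EGA43.InjFibre.isQCoh_pullback ι' P, Coherent.isFT_pullback_qcoh ι' hPc.1 hPc.2⟩
  have hsk : RelCanon.SkAt 2 P' v := by
    have h1 := skAt_pullback_iso e hNc 2 v (hev.symm ▸ hF.2)
    let i : (Scheme.Modules.pullback e.hom).obj N ≅ P' :=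
      (Scheme.Modules.pullbackComp e.hom (f.fiberι (f y))).app F ≪≫ (Scheme.Modules.pullbackCongr he).app F ≪≫
        ((Scheme.Modules.pullbackComp ι' p).app F).symm
    exact (EGA43.FibDepth.hasSk_congr ((DerSch.stalkFunctor (f'.fiber t') v).mapIso i).toLinearEquiv 2).1 h1
  have hPi : ∀ x : Y', x ∈ p ⁻¹ᵁ Yo → RelCanon.InvertibleAt P x := fun x hx =>
    invertibleAt_of_restrict_iso _ ψ x hx (hGi x hx)
  have hPflat : ∀ x : Y', x ∈ p ⁻¹ᵁ Yo → FlatMod.IsFlatOverAt f' P x := fun x hx => by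
    obtain ⟨c⟩ := exists_stalk_equiv_of_invertibleAt (hPi x hx)
    letI := (f'.stalkMap x).hom.toAlgebra
    letI := FlatMod.moduleStalkOver f' P x
    haveI : IsScalarTower ((Spec (CommRingCat.of A')).presheaf.stalk (f' x)) (Y'.presheaf.stalk x) (P.presheaf.stalk x) :=
      IsScalarTower.of_compHom _ _ _
    haveI : Module.Flat ((Spec (CommRingCat.of A')).presheaf.stalk (f' x)) (Y'.presheaf.stalk x) := Flat.stalkMap f' x
    exact Module.Flat.of_linearEquiv (c.restrictScalars ((Spec (CommRingCat.of A')).presheaf.stalk (f' x)))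
  have hne : ∀ x : f'.fiber t', x ⤳ v → x ∈ ι' ⁻¹ᵁ (p ⁻¹ᵁ Yo) → Nontrivial (P'.presheaf.stalk x) := fun x _ hx => by
    obtain ⟨W, hW, ⟨eW⟩⟩ := hPi (ι' x) hx
    obtain ⟨eW'⟩ := nonempty_pull_restrict ι' W (M := P) (N := Coh.structureModule Y')
      (eW ≪≫ (Scheme.Modules.restrictUnitIso W.ι).symm)
    obtain ⟨c⟩ := exists_stalk_equiv_of_invertibleAt (F := P') (x := x) ⟨ι' ⁻¹ᵁ W, hW,
      ⟨eW' ≪≫ (Scheme.Modules.restrictFunctor (ι' ⁻¹ᵁ W).ι).mapIso (PicLoc.pullbackStructureIso ι') ≪≫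
        Scheme.Modules.restrictUnitIso _⟩⟩
    exact c.toEquiv.nontrivial
  have h2 := two_le_depth_of_skAt hP'c v hsk (ι' ⁻¹ᵁ (p ⁻¹ᵁ Yo))
    (fun w _ hw => two_le_dim_baseChange_fibre p φ hp Yo y ht hdim t' w hw) hne
  obtain ⟨hfl, hdep⟩ := flat_and_depth f' P hPc t' v (p ⁻¹ᵁ Yo) (fun x _ hx => hPflat x hx) fun q hq => by
    rw [depth_toPt P' hP'c.1 v q]
    exact h2 _ (toPt_specializes v q) hq
  have hT' : Coh.IsCoh (RefHull.dual (CohB1.tensorPow ω' m)) :=
    RefHullLib.isCoh_dual (isCoh_tensorPow hω'c m) (Coherent.isCoh_structureModule Y')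
  obtain ⟨a⟩ := nonempty_stalk_equiv_of_restrict hPc (isCoh_refPowNat hω'c m) (p ⁻¹ᵁ Yo) ψ (ι' v) hdep
    fun w _ hw => two_le_depth_dual hT' w (two_le_depth_baseChange f f' p φ hp (f y) ht hS Yo hdim w hw)
  obtain ⟨hfl', hsk'⟩ := relSkAt_of_stalk_equiv f' t' v a hfl hsk
  exact ⟨(f'.fiberι_asFiber y') ▸ hfl', hsk'⟩

/-- **Relative `(S₂)` on a neighbourhood of the fibre makes the restriction to the fibre onto.** -/
theorem surjective_restrict_level (m n : ℕ)
    (hker : RingHom.ker (p.stalkMap y').hom =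
      ((maximalIdeal ((Spec (CommRingCat.of A)).presheaf.stalk ((Y ↘ Spec (CommRingCat.of A)) (p y')))).map
        ((Y ↘ Spec (CommRingCat.of A)).stalkMap (p y')).hom) ^ (n + 1))
    (hG : RelCanon.RelSkAt (Y' ↘ Spec (CommRingCat.of A')) 2 (RelCanon.refPowZ ω' m) y') :
    letI := ((Y ↘ Spec (CommRingCat.of A)).stalkMap y).hom.toAlgebra
    Function.Surjective fun h : (RefHull.dual (CohB1.tensorPow ω m)).presheaf.stalk y →ₗ[Y.presheaf.stalk y]
        Y.presheaf.stalk y ⧸ mB ((Spec (CommRingCat.of A)).presheaf.stalk ((Y ↘ Spec (CommRingCat.of A)) y))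
          (Y.presheaf.stalk y) ^ (n + 1) =>
      Submodule.factor ((Ideal.pow_le_pow_right (Nat.le_add_left 1 n)).trans
        (pow_one (mB ((Spec (CommRingCat.of A)).presheaf.stalk ((Y ↘ Spec (CommRingCat.of A)) y))
          (Y.presheaf.stalk y))).le) ∘ₗ h := by
  haveI : ∀ (U V : Scheme.{u}) (j : U ⟶ V) [IsOpenImmersion j],
      PreservesFiniteLimits (Scheme.Modules.restrictFunctor j) := fun U V j _ =>
    DCat.PullPerf.preservesFiniteLimits_restrict j
  subst hy
  let f := Y ↘ Spec (CommRingCat.of A)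
  let f' := Y' ↘ Spec (CommRingCat.of A')
  haveI : Flat f := hS.1
  haveI : IsNoetherianRing (CommRingCat.of A) := ‹IsNoetherianRing A›
  haveI : IsNoetherianRing (CommRingCat.of A') := ‹IsNoetherianRing A'›
  haveI : IsLocallyNoetherian Y := LocallyOfFiniteType.isLocallyNoetherian f
  haveI : IsProper f' := MorphismProperty.of_isPullback hp ‹_›
  haveI : IsLocallyNoetherian Y' := LocallyOfFiniteType.isLocallyNoetherian f'
  haveI : IsPreimmersion p := MorphismProperty.of_isPullback hp.flip ‹IsPreimmersion _›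
  let t' := f' y'
  let v := f'.asFiber y'
  haveI : LocallyOfFiniteType (f'.fiberToSpecResidueField t') :=
    MorphismProperty.pullback_snd _ _ inferInstance
  haveI : IsLocallyNoetherian (f'.fiber t') := LocallyOfFiniteType.isLocallyNoetherian (f'.fiberToSpecResidueField t')
  obtain ⟨hωc, -⟩ := isCoh_and_two_le_depth (A := A) (Y := Y) d hd ω hω
  have hω'c := isCoh_baseChange_dualizing p φ hp (f (p y')) ht d hS hd ω hω ω' hω' Yo hYo
  obtain ⟨-, -, hGi⟩ := nonempty_pull_refPow_on p φ hp (f (p y')) ht d hS hd ω hω ω' hω' Yo hYo m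
  obtain ⟨-, hinv⟩ := gor_open_and_invertible A Y d hd ω hω
  have hT : Coh.IsCoh (CohB1.tensorPow ω m) := isCoh_tensorPow hωc m
  let D₀ := RefHull.dual (CohB1.tensorPow ω m)
  have hD₀ : Coh.IsCoh D₀ := RefHullLib.isCoh_dual hT (Coherent.isCoh_structureModule Y)
  let G := RelCanon.refPowZ ω' m
  have hGc : Coh.IsCoh G := isCoh_refPowNat hω'c m
  -- the closed fibre of the base change
  let ι' := f'.fiberι t'
  have hv : ι' v = y' := f'.fiberι_asFiber y'
  obtain ⟨e, he⟩ := exists_fibre_iso f f' p φ hp t' (f (p y')) (ht t')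
  haveI : LocallyOfFiniteType (f.fiberToSpecResidueField (f (p y'))) :=
    MorphismProperty.pullback_snd _ _ inferInstance
  -- the stalk maps
  let R := (f'.fiber t').presheaf.stalk v
  have hkι : ∀ j : f'.fiber t' ⟶ Y, j = e.hom ≫ f.fiberι (f (p y')) →
      RingHom.ker (j.stalkMap v).hom =
        (maximalIdeal ((Spec (CommRingCat.of A)).presheaf.stalk (f (j v)))).map (f.stalkMap (j v)).hom := by
    intro j hj
    subst hj
    rw [Scheme.Hom.stalkMap_comp, CommRingCat.hom_comp, RingHom.ker_comp_of_injective _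
      (ConcreteCategory.bijective_of_isIso (e.hom.stalkMap v)).1]
    exact (Props12.stalkMap_fiberι f (f (p y')) (e.hom v)).2
  have hkerI := hkι (ι' ≫ p) he.symm
  obtain ⟨b⟩ := nonempty_hom_stalk_equiv p φ hp (f (p y')) ht d hS hd ω hω ω' hω' Yo hYo hdim m (ι' v)
  let N := (Scheme.Modules.pullback ι').obj G
  have hNc : Coh.IsCoh N :=
    ⟨haveI := hGc.1; EGA43.InjFibre.isQCoh_pullback ι' G, Coherent.isFT_pullback_qcoh ι' hGc.1 hGc.2⟩
  have hNi : ∀ x : f'.fiber t', x ⤳ v → x ∈ ι' ⁻¹ᵁ (p ⁻¹ᵁ Yo) → Nontrivial (N.presheaf.stalk x) := fun x _ hx => by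
    obtain ⟨W, hW, ⟨eW⟩⟩ := hGi (ι' x) hx
    obtain ⟨eW'⟩ := nonempty_pull_restrict ι' W (M := G) (N := Coh.structureModule Y')
      (eW ≪≫ (Scheme.Modules.restrictUnitIso W.ι).symm)
    obtain ⟨c⟩ := exists_stalk_equiv_of_invertibleAt (F := N) (x := x) ⟨ι' ⁻¹ᵁ W, hW,
      ⟨eW' ≪≫ (Scheme.Modules.restrictFunctor (ι' ⁻¹ᵁ W).ι).mapIso (PicLoc.pullbackStructureIso ι') ≪≫
        Scheme.Modules.restrictUnitIso _⟩⟩
    exact c.toEquiv.nontrivial
  have h2N := two_le_depth_of_skAt hNc v hG.2 (ι' ⁻¹ᵁ (p ⁻¹ᵁ Yo))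
    (fun w _ hw => two_le_dim_baseChange_fibre p φ hp Yo (p y') ht hdim t' w hw) hNi
  -- everything at the point `p (ι' v)`
  suffices hmain : ∀ (x : Y'), x = ι' v →
      letI := (f.stalkMap (p x)).hom.toAlgebra
      Function.Surjective fun h : D₀.presheaf.stalk (p x) →ₗ[Y.presheaf.stalk (p x)]
          Y.presheaf.stalk (p x) ⧸ mB ((Spec (CommRingCat.of A)).presheaf.stalk (f (p x)))
            (Y.presheaf.stalk (p x)) ^ (n + 1) =>
        Submodule.factor ((Ideal.pow_le_pow_right (Nat.le_add_left 1 n)).trans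
          (pow_one (mB ((Spec (CommRingCat.of A)).presheaf.stalk (f (p x))) (Y.presheaf.stalk (p x)))).le) ∘ₗ h from
    hmain y' hv.symm
  intro x hx
  subst hx
  let B₁ := Y.presheaf.stalk (p (ι' v))
  let O₁ := (Spec (CommRingCat.of A)).presheaf.stalk (f (p (ι' v)))
  letI : Algebra O₁ B₁ := (f.stalkMap (p (ι' v))).hom.toAlgebra
  let S := Y'.presheaf.stalk (ι' v)
  letI : Algebra B₁ S := (p.stalkMap (ι' v)).hom.toAlgebra
  letI : Algebra S R := (ι'.stalkMap v).hom.toAlgebra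
  letI : Algebra B₁ R := ((ι' ≫ p).stalkMap v).hom.toAlgebra
  haveI : IsScalarTower B₁ S R := IsScalarTower.of_algebraMap_eq' (by
    show ((ι' ≫ p).stalkMap v).hom = _
    rw [Scheme.Hom.stalkMap_comp]; rfl)
  have hSs : Function.Surjective (algebraMap B₁ S) := p.stalkMap_surjective (ι' v)
  have hRs : Function.Surjective (algebraMap S R) := ι'.stalkMap_surjective v
  have hBR : Function.Surjective (algebraMap B₁ R) := by
    rw [IsScalarTower.algebraMap_eq B₁ S R]; exact hRs.comp hSs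
  have hkR : RingHom.ker (algebraMap B₁ R) = mB O₁ B₁ := hkerI
  have hkS : RingHom.ker (algebraMap B₁ S) = mB O₁ B₁ ^ (n + 1) := by
    have hk0 : ∀ x : Y', x = y' → RingHom.ker (p.stalkMap x).hom =
        ((maximalIdeal ((Spec (CommRingCat.of A)).presheaf.stalk (f (p x)))).map (f.stalkMap (p x)).hom) ^ (n + 1) := by
      intro x hx
      subst hx
      exact hker
    exact hk0 _ hv
  let D₁ := D₀.presheaf.stalk (p (ι' v))
  haveI : Module.Finite B₁ D₁ := AssSch12.finite_stalk hD₀ _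
  let eS : (B₁ ⧸ mB O₁ B₁ ^ (n + 1)) ≃ₗ[B₁] S :=
    (Submodule.quotEquivOfEq _ _ hkS.symm).trans
      { RingHom.quotientKerEquivOfSurjective (f := algebraMap B₁ S) hSs with
        map_smul' := fun c x => by
          obtain ⟨x, rfl⟩ := Ideal.Quotient.mk_surjective x
          show algebraMap B₁ S (c * x) = c • algebraMap B₁ S x
          rw [map_mul, Algebra.smul_def] }
  let eR : (B₁ ⧸ mB O₁ B₁) ≃ₗ[B₁] R :=
    (Submodule.quotEquivOfEq _ _ hkR.symm).trans
      { RingHom.quotientKerEquivOfSurjective (f := algebraMap B₁ R) hBR with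
        map_smul' := fun c x => by
          obtain ⟨x, rfl⟩ := Ideal.Quotient.mk_surjective x
          show algebraMap B₁ R (c * x) = c • algebraMap B₁ R x
          rw [map_mul, Algebra.smul_def] }
  let Gs := G.presheaf.stalk (ι' v)
  let L := D₁ →ₗ[B₁] B₁ ⧸ mB O₁ B₁ ^ (n + 1)
  let Ns := N.presheaf.stalk v
  letI : Module B₁ Gs := Module.compHom _ (algebraMap B₁ S)
  haveI : IsScalarTower B₁ S Gs := IsScalarTower.of_algebraMap_smul fun _ _ => rfl
  let c : L ≃ₗ[B₁] Gs := (LinearEquiv.arrowCongr (LinearEquiv.refl B₁ D₁) eS).trans (b.restrictScalars B₁)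
  let eP : Ns ≃ₗ[R] R ⊗[S] Gs := ((ModStalk.pullbackStalkIso ι' v).app G).toLinearEquiv
  letI : Module B₁ Ns := Module.compHom _ (algebraMap B₁ R)
  haveI : IsScalarTower B₁ R Ns := IsScalarTower.of_algebraMap_smul fun _ _ => rfl
  let j : L →ₗ[B₁] Ns :=
    { toFun := fun h => eP.symm ((1 : R) ⊗ₜ[S] c h)
      map_add' := fun h h' => by rw [map_add, TensorProduct.tmul_add, map_add]
      map_smul' := fun a h => by
        show eP.symm ((1 : R) ⊗ₜ[S] c (a • h)) = algebraMap B₁ R a • eP.symm ((1 : R) ⊗ₜ[S] c h)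
        rw [map_smul, ← map_smul eP.symm]
        congr 1
        rw [← algebraMap_smul S a (c h), TensorProduct.tmul_smul, ← algebraMap_smul R (algebraMap B₁ S a),
          ← IsScalarTower.algebraMap_apply] }
  have hjs : Function.Surjective j := fun w => by
    obtain ⟨g, hg⟩ := TensorProduct.mk_surjective S Gs R hRs (eP w)
    refine ⟨c.symm g, ?_⟩
    show eP.symm ((1 : R) ⊗ₜ[S] c (c.symm g)) = w
    rw [c.apply_symm_apply, show (1 : R) ⊗ₜ[S] g = eP w from hg, eP.symm_apply_apply]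
  have hjk : LinearMap.ker j = mB O₁ B₁ • (⊤ : Submodule B₁ L) := by
    have hmap : RingHom.ker (algebraMap S R) = (mB O₁ B₁).map (algebraMap B₁ S) := by
      rw [← hkR, IsScalarTower.algebraMap_eq B₁ S R, ← RingHom.comap_ker, Ideal.map_comap_of_surjective _ hSs]
    ext h
    rw [LinearMap.mem_ker, show j h = eP.symm ((1 : R) ⊗ₜ[S] c h) from rfl, LinearEquiv.map_eq_zero_iff,
      one_tmul_eq_zero_iff hRs Gs, hmap, ← Submodule.restrictScalars_mem B₁, Ideal.smul_restrictScalars,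
      Submodule.restrictScalars_top,
      show mB O₁ B₁ • (⊤ : Submodule B₁ Gs) = (mB O₁ B₁ • (⊤ : Submodule B₁ L)).map c.toLinearMap from by
        rw [Submodule.map_smul'', Submodule.map_top, LinearEquiv.range]]
    rw [Submodule.mem_map_equiv, c.symm_apply_apply]
  haveI : Module.Finite R Ns := AssSch12.finite_stalk hNc v
  let J₁ := outIdeal Yo (p (ι' v))
  have hpts : ∀ (q : Ideal R) (hq : q.IsPrime), J₁.map (algebraMap B₁ R) ≤ q →
      p (ι' (toPt v ⟨q, hq⟩)) ∉ Yo := by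
    intro q hq hJ
    have h := (outIdeal_le_iff Yo _ (PrimeSpectrum.comap ((ι' ≫ p).stalkMap v).hom ⟨q, hq⟩)).1
      (Ideal.map_le_iff_le_comap.1 hJ)
    rw [← apply_toPt (ι' ≫ p) v ⟨q, hq⟩] at h
    exact h
  have hfree₁ : ∀ q : Ideal B₁, ∀ [q.IsPrime], ¬J₁ ≤ q →
      Module.Free (Localization.AtPrime q) (LocalizedModule q.primeCompl D₁) := by
    intro q hq hJ
    refine free_localized_stalk hD₀ _ ⟨q, hq⟩ (invertibleAt_dual hT _
      (invertibleAt_tensorPow Yo ω (fun x hx => hinv x (hYo hx)) m _ ?_))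
    by_contra hx
    exact hJ ((outIdeal_le_iff Yo _ ⟨q, hq⟩).2 hx)
  have hR : ∀ q : Ideal B₁, ∀ [q.IsPrime], J₁ ≤ q → mB O₁ B₁ ≤ q → (2 : ℕ∞) ≤ locDepth q (B₁ ⧸ mB O₁ B₁) := by
    intro q hq hJ _
    refine le_locDepth_of_surjective hBR J₁ 2 R (B₁ ⧸ mB O₁ B₁) eR (fun q' hq' hJ' => ?_) q hJ
    rw [← CAlgH3.depth_congr (LinearEquiv.ofBijective (LocalizedModule.map q'.primeCompl
      (SDiv28.unitStalkEquiv (X := f'.fiber t') v).symm.toLinearMap)
        ⟨LocalizedModule.map_injective _ _ (LinearEquiv.injective _),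
          LocalizedModule.map_surjective _ _ (LinearEquiv.surjective _)⟩),
      depth_toPt (Coh.structureModule (f'.fiber t')) (Coherent.isCoh_structureModule _).1 v ⟨q', hq'⟩,
      ← CAlgH3.depth_congr (SDiv28.unitStalkEquiv (X := f'.fiber t') _)]
    exact two_le_depth_baseChange_fibre f f' p φ hp _ ht hS Yo hdim t' _ (hpts q' hq' hJ')
  refine surjective_restrict_of_fibre_depth J₁ D₁ hfree₁ hR n fun q hq hJ _ => ?_
  refine le_locDepth_of_surjective hBR J₁ 2 Ns _
    ((Submodule.quotEquivOfEq _ _ hjk.symm).trans (j.quotKerEquivOfSurjective hjs)) (fun q' hq' hJ' => ?_) q hJ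
  rw [depth_toPt N hNc.1 v ⟨q', hq'⟩]
  exact h2N _ (toPt_specializes v _) (hpts q' hq' hJ')

end Groth.Agent.DualLib.RelTop
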