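import Groth.Agent.DualLib.RelTop.Fibre
import Groth.Agent.DCat.LTensorSheaf
import Groth.Agent.DQCoh.Local
import Groth.Agent.EGA43.Chevalley.Fibre
import Groth.Agent.EGA43.CMChart.Main

/-!
# The relative dualizing sheaf restricts to that of a fibre on the Cohen–Macaulay locus
-/

set_option autoImplicit false
set_option backward.isDefEq.respectTransparency false
set_option backward.defeqAttrib.useBackward true
set_option linter.style.haveILetI false
set_option linter.unusedSectionVars false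
set_option synthInstance.maxHeartbeats 200000
set_option maxHeartbeats 1000000

universe u

open CategoryTheory CategoryTheory.Limits CategoryTheory.Pretriangulated DerivedCategory AlgebraicGeometry
open Groth.Agent.DCat

attribute [local instance] HasDerivedCategory.standard
attribute [-instance] Int.instConditionallyCompleteLinearOrder

namespace Groth.Agent.DualLib.RelTop

variable [∀ (U V : Scheme.{u}) (j : U ⟶ V) [IsOpenImmersion j], PreservesFiniteLimits (Scheme.Modules.restrictFunctor j)]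

/-- The bottom cohomology of a direct image. -/
theorem nonempty_bottom_Rpush {X Y : Scheme.{u}} (ι : X ⟶ Y) [IsAffineHom ι] [DCoh.HasRpush ι] (K : DCoh.D X) (m : ℤ)
    [K.IsGE m] (hK : Coh.IsQCoh (DCoh.HD K m)) :
    Nonempty (DCoh.HD ((DCoh.Rpush ι).obj K) m ≅ (Scheme.Modules.pushforward ι).obj (DCoh.HD K m)) := by
  let t := DerivedCategory.TStructure.t (C := X.Modules)
  let N := (t.truncLT (m + 1)).obj K
  let C := (t.truncGE (m + 1)).obj K
  have hT := t.triangleLTGE_distinguished (m + 1) K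
  haveI hC : C.IsGE (m + 1) := t.isGE_truncGE_obj ..
  haveI hNle : N.IsLE m := t.isLE_truncLT_obj _ _ _ (by omega)
  haveI hNge : N.IsGE m := by
    haveI : (C⟦(-1 : ℤ)⟧).IsGE (m + 2) := t.isGE_shift _ (m + 1) (-1) (m + 2) (by omega)
    exact t.isGE₂ _ (inv_rot_of_distTriang _ hT) m (t.isGE_of_ge (C⟦(-1 : ℤ)⟧) m (m + 2) (by omega))
      (inferInstanceAs (K.IsGE m))
  let j : N ⟶ K := (t.truncLTι (m + 1)).app K
  haveI : IsIso ((homologyFunctor X.Modules m).map j) := by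
    haveI : Mono ((homologyFunctor X.Modules m).map j) :=
      (HomologySequence.mono_homologyMap_mor₁_iff _ hT (m - 1) m (by omega)).2
        ((isZero_of_isGE C (m + 1) (m - 1) (by omega)).eq_of_src _ _)
    haveI : Epi ((homologyFunctor X.Modules m).map j) :=
      (HomologySequence.epi_homologyMap_mor₁_iff _ hT m).2 ((isZero_of_isGE C (m + 1) m (by omega)).eq_of_tgt _ _)
    exact isIso_of_mono_of_epi _
  obtain ⟨_, _⟩ := DCat.exists_commShift_Rpush ι
  have hT' := (DCoh.Rpush ι).map_distinguished _ hT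
  haveI : ((DCoh.Rpush ι).obj C).IsGE (m + 1) := Dual22Lib.RepLib.isGE_Rpush ι C (m + 1)
  haveI : IsIso ((homologyFunctor Y.Modules m).map ((DCoh.Rpush ι).map j)) := by
    haveI : Mono ((homologyFunctor Y.Modules m).map ((DCoh.Rpush ι).map j)) :=
      (HomologySequence.mono_homologyMap_mor₁_iff _ hT' (m - 1) m (by omega)).2
        ((isZero_of_isGE ((DCoh.Rpush ι).obj C) (m + 1) (m - 1) (by omega)).eq_of_src _ _)
    haveI : Epi ((homologyFunctor Y.Modules m).map ((DCoh.Rpush ι).map j)) :=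
      (HomologySequence.epi_homologyMap_mor₁_iff _ hT' m).2
        ((isZero_of_isGE ((DCoh.Rpush ι).obj C) (m + 1) m (by omega)).eq_of_tgt _ _)
    exact isIso_of_mono_of_epi _
  obtain ⟨F, ⟨eN⟩⟩ := exists_iso_singleFunctor_obj_of_isGE_of_isLE N m
  let eF : DCoh.HD K m ≅ F :=
    (asIso ((homologyFunctor X.Modules m).map j)).symm ≪≫ (homologyFunctor X.Modules m).mapIso eN ≪≫
      (singleFunctorCompHomologyFunctorIso X.Modules m).app F
  haveI : Coh.IsQCoh F := Coherent.isQCoh_of_iso eF (h := hK)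
  obtain ⟨eP⟩ := DQCoh.nonempty_Rpush_inD ι F
  let eN' : N ≅ (DCoh.inD X F)⟦-m⟧ :=
    eN ≪≫ ((singleFunctors X.Modules).shiftIso (-m) m 0 (by omega)).symm.app F
  let ePush : (DCoh.Rpush ι).obj N ≅ (singleFunctor Y.Modules m).obj ((Scheme.Modules.pushforward ι).obj F) :=
    (DCoh.Rpush ι).mapIso eN' ≪≫ ((DCoh.Rpush ι).commShiftIso (-m)).app _ ≪≫
      (shiftFunctor _ (-m)).mapIso eP ≪≫
      ((singleFunctors Y.Modules).shiftIso (-m) m 0 (by omega)).app _
  exact ⟨(asIso ((homologyFunctor Y.Modules m).map ((DCoh.Rpush ι).map j))).symm ≪≫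
    (homologyFunctor Y.Modules m).mapIso ePush ≪≫ (singleFunctorCompHomologyFunctorIso Y.Modules m).app _ ≪≫
    (Scheme.Modules.pushforward ι).mapIso eF.symm⟩

/-- Tensor products only depend on the complex up to quasi-isomorphism. -/
theorem nonempty_LTensor_quasiIso {X : Scheme.{u}} {N₂ N₁ : CochainComplex X.Modules ℤ} (q : N₂ ⟶ N₁) [QuasiIso q]
    (h₂ : IsKFlatFor (shT X) N₂) (h₁ : IsKFlatFor (shT X) N₁) [DCoh.HasLTensorCx N₂] [DCoh.HasLTensorCx N₁]
    (Z : DCoh.D X) : Nonempty ((DCoh.LTensorCx N₂).obj Z ≅ (DCoh.LTensorCx N₁).obj Z) := by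
  obtain ⟨P, hP, ⟨e⟩⟩ := DCat.PullPerf.exists_kflat_rep Z
  haveI := LTensorSheaf.isIso_counit_of_right h₂ P
  haveI := LTensorSheaf.isIso_counit_of_right h₁ P
  haveI hq : QuasiIso (totMap₂ (shT X) P q) := by
    rw [ModStalk.quasiIso_iff_stalks]
    intro x
    haveI := (ModStalk.quasiIso_iff_stalks q).1 inferInstance x
    haveI := quasiIso_tot_of_kflat ((isKFlatFor_iff_stalks N₂).1 h₂ x) ((isKFlatFor_iff_stalks N₁).1 h₁ x)
      ((ModStalk.stalkK x).map q) ((ModStalk.stalkK x).obj P)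
    have e' := stalkTotIso_natural x (𝟙 P) q
    rw [CategoryTheory.Functor.map_id] at e'
    refine (quasiIso_iff_comp_right _ (stalkTotIso x P N₁).hom).1 ?_
    refine (congrArg (fun t => QuasiIso t) e').mpr ?_
    haveI : QuasiIso (HomologicalComplex.mapBifunctorMap (𝟙 ((ModStalk.stalkK x).obj P)) ((ModStalk.stalkK x).map q)
        (modT (X.presheaf.stalk x)) (ComplexShape.up ℤ)) := ‹QuasiIso (totMap₂ (modT (X.presheaf.stalk x)) _ _)›
    infer_instance
  haveI : IsIso (DerivedCategory.Q.map (totMap₂ (shT X) P q)) :=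
    Localization.inverts DerivedCategory.Q (HomologicalComplex.quasiIso X.Modules (ComplexShape.up ℤ)) _
      ((HomologicalComplex.mem_quasiIso_iff _).2 hq)
  exact ⟨(DCoh.LTensorCx N₂).mapIso e.symm ≪≫ asIso ((LTensorSheaf.counit N₂).app P) ≪≫
    asIso (DerivedCategory.Q.map (totMap₂ (shT X) P q)) ≪≫
    (asIso ((LTensorSheaf.counit N₁).app P)).symm ≪≫ (DCoh.LTensorCx N₁).mapIso e⟩

variable (A : Type u) [CommRing A] [IsNoetherianRing A] (Y : Scheme.{u}) [Y.Over (Spec (CommRingCat.of A))]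
  [IsProper (Y ↘ Spec (CommRingCat.of A))] [Flat (Y ↘ Spec (CommRingCat.of A))] (d : ℕ)
  (hd : Cyc.HasRelDim (Y ↘ Spec (CommRingCat.of A)) d)

include hd

/-- **Base change to a fibre on the Cohen–Macaulay locus.** -/
theorem nonempty_fibre_iso_on_cm (ω : Y.Modules) (hω : RelCanon.IsDualizingSheaf A Y d ω) (U : Y.Opens)
    (hU : ∀ y ∈ U, MoreMor.IsCMAt (Y ↘ Spec (CommRingCat.of A)) y) (t : Spec (CommRingCat.of A))
    (ωt : ((Y ↘ Spec (CommRingCat.of A)).fiber t).Modules)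
    (hωt : @RelCanon.IsDualizingSheaf ((Spec (CommRingCat.of A)).residueField t) _
      ((Y ↘ Spec (CommRingCat.of A)).fiber t) ⟨(Y ↘ Spec (CommRingCat.of A)).fiberToSpecResidueField t⟩ d ωt) :
    Nonempty (ωt.restrict (((Y ↘ Spec (CommRingCat.of A)).fiberι t) ⁻¹ᵁ U).ι ≅
      ((Scheme.Modules.pullback ((Y ↘ Spec (CommRingCat.of A)).fiberι t)).obj ω).restrict
        (((Y ↘ Spec (CommRingCat.of A)).fiberι t) ⁻¹ᵁ U).ι) := by
  let f := Y ↘ Spec (CommRingCat.of A)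
  let T := Spec (CommRingCat.of A)
  let k := T.residueField t
  let T' := Spec (CommRingCat.of k)
  let g : T' ⟶ T := T.fromSpecResidueField t
  let Y' := f.fiber t
  let ι : Y' ⟶ Y := f.fiberι t
  let f' : Y' ⟶ T' := f.fiberToSpecResidueField t
  have hsq : IsPullback ι f' f g := IsPullback.of_hasPullback _ _
  haveI : IsNoetherianRing (CommRingCat.of A) := ‹IsNoetherianRing A›
  haveI : IsNoetherian T := {}
  haveI : IsAffineHom g := inferInstance
  haveI : IsAffineHom ι := MorphismProperty.of_isPullback hsq.flip ‹IsAffineHom g›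
  haveI : IsProper f' := MorphismProperty.of_isPullback hsq ‹_›
  haveI : IsPreimmersion ι := inferInstanceAs (IsPreimmersion (f.fiberι t))
  letI : Y'.Over T' := ⟨f'⟩
  haveI : IsProper (Y' ↘ T') := ‹IsProper f'›
  haveI : IsNoetherianRing k := inferInstance
  haveI : CompactSpace Y := QuasiCompact.compactSpace_of_compactSpace f
  haveI : QuasiSeparatedSpace Y := quasiSeparatedSpace_of_quasiSeparated f
  haveI : CompactSpace Y' := QuasiCompact.compactSpace_of_compactSpace f'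
  haveI : QuasiSeparatedSpace Y' := quasiSeparatedSpace_of_quasiSeparated f'
  haveI : IsLocallyNoetherian Y := LocallyOfFiniteType.isLocallyNoetherian f
  haveI : LocallyOfFinitePresentation f := LocallyOfFinitePresentation.iff_locallyOfFiniteType.2 inferInstance
  haveI : ∀ (S : CommRingCat.{u}), PreservesFiniteLimits (tilde.functor S) :=
    Groth.Agent.AffSchLib.preservesFiniteLimits_tilde
  let j : (U : Scheme.{u}) ⟶ Y := U.ι
  let U' : Y'.Opens := ι ⁻¹ᵁ U
  let j' : (U' : Scheme.{u}) ⟶ Y' := U'.ι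
  let ιU : (U' : Scheme.{u}) ⟶ (U : Scheme.{u}) := ι ∣_ U
  have hjU : ιU ≫ j = j' ≫ ι := morphismRestrict_ι ι U
  haveI := DCat.hasRpush f
  haveI := DCat.hasRpush f'
  haveI : DCoh.HasRpush (Y' ↘ T') := DCat.hasRpush _
  haveI := DCat.hasRpush g
  haveI := DCat.hasRpush ι
  haveI := DCat.hasLpull f
  haveI := DCat.hasLpull g
  haveI := DCat.hasLpull j
  haveI := DCat.hasLpull ιU
  have hf : DCoh.RpushPreservesQCoh f := fun K hK => DQCoh.isQCohD_Rpush f K hK
  have hf' : DCoh.RpushPreservesQCoh f' := fun K hK => DQCoh.isQCohD_Rpush f' K hK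
  have hg : DCoh.RpushPreservesQCoh g := fun K hK => DQCoh.isQCohD_Rpush g K hK
  have hι : DCoh.RpushPreservesQCoh ι := fun K hK => DQCoh.isQCohD_Rpush ι K hK
  haveI := Dual22Lib.AdjGeom.isLeftAdjoint_RpushQ f hf
  haveI := Dual22Lib.AdjGeom.isLeftAdjoint_RpushQ f' hf'
  let a := (DCoh.RpushQ f hf).rightAdjoint
  let adj : DCoh.RpushQ f hf ⊣ a := Adjunction.ofIsLeftAdjoint _
  let a' := (DCoh.RpushQ f' hf').rightAdjoint
  let adj' : DCoh.RpushQ f' hf' ⊣ a' := Adjunction.ofIsLeftAdjoint _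
  haveI : Coh.IsQCoh (Coh.structureModule T) := Coherent.isQCoh_structureModule
  haveI : Coh.IsQCoh (Coh.structureModule T') := Coherent.isQCoh_structureModule
  let O : DCoh.DQCoh T := ⟨DCoh.inD T (Coh.structureModule T), FlatBC14.isQCohD_inD _⟩
  let O' : DCoh.DQCoh T' := ⟨DCoh.inD T' (Coh.structureModule T'), FlatBC14.isQCohD_inD _⟩
  obtain ⟨hdual, -⟩ := isDualizingSheaf_HD (fibre_dim_le f d hd) hf a adj O ⟨Iso.refl _⟩
  obtain ⟨eω⟩ := nonempty_iso_of_isDualizingSheaf hdual hω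
  have hfib' : ∀ y, topologicalKrullDim ((Y' ↘ T').fiber y) ≤ (d : WithBot ℕ∞) := fun y =>
    (((Y' ↘ T').fiberι y).isEmbedding.isInducing.topologicalKrullDim_le).trans (fibre_dim_le f d hd t)
  obtain ⟨hdual', hge'⟩ := isDualizingSheaf_HD (A := k) (X := Y') hfib' hf' a' adj' O' ⟨Iso.refl _⟩
  obtain ⟨eωt⟩ := nonempty_iso_of_isDualizingSheaf hdual' hωt
  let K' := (a'.obj O').obj
  haveI : K'.IsGE (-(d : ℤ)) := hge'
  obtain ⟨eB⟩ := nonempty_bottom_Rpush ι K' (-(d : ℤ)) ((a'.obj O').property _)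
  let eι : (Scheme.Modules.pushforward ι).obj ωt ≅ DCoh.HD ((DCoh.Rpush ι).obj K') (-(d : ℤ)) :=
    (Scheme.Modules.pushforward ι).mapIso eωt.symm ≪≫ eB.symm
  -- base change
  obtain ⟨e, hξ⟩ := Groth.Agent.S3602.result Y T Y' T' f g f' ι hsq (Or.inl ‹_›) hf hf' hg hι a a' adj adj'
  haveI := hξ O'
  let eξ : (DCoh.Rpush ι).obj K' ≅ (a.obj ((DCoh.RpushQ g hg).obj O')).obj :=
    (ObjectProperty.ι DCoh.IsQCohD).mapIso (asIso (Dual3.xi adj adj' e O'))
  obtain ⟨eK⟩ := DQCoh.nonempty_Rpush_inD g (Coh.structureModule T')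
  obtain ⟨N, hNk, ⟨eN⟩⟩ := DCat.PullPerf.exists_kflat_rep (a.obj O).obj
  haveI := LTensorSheaf.hasLTensorCx N
  obtain ⟨eT⟩ := Groth.Agent.S3658.result Y T f hf a adj O ⟨Iso.refl _⟩ N ⟨eN⟩
  let K₀ := ((DCoh.RpushQ g hg).obj O').obj
  let eK' : K₀ ≅ DCoh.inD T ((Scheme.Modules.pushforward g).obj (Coh.structureModule T')) := eK
  haveI : K₀.IsLE 0 := by
    haveI : (DCoh.inD T ((Scheme.Modules.pushforward g).obj (Coh.structureModule T'))).IsLE 0 :=
      (inferInstance : ((singleFunctor T.Modules 0).obj _).IsLE 0)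
    exact DerivedCategory.TStructure.t.isLE_of_iso eK'.symm 0
  let W := (DCoh.LTensorCx N).obj ((DCoh.Lpull f).obj K₀)
  let eW : (Scheme.Modules.pushforward ι).obj ωt ≅ DCoh.HD W (-(d : ℤ)) :=
    eι ≪≫ (homologyFunctor Y.Modules _).mapIso (eξ ≪≫ eT.app ((DCoh.RpushQ g hg).obj O'))
  -- concentration on the open
  let c : DEt.Compactification (j ≫ f) :=
    { Xbar := Y, j := j, fbar := f, isOpenImmersion := inferInstance, isProper := ‹_›, fac := rfl }
  haveI : DCoh.HasRpush c.fbar := ‹DCoh.HasRpush f›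
  haveI : Dual3.IsSepFT (j ≫ f) := by
    haveI : QuasiCompact j := inferInstance
    exact ⟨inferInstance, inferInstance, inferInstance⟩
  haveI : Dual3.IsSepFT (𝟙 T) := ⟨inferInstance, inferInstance, inferInstance⟩
  have hCMU : ∀ x : (U : Scheme.{u}), MoreMor.IsCMAt (j ≫ f) x := fun x =>
    (EGA43.CMChart.isCMAt_comp_iff j f x).2 (hU x.1 x.2)
  have hdU : ∀ (y : T) (Z : Set ↥((j ≫ f).fiber y)), Z ∈ irreducibleComponents ↥((j ≫ f).fiber y) →
      topologicalKrullDim ↥Z = (d : WithBot ℕ∞) := fun y => by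
    refine (EGA43.Chevalley.forall_components_fiber_iff (j ≫ f) y (fun e => e = (d : WithBot ℕ∞))).2 fun x hx hmax => ?_
    rw [EGA43.Chevalley.trdegHom_residueFieldMap_comp j f x]
    refine (EGA43.Chevalley.forall_components_fiber_iff f y (fun e => e = (d : WithBot ℕ∞))).1 (hd y) (j x) hx
      fun w hw hwy => ?_
    let w' : (U : Scheme.{u}) := ⟨w, hw.mem_open U.isOpen x.2⟩
    exact congrArg j (hmax w' (j.isOpenEmbedding.isInducing.specializes_iff.1 hw) hwy)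
  obtain ⟨hz, -, -⟩ := Groth.Agent.S3614.result T (U : Scheme.{u}) T (j ≫ f) (𝟙 _) (j ≫ f) (Category.comp_id _)
    hCMU d hdU c hf a adj O ⟨Iso.refl _⟩
  obtain ⟨r⟩ := DQCoh.nonempty_Lpull_restrict j (a.obj O).obj
  let NU := (Dual22Lib.PullTensorNat.pullC j).obj N
  have hNUk : IsKFlatFor (shT (U : Scheme.{u})) NU := PullTot.isKFlatFor_pullback j hNk
  haveI := LTensorSheaf.hasLTensorCx NU
  let eNU : DerivedCategory.Q.obj NU ≅ (DCoh.restrictD j).obj (a.obj O).obj :=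
    (PullPerf.lpullIso j hNk).symm ≪≫ (DCoh.Lpull j).mapIso eN ≪≫ r
  haveI : (DerivedCategory.Q.obj NU).IsLE (-(d : ℤ)) :=
    (isLE_iff _ _).2 fun i hi => (hz i (by omega)).of_iso ((homologyFunctor _ i).mapIso eNU)
  haveI : QuasiIso (NU.ιTruncLE (-(d : ℤ))) := ⟨fun q => by
    rcases le_or_gt q (-(d : ℤ)) with hq | hq
    · exact CochainComplex.quasiIsoAt_ιTruncLE _ _ _ hq
    · rw [quasiIsoAt_iff_exactAt' _ _ ((HomologicalComplex.exactAt_iff_isZero_homology _ _).2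
        ((isZero_of_isLE (DerivedCategory.Q.obj NU) (-(d : ℤ)) q hq).of_iso
          ((DerivedCategory.homologyFunctorFactors _ q).app NU).symm))]
      exact CochainComplex.exactAt_of_isLE _ (-(d : ℤ)) q hq⟩
  obtain ⟨N₂, q, hN₂k, -, hq, hN₂⟩ := exists_kflat_sheaf_le (NU.truncLE (-(d : ℤ))) (-(d : ℤ))
    fun n hn => CochainComplex.isZero_of_isStrictlyLE _ (-(d : ℤ)) n hn
  haveI := hq
  let q₂ := q ≫ NU.ιTruncLE (-(d : ℤ))
  haveI : QuasiIso q₂ := inferInstance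
  haveI := LTensorSheaf.hasLTensorCx N₂
  -- restriction to the open
  let ZU := (DCoh.Lpull j).obj ((DCoh.Lpull f).obj K₀)
  haveI : ((DCoh.Lpull f).obj K₀).IsLE 0 := Dual6Lib.PerfShriek.isLE_Lpull f K₀ 0
  haveI : ZU.IsLE 0 := Dual6Lib.PerfShriek.isLE_Lpull j _ 0
  obtain ⟨τ⟩ := Dual22Lib.PullTensorNat.nonempty_natIso j hNk
  obtain ⟨eQ⟩ := nonempty_LTensor_quasiIso q₂ hN₂k hNUk ZU
  obtain ⟨rW⟩ := DQCoh.nonempty_Lpull_restrict j W
  let W₂ := (DCoh.LTensorCx N₂).obj ZU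
  let eWU : (DCoh.HD W (-(d : ℤ))).restrict j ≅ DCoh.HD W₂ (-(d : ℤ)) :=
    (DCat.SuppOpen.hdMapIso (Scheme.Modules.restrictFunctor j) W _).symm ≪≫
      (homologyFunctor _ _).mapIso (rW.symm ≪≫ τ.app _ ≪≫ eQ.symm)
  haveI : W₂.IsLE (-(d : ℤ)) := by
    have h' := DQCoh.isLE_LTensor N₂ hN₂k _ hN₂ ZU 0
    rwa [zero_add] at h'
  obtain ⟨eTop⟩ := nonempty_HD_Lpull_top ιU W₂ (-(d : ℤ))
  let N' := (Dual22Lib.PullTensorNat.pullC ιU).obj N₂
  haveI := LTensorSheaf.hasLTensorCx N'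
  obtain ⟨τ'⟩ := Dual22Lib.PullTensorNat.nonempty_natIso ιU hN₂k
  have hN' : ∀ n, -(d : ℤ) < n → IsZero (N'.X n) := fun n hn => (Scheme.Modules.pullback ιU).map_isZero (hN₂ n hn)
  have hNk' : IsKFlatFor (shT (U' : Scheme.{u})) N' := PullTot.isKFlatFor_pullback ιU hN₂k
  let Z := (DCoh.Lpull ιU).obj ZU
  haveI : Z.IsLE 0 := Dual6Lib.PerfShriek.isLE_Lpull ιU _ 0
  let h' : (U' : Scheme.{u}) ⟶ T' := j' ≫ f'
  haveI := DCat.hasLpull h'
  have hm : (ιU ≫ j) ≫ f = h' ≫ g := by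
    rw [hjU, Category.assoc, hsq.w, Category.assoc]
  have hcomp : Nonempty (Z ≅ (DCoh.Lpull h').obj ((DCoh.Lpull g).obj K₀)) := by
    haveI := DCat.hasLpull (ιU ≫ j)
    haveI := DCat.hasLpull ((ιU ≫ j) ≫ f)
    haveI := DCat.hasLpull (h' ≫ g)
    obtain ⟨c₁⟩ := DCat.nonempty_LpullComp ιU j
    obtain ⟨c₂⟩ := DCat.nonempty_LpullComp (ιU ≫ j) f
    obtain ⟨c₃⟩ := DCat.nonempty_LpullComp h' g
    have key : ∀ (m₁ m₂ : (U' : Scheme.{u}) ⟶ T) [DCoh.HasLpull m₁] [DCoh.HasLpull m₂], m₁ = m₂ →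
        Nonempty ((DCoh.Lpull m₁).obj K₀ ≅ (DCoh.Lpull m₂).obj K₀) := by
      intro m₁ m₂ _ _ hh; subst hh; exact ⟨Iso.refl _⟩
    obtain ⟨k₁⟩ := key _ _ hm
    exact ⟨c₁.app _ ≪≫ c₂.app K₀ ≪≫ k₁ ≪≫ (c₃.app K₀).symm⟩
  obtain ⟨eZ⟩ := hcomp
  haveI : ((DCoh.Lpull g).obj K₀).IsLE 0 := Dual6Lib.PerfShriek.isLE_Lpull g K₀ 0
  obtain ⟨z₁⟩ := nonempty_HD_Lpull_top h' ((DCoh.Lpull g).obj K₀) 0
  obtain ⟨z₂⟩ := nonempty_HD_Lpull_top g K₀ 0
  haveI := isIso_counit g (Coh.structureModule T')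
  obtain ⟨z₃⟩ := AmpleLib.exists_pullStructureIso (X := T') h'
  have hZ : Nonempty (DCoh.HD Z 0 ≅ Coh.structureModule (U' : Scheme.{u})) :=
    ⟨(homologyFunctor _ 0).mapIso eZ ≪≫ z₁ ≪≫ (Scheme.Modules.pullback h').mapIso
      (z₂ ≪≫ (Scheme.Modules.pullback g).mapIso ((homologyFunctor T.Modules 0).mapIso eK' ≪≫
          (singleFunctorCompHomologyFunctorIso T.Modules 0).app _) ≪≫
        asIso ((Scheme.Modules.pullbackPushforwardAdjunction g).counit.app (Coh.structureModule T'))) ≪≫ z₃⟩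
  obtain ⟨eU⟩ := nonempty_top_tensor N' hNk' _ hN' Z hZ
  haveI : (DerivedCategory.Q.obj N₂).IsLE (-(d : ℤ)) :=
    (isLE_iff _ _).2 fun i hi => (isZero_of_isLE (DerivedCategory.Q.obj NU) (-(d : ℤ)) i hi).of_iso
      (haveI : IsIso (DerivedCategory.Q.map q₂) := inferInstance
       (homologyFunctor _ i).mapIso (asIso (DerivedCategory.Q.map q₂)))
  obtain ⟨eV⟩ := nonempty_HD_Lpull_top ιU (DerivedCategory.Q.obj N₂) (-(d : ℤ))
  let eωU : DCoh.HD (DerivedCategory.Q.obj N₂) (-(d : ℤ)) ≅ ω.restrict j :=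
    (homologyFunctor _ _).mapIso (asIso (DerivedCategory.Q.map q₂) ≪≫ eNU) ≪≫
      DCat.SuppOpen.hdMapIso (Scheme.Modules.restrictFunctor j) (a.obj O).obj _ ≪≫
      (Scheme.Modules.restrictFunctor j).mapIso eω
  let Φ : (Scheme.Modules.pullback ιU).obj (((Scheme.Modules.pushforward ι).obj ωt).restrict j) ≅
      (Scheme.Modules.pullback ιU).obj (ω.restrict j) :=
    (Scheme.Modules.pullback ιU).mapIso ((Scheme.Modules.restrictFunctor j).mapIso eW ≪≫ eWU) ≪≫ eTop.symm ≪≫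
      (homologyFunctor _ _).mapIso (τ'.app _) ≪≫ eU ≪≫
      (homologyFunctor _ _).mapIso (PullPerf.lpullIso ιU hN₂k).symm ≪≫ eV ≪≫
      (Scheme.Modules.pullback ιU).mapIso eωU
  let sw : ∀ M : Y.Modules, (Scheme.Modules.pullback ιU).obj (M.restrict j) ≅
      ((Scheme.Modules.pullback ι).obj M).restrict j' := fun M =>
    (Scheme.Modules.pullback ιU).mapIso ((Scheme.Modules.restrictFunctorIsoPullback j).app M) ≪≫
      (Scheme.Modules.pullbackComp ιU j).app M ≪≫ (Scheme.Modules.pullbackCongr hjU).app M ≪≫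
      ((Scheme.Modules.pullbackComp j' ι).app M).symm ≪≫
      ((Scheme.Modules.restrictFunctorIsoPullback j').app _).symm
  haveI := isIso_counit ι ωt
  exact ⟨(Scheme.Modules.restrictFunctor j').mapIso
      (asIso ((Scheme.Modules.pullbackPushforwardAdjunction ι).counit.app ωt)).symm ≪≫
    (sw _).symm ≪≫ Φ ≪≫ sw ω⟩

end Groth.Agent.DualLib.RelTop
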