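import Groth.Agent.DualLib.RelTop.Extend
import Groth.Agent.RefHullLib.Restrict
import Groth.Agent.S3616
import Groth.Agent.DCat.PCTriangle

/-!
# The relative dualizing sheaf is free of rank one at Gorenstein points
-/

set_option autoImplicit false
set_option backward.isDefEq.respectTransparency false
set_option backward.defeqAttrib.useBackward true
set_option linter.style.haveILetI false
set_option linter.unusedSectionVars false
set_option synthInstance.maxHeartbeats 100000

universe u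

open CategoryTheory CategoryTheory.Limits DerivedCategory AlgebraicGeometry

attribute [local instance] HasDerivedCategory.standard
attribute [-instance] Int.instConditionallyCompleteLinearOrder

namespace Groth.Agent.DualLib.RelTop

open Groth.Agent.Dual22Lib

variable [∀ (U V : Scheme.{u}) (j : U ⟶ V) [IsOpenImmersion j], PreservesFiniteLimits (Scheme.Modules.restrictFunctor j)]

/-- An invertible complex has invertible cohomology wherever it is nonzero. -/
theorem invertibleAt_of_invertibleD {X : Scheme.{u}} (G : DCoh.D X) (m : ℤ) (x : X)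
    (hx : Nontrivial ((DCoh.HD G m).presheaf.stalk x))
    (h : ∃ U : X.Opens, x ∈ U ∧ Dual3.IsInvertibleD ((DCoh.restrictD U.ι).obj G)) :
    RelCanon.InvertibleAt (DCoh.HD G m) x := by
  obtain ⟨U, hxU, hU⟩ := h
  obtain ⟨V, n, hxV, ⟨eV⟩⟩ := hU ⟨x, hxU⟩
  let l : (V : Scheme.{u}) ⟶ X := V.ι ≫ U.ι
  obtain ⟨cV⟩ := DCat.PerfLocal.rd_comp V.ι U.ι G
  let O' := Coh.structureModule (V : Scheme.{u})
  let e : ∀ i : ℤ, (DCoh.HD G i).restrict l ≅ DCoh.HD ((DCoh.inD (V : Scheme.{u}) O')⟦n⟧) i := fun i =>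
    (DCat.SuppOpen.hdMapIso (Scheme.Modules.restrictFunctor l) G i).symm ≪≫
      (homologyFunctor _ i).mapIso (cV ≪≫ eV)
  let s : ∀ i : ℤ, DCoh.HD ((DCoh.inD (V : Scheme.{u}) O')⟦n⟧) i ≅ DCoh.HD (DCoh.inD (V : Scheme.{u}) O') (n + i) :=
    fun i => ((homologyFunctor (V : Scheme.{u}).Modules 0).shiftIso n i (n + i) rfl).app _
  have hn : n + m = 0 := by
    by_contra hn
    haveI : (DCoh.inD (V : Scheme.{u}) O').IsGE 0 :=
      (inferInstance : ((singleFunctor (V : Scheme.{u}).Modules 0).obj O').IsGE 0)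
    haveI : (DCoh.inD (V : Scheme.{u}) O').IsLE 0 :=
      (inferInstance : ((singleFunctor (V : Scheme.{u}).Modules 0).obj O').IsLE 0)
    have h0 : IsZero (DCoh.HD (DCoh.inD (V : Scheme.{u}) O') (n + m)) := by
      rcases lt_or_gt_of_ne hn with h | h
      · exact isZero_of_isGE _ 0 _ h
      · exact isZero_of_isLE _ 0 _ h
    have h1 := DCat.SuppOpen.subsingleton_of_isZero_stalkFunctor _ _ ((DerSch.stalkFunctor (V : Scheme.{u}) (show (V : Scheme.{u}) from ⟨⟨x, hxU⟩, hxV⟩)).map_isZero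
      (h0.of_iso (e m ≪≫ s m)))
    exact not_nontrivial_iff_subsingleton.2 (DCat.SuppOpen.subsingleton_stalk_of_restrict l _ _ h1) hx
  exact invertibleAt_of_immersion l (e m ≪≫ s m ≪≫ eqToIso (congrArg (fun i : ℤ => DCoh.HD (DCoh.inD (V : Scheme.{u}) O') i) hn) ≪≫
    (singleFunctorCompHomologyFunctorIso (V : Scheme.{u}).Modules 0).app O') ⟨⟨x, hxU⟩, hxV⟩

/-- A module invertible near a point has a reflexive stalk there. -/
theorem isReflexiveAt_of_invertibleAt {X : Scheme.{u}} {F : X.Modules} {x : X} (h : RelCanon.InvertibleAt F x) :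
    RefHull.IsReflexiveAt F x := by
  obtain ⟨U, hxU, ⟨e⟩⟩ := h
  let z : (U : Scheme.{u}) := ⟨x, hxU⟩
  obtain ⟨φ, ε, hε, -, -⟩ := RefHullLib.exists_semilinear_restrict U.ι F z
  let eU := ((DerSch.stalkFunctor (U : Scheme.{u}) z).mapIso e).toLinearEquiv
  let eO := SDiv28.unitStalkEquiv (X := (U : Scheme.{u})) z
  let ψ : F.presheaf.stalk (U.ι z) ≃+ (U : Scheme.{u}).presheaf.stalk z :=
    (ε.trans eU.toAddEquiv).trans eO.symm.toAddEquiv
  have hψ : ∀ a v, ψ (a • v) = φ a • ψ v := fun a v => by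
    show eO.symm (eU (ε (a • v))) = φ a • eO.symm (eU (ε v))
    rw [hε, map_smul, map_smul]
  show RefHull.IsReflexiveAt F (U.ι z)
  exact RefHullLib.isReflexive_of_semilinear (R := (U : Scheme.{u}).presheaf.stalk z)
    (S := X.presheaf.stalk (U.ι z)) (M := (U : Scheme.{u}).presheaf.stalk z) (N := F.presheaf.stalk (U.ι z))
    φ.symm ψ.symm fun s n => ψ.injective (by
    rw [hψ, AddEquiv.apply_symm_apply, φ.apply_symm_apply, AddEquiv.apply_symm_apply])

variable (A : Type u) [CommRing A] [IsNoetherianRing A] (Y : Scheme.{u}) [Y.Over (Spec (CommRingCat.of A))]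
  [IsProper (Y ↘ Spec (CommRingCat.of A))] [Flat (Y ↘ Spec (CommRingCat.of A))] (d : ℕ)
  (hd : Cyc.HasRelDim (Y ↘ Spec (CommRingCat.of A)) d)

include hd

/-- The Gorenstein locus is open and there the dualizing sheaf is invertible. -/
theorem gor_open_and_invertible (ω : Y.Modules) (hω : RelCanon.IsDualizingSheaf A Y d ω) :
    IsOpen (RelCanon.gorLocus (Y ↘ Spec (CommRingCat.of A))) ∧
      ∀ y : Y, y ∈ RelCanon.gorLocus (Y ↘ Spec (CommRingCat.of A)) → RelCanon.InvertibleAt ω y := by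
  let f := Y ↘ Spec (CommRingCat.of A)
  haveI : IsNoetherianRing (CommRingCat.of A) := ‹IsNoetherianRing A›
  haveI : IsNoetherian (Spec (CommRingCat.of A)) := {}
  haveI : Dual3.IsSepFT f := ⟨inferInstance, inferInstance, inferInstance⟩
  haveI : Dual3.IsSepFT (𝟙 (Spec (CommRingCat.of A))) := ⟨inferInstance, inferInstance, inferInstance⟩
  haveI : CompactSpace Y := QuasiCompact.compactSpace_of_compactSpace f
  haveI : QuasiSeparatedSpace Y := quasiSeparatedSpace_of_quasiSeparated f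
  haveI := DCat.hasRpush f
  haveI : ∀ (S : CommRingCat.{u}), PreservesFiniteLimits (tilde.functor S) :=
    Groth.Agent.AffSchLib.preservesFiniteLimits_tilde
  have h : DCoh.RpushPreservesQCoh f := fun K hK => DQCoh.isQCohD_Rpush f K hK
  haveI := Dual22Lib.AdjGeom.isLeftAdjoint_RpushQ f h
  let a := (DCoh.RpushQ f h).rightAdjoint
  let adj : DCoh.RpushQ f h ⊣ a := Adjunction.ofIsLeftAdjoint _
  haveI : Coh.IsQCoh (Coh.structureModule (Spec (CommRingCat.of A))) := Coherent.isQCoh_structureModule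
  let O : DCoh.DQCoh (Spec (CommRingCat.of A)) :=
    ⟨DCoh.inD _ (Coh.structureModule (Spec (CommRingCat.of A))), FlatBC14.isQCohD_inD _⟩
  obtain ⟨hdual, -⟩ := isDualizingSheaf_HD (fibre_dim_le f d hd) h a adj O ⟨Iso.refl _⟩
  obtain ⟨eω⟩ := nonempty_iso_of_isDualizingSheaf hdual hω
  let c : DEt.Compactification f :=
    { Xbar := Y, j := 𝟙 Y, fbar := f, isOpenImmersion := inferInstance, isProper := ‹_›, fac := Category.id_comp f }
  haveI : DCoh.HasRpush c.fbar := ‹DCoh.HasRpush f›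
  haveI : IsOpenImmersion c.j := c.isOpenImmersion
  let G := (Dual3.shriekC c a).obj O
  obtain ⟨eG⟩ : Nonempty (G ≅ (a.obj O).obj) := DCat.PCTriangle.rd_id (a.obj O).obj
  let eH : DCoh.HD G (-(d : ℤ)) ≅ ω := (homologyFunctor _ _).mapIso eG ≪≫ eω
  have hgor := Groth.Agent.S3616.result (Spec (CommRingCat.of A)) Y (Spec (CommRingCat.of A)) f (𝟙 _) f
    (Category.comp_id _) c h a adj O ⟨Iso.refl _⟩
  refine ⟨hgor.2, fun y hy => ?_⟩
  have hcm : MoreMor.IsCMAt f y := ⟨hy.1, by
    haveI := hy.2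
    exact LocCoh.isCohenMacaulayLocalRing_of_gorenstein⟩
  obtain ⟨C⟩ := ShriekLocal.nonempty_chart c h a adj O ⟨Iso.refl _⟩ y
  have hnt : Nontrivial ((DCoh.HD G (-(d : ℤ))).presheaf.stalk y) := by
    have := (Dual22Lib.nontrivial_stalk_iff C.jX C.iso C.pt (-(d : ℤ))).2
      (ShriekCM.support_of_cm C d (ShriekCM.fibreDimAt_eq_of_components f d hd y) hcm).2
    rwa [C.hpt] at this
  obtain ⟨U, hU, ⟨e⟩⟩ := invertibleAt_of_invertibleD G _ y hnt ((hgor.1 y).1 hy)
  exact ⟨U, hU, ⟨(Scheme.Modules.restrictFunctor U.ι).mapIso eH.symm ≪≫ e⟩⟩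

/-- The Gorenstein locus is open and there the stalks of the dualizing sheaf are reflexive. -/
theorem gor_open_and_reflexive (ω : Y.Modules) (hω : RelCanon.IsDualizingSheaf A Y d ω) :
    IsOpen (RelCanon.gorLocus (Y ↘ Spec (CommRingCat.of A))) ∧
      ∀ y : Y, y ∈ RelCanon.gorLocus (Y ↘ Spec (CommRingCat.of A)) → RefHull.IsReflexiveAt ω y :=
  ⟨(gor_open_and_invertible A Y d hd ω hω).1,
    fun y hy => isReflexiveAt_of_invertibleAt ((gor_open_and_invertible A Y d hd ω hω).2 y hy)⟩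

end Groth.Agent.DualLib.RelTop
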