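import Groth.Agent.DualLib.RelTop.Extend
import Groth.Agent.DualLib.RelTop.GorStalk
import Groth.Agent.DualLib.RelTop.FibreOpen
import Groth.Agent.PicLib.FormalGen
import Groth.Agent.Lef23.Structure
import Groth.Agent.VarietyLib.HilbClosed
import Groth.Agent.EGA43.DvrCrit.Main

/-!
# Invertible relative dualizing sheaves of `S₂`-morphisms restrict to dualizing sheaves of the fibres
-/

set_option autoImplicit false
set_option backward.isDefEq.respectTransparency false
set_option backward.defeqAttrib.useBackward true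
set_option linter.style.haveILetI false
set_option linter.unusedSectionVars false

universe u

open CategoryTheory CategoryTheory.Limits AlgebraicGeometry TopologicalSpace Opposite

namespace Groth.Agent.DualLib.RelTop

open Groth.Agent.QG15

variable {X : Scheme.{u}}

/-- The stalk of a module invertible near a point. -/
theorem exists_stalk_equiv_of_invertibleAt {F : X.Modules} {x : X} (h : RelCanon.InvertibleAt F x) :
    Nonempty (F.presheaf.stalk x ≃ₗ[X.presheaf.stalk x] X.presheaf.stalk x) := by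
  obtain ⟨U, hxU, ⟨e⟩⟩ := h
  let z : (U : Scheme.{u}) := ⟨x, hxU⟩
  obtain ⟨φ, ε, hε, -, -⟩ := RefHullLib.exists_semilinear_restrict U.ι F z
  let eU := ((DerSch.stalkFunctor (U : Scheme.{u}) z).mapIso e).toLinearEquiv
  let eO := SDiv28.unitStalkEquiv (X := (U : Scheme.{u})) z
  let ψ : F.presheaf.stalk (U.ι z) ≃+ X.presheaf.stalk (U.ι z) :=
    ((ε.trans eU.toAddEquiv).trans eO.symm.toAddEquiv).trans φ.symm.toAddEquiv
  have hψ : ∀ a v, ψ (a • v) = a • ψ v := fun a v => by
    show φ.symm (eO.symm (eU (ε (a • v)))) = a * φ.symm (eO.symm (eU (ε v)))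
    rw [hε, map_smul, map_smul, smul_eq_mul, map_mul, φ.symm_apply_apply]
  exact ⟨({ ψ with map_smul' := hψ } : F.presheaf.stalk (U.ι z) ≃ₗ[X.presheaf.stalk (U.ι z)] X.presheaf.stalk (U.ι z))⟩

/-- Extension holds over every open. -/
theorem bijective_res_of_extends {M : X.Modules} {U : X.Opens} (h : Extends M U) (V : X.Opens) :
    Function.Bijective (M.presheaf.map (homOfLE (inf_le_left : V ⊓ U ≤ V)).op).hom := by
  let Fsh : TopCat.Sheaf Ab X := ⟨M.presheaf, M.isSheaf⟩
  constructor
  · intro a b hab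
    refine h.eq_of_germ a b fun y hy hyU => ?_
    refine (TopCat.Presheaf.germ_res_apply M.presheaf (homOfLE (inf_le_left : V ⊓ U ≤ V)) y (show y ∈ V ⊓ U from ⟨hy, hyU⟩) a).symm.trans ?_
    exact (congrArg _ hab).trans (TopCat.Presheaf.germ_res_apply M.presheaf (homOfLE (inf_le_left : V ⊓ U ≤ V)) y (show y ∈ V ⊓ U from ⟨hy, hyU⟩) b)
  · intro s
    have hloc : ∀ x : V, ∃ (W : X.Opens) (_ : W ≤ V) (_ : x.1 ∈ W) (n : Γ(M, W)),
        ∀ (z : X) (hz : z ∈ W) (hzV : z ∈ V) (hzU : z ∈ U),
          M.presheaf.germ W z hz n = M.presheaf.germ (V ⊓ U) z ⟨hzV, hzU⟩ s := fun x => by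
      obtain ⟨W, hW, hxW, hWV⟩ := exists_isAffineOpen_mem_and_subset (x := x.1) (U := V) x.2
      obtain ⟨n, hn⟩ := (h W hW).2 (M.presheaf.map (homOfLE (inf_le_inf_right U hWV)).op s)
      refine ⟨W, hWV, hxW, n, fun z hz hzV hzU => ?_⟩
      refine (TopCat.Presheaf.germ_res_apply M.presheaf (homOfLE (inf_le_left : W ⊓ U ≤ W)) z (show z ∈ W ⊓ U from ⟨hz, hzU⟩) n).symm.trans ?_
      exact (congrArg _ hn).trans (TopCat.Presheaf.germ_res_apply M.presheaf (homOfLE (inf_le_inf_right U hWV)) z (show z ∈ W ⊓ U from ⟨hz, hzU⟩) s)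
    choose W hWV hxW n hn using hloc
    obtain ⟨t, ht⟩ := exists_section_of_germs M V (fun x => M.presheaf.germ (W x) x.1 (hxW x) (n x)) fun x =>
      ⟨W x, hWV x, hxW x, n x, fun z hz => by
        let x' : V := ⟨z, hWV x hz⟩
        let m : Γ(M, W x ⊓ W x') := M.presheaf.map (homOfLE inf_le_left).op (n x)
        let m' : Γ(M, W x ⊓ W x') := M.presheaf.map (homOfLE inf_le_right).op (n x')
        have he : m = m' := h.eq_of_germ m m' fun y hy hyU => by
          show M.presheaf.germ _ y hy (M.presheaf.map _ _) = M.presheaf.germ _ y hy (M.presheaf.map _ _)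
          rw [TopCat.Presheaf.germ_res_apply, TopCat.Presheaf.germ_res_apply,
            hn x y hy.1 (hWV x hy.1) hyU, hn x' y hy.2 (hWV x hy.1) hyU]
        have h1 := congrArg (M.presheaf.germ _ z (show z ∈ W x ⊓ W x' from ⟨hz, hxW x'⟩)) he
        simp only [m, m', TopCat.Presheaf.germ_res_apply] at h1
        exact h1⟩
    refine ⟨t, TopCat.Presheaf.section_ext Fsh _ _ _ fun y hy => ?_⟩
    refine (TopCat.Presheaf.germ_res_apply M.presheaf (homOfLE (inf_le_left : V ⊓ U ≤ V)) y hy t).trans ?_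
    exact (ht ⟨y, hy.1⟩).trans (hn ⟨y, hy.1⟩ y (hxW _) hy.1 hy.2)

/-- Modules that extend and agree on the open are isomorphic. -/
theorem nonempty_iso_of_extends {M N : X.Modules} {U : X.Opens} (hM : Extends M U) (hN : Extends N U)
    (e : M.restrict U.ι ≅ N.restrict U.ι) : Nonempty (M ≅ N) := by
  haveI := isIso_restrictUnit_of_bijective M (bijective_res_of_extends hM)
  haveI := isIso_restrictUnit_of_bijective N (bijective_res_of_extends hN)
  exact ⟨asIso ((Scheme.Modules.restrictAdjunction U.ι).unit.app M) ≪≫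
    (Scheme.Modules.pushforward U.ι).mapIso e ≪≫ (asIso ((Scheme.Modules.restrictAdjunction U.ι).unit.app N)).symm⟩

variable [∀ (U V : Scheme.{u}) (j : U ⟶ V) [IsOpenImmersion j], PreservesFiniteLimits (Scheme.Modules.restrictFunctor j)]

/-- Stalks of a fibre in terms of the morphism to the field. -/
theorem dim_fiber_over_field {K : Type u} [Field K] {Z : Scheme.{u}} (p : Z ⟶ Spec (CommRingCat.of K)) (z : Z) :
    ringKrullDim ((p.fiber (p z)).presheaf.stalk (p.asFiber z)) = ringKrullDim (Z.presheaf.stalk z) := by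
  obtain ⟨e⟩ := FlatMor12.fibreStalk_equiv p z
  rw [ringKrullDim_eq_of_ringEquiv e]
  haveI : Subsingleton (PrimeSpectrum K) := inferInstance
  have hm : (IsLocalRing.maximalIdeal ((Spec (CommRingCat.of K)).presheaf.stalk (p z))).map (p.stalkMap z).hom = ⊥ := by
    let q : PrimeSpectrum K := p z
    letI : Algebra K ((Spec (CommRingCat.of K)).presheaf.stalk (p z)) :=
      (StructureSheaf.toStalk K q).hom.toAlgebra
    haveI : IsLocalization.AtPrime ((Spec (CommRingCat.of K)).presheaf.stalk (p z)) q.asIdeal :=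
      StructureSheaf.IsLocalization.to_stalk (CommRingCat.of K) q
    rw [← IsLocalization.AtPrime.map_eq_maximalIdeal q.asIdeal ((Spec (CommRingCat.of K)).presheaf.stalk (p z)),
      show q.asIdeal = ⊥ from (Ideal.eq_bot_or_top q.asIdeal).resolve_right q.2.ne_top, Ideal.map_bot, Ideal.map_bot]
  exact (ringKrullDim_eq_of_ringEquiv ((RingEquiv.quotientBot _).symm.trans (Ideal.quotEquivOfEq hm.symm))).symm

variable (A : Type u) [CommRing A] [IsNoetherianRing A] (Y : Scheme.{u}) [Y.Over (Spec (CommRingCat.of A))]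
  [IsProper (Y ↘ Spec (CommRingCat.of A))] [Flat (Y ↘ Spec (CommRingCat.of A))] (d : ℕ)
  (hd : Cyc.HasRelDim (Y ↘ Spec (CommRingCat.of A)) d) (hS : RelCanon.IsSkMor (Y ↘ Spec (CommRingCat.of A)) 2)

include hd hS

/-- **An invertible relative dualizing sheaf of an `S₂`-morphism gives invertible dualizing sheaves on the fibres.** -/
theorem isInvertible_fibre_dualizing (ω : Y.Modules) (hω : RelCanon.IsDualizingSheaf A Y d ω)
    (hinv : PicF.IsInvertible ω) (t : Spec (CommRingCat.of A))
    (ωt : ((Y ↘ Spec (CommRingCat.of A)).fiber t).Modules)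
    (hωt : @RelCanon.IsDualizingSheaf ((Spec (CommRingCat.of A)).residueField t) _
      ((Y ↘ Spec (CommRingCat.of A)).fiber t) ⟨(Y ↘ Spec (CommRingCat.of A)).fiberToSpecResidueField t⟩ d ωt) :
    PicF.IsInvertible ωt := by
  let f := Y ↘ Spec (CommRingCat.of A)
  let T := Spec (CommRingCat.of A)
  let k := T.residueField t
  let Y' := f.fiber t
  let ι : Y' ⟶ Y := f.fiberι t
  let f' : Y' ⟶ Spec (CommRingCat.of k) := f.fiberToSpecResidueField t
  let g := T.fromSpecResidueField t
  have hsq : IsPullback ι f' f g := IsPullback.of_hasPullback _ _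
  haveI : IsNoetherianRing (CommRingCat.of A) := ‹IsNoetherianRing A›
  haveI : IsNoetherianRing k := inferInstance
  haveI : IsProper f' := MorphismProperty.of_isPullback hsq ‹_›
  haveI : IsPreimmersion ι := inferInstanceAs (IsPreimmersion (f.fiberι t))
  letI : Y'.Over (Spec (CommRingCat.of k)) := ⟨f'⟩
  haveI : IsProper (Y' ↘ Spec (CommRingCat.of k)) := ‹IsProper f'›
  haveI : IsLocallyNoetherian Y := LocallyOfFiniteType.isLocallyNoetherian f
  haveI : IsLocallyNoetherian Y' := LocallyOfFiniteType.isLocallyNoetherian f'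
  haveI : LocallyOfFinitePresentation f := inferInstance
  let U : Y.Opens := ⟨{y | MoreMor.IsCMAt f y}, Groth.Agent.S4961.result f⟩
  let U' : Y'.Opens := ι ⁻¹ᵁ U
  have hzy : ∀ z : Y', z ∉ U' →
      (2 : ℕ∞) ≤ _root_.LocCoh.depth (Y'.presheaf.stalk z) (Y'.presheaf.stalk z) ∧
      (2 : WithBot ℕ∞) ≤ ringKrullDim (Y'.presheaf.stalk z) := by
    have key : ∀ (y : Y) (q : T), f y = q → ∀ z : f.fiber q, f.fiberι q z = y → ¬ MoreMor.IsCMAt f y →
        (2 : ℕ∞) ≤ _root_.LocCoh.depth ((f.fiber q).presheaf.stalk z) ((f.fiber q).presheaf.stalk z) ∧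
        (2 : WithBot ℕ∞) ≤ ringKrullDim ((f.fiber q).presheaf.stalk z) := by
      intro y q hq
      subst hq
      intro z hz hy
      obtain rfl : z = f.asFiber y := (f.fiberι _).isEmbedding.injective (hz.trans (f.fiberι_asFiber y).symm)
      have h2 := two_le_dim_of_not_isCMAt f hS y hy
      refine ⟨?_, h2⟩
      let R := (f.fiber (f y)).presheaf.stalk (f.asFiber y)
      have h1 : _root_.LocCoh.HasSk 2 R R :=
        (EGA43.FibDepth.hasSk_congr (EGA43.FibDepth.unitStalkEquiv (f.asFiber y)) 2).2 (hS.2.2 y)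
      haveI : LocallyOfFiniteType (f.fiberToSpecResidueField (f y)) :=
        MorphismProperty.pullback_snd _ _ inferInstance
      haveI : IsLocallyNoetherian (f.fiber (f y)) :=
        LocallyOfFiniteType.isLocallyNoetherian (f.fiberToSpecResidueField (f y))
      have h3 := (CAlgH3.hasSk_self_iff 2).1 h1 (IsLocalRing.maximalIdeal R)
      let e : R ≃+* Localization.AtPrime (IsLocalRing.maximalIdeal R) :=
        (IsLocalization.atUnits R (IsLocalRing.maximalIdeal R).primeCompl (fun a ha =>
          IsLocalRing.notMem_maximalIdeal.1 ha)).toRingEquiv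
      rw [← ringKrullDim_eq_of_ringEquiv e, ← CAlgH3.depth_ringEquiv e,
        min_eq_left (show ((2 : ℕ) : WithBot ℕ∞) ≤ ringKrullDim R by simpa using h2)] at h3
      exact WithBot.coe_le_coe.1 h3
    intro z hz
    refine key (ι z) t ?_ z rfl hz
    have : ι z ∈ Set.range (f.fiberι t) := ⟨z, rfl⟩
    rw [f.range_fiberι] at this
    exact this
  -- both sheaves extend
  let M := (Scheme.Modules.pullback ι).obj ω
  have hMinv : PicF.IsInvertible M := PicLoc.isInvertible_pullback ι hinv
  have hM : Extends M U' := extends_of_depth M (PicLib.isCoh_of_isInvertible hMinv) U' fun z hz => by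
    obtain ⟨e⟩ := exists_stalk_equiv_of_invertibleAt (hMinv z)
    rw [CAlgH3.depth_congr e]
    exact (hzy z hz).1
  have hd' : Cyc.HasRelDim (Y' ↘ Spec (CommRingCat.of k)) d := fun q => by
    refine (EGA43.Chevalley.forall_components_fiber_iff f' q (fun e => e = (d : WithBot ℕ∞))).2 fun x hx hmax => ?_
    have htr : DimLib.trdegHom (f'.residueFieldMap x).hom = DimLib.trdegHom (f.residueFieldMap (ι x)).hom := by
      rw [← EGA43.Chevalley.trdegHom_residueFieldMap_postcomp f' g x, ← CycLib28.trdegHom_congr hsq.w x,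
        EGA43.Chevalley.trdegHom_residueFieldMap_comp ι f x]
    rw [htr]
    refine (EGA43.Chevalley.forall_components_fiber_iff f t (fun e => e = (d : WithBot ℕ∞))).1 (hd t) (ι x)
      (EGA43.Chevalley.apply_fiberι f t x) fun w hw hwt => ?_
    obtain ⟨w', rfl⟩ : w ∈ Set.range (f.fiberι t) := by rw [f.range_fiberι]; exact hwt
    exact congrArg ι (hmax w' (ι.isEmbedding.isInducing.specializes_iff.1 hw) (Subsingleton.elim _ _))
  obtain ⟨hcoh, hdep⟩ := isCoh_and_two_le_depth (A := k) (Y := Y') d hd' ωt hωt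
  have hN : Extends ωt U' := extends_of_depth ωt hcoh U' fun z hz =>
    hdep z ((hzy z hz).2.trans_eq (dim_fiber_over_field f' z).symm)
  obtain ⟨e⟩ := nonempty_fibre_iso_on_cm A Y d hd ω hω U (fun y hy => hy) t ωt hωt
  obtain ⟨i⟩ := nonempty_iso_of_extends hN hM e
  intro z
  obtain ⟨V, hzV, ⟨eV⟩⟩ := hMinv z
  exact ⟨V, hzV, ⟨(Scheme.Modules.restrictFunctor V.ι).mapIso i ≪≫ eV⟩⟩

omit hd

/-- An invertible module satisfies relative `(S₂)` for an `S₂`-morphism. -/
theorem relSk_of_isInvertible (L : Y.Modules) (hL : PicF.IsInvertible L) :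
    RelCanon.RelSk (Y ↘ Spec (CommRingCat.of A)) 2 L := by
  intro y
  let f := Y ↘ Spec (CommRingCat.of A)
  refine ⟨?_, ?_⟩
  · letI := (f.stalkMap y).hom.toAlgebra
    letI := FlatMod.moduleStalkOver f L y
    haveI : IsScalarTower ((Spec (CommRingCat.of A)).presheaf.stalk (f y)) (Y.presheaf.stalk y) (L.presheaf.stalk y) :=
      IsScalarTower.of_compHom _ _ _
    obtain ⟨e⟩ := exists_stalk_equiv_of_invertibleAt (hL y)
    haveI : Module.Flat ((Spec (CommRingCat.of A)).presheaf.stalk (f y)) (Y.presheaf.stalk y) := Flat.stalkMap f y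
    exact Module.Flat.of_linearEquiv (e.restrictScalars ((Spec (CommRingCat.of A)).presheaf.stalk (f y)))
  · have hP : PicF.IsInvertible ((Scheme.Modules.pullback (f.fiberι (f y))).obj L) := PicLoc.isInvertible_pullback _ hL
    obtain ⟨e⟩ := exists_stalk_equiv_of_invertibleAt (hP (f.asFiber y))
    exact (EGA43.FibDepth.hasSk_congr e 2).2
      ((EGA43.FibDepth.hasSk_congr (EGA43.FibDepth.unitStalkEquiv (f.asFiber y)) 2).2 (hS.2.2 y))

end Groth.Agent.DualLib.RelTop
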