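import Groth.Agent.DualLib.RelTop.Main
import Groth.Agent.Dual6Lib.FlatShriek
import Groth.Agent.Dual22Lib.AdjExists
import Groth.Agent.Coherent.FreeSections
import Groth.Agent.AmpleLib.Relative
import Groth.Agent.Coherent.CohBC.FibreField
import Groth.Agent.DQCoh.BettiRank

/-!
# The relative dualizing sheaf commutes with flat base change
-/

set_option autoImplicit false
set_option backward.isDefEq.respectTransparency false
set_option backward.defeqAttrib.useBackward true
set_option linter.style.haveILetI false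
set_option linter.unusedSectionVars false
set_option synthInstance.maxHeartbeats 200000

universe u

open CategoryTheory CategoryTheory.Limits DerivedCategory AlgebraicGeometry
open Groth.Agent.DCat

attribute [local instance] HasDerivedCategory.standard
attribute [-instance] Int.instConditionallyCompleteLinearOrder

namespace Groth.Agent.DualLib.RelTop

/-- **Flat base change of the relative dualizing sheaf.** -/
theorem isDualizingSheaf_pullback (A : Type u) [CommRing A] [IsNoetherianRing A] (Y : Scheme.{u})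
    [Y.Over (Spec (CommRingCat.of A))] [IsProper (Y ↘ Spec (CommRingCat.of A))] (d : ℕ)
    (hfib : ∀ y, topologicalKrullDim ((Y ↘ Spec (CommRingCat.of A)).fiber y) ≤ (d : WithBot ℕ∞))
    (ω : Y.Modules) (hω : RelCanon.IsDualizingSheaf A Y d ω)
    (B : Type u) [CommRing B] [IsNoetherianRing B] (φ : A →+* B) (hφ : φ.Flat)
    (Y' : Scheme.{u}) [Y'.Over (Spec (CommRingCat.of B))] (p : Y' ⟶ Y)
    (hp : IsPullback p (Y' ↘ Spec (CommRingCat.of B)) (Y ↘ Spec (CommRingCat.of A)) (Spec.map (CommRingCat.ofHom φ))) :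
    RelCanon.IsDualizingSheaf B Y' d ((Scheme.Modules.pullback p).obj ω) := by
  haveI : ∀ (U V : Scheme.{u}) (j : U ⟶ V) [IsOpenImmersion j],
      PreservesFiniteLimits (Scheme.Modules.restrictFunctor j) := fun U V j _ =>
    DCat.PullPerf.preservesFiniteLimits_restrict j
  let f := Y ↘ Spec (CommRingCat.of A)
  let f' := Y' ↘ Spec (CommRingCat.of B)
  let g := Spec.map (CommRingCat.ofHom φ)
  let T := Spec (CommRingCat.of A)
  let T' := Spec (CommRingCat.of B)
  haveI : IsNoetherianRing (CommRingCat.of A) := ‹IsNoetherianRing A›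
  haveI : IsNoetherianRing (CommRingCat.of B) := ‹IsNoetherianRing B›
  haveI : IsNoetherian T := {}
  haveI : IsNoetherian T' := {}
  haveI : Flat g := (Flat.SpecMap_iff).2 hφ
  haveI : Flat p := MorphismProperty.of_isPullback hp.flip ‹Flat g›
  haveI : IsProper f' := MorphismProperty.of_isPullback hp ‹_›
  haveI : CompactSpace Y := QuasiCompact.compactSpace_of_compactSpace f
  haveI : QuasiSeparatedSpace Y := quasiSeparatedSpace_of_quasiSeparated f
  haveI : CompactSpace Y' := QuasiCompact.compactSpace_of_compactSpace f'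
  haveI : QuasiSeparatedSpace Y' := quasiSeparatedSpace_of_quasiSeparated f'
  haveI : QuasiCompact g := quasiCompact_of_compactSpace g
  haveI : QuasiCompact p := quasiCompact_of_compactSpace p
  haveI := DCat.hasRpush f
  haveI := DCat.hasRpush f'
  haveI := DCat.hasRpush g
  haveI := DCat.hasRpush p
  haveI := DCat.hasLpull g
  haveI := DCat.hasLpull p
  have hf : DCoh.RpushPreservesQCoh f := fun K hK => DQCoh.isQCohD_Rpush f K hK
  have hf' : DCoh.RpushPreservesQCoh f' := fun K hK => DQCoh.isQCohD_Rpush f' K hK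
  have hg : DCoh.RpushPreservesQCoh g := fun K hK => DQCoh.isQCohD_Rpush g K hK
  have hp' : DCoh.RpushPreservesQCoh p := fun K hK => DQCoh.isQCohD_Rpush p K hK
  have hLg : Dual3.LpullPreservesQCoh g := fun K hK => DQCoh.isQCohD_Lpull g K hK
  have hLp : Dual3.LpullPreservesQCoh p := fun K hK => DQCoh.isQCohD_Lpull p K hK
  haveI := Dual22Lib.AdjGeom.isLeftAdjoint_RpushQ f hf
  haveI := Dual22Lib.AdjGeom.isLeftAdjoint_RpushQ f' hf'
  let a := (DCoh.RpushQ f hf).rightAdjoint
  let adj : DCoh.RpushQ f hf ⊣ a := Adjunction.ofIsLeftAdjoint _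
  let a' := (DCoh.RpushQ f' hf').rightAdjoint
  let adj' : DCoh.RpushQ f' hf' ⊣ a' := Adjunction.ofIsLeftAdjoint _
  haveI : Coh.IsQCoh (Coh.structureModule T) := Coherent.isQCoh_structureModule
  let O : DCoh.DQCoh T := ⟨DCoh.inD T (Coh.structureModule T), FlatBC14.isQCohD_inD _⟩
  obtain ⟨hdual, -⟩ := isDualizingSheaf_HD hfib hf a adj O ⟨Iso.refl _⟩
  obtain ⟨e⟩ := nonempty_iso_of_isDualizingSheaf hdual hω
  let O' : DCoh.DQCoh T' := (Dual3.LpullQ g hLg).obj O
  obtain ⟨eL⟩ := DQCoh.nonempty_Lpull_inD g (Coherent.CohBC.isFinLocFree_structureModule T)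
  obtain ⟨eS⟩ := AmpleLib.exists_pullStructureIso (X := T) g
  have hfib' : ∀ y, topologicalKrullDim (f'.fiber y) ≤ (d : WithBot ℕ∞) := fun y =>
    (Coherent.CohBC.topologicalKrullDim_fiber_of_isPullback hp y).le.trans (hfib _)
  obtain ⟨hdual', -⟩ := isDualizingSheaf_HD hfib' hf' a' adj' O'
    ⟨eL ≪≫ (DerivedCategory.singleFunctor T'.Modules 0).mapIso eS⟩
  obtain ⟨i⟩ := Dual6Lib.FlatShriek.nonempty_iso (hLg := hLg) (hLg' := hLp) hp hg hp' adj adj'
  have hOb : Dual3.IsBddBelowQ T O :=
    ⟨0, (inferInstance : ((DerivedCategory.singleFunctor T.Modules 0).obj _).IsGE 0)⟩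
  let eO : (DCoh.Lpull p).obj (a.obj O).obj ≅ (a'.obj O').obj :=
    (ObjectProperty.ι DCoh.IsQCohD).mapIso (i.app ⟨O, hOb⟩)
  obtain ⟨β⟩ := Dual6Lib.BCShriekAffine.nonempty_Lpull_Gd p
  exact isDualizingSheaf_of_iso hdual'
    ((homologyFunctor Y'.Modules _).mapIso (eO.symm ≪≫ β.app _) ≪≫
      (Dual6Lib.HomFlat.sigma p (-(d : ℤ))).app _ ≪≫ (Scheme.Modules.pullback p).mapIso e)

end Groth.Agent.DualLib.RelTop
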