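import Groth.Agent.DualLib.RelTop.LiftPow
import Groth.Agent.DualLib.RelTop.FlatBC
import Groth.Agent.CommAlg6.FibreSk
import Groth.Agent.Props12.FlatOver

/-!
# Reflexive powers under flat pullback, and descent of relative `(S₂)`
-/

set_option autoImplicit false
set_option backward.isDefEq.respectTransparency false
set_option linter.style.haveILetI false
set_option linter.unusedSectionVars false

universe u

open CategoryTheory CategoryTheory.Limits AlgebraicGeometry TopologicalSpace IsLocalRing TensorProduct

namespace Groth.Agent.DualLib.RelTop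

open Groth.Agent EGA43.DimFormula

/-- Duals commute with flat base change. -/
theorem nonempty_dual_tensor {R S : Type u} [CommRing R] [IsNoetherianRing R] [CommRing S] [Algebra R S]
    [Module.Flat R S] (D : Type u) [AddCommGroup D] [Module R D] [Module.Finite R D] :
    Nonempty (S ⊗[R] (D →ₗ[R] R) ≃ₗ[S] (S ⊗[R] D →ₗ[S] S)) := by
  haveI := Module.finitePresentation_of_finite R D
  exact ⟨(Module.FinitePresentation.isBaseChange_map R D R S).equiv.trans
    (LinearEquiv.arrowCongr (LinearEquiv.refl S _) (AlgebraTensorModule.rid R S S))⟩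

/-- `(S_k)` of a module descends along flat local homomorphisms. -/
theorem hasSk_descend_module {R S : Type u} [CommRing R] [CommRing S] [IsLocalRing R] [IsLocalRing S]
    [IsNoetherianRing R] [IsNoetherianRing S] [Algebra R S] [IsLocalHom (algebraMap R S)] [Module.Flat R S]
    (N : Type u) [AddCommGroup N] [Module R N] [Module.Finite R N] (k : ℕ)
    (h : _root_.LocCoh.HasSk k S (S ⊗[R] N)) : _root_.LocCoh.HasSk k R N := by
  haveI : Module.FaithfullyFlat R S := Module.FaithfullyFlat.of_flat_of_isLocalHom
  intro p hp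
  obtain ⟨q, hq, hqp, h0, -⟩ := CommAlg6.exists_minimal_over (A := R) (B := S) p
  let A := Localization.AtPrime p
  let B := Localization.AtPrime q
  letI : Algebra A B := (Localization.localRingHom p q (algebraMap R S) hqp.symm).toAlgebra
  haveI : IsLocalHom (algebraMap A B) := Localization.isLocalHom_localRingHom p q (algebraMap R S) hqp.symm
  haveI : Module.Flat A B :=
    RingHom.flat_algebraMap_iff.mp (RingHom.Flat.localRingHom (RingHom.flat_algebraMap_iff.mpr inferInstance) q p hqp.symm)
  haveI : IsScalarTower R A B := IsScalarTower.of_algebraMap_eq fun r => by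
    rw [RingHom.algebraMap_toAlgebra, Localization.localRingHom_to_map, ← IsScalarTower.algebraMap_apply]
  let Np := LocalizedModule p.primeCompl N
  let Nq := LocalizedModule q.primeCompl (S ⊗[R] N)
  haveI : Module.Finite A Np := Module.Finite.of_isLocalizedModule p.primeCompl (LocalizedModule.mkLinearMap _ N)
  let e : Nq ≃ₗ[B] B ⊗[A] Np :=
    ((LocalizedModule.equivTensorProduct q.primeCompl (S ⊗[R] N)).trans
      (AlgebraTensorModule.cancelBaseChange R S B B N)).trans
      ((AlgebraTensorModule.congr (LinearEquiv.refl B B) (LocalizedModule.equivTensorProduct p.primeCompl N)).trans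
        (AlgebraTensorModule.cancelBaseChange R A B B N)).symm
  -- the closed fibre is zero-dimensional
  let I := (maximalIdeal A).map (algebraMap A B)
  have hI : I = (q.comap (algebraMap R S)).map (algebraMap R B) := by
    subst hqp
    show (maximalIdeal A).map (algebraMap A B) = _
    rw [← Localization.AtPrime.map_eq_maximalIdeal, Ideal.map_map, ← IsScalarTower.algebraMap_eq]
  let eI : (B ⧸ (I • (⊤ : Submodule B B))) ≃ₗ[B] B ⧸ I :=
    Submodule.quotEquivOfEq _ _ (by rw [smul_eq_mul, Ideal.mul_top])
  have hIm : I ≤ maximalIdeal B := Ideal.map_le_iff_le_comap.2 fun a ha => map_nonunit (algebraMap A B) a ha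
  haveI : Nontrivial (B ⧸ I) :=
    Ideal.Quotient.nontrivial_iff.2 fun h => (maximalIdeal.isMaximal B).ne_top (top_le_iff.1 (h ▸ hIm))
  have hdim : Module.supportDim B (B ⧸ (I • (⊤ : Submodule B B))) = 0 := by
    rw [Module.supportDim_eq_of_equiv eI, Module.supportDim_eq_ringKrullDim_quotient_annihilator,
      Ideal.annihilator_quotient, hI]
    exact h0
  have hdep : _root_.LocCoh.depth B (B ⧸ (I • (⊤ : Submodule B B))) = 0 := by
    haveI : Nontrivial (B ⧸ (I • (⊤ : Submodule B B))) := eI.toEquiv.nontrivial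
    have := CAlgH3.depth_le_supportDim (R := B) (M := B ⧸ (I • (⊤ : Submodule B B)))
    rw [hdim, ← WithBot.coe_zero, WithBot.coe_le_coe] at this
    exact nonpos_iff_eq_zero.1 this
  have hk := h q
  rw [Module.supportDim_eq_of_equiv e, CAlgH3.depth_congr e, CommAlg6.depth_tensor_eq (A := A) (B := B) B Np, hdep,
    add_zero] at hk
  rcases subsingleton_or_nontrivial Np with hN | hN
  · rw [(Module.supportDim_eq_bot_iff_subsingleton _ _).2 hN]
    simp
  · rwa [CommAlg6.supportDim_tensor_eq (A := A) (B := B) B Np, hdim, add_zero] at hk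

variable {X Y : Scheme.{u}} [IsLocallyNoetherian X] [IsLocallyNoetherian Y] (g : Y ⟶ X) [Flat g]

/-- Stalks of the pullback of a dual. -/
theorem nonempty_pull_dual_stalk {D : X.Modules} (hD : Coh.IsCoh D) (y : Y) :
    Nonempty (((Scheme.Modules.pullback g).obj (RefHull.dual D)).presheaf.stalk y ≃ₗ[Y.presheaf.stalk y]
      (RefHull.dual ((Scheme.Modules.pullback g).obj D)).presheaf.stalk y) := by
  let R := X.presheaf.stalk (g y)
  let S := Y.presheaf.stalk y
  letI : Algebra R S := (g.stalkMap y).hom.toAlgebra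
  haveI : Module.Flat R S := Flat.stalkMap g y
  have hD' : Coh.IsCoh ((Scheme.Modules.pullback g).obj D) :=
    ⟨haveI := hD.1; EGA43.InjFibre.isQCoh_pullback g D, Coherent.isFT_pullback_qcoh g hD.1 hD.2⟩
  haveI : Module.Finite R (D.presheaf.stalk (g y)) := AssSch12.finite_stalk hD (g y)
  obtain ⟨a⟩ := nonempty_dual_stalk_equiv hD (g y)
  obtain ⟨b⟩ := nonempty_dual_stalk_equiv hD' y
  obtain ⟨c⟩ := nonempty_dual_tensor (R := R) (S := S) (D.presheaf.stalk (g y))
  let eP : ((Scheme.Modules.pullback g).obj D).presheaf.stalk y ≃ₗ[S] S ⊗[R] D.presheaf.stalk (g y) :=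
    ((ModStalk.pullbackStalkIso g y).app D).toLinearEquiv
  let eG : ((Scheme.Modules.pullback g).obj (RefHull.dual D)).presheaf.stalk y ≃ₗ[S]
      S ⊗[R] (RefHull.dual D).presheaf.stalk (g y) :=
    ((ModStalk.pullbackStalkIso g y).app (RefHull.dual D)).toLinearEquiv
  exact ⟨(((eG.trans (AlgebraTensorModule.congr (LinearEquiv.refl S S) a)).trans c).trans
    (LinearEquiv.arrowCongr eP.symm (LinearEquiv.refl S S))).trans b.symm⟩

/-- Depth does not drop along flat maps. -/
theorem le_depth_of_flat (y : Y) {k : ℕ∞} (h : k ≤ _root_.LocCoh.depth (X.presheaf.stalk (g y)) (X.presheaf.stalk (g y))) :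
    k ≤ _root_.LocCoh.depth (Y.presheaf.stalk y) (Y.presheaf.stalk y) := by
  let A := X.presheaf.stalk (g y)
  let B := Y.presheaf.stalk y
  letI : Algebra A B := (g.stalkMap y).hom.toAlgebra
  haveI : Module.Flat A B := Flat.stalkMap g y
  haveI : IsLocalHom (algebraMap A B) := inferInstanceAs (IsLocalHom (g.stalkMap y).hom)
  rw [← CAlgH3.depth_congr (AlgebraTensorModule.rid A B B), CommAlg6.depth_tensor_eq (A := A) (B := B) B A]
  exact h.trans le_self_add

/-- **Reflexive powers commute with flat pullback** where the structure sheaf has depth two off the open. -/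
theorem nonempty_pull_pow_stalk (Yo : X.Opens) {L : X.Modules} (hL : Coh.IsCoh L)
    (hLi : ∀ x : X, x ∈ Yo → RelCanon.InvertibleAt L x) {Lt : Y.Modules} (hLt : Coh.IsCoh Lt)
    (eL : ((Scheme.Modules.pullback g).obj L).restrict (g ⁻¹ᵁ Yo).ι ≅ Lt.restrict (g ⁻¹ᵁ Yo).ι) (n : ℕ) (y : Y)
    (hdep : ∀ x : X, x ⤳ g y → x ∉ Yo →
      (2 : ℕ∞) ≤ _root_.LocCoh.depth (X.presheaf.stalk x) (X.presheaf.stalk x)) :
    Nonempty (((Scheme.Modules.pullback g).obj (RefHull.ddual (CohB1.tensorPow L n))).presheaf.stalk y
      ≃ₗ[Y.presheaf.stalk y] (RefHull.ddual (CohB1.tensorPow Lt n)).presheaf.stalk y) := by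
  let D := RefHull.dual (CohB1.tensorPow L n)
  have hT := isCoh_tensorPow hL n
  have hD : Coh.IsCoh D := RefHullLib.isCoh_dual hT (Coherent.isCoh_structureModule X)
  have hD' : Coh.IsCoh ((Scheme.Modules.pullback g).obj D) :=
    ⟨haveI := hD.1; EGA43.InjFibre.isQCoh_pullback g D, Coherent.isFT_pullback_qcoh g hD.1 hD.2⟩
  have hDi : ∀ x : X, x ∈ Yo → RelCanon.InvertibleAt D x := fun x hx =>
    invertibleAt_dual hT x (invertibleAt_tensorPow Yo L hLi n x hx)
  obtain ⟨⟨φ⟩, -⟩ := nonempty_pull_ddual_pow g Yo hL hLi hLt eL n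
  obtain ⟨π⟩ := nonempty_pull_dual_on g Yo D hDi
  obtain ⟨a⟩ := nonempty_pull_dual_stalk g hD y
  have hT' : Coh.IsCoh (RefHull.dual (CohB1.tensorPow Lt n)) :=
    RefHullLib.isCoh_dual (isCoh_tensorPow hLt n) (Coherent.isCoh_structureModule Y)
  have h2 : ∀ w : Y, w ⤳ y → w ∉ g ⁻¹ᵁ Yo →
      (2 : ℕ∞) ≤ _root_.LocCoh.depth (Y.presheaf.stalk w) (Y.presheaf.stalk w) := fun w hw hwo =>
    le_depth_of_flat g w (hdep (g w) (hw.map g.continuous) hwo)
  obtain ⟨b⟩ := nonempty_stalk_equiv_of_restrict (RefHullLib.isCoh_dual hD' (Coherent.isCoh_structureModule Y))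
    (RefHullLib.isCoh_dual hT' (Coherent.isCoh_structureModule Y)) (g ⁻¹ᵁ Yo) (π.symm ≪≫ φ) y
    (fun w hw hwo => two_le_depth_dual hD' w (h2 w hw hwo)) (fun w hw hwo => two_le_depth_dual hT' w (h2 w hw hwo))
  exact ⟨a.trans b⟩

/-- Relative `(S₂)` descends along flat base changes. -/
theorem relSkAt_descend {T T' : Scheme.{u}} [IsLocallyNoetherian T] [IsLocallyNoetherian T'] (f : X ⟶ T)
    [LocallyOfFiniteType f] (f' : Y ⟶ T') [LocallyOfFiniteType f'] (h : T' ⟶ T) [Flat h] (sq : IsPullback g f' f h)
    {G : X.Modules} (hG : Coh.IsCoh G) (k : ℕ) (y : Y)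
    (hy : RelCanon.RelSkAt f' k ((Scheme.Modules.pullback g).obj G) y) : RelCanon.RelSkAt f k G (g y) := by
  obtain ⟨hfl, hsk⟩ := hy
  let x := g y
  refine ⟨?_, ?_⟩
  · -- flatness
    let A := T.presheaf.stalk (f x)
    let B := X.presheaf.stalk x
    let A' := T'.presheaf.stalk (f' y)
    let B' := Y.presheaf.stalk y
    have hxt : f x = h (f' y) := congrArg (fun m => m y) sq.w
    letI : Algebra A B := (f.stalkMap x).hom.toAlgebra
    letI : Algebra B B' := (g.stalkMap y).hom.toAlgebra
    letI : Algebra A' B' := (f'.stalkMap y).hom.toAlgebra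
    letI : Algebra A A' := ((T.presheaf.stalkSpecializes (specializes_of_eq hxt.symm)) ≫ h.stalkMap (f' y)).hom.toAlgebra
    letI : Algebra A B' := ((algebraMap B B').comp (algebraMap A B)).toAlgebra
    haveI : IsScalarTower A B B' := IsScalarTower.of_algebraMap_eq fun _ => rfl
    haveI : IsScalarTower A A' B' := IsScalarTower.of_algebraMap_eq fun a => by
      show (g.stalkMap y).hom ((f.stalkMap x).hom a) =
        (f'.stalkMap y).hom ((h.stalkMap (f' y)).hom ((T.presheaf.stalkSpecializes (specializes_of_eq hxt.symm)).hom a))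
      have e1 : (g ≫ f).stalkMap y = f.stalkMap x ≫ g.stalkMap y := Scheme.Hom.stalkMap_comp g f y
      have e2 : (f' ≫ h).stalkMap y = h.stalkMap (f' y) ≫ f'.stalkMap y := Scheme.Hom.stalkMap_comp f' h y
      have e3 := Scheme.Hom.stalkMap_congr_hom (g ≫ f) (f' ≫ h) sq.w y
      rw [e1, e2] at e3
      exact ConcreteCategory.congr_hom e3 a
    haveI : IsLocalHom (algebraMap B B') := inferInstanceAs (IsLocalHom (g.stalkMap y).hom)
    haveI : Module.Flat B B' := Flat.stalkMap g y
    haveI : Module.FaithfullyFlat B B' := Module.FaithfullyFlat.of_flat_of_isLocalHom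
    haveI : Module.Flat A A' := by
      haveI := Misc15.isLocalization_stalkSpecializes (X := T) (specializes_of_eq hxt.symm)
      letI : Algebra A (T.presheaf.stalk (h (f' y))) :=
        (T.presheaf.stalkSpecializes (specializes_of_eq hxt.symm)).hom.toAlgebra
      letI : Algebra (T.presheaf.stalk (h (f' y))) A' := (h.stalkMap (f' y)).hom.toAlgebra
      haveI : IsScalarTower A (T.presheaf.stalk (h (f' y))) A' := IsScalarTower.of_algebraMap_eq fun _ => rfl
      haveI : Module.Flat A (T.presheaf.stalk (h (f' y))) := IsLocalization.flat _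
        ((IsUnit.submonoid (T.presheaf.stalk (h (f' y)))).comap
          (T.presheaf.stalkSpecializes (specializes_of_eq hxt.symm)).hom)
      haveI : Module.Flat (T.presheaf.stalk (h (f' y))) A' := Flat.stalkMap h (f' y)
      exact Module.Flat.trans A (T.presheaf.stalk (h (f' y))) A'
    let M := G.presheaf.stalk x
    letI := FlatMod.moduleStalkOver f G x
    haveI : IsScalarTower A B M := IsScalarTower.of_compHom _ _ _
    let P := ((Scheme.Modules.pullback g).obj G).presheaf.stalk y
    letI := FlatMod.moduleStalkOver f' ((Scheme.Modules.pullback g).obj G) y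
    haveI : IsScalarTower A' B' P := IsScalarTower.of_compHom _ _ _
    haveI : Module.Flat A' P := hfl
    letI : Module A P := Module.compHom P (algebraMap A A')
    haveI : IsScalarTower A A' P := IsScalarTower.of_algebraMap_smul fun _ _ => rfl
    haveI : IsScalarTower A B' P := IsScalarTower.of_algebraMap_smul fun a m => by
      show algebraMap A B' a • m = algebraMap A A' a • m
      rw [IsScalarTower.algebraMap_apply A A' B', algebraMap_smul]
    haveI : Module.Flat A P := Module.Flat.trans A A' P
    let eP : P ≃ₗ[B'] B' ⊗[B] M := ((ModStalk.pullbackStalkIso g y).app G).toLinearEquiv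
    haveI : Module.Flat A (B' ⊗[B] M) := Module.Flat.of_linearEquiv (eP.symm.restrictScalars A)
    exact (Props12.flat_tensor_iff_of_faithfullyFlat (K := A) (A := B) (B := B') M).1 ‹_›
  · -- the fibre
    let t' := f' y
    let q : f'.fiber t' ⟶ f.fiber (h t') :=
      pullback.map _ _ _ _ g (Spec.map (h.residueFieldMap t')) h sq.w.symm (by simp)
    have sq' : IsPullback q (f'.fiberToSpecResidueField t') (f.fiberToSpecResidueField (h t'))
        (Spec.map (h.residueFieldMap t')) := isPullback_fiberToSpecResidueField_of_isPullback sq t'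
    haveI : Flat (Spec.map (h.residueFieldMap t')) := by
      rw [HasRingHomProperty.Spec_iff (P := @Flat), RingHom.Flat]
      letI := (h.residueFieldMap t').hom.toAlgebra
      exact Module.Flat.of_free
    haveI : Flat q := MorphismProperty.of_isPullback sq'.flip ‹_›
    haveI : LocallyOfFiniteType (f.fiberToSpecResidueField (h t')) :=
      MorphismProperty.pullback_snd _ _ inferInstance
    haveI : IsLocallyNoetherian (f.fiber (h t')) := LocallyOfFiniteType.isLocallyNoetherian (f.fiberToSpecResidueField (h t'))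
    haveI : LocallyOfFiniteType (f'.fiberToSpecResidueField t') :=
      MorphismProperty.pullback_snd _ _ inferInstance
    haveI : IsLocallyNoetherian (f'.fiber t') := LocallyOfFiniteType.isLocallyNoetherian (f'.fiberToSpecResidueField t')
    let ι := f.fiberι (h t')
    let ι' := f'.fiberι t'
    let N := (Scheme.Modules.pullback ι).obj G
    have hN : Coh.IsCoh N :=
      ⟨haveI := hG.1; EGA43.InjFibre.isQCoh_pullback ι G, Coherent.isFT_pullback_qcoh ι hG.1 hG.2⟩
    have hw : q ≫ ι = ι' ≫ g := pullback.lift_fst _ _ _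
    let z := f'.asFiber y
    let eN : (Scheme.Modules.pullback q).obj N ≅ (Scheme.Modules.pullback ι').obj ((Scheme.Modules.pullback g).obj G) :=
      (Scheme.Modules.pullbackComp q ι).app G ≪≫ (Scheme.Modules.pullbackCongr hw).app G ≪≫
        ((Scheme.Modules.pullbackComp ι' g).app G).symm
    have hqz : RelCanon.SkAt k N (q z) := by
      let R := (f.fiber (h t')).presheaf.stalk (q z)
      let S := (f'.fiber t').presheaf.stalk z
      letI : Algebra R S := (q.stalkMap z).hom.toAlgebra
      haveI : Module.Flat R S := Flat.stalkMap q z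
      haveI : IsLocalHom (algebraMap R S) := inferInstanceAs (IsLocalHom (q.stalkMap z).hom)
      haveI : Module.Finite R (N.presheaf.stalk (q z)) := AssSch12.finite_stalk hN (q z)
      let e : ((Scheme.Modules.pullback q).obj N).presheaf.stalk z ≃ₗ[S] S ⊗[R] N.presheaf.stalk (q z) :=
        ((ModStalk.pullbackStalkIso q z).app N).toLinearEquiv
      refine hasSk_descend_module (S := S) (N.presheaf.stalk (q z)) k ?_
      exact (EGA43.FibDepth.hasSk_congr (e.symm.trans ((DerSch.stalkFunctor (f'.fiber t') z).mapIso eN).toLinearEquiv) k).2 hsk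
    have hv : ι (q z) = x := by
      have h1 : (q ≫ ι) z = (ι' ≫ g) z := by rw [hw]
      exact h1.trans (congrArg g (f'.fiberι_asFiber y))
    have key : ∀ (x : X) (s : T), f x = s → ∀ v : f.fiber s, f.fiberι s v = x →
        RelCanon.SkAt k ((Scheme.Modules.pullback (f.fiberι s)).obj G) v →
        RelCanon.SkAt k ((Scheme.Modules.pullback (f.fiberι (f x))).obj G) (f.asFiber x) := by
      intro x s hs
      subst hs
      intro v hv hsk'
      obtain rfl : v = f.asFiber x := (f.fiberι _).isEmbedding.injective (hv.trans (f.fiberι_asFiber x).symm)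
      exact hsk'
    exact key x (h t') (congrArg (fun m => m y) sq.w) (q z) hv hqz

end Groth.Agent.DualLib.RelTop
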