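import Groth.Agent.DualLib.RelTop.ArbBC
import Groth.Agent.DualLib.RelTop.FlatPull
import Groth.Agent.DualLib.RelTop.DualPull
import Groth.Agent.DualLib.RelTop.ArtS2
import Groth.Agent.DualLib.RelTop.FibreQGor

/-!
# Reflexive powers of the dualizing sheaf under an arbitrary Noetherian base change
-/

set_option autoImplicit false
set_option backward.isDefEq.respectTransparency false
set_option linter.style.haveILetI false
set_option linter.unusedSectionVars false
set_option maxHeartbeats 800000

universe u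

open CategoryTheory CategoryTheory.Limits AlgebraicGeometry TopologicalSpace IsLocalRing TensorProduct

namespace Groth.Agent.DualLib.RelTop

open Groth.Agent EGA43.DimFormula

variable {X Y T T' : Scheme.{u}} [IsLocallyNoetherian T] [IsLocallyNoetherian T'] (g : Y ⟶ X) (f : X ⟶ T)
  [LocallyOfFiniteType f] (f' : Y ⟶ T') [LocallyOfFiniteType f'] (h : T' ⟶ T) (sq : IsPullback g f' f h)

include sq

/-- The fibres of a base change map flatly to the fibres. -/
theorem exists_fibre_map (t' : T') :
    ∃ (q : f'.fiber t' ⟶ f.fiber (h t')) (_ : Flat q), q ≫ f.fiberι (h t') = f'.fiberι t' ≫ g ∧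
      IsPullback q (f'.fiberToSpecResidueField t') (f.fiberToSpecResidueField (h t'))
        (Spec.map (h.residueFieldMap t')) := by
  let q : f'.fiber t' ⟶ f.fiber (h t') :=
    pullback.map _ _ _ _ g (Spec.map (h.residueFieldMap t')) h sq.w.symm (by simp)
  have sq' : IsPullback q (f'.fiberToSpecResidueField t') (f.fiberToSpecResidueField (h t'))
      (Spec.map (h.residueFieldMap t')) := isPullback_fiberToSpecResidueField_of_isPullback sq t'
  haveI : Flat (Spec.map (h.residueFieldMap t')) := by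
    rw [HasRingHomProperty.Spec_iff (P := @Flat), RingHom.Flat]
    letI := (h.residueFieldMap t').hom.toAlgebra
    exact Module.Flat.of_free
  exact ⟨q, MorphismProperty.of_isPullback sq'.flip ‹_›, pullback.lift_fst _ _ _, sq'⟩

/-- **Depth two of a pullback** off an open, from depth two on the fibres off it. -/
theorem two_le_depth_pullback {F : X.Modules} (hF : Coh.IsCoh F) (Xo : X.Opens)
    (hfib : ∀ (t : T) (z : f.fiber t), f.fiberι t z ∉ Xo →
      (2 : ℕ∞) ≤ _root_.LocCoh.depth ((f.fiber t).presheaf.stalk z)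
        (((Scheme.Modules.pullback (f.fiberι t)).obj F).presheaf.stalk z))
    (hflat : ∀ x : Y, g x ∈ Xo → FlatMod.IsFlatOverAt f' ((Scheme.Modules.pullback g).obj F) x) :
    (∀ x : Y, FlatMod.IsFlatOverAt f' ((Scheme.Modules.pullback g).obj F) x) ∧
      ∀ x : Y, x ∉ g ⁻¹ᵁ Xo →
        (2 : ℕ∞) ≤ _root_.LocCoh.depth (Y.presheaf.stalk x) (((Scheme.Modules.pullback g).obj F).presheaf.stalk x) := by
  haveI : IsLocallyNoetherian Y := LocallyOfFiniteType.isLocallyNoetherian f'
  let P := (Scheme.Modules.pullback g).obj F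
  have hPc : Coh.IsCoh P :=
    ⟨haveI := hF.1; EGA43.InjFibre.isQCoh_pullback g F, Coherent.isFT_pullback_qcoh g hF.1 hF.2⟩
  have main : ∀ y : Y, FlatMod.IsFlatOverAt f' P y ∧ (y ∉ g ⁻¹ᵁ Xo →
      (2 : ℕ∞) ≤ _root_.LocCoh.depth (Y.presheaf.stalk y) (P.presheaf.stalk y)) := fun y => by
    let t' := f' y
    let z := f'.asFiber y
    let ι := f.fiberι (h t')
    let ι' := f'.fiberι t'
    obtain ⟨q, _, hw, -⟩ := exists_fibre_map g f f' h sq t'
    haveI : LocallyOfFiniteType (f.fiberToSpecResidueField (h t')) :=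
      MorphismProperty.pullback_snd _ _ inferInstance
    haveI : IsLocallyNoetherian (f.fiber (h t')) :=
      LocallyOfFiniteType.isLocallyNoetherian (f.fiberToSpecResidueField (h t'))
    haveI : LocallyOfFiniteType (f'.fiberToSpecResidueField t') :=
      MorphismProperty.pullback_snd _ _ inferInstance
    haveI : IsLocallyNoetherian (f'.fiber t') := LocallyOfFiniteType.isLocallyNoetherian (f'.fiberToSpecResidueField t')
    let N := (Scheme.Modules.pullback ι).obj F
    have hN : Coh.IsCoh N :=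
      ⟨haveI := hF.1; EGA43.InjFibre.isQCoh_pullback ι F, Coherent.isFT_pullback_qcoh ι hF.1 hF.2⟩
    let P' := (Scheme.Modules.pullback ι').obj P
    have hP'q : Coh.IsQCoh P' := haveI := hPc.1; EGA43.InjFibre.isQCoh_pullback ι' P
    let eN : (Scheme.Modules.pullback q).obj N ≅ P' :=
      (Scheme.Modules.pullbackComp q ι).app F ≪≫ (Scheme.Modules.pullbackCongr hw).app F ≪≫
        ((Scheme.Modules.pullbackComp ι' g).app F).symm
    have hdep : ∀ v : f'.fiber t', ι' v ∉ g ⁻¹ᵁ Xo →
        (2 : ℕ∞) ≤ _root_.LocCoh.depth ((f'.fiber t').presheaf.stalk v) (P'.presheaf.stalk v) := fun v hv => by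
      let R := (f.fiber (h t')).presheaf.stalk (q v)
      let S := (f'.fiber t').presheaf.stalk v
      letI : Algebra R S := (q.stalkMap v).hom.toAlgebra
      haveI : Module.Flat R S := Flat.stalkMap q v
      haveI : IsLocalHom (algebraMap R S) := inferInstanceAs (IsLocalHom (q.stalkMap v).hom)
      haveI : Module.Finite R (N.presheaf.stalk (q v)) := AssSch12.finite_stalk hN (q v)
      let e : ((Scheme.Modules.pullback q).obj N).presheaf.stalk v ≃ₗ[S] S ⊗[R] N.presheaf.stalk (q v) :=
        ((ModStalk.pullbackStalkIso q v).app N).toLinearEquiv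
      let e' : S ⊗[R] N.presheaf.stalk (q v) ≃ₗ[S] P'.presheaf.stalk v :=
        e.symm.trans ((DerSch.stalkFunctor (f'.fiber t') v).mapIso eN).toLinearEquiv
      rw [← CAlgH3.depth_congr e',
        CommAlg6.depth_tensor_eq (A := R) (B := S) S (N.presheaf.stalk (q v))]
      refine le_trans (hfib _ (q v) ?_) le_self_add
      rw [← Scheme.Hom.comp_apply, hw, Scheme.Hom.comp_apply]
      exact hv
    obtain ⟨hfl, hd⟩ := flat_and_depth f' P hPc t' z (g ⁻¹ᵁ Xo) (fun x _ hx => hflat x hx) fun p hp => by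
      rw [depth_toPt P' hP'q z p]
      exact hdep _ hp
    have hz : f'.fiberι t' z = y := f'.fiberι_asFiber y
    exact ⟨hz ▸ hfl, fun hy => hd y (by rw [hz]) hy⟩
  exact ⟨fun x => (main x).1, fun x hx => (main x).2 hx⟩

omit sq
variable [Flat f'] {P : Y.Modules}

/-- An invertible module is flat. -/
theorem isFlatOverAt_of_invertibleAt (x : Y) (hP : RelCanon.InvertibleAt P x) : FlatMod.IsFlatOverAt f' P x := by
  obtain ⟨c⟩ := exists_stalk_equiv_of_invertibleAt hP
  letI := (f'.stalkMap x).hom.toAlgebra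
  letI := FlatMod.moduleStalkOver f' P x
  haveI : IsScalarTower (T'.presheaf.stalk (f' x)) (Y.presheaf.stalk x) (P.presheaf.stalk x) :=
    IsScalarTower.of_compHom _ _ _
  haveI : Module.Flat (T'.presheaf.stalk (f' x)) (Y.presheaf.stalk x) := Flat.stalkMap f' x
  exact Module.Flat.of_linearEquiv (c.restrictScalars (T'.presheaf.stalk (f' x)))

include sq

/-- Depth two of the base change off an open of fibrewise codimension two. -/
theorem two_le_depth_baseChange_arb (hS : RelCanon.IsSkMor f 2) (Xo : X.Opens)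
    (hdim : ∀ x : X, x ∉ Xo → (2 : WithBot ℕ∞) ≤ ringKrullDim ((f.fiber (f x)).presheaf.stalk (f.asFiber x)))
    (y : Y) (hy : y ∉ g ⁻¹ᵁ Xo) :
    (2 : ℕ∞) ≤ _root_.LocCoh.depth (Y.presheaf.stalk y) (Y.presheaf.stalk y) := by
  haveI : IsLocallyNoetherian X := LocallyOfFiniteType.isLocallyNoetherian f
  obtain ⟨-, h2⟩ := two_le_depth_pullback g f f' h sq (Coherent.isCoh_structureModule X) Xo (fun t z hz => by
    obtain ⟨e⟩ := QG15.exists_fibre_unit_equiv f t z
    rw [CAlgH3.depth_congr e]
    exact two_le_depth_fibre f hS t z fun x hx => hdim x (hx ▸ hz))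
    fun x _ => by
      refine isFlatOverAt_of_invertibleAt f' x (invertibleAt_pullback g x ?_)
      exact ⟨⊤, trivial, ⟨Scheme.Modules.restrictUnitIso _⟩⟩
  have h3 := h2 y hy
  let e' : ((Scheme.Modules.pullback g).obj (Coh.structureModule X)).presheaf.stalk y ≃ₗ[Y.presheaf.stalk y]
      Y.presheaf.stalk y := ((DerSch.stalkFunctor Y y).mapIso (PicLoc.pullbackStructureIso g)).toLinearEquiv.trans
    (SDiv28.unitStalkEquiv (X := Y) y).symm
  rwa [CAlgH3.depth_congr e'] at h3

omit sq

variable (L : X.Modules) (Lt : Y.Modules)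

/-- **Powers under base change**: the double dual of the pullback, and the pullback itself when relative `(S₂)`. -/
theorem nonempty_pow_baseChange (hS : RelCanon.IsSkMor f 2) (sq : IsPullback g f' f h) (Xo : X.Opens)
    (hdim : ∀ x : X, x ∉ Xo → (2 : WithBot ℕ∞) ≤ ringKrullDim ((f.fiber (f x)).presheaf.stalk (f.asFiber x)))
    (hL : Coh.IsCoh L) (hLi : ∀ x : X, x ∈ Xo → RelCanon.InvertibleAt L x) (hLt : Coh.IsCoh Lt)
    (eL : ((Scheme.Modules.pullback g).obj L).restrict (g ⁻¹ᵁ Xo).ι ≅ Lt.restrict (g ⁻¹ᵁ Xo).ι) (n : ℕ) :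
    Nonempty (RefHull.ddual ((Scheme.Modules.pullback g).obj (RefHull.ddual (CohB1.tensorPow L n))) ≅
        RefHull.ddual (CohB1.tensorPow Lt n)) ∧
      (RelCanon.RelSk f 2 (RefHull.ddual (CohB1.tensorPow L n)) →
        Nonempty ((Scheme.Modules.pullback g).obj (RefHull.ddual (CohB1.tensorPow L n)) ≅
          RefHull.ddual (CohB1.tensorPow Lt n))) := by
  haveI : IsLocallyNoetherian X := LocallyOfFiniteType.isLocallyNoetherian f
  haveI : IsLocallyNoetherian Y := LocallyOfFiniteType.isLocallyNoetherian f'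
  let U' := g ⁻¹ᵁ Xo
  let G := RefHull.ddual (CohB1.tensorPow L n)
  let G' := RefHull.ddual (CohB1.tensorPow Lt n)
  let P := (Scheme.Modules.pullback g).obj G
  have hG : Coh.IsCoh G := isCoh_refPowNat hL n
  have hG' : Coh.IsCoh G' := isCoh_refPowNat hLt n
  have hP : Coh.IsCoh P := ⟨haveI := hG.1; EGA43.InjFibre.isQCoh_pullback g G, Coherent.isFT_pullback_qcoh g hG.1 hG.2⟩
  obtain ⟨⟨φ⟩, hG'i⟩ := nonempty_pull_ddual_pow g Xo hL hLi hLt eL n
  have hPi : ∀ x : Y, x ∈ U' → RelCanon.InvertibleAt P x := fun x hx => invertibleAt_of_restrict_iso U' φ x hx (hG'i x hx)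
  have hO := two_le_depth_baseChange_arb g f f' h sq hS Xo hdim
  have hT' : Coh.IsCoh (RefHull.dual (CohB1.tensorPow Lt n)) :=
    RefHullLib.isCoh_dual (isCoh_tensorPow hLt n) (Coherent.isCoh_structureModule Y)
  have hE' := extends_of_depth G' hG' U' fun x hx => two_le_depth_dual hT' x (hO x hx)
  have hPd : Coh.IsCoh (RefHull.dual P) := RefHullLib.isCoh_dual hP (Coherent.isCoh_structureModule Y)
  obtain ⟨eD⟩ := nonempty_restrict_ddual U' hP hPi
  refine ⟨nonempty_iso_of_extends (extends_of_depth _ (RefHullLib.isCoh_dual hPd (Coherent.isCoh_structureModule Y)) U'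
    fun x hx => two_le_depth_dual hPd x (hO x hx)) hE' (eD.symm ≪≫ φ), fun hsk => ?_⟩
  have hGi : ∀ x : X, x ∈ Xo → RelCanon.InvertibleAt G x := fun x hx => by
    have hT := isCoh_tensorPow hL n
    exact invertibleAt_dual (RefHullLib.isCoh_dual hT (Coherent.isCoh_structureModule X)) x
      (invertibleAt_dual hT x (invertibleAt_tensorPow Xo L hLi n x hx))
  obtain ⟨-, hPdep⟩ := two_le_depth_pullback g f f' h sq hG Xo (fun t z hz => by
    let N := (Scheme.Modules.pullback (f.fiberι t)).obj G
    haveI : LocallyOfFiniteType (f.fiberToSpecResidueField t) :=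
      MorphismProperty.pullback_snd _ _ inferInstance
    haveI : IsLocallyNoetherian (f.fiber t) := LocallyOfFiniteType.isLocallyNoetherian (f.fiberToSpecResidueField t)
    have hN : Coh.IsCoh N :=
      ⟨haveI := hG.1; EGA43.InjFibre.isQCoh_pullback _ G, Coherent.isFT_pullback_qcoh _ hG.1 hG.2⟩
    have key : ∀ (x : X) (s : T), f x = s → ∀ v : f.fiber s, f.fiberι s v = x →
        RelCanon.SkAt 2 ((Scheme.Modules.pullback (f.fiberι s)).obj G) v ∧
          (x ∉ Xo → (2 : WithBot ℕ∞) ≤ ringKrullDim ((f.fiber s).presheaf.stalk v)) := by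
      intro x s hs
      subst hs
      intro v hv
      obtain rfl : v = f.asFiber x := (f.fiberι _).isEmbedding.injective (hv.trans (f.fiberι_asFiber x).symm)
      exact ⟨(hsk x).2, hdim x⟩
    have key' := fun v : f.fiber t => key _ t (EGA43.Chevalley.apply_fiberι f t v) v rfl
    exact two_le_depth_of_skAt hN z (key' z).1 (f.fiberι t ⁻¹ᵁ Xo) (fun w _ hw => (key' w).2 hw)
      (fun w _ hw => by
        obtain ⟨c⟩ := exists_stalk_equiv_of_invertibleAt (invertibleAt_pullback (f.fiberι t) w (hGi _ hw))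
        exact c.toEquiv.nontrivial) z (specializes_refl z) hz)
    fun x hx => isFlatOverAt_of_invertibleAt f' x (hPi x hx)
  exact nonempty_iso_of_extends (extends_of_depth P hP U' hPdep) hE' φ

end Groth.Agent.DualLib.RelTop
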