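import Groth.Agent.DualLib.RelTop.FibrePow
import Groth.Agent.AmpleLib.Counit

/-!
# The Gorenstein index divides the exponents of invertible reflexive powers
-/

set_option autoImplicit false
set_option backward.isDefEq.respectTransparency false
set_option linter.style.haveILetI false
set_option linter.unusedSectionVars false

universe u

open CategoryTheory CategoryTheory.Limits AlgebraicGeometry TopologicalSpace IsLocalRing TensorProduct

namespace Groth.Agent.DualLib.RelTop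

open Groth.Agent EGA43.DimFormula

variable {X : Scheme.{u}} [IsLocallyNoetherian X]

/-- The reflexive power is coherent. -/
theorem isCoh_refPowNat {L : X.Modules} (hL : Coh.IsCoh L) (m : ℕ) : Coh.IsCoh (RelCanon.refPowZ L m) :=
  RefHullLib.isCoh_dual (RefHullLib.isCoh_dual (isCoh_tensorPow hL m) (Coherent.isCoh_structureModule X))
    (Coherent.isCoh_structureModule X)

/-- A dual trivial on an open is invertible at points around which the complement has depth two. -/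
theorem invertibleAt_dual_of_iso_on {D : X.Modules} (hD : Coh.IsCoh D) (W : X.Opens)
    (e : (RefHull.dual D).restrict W.ι ≅ (Coh.structureModule X).restrict W.ι) (z : X)
    (h : ∀ x : X, x ⤳ z → x ∉ W → (2 : ℕ∞) ≤ _root_.LocCoh.depth (X.presheaf.stalk x) (X.presheaf.stalk x)) :
    RelCanon.InvertibleAt (RefHull.dual D) z := by
  have hc := RefHullLib.isCoh_dual hD (Coherent.isCoh_structureModule X)
  obtain ⟨a⟩ := nonempty_stalk_equiv_of_restrict hc (Coherent.isCoh_structureModule X) W e z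
    (fun x hx hxW => two_le_depth_dual hD x (h x hx hxW))
    (fun x hx hxW => by rw [CAlgH3.depth_congr (SDiv28.unitStalkEquiv (X := X) x).symm]; exact h x hx hxW)
  exact invertibleAt_of_stalk_equiv hc z (a.trans (SDiv28.unitStalkEquiv (X := X) z).symm)

/-- Invertibility of `L^{[a]}` and `L^{[b]}` gives that of `L^{[a - b]}`. -/
theorem invertibleAt_refPow_sub {L : X.Modules} (hL : Coh.IsCoh L) (U : X.Opens) (z : X)
    (hU : ∀ x : X, x ∈ U → RelCanon.InvertibleAt L x)
    (hdep : ∀ x : X, x ⤳ z → x ∉ U → (2 : ℕ∞) ≤ _root_.LocCoh.depth (X.presheaf.stalk x) (X.presheaf.stalk x))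
    (a b : ℕ) (hba : b ≤ a) (ha : RelCanon.InvertibleAt (RelCanon.refPowZ L a) z)
    (hb : RelCanon.InvertibleAt (RelCanon.refPowZ L b) z) :
    RelCanon.InvertibleAt (RelCanon.refPowZ L (a - b : ℕ)) z := by
  obtain ⟨Va, hza, ⟨ea⟩⟩ := ha
  obtain ⟨Vb, hzb, ⟨eb⟩⟩ := hb
  let W : X.Opens := U ⊓ (Va ⊓ Vb)
  let LW := L.restrict W.ι
  have hW : ∀ x : X, x ∈ W → RelCanon.InvertibleAt L x := fun x hx => hU x hx.1
  have hLW : PicF.IsInvertible LW := fun w => by
    obtain ⟨V, hwV, ⟨eV⟩⟩ := hW w.1 w.2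
    let V' : (W : Scheme.{u}).Opens := W.ι ⁻¹ᵁ V
    have hr : Set.range (V'.ι ≫ W.ι) ⊆ Set.range V.ι := by
      rintro _ ⟨v, rfl⟩
      exact ⟨⟨_, v.2⟩, rfl⟩
    let l := IsOpenImmersion.lift V.ι (V'.ι ≫ W.ι) hr
    exact ⟨V', hwV, ⟨((Scheme.Modules.restrictFunctorComp V'.ι W.ι).app L).symm ≪≫
      (Scheme.Modules.restrictFunctorCongr (IsOpenImmersion.lift_fac V.ι (V'.ι ≫ W.ι) hr).symm).app L ≪≫
      (Scheme.Modules.restrictFunctorComp l V.ι).app L ≪≫
      (Scheme.Modules.restrictFunctor l).mapIso eV ≪≫ Scheme.Modules.restrictUnitIso l⟩⟩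
  have htriv : ∀ (c : ℕ) (V : X.Opens), W ≤ V →
      ((RelCanon.refPowZ L c).restrict V.ι ≅ Coh.structureModule (V : Scheme.{u})) →
      Nonempty (CohB1.tensorPow LW c ≅ Coh.structureModule (W : Scheme.{u})) := by
    intro c V hWV eV
    obtain ⟨eD⟩ := nonempty_restrict_ddual W (isCoh_tensorPow hL c) (invertibleAt_tensorPow W L hW c)
    obtain ⟨eT⟩ := nonempty_restrict_tensorPow W L c
    exact ⟨eT.symm ≪≫ eD ≪≫
      (Scheme.Modules.restrictFunctorCongr (X.homOfLE_ι hWV).symm).app _ ≪≫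
      (Scheme.Modules.restrictFunctorComp (X.homOfLE hWV) V.ι).app _ ≪≫
      (Scheme.Modules.restrictFunctor (X.homOfLE hWV)).mapIso eV ≪≫ Scheme.Modules.restrictUnitIso _⟩
  obtain ⟨ta⟩ := htriv a Va (inf_le_right.trans inf_le_left) ea
  obtain ⟨tb⟩ := htriv b Vb (inf_le_right.trans inf_le_right) eb
  obtain ⟨m, -⟩ := AmpleLib.exists_powIso hLW (a - b) b
  rw [Nat.sub_add_cancel hba] at m
  let tab : CohB1.tensorPow LW (a - b) ≅ Coh.structureModule (W : Scheme.{u}) :=
    (AmpleLib.tensorComm _ _ ≪≫ AmpleLib.unitTensorIso _).symm ≪≫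
      AmpleLib.tensorIso (Iso.refl _) tb.symm ≪≫ m ≪≫ ta
  obtain ⟨eD⟩ := nonempty_restrict_ddual W (isCoh_tensorPow hL (a - b)) (invertibleAt_tensorPow W L hW (a - b))
  obtain ⟨eT⟩ := nonempty_restrict_tensorPow W L (a - b)
  refine invertibleAt_dual_of_iso_on (RefHullLib.isCoh_dual (isCoh_tensorPow hL (a - b)) (Coherent.isCoh_structureModule X))
    W (eD.symm ≪≫ eT ≪≫ tab ≪≫ (Scheme.Modules.restrictUnitIso W.ι).symm) z fun x hx hxW => hdep x hx fun hxU =>
      hxW ⟨hxU, hx.mem_open Va.isOpen hza, hx.mem_open Vb.isOpen hzb⟩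

/-- The index divides every exponent of an invertible reflexive power. -/
theorem gorIndex_dvd {L : X.Modules} (hL : Coh.IsCoh L) (U : X.Opens) (z : X)
    (hU : ∀ x : X, x ∈ U → RelCanon.InvertibleAt L x)
    (hdep : ∀ x : X, x ⤳ z → x ∉ U → (2 : ℕ∞) ≤ _root_.LocCoh.depth (X.presheaf.stalk x) (X.presheaf.stalk x))
    (r : ℕ) (hr : 0 < r) (h : RelCanon.InvertibleAt (RelCanon.refPowZ L r) z) :
    RelCanon.gorIndexWithAt L z ∣ r := by
  let S : Set ℕ := {r : ℕ | 0 < r ∧ RelCanon.InvertibleAt (RelCanon.refPowZ L r) z}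
  have hm : sInf S ∈ S := Nat.sInf_mem ⟨r, hr, h⟩
  show sInf S ∣ r
  have key : ∀ s, s ∈ S → sInf S ∣ s := by
    intro s
    induction s using Nat.strong_induction_on with
    | _ s ih =>
      intro hs
      rcases (Nat.sInf_le hs).eq_or_lt with he | hlt
      · exact he ▸ dvd_rfl
      · have h' : s - sInf S ∈ S :=
          ⟨Nat.sub_pos_of_lt hlt, invertibleAt_refPow_sub hL U z hU hdep s (sInf S) hlt.le hs.2 hm.2⟩
        obtain ⟨c, hc⟩ := ih _ (Nat.sub_lt hs.1 hm.1) h'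
        exact ⟨c + 1, by rw [mul_add, mul_one, ← hc, Nat.sub_add_cancel hlt.le]⟩
  exact key r ⟨hr, h⟩

/-- The unit to the direct image from an open is an isomorphism over an open of depth two. -/
theorem nonempty_push_restrict_iso {G : X.Modules} (hG : Coh.IsCoh G) (Yo U : X.Opens) {P : (Yo : Scheme.{u}).Modules}
    (e : G.restrict Yo.ι ≅ P)
    (h : ∀ x : X, x ∈ U → x ∉ Yo → (2 : ℕ∞) ≤ _root_.LocCoh.depth (X.presheaf.stalk x) (G.presheaf.stalk x)) :
    Nonempty (G.restrict U.ι ≅ ((Scheme.Modules.pushforward Yo.ι).obj P).restrict U.ι) := by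
  haveI := isIso_restrict_map U ((Scheme.Modules.restrictAdjunction Yo.ι).unit.app G) fun x hx =>
    bijective_stalk_restrictUnit G hG Yo x fun z hz hzo => h z (hz.mem_open U.isOpen hx) hzo
  exact ⟨asIso ((Scheme.Modules.restrictFunctor U.ι).map ((Scheme.Modules.restrictAdjunction Yo.ι).unit.app G)) ≪≫
    (Scheme.Modules.restrictFunctor U.ι).mapIso ((Scheme.Modules.pushforward Yo.ι).mapIso e)⟩

variable {A : Type u} [CommRing A] [IsNoetherianRing A] (Y : Scheme.{u}) [Y.Over (Spec (CommRingCat.of A))]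
  [IsProper (Y ↘ Spec (CommRingCat.of A))] [Flat (Y ↘ Spec (CommRingCat.of A))] (d : ℕ)

/-- The dualizing sheaf of a fibre is invertible on the relative Gorenstein locus. -/
theorem invertibleAt_fibre_dualizing (hd : Cyc.HasRelDim (Y ↘ Spec (CommRingCat.of A)) d) (ω : Y.Modules)
    (hω : RelCanon.IsDualizingSheaf A Y d ω) (t : Spec (CommRingCat.of A))
    (ωt : ((Y ↘ Spec (CommRingCat.of A)).fiber t).Modules)
    (hωt : @RelCanon.IsDualizingSheaf ((Spec (CommRingCat.of A)).residueField t) _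
      ((Y ↘ Spec (CommRingCat.of A)).fiber t) ⟨(Y ↘ Spec (CommRingCat.of A)).fiberToSpecResidueField t⟩ d ωt)
    (Yo : Y.Opens) (hYo : (Yo : Set Y) ⊆ RelCanon.gorLocus (Y ↘ Spec (CommRingCat.of A)))
    (v : (Y ↘ Spec (CommRingCat.of A)).fiber t) (hv : (Y ↘ Spec (CommRingCat.of A)).fiberι t v ∈ Yo) :
    RelCanon.InvertibleAt ωt v := by
  haveI : ∀ (U V : Scheme.{u}) (j : U ⟶ V) [IsOpenImmersion j],
      PreservesFiniteLimits (Scheme.Modules.restrictFunctor j) := fun U V j _ =>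
    DCat.PullPerf.preservesFiniteLimits_restrict j
  let f := Y ↘ Spec (CommRingCat.of A)
  let ι := f.fiberι t
  haveI : IsNoetherianRing (CommRingCat.of A) := ‹IsNoetherianRing A›
  haveI : LocallyOfFiniteType (f.fiberToSpecResidueField t) :=
    MorphismProperty.pullback_snd _ _ inferInstance
  haveI : IsLocallyNoetherian (f.fiber t) := LocallyOfFiniteType.isLocallyNoetherian (f.fiberToSpecResidueField t)
  obtain ⟨-, hinv⟩ := gor_open_and_invertible A Y d hd ω hω
  obtain ⟨eC⟩ := nonempty_fibre_iso_on_cm A Y d hd ω hω Yo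
    (fun y hy => ⟨(hYo hy).1, by haveI := (hYo hy).2; exact LocCoh.isCohenMacaulayLocalRing_of_gorenstein⟩) t ωt hωt
  refine invertibleAt_of_restrict_iso (ι ⁻¹ᵁ Yo) eC v hv ?_
  obtain ⟨W, hW, ⟨eW⟩⟩ := hinv (ι v) (hYo hv)
  obtain ⟨eW'⟩ := nonempty_pull_restrict ι W (M := ω) (N := Coh.structureModule Y)
    (eW ≪≫ (Scheme.Modules.restrictUnitIso W.ι).symm)
  exact ⟨ι ⁻¹ᵁ W, hW, ⟨eW' ≪≫ (Scheme.Modules.restrictFunctor (ι ⁻¹ᵁ W).ι).mapIso
    (PicLoc.pullbackStructureIso ι) ≪≫ Scheme.Modules.restrictUnitIso _⟩⟩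

end Groth.Agent.DualLib.RelTop
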