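import Groth.Agent.DualLib.RelTop.Depth
import Groth.Agent.DualLib.EndShriek
import Groth.Agent.DualLib.OmegaCM

/-!
# Endomorphisms of the relative dualizing sheaf at Cohen–Macaulay points
-/

set_option autoImplicit false
set_option backward.isDefEq.respectTransparency false
set_option backward.defeqAttrib.useBackward true
set_option linter.style.haveILetI false
set_option linter.unusedSectionVars false
set_option synthInstance.maxHeartbeats 100000

universe u

open CategoryTheory CategoryTheory.Limits CategoryTheory.Pretriangulated DerivedCategory AlgebraicGeometry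
open scoped TensorProduct

attribute [local instance] HasDerivedCategory.standard
attribute [-instance] Int.instConditionallyCompleteLinearOrder

namespace Groth.Agent.DualLib.RelTop

section Loc

variable {A : Type u} [CommRing A] [IsNoetherianRing A] {B : Type u} [CommRing B] [Algebra A B] (S : Submonoid A)
  [IsLocalization S B]
  [PreservesFiniteLimits (ModuleCat.extendScalars.{u, u, u} (algebraMap A B))]
  [PreservesFiniteColimits (ModuleCat.extendScalars.{u, u, u} (algebraMap A B))]

include S in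
/-- Endomorphisms commute with localization for bounded complexes with finite cohomology. -/
theorem bijective_smul_id_extD {X : Dual.D A} (hX : IsSmall X) (h : Function.Bijective fun a : A => a • 𝟙 X) :
    Function.Bijective fun c : B => c • 𝟙 ((extD (algebraMap A B)).obj X) := by
  let φ := algebraMap A B
  let G := (extD φ).obj X
  let η := (adjD φ).unit.app X
  let R := DRing.restrictD φ
  obtain ⟨a', b', hge, hle, hfin⟩ := hX
  obtain ⟨C, g, k, hT, hC, hCge⟩ := exists_triangle_unit (B := B) S X hge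
  haveI := hCge
  haveI := hle
  haveI : X.IsLE (a' + ((b' + 1 - a').toNat : ℤ) - 1) := (ts A).isLE_of_le X b' _ (by omega)
  have htors : ∀ (i : ℤ) (ψ : X ⟶ C⟦i⟧), ∃ s ∈ S, s • ψ = 0 :=
    torsion_hom S C (a' - 1) hC (b' + 1 - a').toNat a' X hge inferInstance hfin
  have hbij := ((adjD φ).homEquiv X G).bijective
  have hval : ∀ f : G ⟶ G, (adjD φ).homEquiv X G f = η ≫ R.map f := fun f => Adjunction.homEquiv_unit _ _ _ _
  let Ψ : B →ₗ[A] (X ⟶ R.obj G) :=
    { toFun := fun c => η ≫ R.map (c • 𝟙 G)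
      map_add' := fun c c' => by rw [add_smul, Functor.map_add, Preadditive.comp_add]
      map_smul' := fun x c => by
        rw [RingHom.id_apply, Algebra.smul_def, mul_smul, restrictD_map_smul, Linear.comp_smul] }
  have hone : ∀ x : A, Ψ (algebraMap A B x) = x • η := fun x => by
    show η ≫ R.map (algebraMap A B x • 𝟙 G) = _
    rw [restrictD_map_smul, CategoryTheory.Functor.map_id, Linear.comp_smul]
    exact congrArg (x • ·) (Category.comp_id η)
  have hker : ∀ x : A, x • η = 0 → ∃ s ∈ S, s * x = 0 := by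
    intro x hx
    obtain ⟨ψ, hψ⟩ := Triangle.coyoneda_exact₂ _ (inv_rot_of_distTriang _ hT) (x • 𝟙 X) (by
      show (x • 𝟙 X) ≫ η = 0
      rw [Linear.smul_comp, Category.id_comp, hx])
    obtain ⟨s, hs, h0⟩ := htors (-1) ψ
    refine ⟨s, hs, h.injective ?_⟩
    show (s * x) • 𝟙 X = (0 : A) • 𝟙 X
    rw [zero_smul, mul_smul, hψ, ← Linear.smul_comp, h0, zero_comp]
  have hsurj0 : ∀ ψ : X ⟶ R.obj G, ∃ s ∈ S, ∃ x : A, x • η = s • ψ := by
    intro ψ
    obtain ⟨s, hs, h0⟩ := htors 0 (ψ ≫ g ≫ (shiftFunctorZero (Dual.D A) ℤ).inv.app C)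
    obtain ⟨θ, hθ⟩ := Triangle.coyoneda_exact₂ _ hT (s • ψ) (by
      show (s • ψ) ≫ g = 0
      rw [← cancel_mono ((shiftFunctorZero (Dual.D A) ℤ).inv.app C), zero_comp, Category.assoc,
        Linear.smul_comp, h0])
    obtain ⟨x, rfl⟩ := h.surjective θ
    refine ⟨s, hs, x, ?_⟩
    rw [hθ]
    show x • η = (x • 𝟙 X) ≫ η
    rw [Linear.smul_comp]
    exact congrArg (x • ·) (Category.id_comp η).symm
  have hsmul : ∀ (s : S) (ψ : X ⟶ R.obj G), (s : A) • ψ = 0 → ψ = 0 := fun s ψ h0 => by
    rw [← cancel_mono ((shiftFunctorZero (Dual.D A) ℤ).inv.app (R.obj G)), zero_comp]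
    refine eq_zero_of_smul (B := B) S s.2 ?_
    show (s : A) • (_ ≫ _) = 0
    rw [← Linear.smul_comp, h0, zero_comp]
  have hΨ : Function.Bijective Ψ := by
    refine ⟨(injective_iff_map_eq_zero Ψ).2 fun c hc => ?_, fun ψ => ?_⟩
    · obtain ⟨x, t, rfl⟩ := IsLocalization.exists_mk'_eq S c
      have h0 : x • η = 0 := by
        rw [← hone, ← IsLocalization.mk'_spec B x t, mul_comm, ← Algebra.smul_def, map_smul, hc, smul_zero]
      obtain ⟨s, hs, hsx⟩ := hker x h0
      exact (IsLocalization.mk'_eq_zero_iff x t).2 ⟨⟨s, hs⟩, hsx⟩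
    · obtain ⟨s, hs, x, hx⟩ := hsurj0 ψ
      refine ⟨IsLocalization.mk' B x ⟨s, hs⟩, ?_⟩
      rw [← sub_eq_zero]
      refine hsmul ⟨s, hs⟩ _ ?_
      rw [smul_sub, sub_eq_zero, ← map_smul, Algebra.smul_def]
      exact (congrArg Ψ (IsLocalization.mk'_spec' B x ⟨s, hs⟩)).trans ((hone x).trans hx)
  have hcomp : (fun f => (adjD φ).homEquiv X G f) ∘ (fun c : B => c • 𝟙 G) = Ψ := funext fun c => hval _
  exact (Function.Bijective.of_comp_iff' hbij _).1 (by rw [hcomp]; exact hΨ)

end Loc

/-- Endomorphisms of a shifted module are those of the module. -/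
theorem bijective_smul_id_module {B : Type u} [CommRing B] (M : ModuleCat.{u} B) (k : ℤ)
    (h : Function.Bijective fun a : B => a • 𝟙 (((singleFunctor (ModuleCat.{u} B) 0).obj M)⟦k⟧)) :
    Function.Bijective fun r : B => r • (LinearMap.id : M →ₗ[B] M) := by
  let S := singleFunctor (ModuleCat.{u} B) 0 ⋙ shiftFunctor (Dual.D B) k
  let e : (M →ₗ[B] M) → (S.obj M ⟶ S.obj M) := fun f => S.map (ModuleCat.ofHom f)
  have he : Function.Bijective e :=
    ((Functor.FullyFaithful.ofFullyFaithful (shiftFunctor (Dual.D B) k)).map_bijective _ _).comp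
      ((Functor.FullyFaithful.ofFullyFaithful (singleFunctor (ModuleCat.{u} B) 0)).map_bijective _ _ |>.comp
        (ModuleCat.homLinearEquiv (S := B) (M := M) (N := M)).symm.bijective)
  refine (Function.Bijective.of_comp_iff' he _).1 ?_
  convert h using 1
  funext r
  show S.map (ModuleCat.ofHom (r • (LinearMap.id : M →ₗ[B] M))) = r • 𝟙 (S.obj M)
  rw [show ModuleCat.ofHom (r • (LinearMap.id : M →ₗ[B] M)) = r • 𝟙 M from rfl]
  show (shiftFunctor (Dual.D B) k).map ((singleFunctor (ModuleCat.{u} B) 0).map (r • 𝟙 M)) = _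
  rw [Functor.map_smul, CategoryTheory.Functor.map_id, Functor.map_smul, CategoryTheory.Functor.map_id]
  rfl

/-- Transport of `R = End M` along a semilinear bijection. -/
theorem bijective_smul_id_semilinear {R S : Type u} [CommRing R] [CommRing S] (φ : R ≃+* S) {M N : Type u}
    [AddCommGroup M] [Module R M] [AddCommGroup N] [Module S N] (e : M ≃+ N)
    (he : ∀ (r : R) (m : M), e (r • m) = φ r • e m)
    (h : Function.Bijective fun r : R => r • (LinearMap.id : M →ₗ[R] M)) :
    Function.Bijective fun s : S => s • (LinearMap.id : N →ₗ[S] N) := by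
  refine ⟨fun s t hst => φ.symm.injective (h.1 (LinearMap.ext fun m => e.injective ?_)), fun f => ?_⟩
  · show e (φ.symm s • m) = e (φ.symm t • m)
    rw [he, he, φ.apply_symm_apply, φ.apply_symm_apply]
    exact LinearMap.congr_fun hst (e m)
  · let f' : M →ₗ[R] M :=
      { toFun := fun m => e.symm (f (e m))
        map_add' := fun a b => by simp
        map_smul' := fun r m => by
          apply e.injective
          simp [he] }
    obtain ⟨r, hr⟩ := h.2 f'
    refine ⟨φ r, LinearMap.ext fun n => ?_⟩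
    obtain ⟨m, rfl⟩ := e.surjective n
    have := congrArg e (LinearMap.congr_fun hr m)
    simpa [f', he] using this

section Ring

variable {R B : Type u} [CommRing R] [IsNoetherianRing R] [CommRing B] [IsNoetherianRing B] [Algebra R B]
  [Algebra.FiniteType R B] [Module.Flat R B]
  {n : ℕ} (ψ : MvPolynomial (Fin n) R →ₐ[R] B) (hψ : Function.Surjective ψ)
  [DRing.HasLBaseChange (algebraMap R (MvPolynomial (Fin n) R))]
  {Rψ : Dual.D (MvPolynomial (Fin n) R) ⥤ Dual.D B} (adj : DRing.restrictD ψ.toRingHom ⊣ Rψ)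

include hψ adj

/-- `End(H^m_q) = B_q` where `φ^! R` is concentrated in degree `m`. -/
theorem bijective_end_of_concentrated (q : PrimeSpectrum B) (m b : ℤ)
    [(Dual2.shriekVia n Rψ (Dual.inD R R)).IsGE b]
    (hz : ∀ i : ℤ, i ≠ m → q ∉ Module.support B (Dual.HD B (Dual2.shriekVia n Rψ (Dual.inD R R)) i)) :
    Function.Bijective fun r : Localization.AtPrime q.asIdeal => r •
      (LinearMap.id : LocalizedModule q.asIdeal.primeCompl (Dual.HD B (Dual2.shriekVia n Rψ (Dual.inD R R)) m) →ₗ[Localization.AtPrime q.asIdeal]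
        LocalizedModule q.asIdeal.primeCompl (Dual.HD B (Dual2.shriekVia n Rψ (Dual.inD R R)) m)) := by
  let K := Dual2.shriekVia n Rψ (Dual.inD R R)
  let T := Localization.AtPrime q.asIdeal
  haveI : Module.Flat B T := IsLocalization.flat T q.asIdeal.primeCompl
  haveI := preservesFiniteLimits_flat (A := B) (B := T)
  haveI := preservesFiniteColimits_ext (A := B) (B := T)
  have hle : K.IsLE 0 := (DRingLib.isLE_iff_HD _ _).2 fun i hi => by
    refine (Module.support_eq_empty_iff (R := B)).1 (Set.eq_empty_iff_forall_notMem.2 fun p hp => ?_)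
    have := Shriek.le_zero_of_nontrivial ψ hψ adj p.asIdeal i hp
    omega
  have hfin := (Dual22Lib.bounded_finite_shriekVia ψ hψ adj (Dual.inD R R) 0 (fun i hi =>
        (DRingLib.isGE_iff_HD (Dual.inD R R) 0).1 inferInstance i hi)).2 (fun i => by
          rcases eq_or_ne i 0 with rfl | hi
          · exact DRingLib.finite_of_iso (DRingLib.hfInD _).symm (Module.Finite.self _)
          · haveI := DualLib.hd_single_subsingleton (A := R) R i hi
            infer_instance)
  have hend := bijective_smul_id_extD (B := T) q.asIdeal.primeCompl (X := K) ⟨b, 0, inferInstance, hle, hfin⟩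
    (Omega.bijective_smul_id_shriekVia ψ hψ adj).1
  let G := (extD (algebraMap B T)).obj K
  have hzG : ∀ i : ℤ, i ≠ m → Subsingleton (Dual.HD T G i) := fun i hi =>
    not_nontrivial_iff_subsingleton.1 fun hn => hz i hi ((OmegaCM.mem_support_iff_extD K q i).2 hn)
  haveI : G.IsGE m := (DRingLib.isGE_iff_HD _ _).2 fun i hi => hzG i (by omega)
  haveI : G.IsLE m := (DRingLib.isLE_iff_HD _ _).2 fun i hi => hzG i (by omega)
  obtain ⟨F, ⟨eG⟩⟩ := exists_iso_singleFunctor_obj_of_isGE_of_isLE G m
  obtain ⟨eT⟩ := nonempty_HD_tensor q.asIdeal.primeCompl K m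
  let eF : F ≃ₗ[T] LocalizedModule q.asIdeal.primeCompl (Dual.HD B K m) :=
    ((singleFunctorCompHomologyFunctorIso (ModuleCat.{u} T) m).app F).toLinearEquiv.symm ≪≫ₗ
      ((homologyFunctor (ModuleCat.{u} T) m).mapIso eG.symm).toLinearEquiv ≪≫ₗ eT ≪≫ₗ
      (LocalizedModule.equivTensorProduct q.asIdeal.primeCompl (Dual.HD B K m)).symm
  have h1 := Omega.bijective_smul_id_of_iso
    (eG ≪≫ ((singleFunctors (ModuleCat.{u} T)).shiftIso (-m) m 0 (by omega)).symm.app F) hend
  exact bijective_smul_id_semilinear (RingEquiv.refl T) eF.toAddEquiv (fun r x => map_smul eF r x)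
    (bijective_smul_id_module F (-m) h1)

end Ring

section Scheme

variable [∀ (U V : Scheme.{u}) (j : U ⟶ V) [IsOpenImmersion j], PreservesFiniteLimits (Scheme.Modules.restrictFunctor j)]

variable (A : Type u) [CommRing A] [IsNoetherianRing A] (Y : Scheme.{u}) [Y.Over (Spec (CommRingCat.of A))]
  [IsProper (Y ↘ Spec (CommRingCat.of A))] [Flat (Y ↘ Spec (CommRingCat.of A))] (d : ℕ)
  (hd : Cyc.HasRelDim (Y ↘ Spec (CommRingCat.of A)) d)

include hd

/-- At a Cohen–Macaulay point the endomorphisms of the stalk of the dualizing sheaf are scalars. -/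
theorem bijective_end_stalk (ω : Y.Modules) (hω : RelCanon.IsDualizingSheaf A Y d ω) (y : Y)
    (hy : MoreMor.IsCMAt (Y ↘ Spec (CommRingCat.of A)) y) :
    Function.Bijective fun r : Y.presheaf.stalk y => r •
      (LinearMap.id : ω.presheaf.stalk y →ₗ[Y.presheaf.stalk y] ω.presheaf.stalk y) := by
  let f := Y ↘ Spec (CommRingCat.of A)
  haveI : IsNoetherianRing (CommRingCat.of A) := ‹IsNoetherianRing A›
  haveI : IsNoetherian (Spec (CommRingCat.of A)) := {}
  haveI : CompactSpace Y := QuasiCompact.compactSpace_of_compactSpace f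
  haveI : QuasiSeparatedSpace Y := quasiSeparatedSpace_of_quasiSeparated f
  haveI : IsLocallyNoetherian Y := LocallyOfFiniteType.isLocallyNoetherian f
  haveI := DCat.hasRpush f
  haveI : ∀ (S : CommRingCat.{u}), PreservesFiniteLimits (tilde.functor S) :=
    Groth.Agent.AffSchLib.preservesFiniteLimits_tilde
  have h : DCoh.RpushPreservesQCoh f := fun K hK => DQCoh.isQCohD_Rpush f K hK
  haveI := Dual22Lib.AdjGeom.isLeftAdjoint_RpushQ f h
  let a := (DCoh.RpushQ f h).rightAdjoint
  let adj : DCoh.RpushQ f h ⊣ a := Adjunction.ofIsLeftAdjoint _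
  haveI : Coh.IsQCoh (Coh.structureModule (Spec (CommRingCat.of A))) := Coherent.isQCoh_structureModule
  let O : DCoh.DQCoh (Spec (CommRingCat.of A)) :=
    ⟨DCoh.inD _ (Coh.structureModule (Spec (CommRingCat.of A))), FlatBC14.isQCohD_inD _⟩
  obtain ⟨hdual, hge⟩ := isDualizingSheaf_HD (fibre_dim_le f d hd) h a adj O ⟨Iso.refl _⟩
  obtain ⟨eω⟩ := nonempty_iso_of_isDualizingSheaf hdual hω
  let c : DEt.Compactification f :=
    { Xbar := Y, j := 𝟙 Y, fbar := f, isOpenImmersion := inferInstance, isProper := ‹_›, fac := Category.id_comp f }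
  haveI : DCoh.HasRpush c.fbar := ‹DCoh.HasRpush f›
  haveI : IsOpenImmersion c.j := c.isOpenImmersion
  let G := (Dual3.shriekC c a).obj O
  obtain ⟨eG⟩ : Nonempty (G ≅ (a.obj O).obj) := DCat.PCTriangle.rd_id (a.obj O).obj
  let eH : DCoh.HD G (-(d : ℤ)) ≅ ω := (homologyFunctor _ _).mapIso eG ≪≫ eω
  obtain ⟨C⟩ := ShriekLocal.nonempty_chart c h a adj O ⟨Iso.refl _⟩ y
  haveI := ShriekGor.flat_chart C
  have hdim := ShriekCM.fibreDimAt_eq_of_components f d hd
  haveI : (Dual2.shriekVia C.n C.Rψ (Dual.inD C.R C.R)).IsGE (-(d : ℤ)) := (DRingLib.isGE_iff_HD _ _).2 fun i hi => by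
    refine (Module.support_eq_empty_iff (R := C.B)).1 (Set.eq_empty_iff_forall_notMem.2 fun q hq => ?_)
    have hdim' : FlatMor.fibreDimAt (Spec.map (CommRingCat.ofHom (algebraMap C.R C.B))) q = (d : WithBot ℕ∞) :=
      (AlgSpLib.fibreDimAt_eq_of_etale_square C.jX C.jY C.comm q).symm.trans (hdim (C.jX q))
    have := Shriek.neg_le_of_nontrivial C.ψ C.surj C.adj q d hdim'.le i hq
    omega
  have hB := bijective_end_of_concentrated C.ψ C.surj C.adj C.pt (-(d : ℤ)) (-(d : ℤ)) fun i hi hmem => by
    rcases lt_or_gt_of_ne hi with hlt | hgt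
    · haveI := (DRingLib.isGE_iff_HD (Dual2.shriekVia C.n C.Rψ (Dual.inD C.R C.R)) (-(d : ℤ))).1 inferInstance i hlt
      exact Module.notMem_support_iff.2 inferInstance hmem
    · exact (ShriekCM.support_of_cm C d (hdim y) hy).1 i hgt hmem
  obtain ⟨eC⟩ := ShriekFlatSheaf.nonempty_HD_chart C (-(d : ℤ))
  obtain ⟨φ, e, he⟩ := exists_stalk_chart C.jX (DCoh.HD G (-(d : ℤ))) _ eC C.pt
  have h1 := bijective_smul_id_semilinear φ.symm e.symm (fun r m => e.injective (by
    rw [he, e.apply_symm_apply, e.apply_symm_apply, φ.apply_symm_apply])) hB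
  rw [C.hpt] at h1
  let eY := ((DerSch.stalkFunctor Y y).mapIso eH).toLinearEquiv
  exact bijective_smul_id_semilinear (RingEquiv.refl _) eY.toAddEquiv (fun r x => map_smul eY r x) h1

end Scheme

end Groth.Agent.DualLib.RelTop
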