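import Groth.Agent.RefHullLib.Reflexive
import Groth.Agent.EGA43.DimFormula.Points
import Groth.Agent.CAlgH3.Depth
import Groth.Agent.Misc15.DivDescentInd
import Groth.Prelude.Def_FlatMod2

/-!
# Stalks at generizations as localizations
-/

set_option autoImplicit false
set_option backward.isDefEq.respectTransparency false
set_option linter.style.haveILetI false

universe u

open CategoryTheory CategoryTheory.Limits AlgebraicGeometry TopologicalSpace IsLocalRing

namespace Groth.Agent.DualLib.RelTop

open Groth.Agent EGA43.DimFormula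

variable {X S : Scheme.{u}} [IsLocallyNoetherian X]

/-- The prime of a stalk attached to a generization. -/
theorem comap_eq_of_toPt {y : X} (q : PrimeSpectrum (X.presheaf.stalk y)) :
    (maximalIdeal (X.presheaf.stalk (toPt y q))).comap (X.presheaf.stalkSpecializes (toPt_specializes y q)).hom =
      q.asIdeal := by
  let h := toPt_specializes y q
  have e : PrimeSpectrum.comap (X.presheaf.stalkSpecializes h).hom (closedPoint _) = q := by
    refine toPt_injective y ?_
    have h1 := congrArg (fun g => g (closedPoint _)) (Scheme.SpecMap_stalkSpecializes_fromSpecStalk (X := X) h)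
    exact h1.trans X.fromSpecStalk_closedPoint
  exact congrArg PrimeSpectrum.asIdeal e

/-- The stalk at a generization, as a localization of the ring and of a quasi-coherent module. -/
theorem stalk_loc (F : X.Modules) (hF : Coh.IsQCoh F) (y : X) (q : PrimeSpectrum (X.presheaf.stalk y)) :
    letI := (X.presheaf.stalkSpecializes (toPt_specializes y q)).hom.toAlgebra
    letI := Module.compHom (F.presheaf.stalk (toPt y q)) (X.presheaf.stalkSpecializes (toPt_specializes y q)).hom
    IsLocalization.AtPrime (X.presheaf.stalk (toPt y q)) q.asIdeal ∧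
      ∃ ρ : F.presheaf.stalk y →ₗ[X.presheaf.stalk y] F.presheaf.stalk (toPt y q),
        IsLocalizedModule q.asIdeal.primeCompl ρ := by
  let h := toPt_specializes y q
  letI := (X.presheaf.stalkSpecializes h).hom.toAlgebra
  letI := Module.compHom (F.presheaf.stalk (toPt y q)) (X.presheaf.stalkSpecializes h).hom
  haveI : IsScalarTower (X.presheaf.stalk y) (X.presheaf.stalk (toPt y q)) (F.presheaf.stalk (toPt y q)) :=
    IsScalarTower.of_algebraMap_smul fun _ _ => rfl
  haveI hL := Misc15.isLocalization_stalkSpecializes h
  have hS : (IsUnit.submonoid (X.presheaf.stalk (toPt y q))).comap (X.presheaf.stalkSpecializes h).hom =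
      q.asIdeal.primeCompl := by
    ext a
    show IsUnit _ ↔ a ∉ q.asIdeal
    rw [← comap_eq_of_toPt q]
    exact (IsLocalRing.notMem_maximalIdeal).symm
  haveI h1 : IsLocalization q.asIdeal.primeCompl (X.presheaf.stalk (toPt y q)) := by
    rw [← hS]; exact hL
  obtain ⟨ρ, hρ⟩ := RefHullLib.isBaseChange_stalkSpecializes (F := F) hF h
  exact ⟨h1, ρ, (isLocalizedModule_iff_isBaseChange q.asIdeal.primeCompl _ ρ).2 hρ⟩

/-- Depth at a generization. -/
theorem depth_toPt (F : X.Modules) (hF : Coh.IsQCoh F) (y : X) (q : PrimeSpectrum (X.presheaf.stalk y)) :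
    _root_.LocCoh.depth (Localization.AtPrime q.asIdeal) (LocalizedModule q.asIdeal.primeCompl (F.presheaf.stalk y)) =
      _root_.LocCoh.depth (X.presheaf.stalk (toPt y q)) (F.presheaf.stalk (toPt y q)) := by
  let h := toPt_specializes y q
  letI := (X.presheaf.stalkSpecializes h).hom.toAlgebra
  letI := Module.compHom (F.presheaf.stalk (toPt y q)) (X.presheaf.stalkSpecializes h).hom
  haveI : IsScalarTower (X.presheaf.stalk y) (X.presheaf.stalk (toPt y q)) (F.presheaf.stalk (toPt y q)) :=
    IsScalarTower.of_algebraMap_smul fun _ _ => rfl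
  obtain ⟨hl, ρ, hρ⟩ := stalk_loc F hF y q
  haveI : IsLocalization.AtPrime (X.presheaf.stalk (toPt y q)) q.asIdeal := hl
  haveI := hρ
  let B := Localization.AtPrime q.asIdeal
  let e := IsLocalization.algEquiv q.asIdeal.primeCompl B (X.presheaf.stalk (toPt y q))
  let _ : Algebra B (X.presheaf.stalk (toPt y q)) := e.toRingEquiv.toRingHom.toAlgebra
  let _ : Module B (F.presheaf.stalk (toPt y q)) := Module.compHom (F.presheaf.stalk (toPt y q)) e.toRingEquiv.toRingHom
  haveI : IsScalarTower B (X.presheaf.stalk (toPt y q)) (F.presheaf.stalk (toPt y q)) :=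
    IsScalarTower.of_algebraMap_smul fun _ _ => rfl
  haveI : IsScalarTower (X.presheaf.stalk y) B (F.presheaf.stalk (toPt y q)) :=
    IsScalarTower.of_algebraMap_smul fun r m => by
      show e (algebraMap (X.presheaf.stalk y) B r) • m = r • m
      rw [e.commutes]
      rfl
  rw [CAlgH3.depth_of_surjective (R := B) (S := X.presheaf.stalk (toPt y q)) e.surjective]
  exact CAlgH3.depth_congr ((IsLocalizedModule.iso q.asIdeal.primeCompl ρ).extendScalarsOfIsLocalization
    q.asIdeal.primeCompl B)

/-- Flatness at a generization gives flatness of the localized stalk. -/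
theorem flat_toPt (f : X ⟶ S) (F : X.Modules) (hF : Coh.IsQCoh F) (y : X) (q : PrimeSpectrum (X.presheaf.stalk y))
    (hflat : FlatMod.IsFlatOverAt f F (toPt y q)) :
    letI := (f.stalkMap y).hom.toAlgebra
    letI := FlatMod.moduleStalkOver f F y
    haveI : IsScalarTower (S.presheaf.stalk (f y)) (X.presheaf.stalk y) (F.presheaf.stalk y) :=
      IsScalarTower.of_compHom _ _ _
    Module.Flat (S.presheaf.stalk (f y)) (LocalizedModule q.asIdeal.primeCompl (F.presheaf.stalk y)) := by
  let h := toPt_specializes y q
  let x := toPt y q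
  let A := S.presheaf.stalk (f y)
  let A' := S.presheaf.stalk (f x)
  letI := (f.stalkMap y).hom.toAlgebra
  letI := FlatMod.moduleStalkOver f F y
  haveI : IsScalarTower A (X.presheaf.stalk y) (F.presheaf.stalk y) := IsScalarTower.of_compHom _ _ _
  letI := (X.presheaf.stalkSpecializes h).hom.toAlgebra
  letI := Module.compHom (F.presheaf.stalk x) (X.presheaf.stalkSpecializes h).hom
  haveI : IsScalarTower (X.presheaf.stalk y) (X.presheaf.stalk x) (F.presheaf.stalk x) :=
    IsScalarTower.of_algebraMap_smul fun _ _ => rfl
  letI : Algebra A A' := (S.presheaf.stalkSpecializes (h.map f.continuous)).hom.toAlgebra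
  letI : Module A (F.presheaf.stalk x) :=
    Module.compHom (F.presheaf.stalk x) (algebraMap A (X.presheaf.stalk y))
  haveI : IsScalarTower A (X.presheaf.stalk y) (F.presheaf.stalk x) :=
    IsScalarTower.of_algebraMap_smul fun _ _ => rfl
  letI := FlatMod.moduleStalkOver f F x
  haveI : IsScalarTower A A' (F.presheaf.stalk x) := IsScalarTower.of_algebraMap_smul fun a m => by
    show (f.stalkMap x).hom ((S.presheaf.stalkSpecializes (h.map f.continuous)).hom a) • m =
      (X.presheaf.stalkSpecializes h).hom ((f.stalkMap y).hom a) • m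
    refine congrArg (· • m) ?_
    exact ConcreteCategory.congr_hom (Scheme.Hom.stalkSpecializes_stalkMap f (x := x) (x' := y) h) a
  haveI := Misc15.isLocalization_stalkSpecializes (X := S) (h.map f.continuous)
  haveI : Module.Flat A A' := IsLocalization.flat A'
    ((IsUnit.submonoid A').comap (S.presheaf.stalkSpecializes (h.map f.continuous)).hom)
  haveI : Module.Flat A' (F.presheaf.stalk x) := hflat
  haveI : Module.Flat A (F.presheaf.stalk x) := Module.Flat.trans A A' (F.presheaf.stalk x)
  obtain ⟨-, ρ, hρ⟩ := stalk_loc F hF y q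
  haveI := hρ
  exact Module.Flat.of_linearEquiv ((IsLocalizedModule.iso q.asIdeal.primeCompl ρ).restrictScalars A)

end Groth.Agent.DualLib.RelTop
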