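import Groth.Agent.DualLib.RelTop.SplitLocal
import Groth.Agent.DualLib.RelTop.EndLocal
import Groth.Agent.DualLib.RelTop.Depth
import Groth.Agent.DualLib.RelTop.StalkLoc
import Groth.Agent.QG15.DualExtend
import Groth.Agent.CAlgH3.CMRing
import Groth.Agent.CAlgH3.Serre

/-!
# Self-extensions of the dualizing sheaf of a family with `(S₃)` fibres split on all stalks
-/

set_option autoImplicit false
set_option backward.isDefEq.respectTransparency false
set_option linter.style.haveILetI false
set_option linter.unusedSectionVars false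

universe u

open CategoryTheory CategoryTheory.Limits AlgebraicGeometry IsLocalRing

namespace Groth.Agent.DualLib.RelTop

open Groth.Agent EGA43.DimFormula

/-- Depth along a semilinear bijection. -/
theorem depth_semilinear {R S : Type u} [CommRing R] [CommRing S] [IsLocalRing R] [IsLocalRing S] (φ : R ≃+* S)
    {M N : Type u} [AddCommGroup M] [Module R M] [AddCommGroup N] [Module S N] (e : M ≃+ N)
    (he : ∀ (r : R) (m : M), e (r • m) = φ r • e m) :
    _root_.LocCoh.depth R M = _root_.LocCoh.depth S N := by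
  letI : Algebra R S := φ.toRingHom.toAlgebra
  letI : Module R N := Module.compHom N φ.toRingHom
  haveI : IsScalarTower R S N := IsScalarTower.of_algebraMap_smul fun _ _ => rfl
  rw [CAlgH3.depth_of_surjective (R := R) (S := S) φ.surjective N]
  exact CAlgH3.depth_congr ({ e with map_smul' := he } : M ≃ₗ[R] N)

/-- The localized stalk and the stalk at the generization, semilinearly. -/
theorem exists_semilinear_toPt {X : Scheme.{u}} [IsLocallyNoetherian X] (F : X.Modules) (hF : Coh.IsQCoh F) (y : X)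
    (q : PrimeSpectrum (X.presheaf.stalk y)) :
    ∃ (φ : Localization.AtPrime q.asIdeal ≃+* X.presheaf.stalk (toPt y q))
      (e : LocalizedModule q.asIdeal.primeCompl (F.presheaf.stalk y) ≃+ F.presheaf.stalk (toPt y q)),
      ∀ r m, e (r • m) = φ r • e m := by
  let h := toPt_specializes y q
  letI := (X.presheaf.stalkSpecializes h).hom.toAlgebra
  letI := Module.compHom (F.presheaf.stalk (toPt y q)) (X.presheaf.stalkSpecializes h).hom
  haveI : IsScalarTower (X.presheaf.stalk y) (X.presheaf.stalk (toPt y q)) (F.presheaf.stalk (toPt y q)) :=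
    IsScalarTower.of_algebraMap_smul fun _ _ => rfl
  obtain ⟨hl, ρ, hρ⟩ := stalk_loc F hF y q
  haveI : IsLocalization.AtPrime (X.presheaf.stalk (toPt y q)) q.asIdeal := hl
  haveI := hρ
  let B := Localization.AtPrime q.asIdeal
  let e := IsLocalization.algEquiv q.asIdeal.primeCompl B (X.presheaf.stalk (toPt y q))
  let _ : Module B (F.presheaf.stalk (toPt y q)) := Module.compHom (F.presheaf.stalk (toPt y q)) e.toRingEquiv.toRingHom
  haveI : IsScalarTower (X.presheaf.stalk y) B (F.presheaf.stalk (toPt y q)) :=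
    IsScalarTower.of_algebraMap_smul fun r m => by
      show e (algebraMap (X.presheaf.stalk y) B r) • m = r • m
      rw [e.commutes]
      rfl
  let l := (IsLocalizedModule.iso q.asIdeal.primeCompl ρ).extendScalarsOfIsLocalization q.asIdeal.primeCompl B
  exact ⟨e.toRingEquiv, l.toAddEquiv, fun r m => map_smul l r m⟩

variable [∀ (U V : Scheme.{u}) (j : U ⟶ V) [IsOpenImmersion j], PreservesFiniteLimits (Scheme.Modules.restrictFunctor j)]

variable (A : Type u) [CommRing A] [IsNoetherianRing A] (Y : Scheme.{u}) [Y.Over (Spec (CommRingCat.of A))]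
  [IsProper (Y ↘ Spec (CommRingCat.of A))] [Flat (Y ↘ Spec (CommRingCat.of A))] (d : ℕ)
  (hd : Cyc.HasRelDim (Y ↘ Spec (CommRingCat.of A)) d)

/-- Where the fibre is not Cohen–Macaulay, `(S₃)` gives depth three of the fibre and of the total space. -/
theorem three_le_depth_of_not_cm
    (hS3 : ∀ y : Y, RelCanon.SkAt 3 (Coh.structureModule ((Y ↘ Spec (CommRingCat.of A)).fiber ((Y ↘ Spec (CommRingCat.of A)) y))) ((Y ↘ Spec (CommRingCat.of A)).asFiber y))
    (y : Y) (hy : ¬ MoreMor.IsCMAt (Y ↘ Spec (CommRingCat.of A)) y) :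
    (3 : ℕ∞) ≤ _root_.LocCoh.depth (Y.presheaf.stalk y) (Y.presheaf.stalk y) ∧
      (2 : WithBot ℕ∞) ≤ ringKrullDim (((Y ↘ Spec (CommRingCat.of A)).fiber ((Y ↘ Spec (CommRingCat.of A)) y)).presheaf.stalk
        ((Y ↘ Spec (CommRingCat.of A)).asFiber y)) := by
  let f := Y ↘ Spec (CommRingCat.of A)
  let R := (f.fiber (f y)).presheaf.stalk (f.asFiber y)
  haveI : LocallyOfFiniteType (f.fiberToSpecResidueField (f y)) :=
    MorphismProperty.pullback_snd _ _ inferInstance
  haveI : IsLocallyNoetherian (f.fiber (f y)) := LocallyOfFiniteType.isLocallyNoetherian (f.fiberToSpecResidueField (f y))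
  have h1 : _root_.LocCoh.HasSk 3 R R :=
    (EGA43.FibDepth.hasSk_congr (EGA43.FibDepth.unitStalkEquiv (f.asFiber y)) 3).2 (hS3 y)
  have h2 := (CAlgH3.hasSk_self_iff 3).1 h1 (maximalIdeal R)
  let e : R ≃+* Localization.AtPrime (maximalIdeal R) :=
    (IsLocalization.atUnits R (maximalIdeal R).primeCompl (fun a ha => notMem_maximalIdeal.1 ha)).toRingEquiv
  rw [← ringKrullDim_eq_of_ringEquiv e, ← CAlgH3.depth_ringEquiv e] at h2
  have hle : ((_root_.LocCoh.depth R R : ℕ∞) : WithBot ℕ∞) ≤ ringKrullDim R :=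
    Module.supportDim_self_eq_ringKrullDim (R := R) ▸ CAlgH3.depth_le_supportDim
  have h3 : (3 : ℕ∞) ≤ _root_.LocCoh.depth R R := by
    rcases min_le_iff.1 h2 with h | h
    · exact WithBot.coe_le_coe.1 h
    · exact absurd ⟨Flat.stalkMap f y, { supportDim_eq_depth :=
        (Module.supportDim_self_eq_ringKrullDim (R := R)).trans (le_antisymm h hle) }⟩ hy
  refine ⟨le_trans h3 (Lef23.depth_fiberStalk_le (A := A) y), le_trans ?_ hle⟩
  exact WithBot.coe_le_coe.2 (le_trans (show (2 : ℕ∞) ≤ 3 by norm_num) h3)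

include hd

/-- Self-extensions of the stalks of the restricted dualizing sheaf split. -/
theorem split_stalk_restrict (ω : Y.Modules) (hω : RelCanon.IsDualizingSheaf A Y d ω)
    (hS3 : ∀ y : Y, RelCanon.SkAt 3 (Coh.structureModule ((Y ↘ Spec (CommRingCat.of A)).fiber ((Y ↘ Spec (CommRingCat.of A)) y))) ((Y ↘ Spec (CommRingCat.of A)).asFiber y))
    (V : Y.Opens) (x : (V : Scheme.{u})) :
    Split ((V : Scheme.{u}).presheaf.stalk x) ((ω.restrict V.ι).presheaf.stalk x) := by
  let f := Y ↘ Spec (CommRingCat.of A)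
  haveI : IsNoetherianRing (CommRingCat.of A) := ‹IsNoetherianRing A›
  haveI : IsLocallyNoetherian Y := LocallyOfFiniteType.isLocallyNoetherian f
  obtain ⟨hωc, hω2⟩ := isCoh_and_two_le_depth (A := A) (Y := Y) d hd ω hω
  have hWc : Coh.IsCoh (ω.restrict V.ι) := Coherent.isCoh_restrict V hωc
  haveI : Module.Finite ((V : Scheme.{u}).presheaf.stalk x) ((ω.restrict V.ι).presheaf.stalk x) :=
    AssSch12.finite_stalk hWc x
  refine split_of_local fun p _ => ?_
  let q : PrimeSpectrum ((V : Scheme.{u}).presheaf.stalk x) := ⟨p, inferInstance⟩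
  let z := toPt x q
  obtain ⟨φ₁, e₁, he₁⟩ := exists_semilinear_toPt (ω.restrict V.ι) hWc.1 x q
  obtain ⟨φ₂, e₂, he₂, -, -⟩ := RefHullLib.exists_semilinear_restrict V.ι ω z
  let φ := φ₂.trans φ₁.symm
  let e := e₂.trans e₁.symm
  have he : ∀ (r : Y.presheaf.stalk (V.ι z)) (m : ω.presheaf.stalk (V.ι z)), e (r • m) = φ r • e m := fun r m =>
    e₁.injective ((e₁.apply_symm_apply _).trans ((he₂ r m).trans
      ((congrArg₂ (fun a b => a • b) (φ₁.apply_symm_apply (φ₂ r)).symm (e₁.apply_symm_apply (e₂ m)).symm).trans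
        (he₁ _ _).symm)))
  by_cases hy : MoreMor.IsCMAt f (V.ι z)
  · exact Or.inl ⟨split_semilinear φ e he (split_stalk A Y d hd ω hω _ hy),
      bijective_smul_id_semilinear φ e he (bijective_end_stalk A Y d hd ω hω _ hy)⟩
  · obtain ⟨h3, h2⟩ := three_le_depth_of_not_cm A Y hS3 _ hy
    refine Or.inr ⟨?_, ?_⟩
    · rw [CAlgH3.depth_ringEquiv φ] at h3
      exact h3.trans (CAlgH3.depth_congr (CAlgH3.localizedModuleSelf p)).ge
    · exact (hω2 _ h2).trans (depth_semilinear φ e he).le

end Groth.Agent.DualLib.RelTop
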