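import Groth.Agent.DualLib.RelTop.BaseCM
import Groth.Agent.DualLib.RelTop.FibrePow
import Groth.Agent.DualLib.RelTop.DualPull
import Groth.Agent.DualLib.RelTop.SplitPoint
import Groth.Agent.DualLib.RelTop.QGorLocal
import Groth.Agent.ArtFunLib.QuotLift.StalkUnit
import Groth.Agent.FlatMorDim.Generic

/-!
# Base change along preimmersions of affine bases: fibres, depth, stalks and reflexive powers
-/

set_option autoImplicit false
set_option backward.isDefEq.respectTransparency false
set_option linter.style.haveILetI false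
set_option linter.unusedSectionVars false

universe u

open CategoryTheory CategoryTheory.Limits AlgebraicGeometry TopologicalSpace IsLocalRing TensorProduct

namespace Groth.Agent.DualLib.RelTop

open Groth.Agent EGA43.DimFormula ArtFunLib.QuotLift

section Ring

/-- A ring map onto a quotient of a localization lifts along it what kills its kernel and inverts what it inverts. -/
theorem exists_lift_of_frac {A A' Q : Type u} [CommRing A] [CommRing A'] [CommRing Q] (φ : A →+* A')
    (hgen : ∀ b : A', ∃ a s : A, IsUnit (φ s) ∧ b * φ s = φ a) (χ : A →+* Q)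
    (hker : ∀ a, φ a = 0 → χ a = 0) (hunit : ∀ a, IsUnit (φ a) → IsUnit (χ a)) :
    ∃ χ' : A' →+* Q, χ'.comp φ = χ := by
  let S : Submonoid A := (IsUnit.submonoid A').comap φ
  let L := Localization S
  let l : L →+* A' := IsLocalization.lift (M := S) (g := φ) fun s => s.2
  let m : L →+* Q := IsLocalization.lift (M := S) (g := χ) fun s => hunit _ s.2
  have hl : Function.Surjective l := fun b => by
    obtain ⟨a, s, hs, hb⟩ := hgen b
    refine ⟨IsLocalization.mk' L a (⟨s, hs⟩ : S), ?_⟩
    rw [IsLocalization.lift_mk'_spec, mul_comm]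
    exact hb.symm
  have hlm : RingHom.ker l ≤ RingHom.ker m := fun x hx => by
    obtain ⟨⟨a, s⟩, rfl⟩ := IsLocalization.mk'_surjective S x
    rw [RingHom.mem_ker, IsLocalization.lift_mk'_spec, mul_zero] at hx ⊢
    exact hker a hx
  refine ⟨RingHom.liftOfSurjective l hl ⟨m, hlm⟩, RingHom.ext fun a => ?_⟩
  have h1 : φ a = l (algebraMap A L a) := (IsLocalization.lift_eq _ a).symm
  rw [RingHom.comp_apply, h1, RingHom.liftOfSurjective_comp_apply]
  exact IsLocalization.lift_eq _ a

end Ring

variable {A A' : Type u} [CommRing A] [CommRing A'] {Y Y' : Scheme.{u}} (f : Y ⟶ Spec (CommRingCat.of A))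
  (f' : Y' ⟶ Spec (CommRingCat.of A')) (p : Y' ⟶ Y) (φ : A →+* A')
  (hp : IsPullback p f' f (Spec.map (CommRingCat.ofHom φ)))

theorem fromSpecStalk_comp_eq (y : Y) :
    Y.fromSpecStalk y ≫ f = Spec.map (CommRingCat.ofHom (rho f y)) := by
  rw [← Scheme.SpecMap_stalkMap_fromSpecStalk f (x := y), Spec.fromSpecStalk_eq]
  rw [← Spec.map_comp]
  congr 1
  ext r
  exact (ModelLib7.germ_toGlobal f y r).symm

include hp

/-- **The kernel on stalks of a base change by a quotient of a localization.** -/
theorem ker_stalkMap_baseChange [IsPreimmersion p]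
    (hgen : ∀ b : A', ∃ a s : A, IsUnit (φ s) ∧ b * φ s = φ a) (z : Y') :
    RingHom.ker (p.stalkMap z).hom = (RingHom.ker φ).map (rho f (p z)) := by
  apply le_antisymm
  · set x := p z
    intro a ha
    set I := (RingHom.ker φ).map (rho f x) with hIdef
    have hI : I ≤ maximalIdeal (Y.presheaf.stalk x) := Ideal.map_le_iff_le_comap.2 fun r hr => by
      intro hu
      have h2 := hu.map (p.stalkMap z).hom
      rw [stalkMap_rho hp.w z r, show φ r = 0 from hr, map_zero] at h2
      exact not_isUnit_zero h2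
    haveI : Nontrivial (Y.presheaf.stalk x ⧸ I) :=
      Ideal.Quotient.nontrivial_iff.mpr fun h ↦
        (maximalIdeal.isMaximal (Y.presheaf.stalk x)).ne_top (top_le_iff.mp (h ▸ hI))
    haveI : IsLocalRing (Y.presheaf.stalk x ⧸ I) :=
      IsLocalRing.of_surjective' (Ideal.Quotient.mk I) Ideal.Quotient.mk_surjective
    let q : Y.presheaf.stalk x ⟶ CommRingCat.of (Y.presheaf.stalk x ⧸ I) := CommRingCat.ofHom (Ideal.Quotient.mk I)
    haveI : IsLocalHom q.hom := IsLocalHom.of_surjective (Ideal.Quotient.mk I) Ideal.Quotient.mk_surjective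
    obtain ⟨χ', hχ⟩ := exists_lift_of_frac φ hgen ((Ideal.Quotient.mk I).comp (rho f x))
      (fun r hr => Ideal.Quotient.eq_zero_iff_mem.2 (Ideal.mem_map_of_mem _ hr)) fun r hr => by
        show IsUnit ((Ideal.Quotient.mk I) (rho f x r))
        refine IsUnit.map _ ?_
        haveI : IsLocalHom (p.stalkMap z).hom := inferInstance
        refine (isUnit_map_iff (p.stalkMap z).hom _).1 ?_
        rw [stalkMap_rho hp.w z r]
        exact hr.map _
    let g : Spec (CommRingCat.of (Y.presheaf.stalk x ⧸ I)) ⟶ Y' :=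
      hp.lift (Spec.map q ≫ Y.fromSpecStalk x) (Spec.map (CommRingCat.ofHom χ')) (by
        rw [Category.assoc, fromSpecStalk_comp_eq, ← Spec.map_comp, ← Spec.map_comp]
        congr 1
        exact CommRingCat.hom_ext hχ.symm)
    have hg : g ≫ p = Spec.map q ≫ Y.fromSpecStalk x := hp.lift_fst _ _ _
    have hgz : g (closedPoint _) = z := by
      apply p.isEmbedding.injective
      rw [← Scheme.Hom.comp_apply, hg, Scheme.Hom.comp_apply, Spec_closedPoint, Scheme.fromSpecStalk_closedPoint]
    have hrec := Scheme.Spec_stalkClosedPointTo_fromSpecStalk g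
    have h2 : Spec.map q ≫ Y.fromSpecStalk x =
        Spec.map ((p.stalkMap z) ≫ (Y'.presheaf.stalkCongr (Inseparable.of_eq hgz.symm)).hom ≫
          Scheme.stalkClosedPointTo g) ≫ Y.fromSpecStalk x := by
      rw [← hg]
      conv_lhs => rw [← hrec]
      rw [Spec.map_comp, Spec.map_comp, Category.assoc, Category.assoc]
      have e1 : Spec.map (Y'.presheaf.stalkCongr (Inseparable.of_eq hgz.symm)).hom ≫ Y'.fromSpecStalk z =
          Y'.fromSpecStalk _ :=
        Scheme.SpecMap_stalkSpecializes_fromSpecStalk (Inseparable.of_eq hgz.symm).ge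
      have e2 : Spec.map (p.stalkMap z) ≫ Y.fromSpecStalk x = Y'.fromSpecStalk z ≫ p :=
        Scheme.SpecMap_stalkMap_fromSpecStalk _
      rw [Category.assoc, e2, reassoc_of% e1]
    rw [cancel_mono] at h2
    have h3 := ConcreteCategory.congr_hom (Spec.map_injective h2) a
    refine Ideal.Quotient.eq_zero_iff_mem.mp (h3.trans ?_)
    rw [ConcreteCategory.comp_apply, show (p.stalkMap z) a = 0 from ha, map_zero]
  · refine Ideal.map_le_iff_le_comap.2 fun r hr => ?_
    show (p.stalkMap z).hom (rho f (p z) r) = 0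
    rw [stalkMap_rho hp.w z r, show φ r = 0 from hr, map_zero]

/-- The fibres of the base change are those of the original morphism, compatibly. -/
theorem exists_fibre_iso [IsPreimmersion (Spec.map (CommRingCat.ofHom φ))] (t' : Spec (CommRingCat.of A'))
    (t : Spec (CommRingCat.of A)) (ht : Spec.map (CommRingCat.ofHom φ) t' = t) :
    ∃ e : f'.fiber t' ≅ f.fiber t, e.hom ≫ f.fiberι t = f'.fiberι t' ≫ p := by
  subst ht
  let g := Spec.map (CommRingCat.ofHom φ)
  haveI := FlatMorThick.isIso_residueFieldMap g t'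
  let e := Spec.map (g.residueFieldMap t')
  have h1 := (IsPullback.of_hasPullback f' ((Spec (CommRingCat.of A')).fromSpecResidueField t')).paste_horiz hp
  have h2 : IsPullback (pullback.fst f' ((Spec (CommRingCat.of A')).fromSpecResidueField t') ≫ p)
      (pullback.snd f' ((Spec (CommRingCat.of A')).fromSpecResidueField t') ≫ e) f
      ((Spec (CommRingCat.of A)).fromSpecResidueField (g t')) := by
    refine h1.of_iso (Iso.refl _) (Iso.refl _) (asIso e) (Iso.refl _) ?_ ?_ ?_ ?_
    · simp
    · simp [e]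
    · simp
    · simp [e, g, Scheme.Hom.SpecMap_residueFieldMap_fromSpecResidueField]
  exact ⟨h2.isoPullback, h2.isoPullback_hom_fst⟩

omit hp in
/-- Stalks of isomorphic schemes. -/
theorem exists_stalk_ringEquiv {X X' : Scheme.{u}} (e : X ≅ X') (w : X) :
    Nonempty (X'.presheaf.stalk (e.hom w) ≃+* X.presheaf.stalk w) :=
  ⟨(asIso (e.hom.stalkMap w)).commRingCatIsoToRingEquiv⟩

variable [IsPreimmersion (Spec.map (CommRingCat.ofHom φ))] (t : Spec (CommRingCat.of A))
  (ht : ∀ t' : Spec (CommRingCat.of A'), Spec.map (CommRingCat.ofHom φ) t' = t)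
include ht

theorem apply_base (w : Y') : f (p w) = t := by
  rw [← Scheme.Hom.comp_apply, hp.w, Scheme.Hom.comp_apply, ht]

theorem hasRelDim_baseChange (d : ℕ) (hd : Cyc.HasRelDim f d) : Cyc.HasRelDim f' d := by
  intro t' Z hZ
  obtain ⟨e, -⟩ := exists_fibre_iso f f' p φ hp t' t (ht t')
  let h := Scheme.homeoOfIso e
  have h1 : h '' Z ∈ irreducibleComponents (f.fiber t) := by
    refine ⟨hZ.1.image _ h.continuous.continuousOn, fun W hW hle => ?_⟩
    have h2 := hZ.2 (hW.image _ h.symm.continuous.continuousOn) fun a ha =>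
      ⟨h a, hle ⟨a, ha, rfl⟩, h.symm_apply_apply a⟩
    exact fun b hb => ⟨h.symm b, h2 ⟨b, hb, rfl⟩, h.apply_symm_apply b⟩
  rw [← hd t _ h1]
  exact IsHomeomorph.topologicalKrullDim_eq _ (h.image Z).isHomeomorph

variable [IsNoetherianRing A] [IsNoetherianRing A'] [LocallyOfFiniteType f]

/-- Depth two of the fibres of the base change. -/
theorem two_le_depth_baseChange_fibre (hS : RelCanon.IsSkMor f 2) (Yo : Y.Opens)
    (hdim : ∀ x : Y, f x = t → x ∉ Yo → (2 : WithBot ℕ∞) ≤ ringKrullDim ((f.fiber (f x)).presheaf.stalk (f.asFiber x)))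
    (t' : Spec (CommRingCat.of A')) (v : f'.fiber t') (hv : p (f'.fiberι t' v) ∉ Yo) :
    (2 : ℕ∞) ≤ _root_.LocCoh.depth ((f'.fiber t').presheaf.stalk v) ((f'.fiber t').presheaf.stalk v) := by
  haveI : IsNoetherianRing (CommRingCat.of A) := ‹IsNoetherianRing A›
  haveI : IsLocallyNoetherian Y := LocallyOfFiniteType.isLocallyNoetherian f
  obtain ⟨e, he⟩ := exists_fibre_iso f f' p φ hp t' t (ht t')
  obtain ⟨r⟩ := exists_stalk_ringEquiv e v
  have hev : f.fiberι t (e.hom v) = p (f'.fiberι t' v) := by
    rw [← Scheme.Hom.comp_apply, he, Scheme.Hom.comp_apply]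
  rw [← depth_semilinear r r.toAddEquiv fun a b => map_mul r a b]
  refine two_le_depth_fibre f hS t (e.hom v) fun x hx => hdim x ?_ ?_
  · rw [← hx]; exact EGA43.Chevalley.apply_fiberι f t _
  · rw [← hx, hev]; exact hv

/-- **Depth two of the base change** off the open. -/
theorem two_le_depth_baseChange [LocallyOfFiniteType f'] (hS : RelCanon.IsSkMor f 2) (Yo : Y.Opens)
    (hdim : ∀ x : Y, f x = t → x ∉ Yo → (2 : WithBot ℕ∞) ≤ ringKrullDim ((f.fiber (f x)).presheaf.stalk (f.asFiber x)))
    (w : Y') (hw : p w ∉ Yo) :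
    (2 : ℕ∞) ≤ _root_.LocCoh.depth (Y'.presheaf.stalk w) (Y'.presheaf.stalk w) := by
  haveI : IsNoetherianRing (CommRingCat.of A') := ‹IsNoetherianRing A'›
  haveI : IsLocallyNoetherian Y' := LocallyOfFiniteType.isLocallyNoetherian f'
  haveI : Flat f := hS.1
  haveI : Flat f' := MorphismProperty.of_isPullback hp ‹Flat f›
  let t' := f' w
  let z := f'.asFiber w
  haveI : LocallyOfFiniteType (f'.fiberToSpecResidueField t') :=
    MorphismProperty.pullback_snd _ _ inferInstance
  haveI : IsLocallyNoetherian (f'.fiber t') := LocallyOfFiniteType.isLocallyNoetherian (f'.fiberToSpecResidueField t')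
  have hO := Coherent.isCoh_structureModule Y'
  have hz : f'.fiberι t' z = w := f'.fiberι_asFiber w
  rw [CAlgH3.depth_congr (SDiv28.unitStalkEquiv (X := Y') w)]
  refine (flat_and_depth f' (Coh.structureModule Y') hO t' z (p ⁻¹ᵁ Yo)
    (fun v _ _ => Lef23.isFlatOver_structureModule f' v) ?_).2 w (by rw [hz]) hw
  intro q hq
  obtain ⟨e⟩ := QG15.exists_fibre_unit_equiv f' t' (toPt z q)
  haveI := hO.1
  have hqc : Coh.IsQCoh ((Scheme.Modules.pullback (f'.fiberι t')).obj (Coh.structureModule Y')) :=
    EGA43.InjFibre.isQCoh_pullback (f'.fiberι t') _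
  rw [depth_toPt _ hqc z q, CAlgH3.depth_congr e]
  exact two_le_depth_baseChange_fibre f f' p φ hp t ht hS Yo hdim t' _ hq

end Groth.Agent.DualLib.RelTop
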