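import Groth.Agent.DualLib.RelTop.ArtBase
import Groth.Agent.DualLib.RelTop.FibreExists
import Mathlib.RingTheory.Artinian.Ring

/-!
# Infinitesimal neighbourhoods of a fibre
-/

set_option autoImplicit false
set_option backward.isDefEq.respectTransparency false
set_option backward.isDefEq.respectTransparency.types false
set_option linter.style.haveILetI false
set_option linter.unusedSectionVars false

universe u

open CategoryTheory CategoryTheory.Limits CategoryTheory.Pretriangulated AlgebraicGeometry IsLocalRing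

attribute [local instance] HasDerivedCategory.standard
attribute [-instance] Int.instConditionallyCompleteLinearOrder

namespace Groth.Agent.DualLib.RelTop

open Groth.Agent ArtFunLib.QuotLift

/-- Proper morphisms to Noetherian affine schemes have dualizing sheaves in any degree bounding their fibres. -/
theorem exists_dualizing (A : Type u) [CommRing A] [IsNoetherianRing A] (Y : Scheme.{u})
    [Y.Over (Spec (CommRingCat.of A))] [IsProper (Y ↘ Spec (CommRingCat.of A))] (d : ℕ)
    (hd : Cyc.HasRelDim (Y ↘ Spec (CommRingCat.of A)) d) :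
    ∃ ω : Y.Modules, RelCanon.IsDualizingSheaf A Y d ω := by
  haveI : ∀ (U V : Scheme.{u}) (j : U ⟶ V) [IsOpenImmersion j],
      PreservesFiniteLimits (Scheme.Modules.restrictFunctor j) := fun U V j _ =>
    DCat.PullPerf.preservesFiniteLimits_restrict j
  let f := Y ↘ Spec (CommRingCat.of A)
  haveI : IsNoetherianRing (CommRingCat.of A) := ‹IsNoetherianRing A›
  haveI : IsNoetherian (Spec (CommRingCat.of A)) := {}
  haveI : IsLocallyNoetherian Y := LocallyOfFiniteType.isLocallyNoetherian f
  haveI : CompactSpace Y := QuasiCompact.compactSpace_of_compactSpace f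
  haveI : QuasiSeparatedSpace Y := quasiSeparatedSpace_of_quasiSeparated f
  haveI : ∀ (S : CommRingCat.{u}), PreservesFiniteLimits (tilde.functor S) :=
    Groth.Agent.AffSchLib.preservesFiniteLimits_tilde
  haveI := DCat.hasRpush f
  have hf : DCoh.RpushPreservesQCoh f := fun K hK => DQCoh.isQCohD_Rpush f K hK
  haveI := Dual22Lib.AdjGeom.isLeftAdjoint_RpushQ f hf
  let a := (DCoh.RpushQ f hf).rightAdjoint
  let adj : DCoh.RpushQ f hf ⊣ a := Adjunction.ofIsLeftAdjoint _
  haveI : Coh.IsQCoh (Coh.structureModule (Spec (CommRingCat.of A))) := Coherent.isQCoh_structureModule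
  let O : DCoh.DQCoh (Spec (CommRingCat.of A)) :=
    ⟨DCoh.inD _ (Coh.structureModule (Spec (CommRingCat.of A))), FlatBC14.isQCohD_inD _⟩
  obtain ⟨hdual, -⟩ := isDualizingSheaf_HD (A := A) (X := Y) (fibre_dim_le f d hd) hf a adj O ⟨Iso.refl _⟩
  exact ⟨_, hdual⟩

section Quot

variable {A : Type u} [CommRing A] (t : Spec (CommRingCat.of A)) {A' : Type u} [CommRing A']
  (ψ : Localization.AtPrime t.asIdeal →+* A') (hψ : Function.Surjective ψ)

include hψ

/-- Quotients of the local ring are quotients of localizations. -/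
theorem frac_of_surjective (b : A') :
    ∃ a s : A, IsUnit (ψ.comp (algebraMap A (Localization.AtPrime t.asIdeal)) s) ∧
      b * ψ.comp (algebraMap A (Localization.AtPrime t.asIdeal)) s =
        ψ.comp (algebraMap A (Localization.AtPrime t.asIdeal)) a := by
  obtain ⟨x, rfl⟩ := hψ b
  obtain ⟨⟨a, s⟩, rfl⟩ := IsLocalization.mk'_surjective t.asIdeal.primeCompl x
  refine ⟨a, s, (IsLocalization.map_units (Localization.AtPrime t.asIdeal) s).map ψ, ?_⟩
  rw [RingHom.comp_apply, RingHom.comp_apply, ← map_mul, IsLocalization.mk'_spec]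

/-- Such base changes are preimmersions. -/
theorem isPreimmersion_of_surjective :
    IsPreimmersion (Spec.map (CommRingCat.ofHom (ψ.comp (algebraMap A (Localization.AtPrime t.asIdeal))))) := by
  haveI : IsClosedImmersion (Spec.map (CommRingCat.ofHom ψ)) := IsClosedImmersion.spec_of_surjective _ hψ
  haveI : IsPreimmersion (Spec.map (CommRingCat.ofHom (algebraMap A (Localization.AtPrime t.asIdeal)))) :=
    IsPreimmersion.of_isLocalization t.asIdeal.primeCompl
  rw [CommRingCat.ofHom_comp, Spec.map_comp]
  infer_instance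

variable [IsArtinianRing A'] [IsLocalRing A']

/-- Artinian local base changes live over the point. -/
theorem apply_eq_point (t' : Spec (CommRingCat.of A')) :
    Spec.map (CommRingCat.ofHom (ψ.comp (algebraMap A (Localization.AtPrime t.asIdeal)))) t' = t := by
  haveI := t'.isPrime
  have ht' : t'.asIdeal = maximalIdeal A' := IsLocalRing.eq_maximalIdeal (IsArtinianRing.isMaximal_of_isPrime _)
  have h1 : (maximalIdeal A').comap ψ = maximalIdeal (Localization.AtPrime t.asIdeal) :=
    IsLocalRing.eq_maximalIdeal (Ideal.comap_isMaximal_of_surjective ψ hψ)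
  refine PrimeSpectrum.ext ?_
  show t'.asIdeal.comap (ψ.comp (algebraMap A (Localization.AtPrime t.asIdeal))) = t.asIdeal
  rw [ht', ← Ideal.comap_comap, h1]
  exact IsLocalization.AtPrime.under_maximalIdeal (Localization.AtPrime t.asIdeal) t.asIdeal

end Quot

variable {A : Type u} [CommRing A]

/-- **The infinitesimal neighbourhoods of the fibre through a point.** -/
theorem exists_level [IsNoetherianRing A] {Y : Scheme.{u}} (f : Y ⟶ Spec (CommRingCat.of A)) (y : Y) (n : ℕ) :
    ∃ (A₁ : Type u) (_ : CommRing A₁) (_ : IsArtinianRing A₁) (_ : IsLocalRing A₁)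
      (ψ₁ : Localization.AtPrime (f y).asIdeal →+* A₁) (_ : Function.Surjective ψ₁)
      (Y₁ : Scheme.{u}) (f₁ : Y₁ ⟶ Spec (CommRingCat.of A₁)) (p₁ : Y₁ ⟶ Y)
      (_ : IsPullback p₁ f₁ f
        (Spec.map (CommRingCat.ofHom (ψ₁.comp (algebraMap A (Localization.AtPrime (f y).asIdeal))))))
      (_ : IsPreimmersion p₁) (y₁ : Y₁), p₁ y₁ = y ∧
        RingHom.ker (p₁.stalkMap y₁).hom =
          ((maximalIdeal ((Spec (CommRingCat.of A)).presheaf.stalk (f (p₁ y₁)))).map (f.stalkMap (p₁ y₁)).hom) ^ (n + 1) := by
  let O := (Spec (CommRingCat.of A)).presheaf.stalk (f y)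
  letI : Algebra A O := (StructureSheaf.toStalk A (f y)).hom.toAlgebra
  haveI : IsLocalization (f y).asIdeal.primeCompl O := StructureSheaf.IsLocalization.to_stalk A (f y)
  let e := IsLocalization.algEquiv (f y).asIdeal.primeCompl (Localization.AtPrime (f y).asIdeal) O
  haveI : IsNoetherianRing O := IsLocalization.isNoetherianRing (f y).asIdeal.primeCompl O ‹_›
  let K : Ideal O := maximalIdeal O ^ (n + 1)
  have hK : K ≤ maximalIdeal O := Ideal.pow_le_self n.succ_ne_zero
  haveI : Nontrivial (O ⧸ K) :=
    Ideal.Quotient.nontrivial_iff.mpr fun h => (maximalIdeal.isMaximal O).ne_top (top_le_iff.mp (h ▸ hK))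
  haveI : IsLocalRing (O ⧸ K) := IsLocalRing.of_surjective' (Ideal.Quotient.mk K) Ideal.Quotient.mk_surjective
  haveI : IsArtinianRing (O ⧸ K) := by
    refine isArtinianRing_iff_isNilpotent_maximalIdeal _ |>.2 ⟨n + 1, ?_⟩
    rw [← IsLocalRing.map_maximalIdeal_of_surjective (Ideal.Quotient.mk K) Ideal.Quotient.mk_surjective, ← Ideal.map_pow]
    exact Ideal.map_quotient_self K
  let ψ₁ : Localization.AtPrime (f y).asIdeal →+* O ⧸ K := (Ideal.Quotient.mk K).comp e.toRingEquiv.toRingHom
  have hψ₁ : Function.Surjective ψ₁ := Ideal.Quotient.mk_surjective.comp e.surjective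
  let φ := ψ₁.comp (algebraMap A (Localization.AtPrime (f y).asIdeal))
  let g := Spec.map (CommRingCat.ofHom φ)
  haveI : IsPreimmersion g := isPreimmersion_of_surjective (f y) ψ₁ hψ₁
  let p₁ : pullback f g ⟶ Y := pullback.fst f g
  have hp : IsPullback p₁ (pullback.snd f g) f g := IsPullback.of_hasPullback f g
  haveI : IsPreimmersion p₁ := MorphismProperty.of_isPullback hp.flip ‹IsPreimmersion g›
  obtain ⟨y₁, hy₁, -⟩ := Scheme.Pullback.exists_preimage_pullback (f := f) (g := g) y (closedPoint (O ⧸ K))
    (apply_eq_point (f y) ψ₁ hψ₁ _).symm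
  refine ⟨O ⧸ K, inferInstance, inferInstance, inferInstance, ψ₁, hψ₁, pullback f g, pullback.snd f g, p₁, hp,
    inferInstance, y₁, hy₁, ?_⟩
  rw [ker_stalkMap_baseChange f _ p₁ φ hp (frac_of_surjective (f y) ψ₁ hψ₁) y₁]
  have key : ∀ x : Y, x = y → (RingHom.ker φ).map (rho f x) =
      ((maximalIdeal ((Spec (CommRingCat.of A)).presheaf.stalk (f x))).map (f.stalkMap x).hom) ^ (n + 1) := by
    intro x hx
    cases hx
    have hφ : φ = (Ideal.Quotient.mk K).comp (algebraMap A O) := RingHom.ext fun a => congrArg _ (e.commutes a)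
    have hrho : rho f y = (f.stalkMap y).hom.comp (algebraMap A O) :=
      RingHom.ext fun a => by
        rw [RingHom.comp_apply, RingHom.algebraMap_toAlgebra]
        exact ModelLib7.germ_toGlobal f y a
    rw [hφ, ← RingHom.comap_ker, Ideal.mk_ker, hrho, ← Ideal.map_map]
    show Ideal.map _ (Ideal.map (algebraMap A O) (Ideal.comap (algebraMap A O) K)) = _
    rw [show Ideal.map (algebraMap A O) (Ideal.comap (algebraMap A O) K) = K from
      IsLocalization.map_under (f y).asIdeal.primeCompl O K]
    exact Ideal.map_pow _ _ _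
  exact key _ hy₁

end Groth.Agent.DualLib.RelTop
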