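import Groth.Agent.DualLib.RelTop.LiftCrit
import Mathlib.RingTheory.Nakayama
import Mathlib.RingTheory.Filtration

/-!
# A dual is free of rank one when its infinitesimal restrictions are
-/

set_option autoImplicit false
set_option backward.isDefEq.respectTransparency false
set_option linter.style.haveILetI false
set_option linter.unusedSectionVars false

universe u

open IsLocalRing TensorProduct

namespace Groth.Agent.DualLib.RelTop

variable {A B : Type u} [CommRing A] [IsLocalRing A] [IsNoetherianRing A] [CommRing B] [IsLocalRing B]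
  [IsNoetherianRing B] [Algebra A B] [Module.Flat A B] [IsLocalHom (algebraMap A B)]
  (J : Ideal B) (D : Type u) [AddCommGroup D] [Module B D] [Module.Finite B D]

local notation "ΙΙ" => mB A B

/-- If the maps into every infinitesimal neighbourhood form a free cyclic module and the module is free off a closed set
that no principal ideal swallows, then the dual is free of rank one. -/
theorem nonempty_dual_equiv_of_levels (hfree : ∀ q : Ideal B, ∀ [q.IsPrime], ¬J ≤ q →
      Module.Free (Localization.AtPrime q) (LocalizedModule q.primeCompl D))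
    (havoid : ∀ c ∈ maximalIdeal B, ∃ q : Ideal B, q.IsPrime ∧ ΙΙ ≤ q ∧ c ∈ q ∧ ¬J ≤ q)
    (hlev : ∀ n : ℕ, Nonempty ((D →ₗ[B] B ⧸ ΙΙ ^ (n + 1)) ≃ₗ[B] B ⧸ ΙΙ ^ (n + 1))) :
    Nonempty ((D →ₗ[B] B) ≃ₗ[B] B) := by
  haveI := Module.finitePresentation_of_finite B D
  have hI : ΙΙ ≤ maximalIdeal B := Ideal.map_le_iff_le_comap.2 fun a ha => map_nonunit (algebraMap A B) a ha
  let e := fun n => (hlev n).some
  let g : ∀ n, D →ₗ[B] B ⧸ ΙΙ ^ (n + 1) := fun n => (e n).symm (Submodule.Quotient.mk 1)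
  have hgen : ∀ (n : ℕ) (h : D →ₗ[B] B ⧸ ΙΙ ^ (n + 1)), ∃ b : B, h = b • g n := fun n h => by
    obtain ⟨b, hb⟩ := Submodule.Quotient.mk_surjective _ (e n h)
    refine ⟨b, (e n).injective ?_⟩
    rw [map_smul, LinearEquiv.apply_symm_apply, ← hb, ← Submodule.Quotient.mk_smul, smul_eq_mul, mul_one]
  have hann : ∀ (n : ℕ) (b : B), b • g n = 0 → b ∈ ΙΙ ^ (n + 1) := fun n b hb => by
    have := congrArg (e n) hb
    rw [map_smul, LinearEquiv.apply_symm_apply, map_zero, ← Submodule.Quotient.mk_smul, smul_eq_mul, mul_one,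
      Submodule.Quotient.mk_eq_zero] at this
    exact this
  let st : ∀ n, B ⧸ ΙΙ ^ (n + 1 + 1) →ₗ[B] B ⧸ ΙΙ ^ (n + 1) := fun n =>
    Submodule.factor (Ideal.pow_le_pow_right (Nat.le_succ (n + 1)))
  -- transitions are surjective
  have hstep : ∀ n, ∃ a : B, g n = st n ∘ₗ (a • g (n + 1)) := by
    intro n
    obtain ⟨c, hc⟩ := hgen n (st n ∘ₗ g (n + 1))
    by_cases hcu : IsUnit c
    · obtain ⟨c', rfl⟩ := hcu
      refine ⟨(↑c'⁻¹ : B), ?_⟩
      rw [LinearMap.comp_smul, hc, smul_smul, Units.inv_mul, one_smul]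
    obtain ⟨q, hq, hIq, hcq, hJq⟩ := havoid c hcu
    obtain ⟨s, r, u, v, hs, hvu⟩ := exists_split_of_free q D (hfree q hJq)
    obtain ⟨w, hw⟩ := Module.projective_lifting_property (st n) (g n ∘ₗ v) (Submodule.factor_surjective _)
    obtain ⟨a, ha⟩ := hgen (n + 1) (w ∘ₗ u)
    have h1 : st n ∘ₗ (w ∘ₗ u) = s • g n := by
      rw [← LinearMap.comp_assoc, hw, LinearMap.comp_assoc, hvu, LinearMap.comp_smul, LinearMap.comp_id]
    rw [ha, LinearMap.comp_smul, hc, smul_smul] at h1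
    have h2 : s - a * c ∈ q := ((Ideal.pow_le_self (Nat.succ_ne_zero n)).trans hIq) (hann n _ ((sub_smul s (a * c) (g n)).trans (sub_eq_zero.2 h1.symm)))
    exact absurd (by simpa using q.add_mem h2 (q.mul_mem_left a hcq)) hs
  let fl : ∀ k : ℕ, B ⧸ ΙΙ ^ (k + 1) →ₗ[B] B ⧸ ΙΙ := fun k =>
    Submodule.factor ((Ideal.pow_le_pow_right (Nat.le_add_left 1 k)).trans (pow_one ΙΙ).le)
  let h₀ := fl 0 ∘ₗ g 0
  have hchain : ∀ k, ∃ a : B, fl k ∘ₗ (a • g k) = h₀ := by
    intro k
    induction k with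
    | zero => exact ⟨1, by rw [one_smul]⟩
    | succ k ih =>
      obtain ⟨a, ha⟩ := ih
      obtain ⟨a', ha'⟩ := hstep k
      refine ⟨a * a', ?_⟩
      rw [← ha, ha', ← LinearMap.comp_smul, smul_smul, ← LinearMap.comp_assoc]
      congr 1
      exact (Submodule.factor_comp _ _).symm
  obtain ⟨G, hG⟩ := exists_lift_of_chain D h₀ fun k => (hchain k).elim fun a ha => ⟨a • g k, ha⟩
  -- the restriction to the closed fibre
  have hh₀ : ∀ b : B, b • h₀ = 0 → b ∈ ΙΙ := fun b hb => by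
    have h1 : b • g 0 = 0 := LinearMap.ext fun x => by
      obtain ⟨y, hy⟩ := Submodule.Quotient.mk_surjective _ (g 0 x)
      have h2 : fl 0 (b • g 0 x) = 0 := by rw [map_smul]; exact LinearMap.congr_fun hb x
      rw [LinearMap.smul_apply, ← hy, ← Submodule.Quotient.mk_smul]
      rw [← hy, ← Submodule.Quotient.mk_smul, show fl 0 (Submodule.Quotient.mk (b • y)) = Submodule.Quotient.mk (b • y) from rfl,
        Submodule.Quotient.mk_eq_zero] at h2
      exact (Submodule.Quotient.mk_eq_zero _).2 (by rwa [zero_add, pow_one])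
    simpa using hann 0 b h1
  let up : B ⧸ ΙΙ →ₗ[B] B ⧸ ΙΙ ^ (0 + 1) := Submodule.factor (by rw [zero_add, pow_one])
  have hsurj : Function.Surjective (restrDual A B D) := by
    intro h
    let h' : D →ₗ[B] B ⧸ ΙΙ ^ (0 + 1) := up ∘ₗ h
    obtain ⟨b, hb⟩ := hgen 0 h'
    refine ⟨b • G, ?_⟩
    show (Submodule.mkQ (mB A B)) ∘ₗ (b • G) = h
    rw [LinearMap.comp_smul, hG, show b • h₀ = fl 0 ∘ₗ h' from by rw [hb, LinearMap.comp_smul]]
    refine LinearMap.ext fun x => ?_
    obtain ⟨y, hy⟩ := Submodule.Quotient.mk_surjective _ (h x)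
    show fl 0 (up (h x)) = h x
    rw [← hy]
    rfl
  have hker := ker_restrDual (A := A) D hsurj
  have htop : (⊤ : Submodule B (D →ₗ[B] B)) ≤ Submodule.span B {G} := by
    refine Submodule.le_of_le_smul_of_le_jacobson_bot (Module.finite_def.1 inferInstance)
      (hI.trans (maximalIdeal_le_jacobson _)) fun h _ => ?_
    let h' : D →ₗ[B] B ⧸ ΙΙ ^ (0 + 1) := up ∘ₗ ((Submodule.mkQ (mB A B)) ∘ₗ h)
    obtain ⟨b, hb⟩ := hgen 0 h'
    refine Submodule.mem_sup.2 ⟨b • G, Submodule.smul_mem _ b (Submodule.mem_span_singleton_self G), h - b • G, ?_,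
      add_sub_cancel _ _⟩
    rw [← hker, LinearMap.mem_ker, map_sub, sub_eq_zero]
    show (Submodule.mkQ (mB A B)) ∘ₗ h = (Submodule.mkQ (mB A B)) ∘ₗ (b • G)
    rw [LinearMap.comp_smul, hG, show b • h₀ = fl 0 ∘ₗ h' from by rw [hb, LinearMap.comp_smul]]
    refine LinearMap.ext fun x => ?_
    rfl
  refine ⟨(LinearEquiv.ofBijective (LinearMap.toSpanSingleton B _ G) ⟨?_, ?_⟩).symm⟩
  · rw [injective_iff_map_eq_zero]
    intro b hb
    have hb' : b • G = 0 := hb
    suffices h : ∀ n, b ∈ ΙΙ ^ (n + 1) by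
      have h' : b ∈ ⨅ i : ℕ, ΙΙ ^ i := by
        rw [Ideal.mem_iInf]
        rintro (_ | i)
        · simp
        · exact h i
      rwa [Ideal.iInf_pow_eq_bot_of_isLocalRing _ (fun h => (maximalIdeal.isMaximal B).ne_top (top_le_iff.1 (h ▸ hI))),
        Ideal.mem_bot] at h'
    intro n
    obtain ⟨a, ha⟩ := hgen n ((ΙΙ ^ (n + 1)).mkQ ∘ₗ G)
    obtain ⟨c, hc⟩ := hgen 0 (Submodule.factor (Ideal.pow_le_pow_right (Nat.succ_le_succ (Nat.zero_le n))) ∘ₗ g n)
    have h1 : h₀ = (a * c) • h₀ := by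
      have hfl : fl n = fl 0 ∘ₗ Submodule.factor (Ideal.pow_le_pow_right (Nat.succ_le_succ (Nat.zero_le n))) :=
        (Submodule.factor_comp _ _).symm
      calc h₀ = (Submodule.mkQ (mB A B)) ∘ₗ G := hG.symm
        _ = fl n ∘ₗ ((ΙΙ ^ (n + 1)).mkQ ∘ₗ G) := LinearMap.ext fun x => rfl
        _ = (a * c) • h₀ := by
          rw [ha, LinearMap.comp_smul, hfl, LinearMap.comp_assoc, hc, LinearMap.comp_smul, smul_smul]
    have h2 : a * c - 1 ∈ maximalIdeal B := hI (hh₀ _ ((sub_smul (a * c) 1 h₀).trans (sub_eq_zero.2 (h1.symm.trans (one_smul B h₀).symm))))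
    have hau : IsUnit a := by
      by_contra h
      have := (maximalIdeal B).sub_mem ((maximalIdeal B).mul_mem_right c h) h2
      rw [sub_sub_cancel] at this
      exact this isUnit_one
    refine (Ideal.unit_mul_mem_iff_mem _ hau).1 (hann n _ ?_)
    rw [mul_comm, ← smul_smul, ← ha, ← LinearMap.comp_smul, hb', LinearMap.comp_zero]
  · intro h
    obtain ⟨b, hb⟩ := Submodule.mem_span_singleton.1 (htop (Submodule.mem_top (x := h)))
    exact ⟨b, hb⟩

end Groth.Agent.DualLib.RelTop
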