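import Groth.Agent.DualLib.RelTop.ArtPow
import Groth.Agent.DualLib.RelTop.ArtLevel
import Groth.Agent.DualLib.RelTop.LevelLift

/-!
# Invertibility of a reflexive power from the infinitesimal neighbourhoods of a fibre
-/

set_option autoImplicit false
set_option backward.isDefEq.respectTransparency false
set_option linter.style.haveILetI false
set_option linter.unusedSectionVars false
set_option maxHeartbeats 800000

universe u

open CategoryTheory CategoryTheory.Limits AlgebraicGeometry TopologicalSpace IsLocalRing TensorProduct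

namespace Groth.Agent.DualLib.RelTop

open Groth.Agent EGA43.DimFormula

/-- Every element of the maximal ideal of a local ring of a scheme lies in a prime containing the ideal of the fibre but
not the ideal of a closed set of codimension two in the fibre. -/
theorem exists_prime_avoiding {X T : Scheme.{u}} (f : X ⟶ T) [IsLocallyNoetherian T] [LocallyOfFiniteType f] (t : T)
    (z : f.fiber t) (Yo : X.Opens)
    (hdim : ∀ v : f.fiber t, v ⤳ z → f.fiberι t v ∉ Yo → (2 : WithBot ℕ∞) ≤ ringKrullDim ((f.fiber t).presheaf.stalk v))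
    (c : X.presheaf.stalk (f.fiberι t z)) (hc : c ∈ maximalIdeal (X.presheaf.stalk (f.fiberι t z))) :
    ∃ q : Ideal (X.presheaf.stalk (f.fiberι t z)), q.IsPrime ∧
      (maximalIdeal (T.presheaf.stalk (f (f.fiberι t z)))).map (f.stalkMap (f.fiberι t z)).hom ≤ q ∧ c ∈ q ∧
      ¬outIdeal Yo (f.fiberι t z) ≤ q := by
  haveI : LocallyOfFiniteType (f.fiberToSpecResidueField t) :=
    MorphismProperty.pullback_snd _ _ inferInstance
  haveI : IsLocallyNoetherian (f.fiber t) := LocallyOfFiniteType.isLocallyNoetherian (f.fiberToSpecResidueField t)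
  let ι := f.fiberι t
  let R := (f.fiber t).presheaf.stalk z
  let π := (ι.stalkMap z).hom
  obtain ⟨-, hker⟩ := Props12.stalkMap_fiberι f t z
  haveI : IsLocalHom π := inferInstanceAs (IsLocalHom (ι.stalkMap z).hom)
  have hne : Ideal.span {π c} ≠ (⊤ : Ideal R) := fun h =>
    hc ((isUnit_map_iff π c).1 (Ideal.span_singleton_eq_top.1 h))
  obtain ⟨P, hP⟩ := Ideal.nonempty_minimalPrimes hne
  haveI := hP.1.1
  let q : PrimeSpectrum (X.presheaf.stalk (ι z)) := PrimeSpectrum.comap π ⟨P, hP.1.1⟩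
  refine ⟨q.asIdeal, q.isPrime, ?_, hP.1.2 (Ideal.mem_span_singleton_self _), fun hJ => ?_⟩
  · rw [← hker]
    exact fun a ha => show π a ∈ P by rw [RingHom.mem_ker.1 ha]; exact P.zero_mem
  · have h1 := (outIdeal_le_iff Yo (ι z) q).1 hJ
    rw [show toPt (ι z) q = ι (toPt z ⟨P, hP.1.1⟩) from (apply_toPt ι z ⟨P, hP.1.1⟩).symm] at h1
    have h2 := hdim _ (toPt_specializes z _) h1
    have hdimloc : ringKrullDim ((f.fiber t).presheaf.stalk (toPt z ⟨P, hP.1.1⟩)) =
        ringKrullDim (Localization.AtPrime P) := by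
      let F := Coh.structureModule (f.fiber t)
      letI := ((f.fiber t).presheaf.stalkSpecializes (toPt_specializes z ⟨P, hP.1.1⟩)).hom.toAlgebra
      haveI : IsLocalization.AtPrime ((f.fiber t).presheaf.stalk (toPt z ⟨P, hP.1.1⟩)) P :=
        (stalk_loc F (Coherent.isCoh_structureModule _).1 z ⟨P, hP.1.1⟩).1
      exact ringKrullDim_eq_of_ringEquiv (IsLocalization.algEquiv P.primeCompl _ _).toRingEquiv
    rw [hdimloc, IsLocalization.AtPrime.ringKrullDim_eq_height P (Localization.AtPrime P)] at h2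
    have h3 : ((P.height : ℕ∞) : WithBot ℕ∞) ≤ ((1 : ℕ∞) : WithBot ℕ∞) :=
      WithBot.coe_le_coe.2 (Ideal.height_le_one_of_isPrincipal_of_mem_minimalPrimes _ P hP)
    exact absurd (h2.trans h3) (by decide)

/-- An invertible module is free on the stalks at generizations in the open. -/
theorem free_localized_stalk {X : Scheme.{u}} [IsLocallyNoetherian X] {D : X.Modules} (hD : Coh.IsCoh D) (y : X)
    (q : PrimeSpectrum (X.presheaf.stalk y)) (h : RelCanon.InvertibleAt D (toPt y q)) :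
    Module.Free (Localization.AtPrime q.asIdeal) (LocalizedModule q.asIdeal.primeCompl (D.presheaf.stalk y)) := by
  obtain ⟨φ, e, he⟩ := exists_semilinear_toPt D hD.1 y q
  obtain ⟨a⟩ := exists_stalk_equiv_of_invertibleAt h
  exact Module.Free.of_equiv (R := Localization.AtPrime q.asIdeal)
    ({ (e.trans a.toAddEquiv).trans φ.symm.toAddEquiv with
        map_smul' := fun r v => by
          show φ.symm (a (e (r • v))) = r * φ.symm (a (e v))
          rw [he, map_smul, smul_eq_mul, map_mul, φ.symm_apply_apply] } :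
      LocalizedModule q.asIdeal.primeCompl (D.presheaf.stalk y) ≃ₗ[Localization.AtPrime q.asIdeal]
        Localization.AtPrime q.asIdeal).symm

variable {A : Type u} [CommRing A] [IsNoetherianRing A] (Y : Scheme.{u}) [Y.Over (Spec (CommRingCat.of A))]
  [IsProper (Y ↘ Spec (CommRingCat.of A))] (d : ℕ) (hS : RelCanon.IsSkMor (Y ↘ Spec (CommRingCat.of A)) 2)
  (hd : Cyc.HasRelDim (Y ↘ Spec (CommRingCat.of A)) d) (ω : Y.Modules) (hω : RelCanon.IsDualizingSheaf A Y d ω)
  (Yo : Y.Opens) (hYo : (Yo : Set Y) ⊆ RelCanon.gorLocus (Y ↘ Spec (CommRingCat.of A))) (y : Y)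
  (hdim : ∀ x : Y, (Y ↘ Spec (CommRingCat.of A)) x = (Y ↘ Spec (CommRingCat.of A)) y → x ∉ Yo →
    (2 : WithBot ℕ∞) ≤ ringKrullDim
      (((Y ↘ Spec (CommRingCat.of A)).fiber ((Y ↘ Spec (CommRingCat.of A)) x)).presheaf.stalk
        ((Y ↘ Spec (CommRingCat.of A)).asFiber x)))

include hS hd hω hYo hdim

/-- **A reflexive power invertible on the infinitesimal neighbourhoods of a fibre is invertible.** -/
theorem invertibleAt_refPow_of_levels (m : ℕ)
    (H : ∀ (A' : Type u) [CommRing A'] [IsArtinianRing A'] [IsLocalRing A']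
      (ψ : Localization.AtPrime ((Y ↘ Spec (CommRingCat.of A)) y).asIdeal →+* A') (_ : Function.Surjective ψ)
      (Y' : Scheme.{u}) [Y'.Over (Spec (CommRingCat.of A'))] (p : Y' ⟶ Y)
      (_ : IsPullback p (Y' ↘ Spec (CommRingCat.of A')) (Y ↘ Spec (CommRingCat.of A))
        (Spec.map (CommRingCat.ofHom
          (ψ.comp (algebraMap A (Localization.AtPrime ((Y ↘ Spec (CommRingCat.of A)) y).asIdeal))))))
      (ω' : Y'.Modules) (_ : RelCanon.IsDualizingSheaf A' Y' d ω') (y' : Y') (_ : p y' = y),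
      RelCanon.InvertibleAt (RelCanon.refPowZ ω' m) y') :
    RelCanon.InvertibleAt (RelCanon.refPowZ ω m) y := by
  haveI : ∀ (U V : Scheme.{u}) (j : U ⟶ V) [IsOpenImmersion j],
      PreservesFiniteLimits (Scheme.Modules.restrictFunctor j) := fun U V j _ =>
    DCat.PullPerf.preservesFiniteLimits_restrict j
  let f := Y ↘ Spec (CommRingCat.of A)
  haveI : Flat f := hS.1
  haveI : IsNoetherianRing (CommRingCat.of A) := ‹IsNoetherianRing A›
  haveI : IsLocallyNoetherian Y := LocallyOfFiniteType.isLocallyNoetherian f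
  obtain ⟨hωc, -⟩ := isCoh_and_two_le_depth (A := A) (Y := Y) d hd ω hω
  obtain ⟨-, hinv⟩ := gor_open_and_invertible A Y d hd ω hω
  let T := CohB1.tensorPow ω m
  have hT : Coh.IsCoh T := isCoh_tensorPow hωc m
  have hTi : ∀ x : Y, x ∈ Yo → RelCanon.InvertibleAt T x :=
    invertibleAt_tensorPow Yo ω (fun x hx => hinv x (hYo hx)) m
  by_cases hy : y ∈ Yo
  · obtain ⟨eD⟩ := nonempty_restrict_ddual Yo hT hTi
    exact invertibleAt_of_restrict_iso Yo eD.symm y hy (hTi y hy)
  let D₀ := RefHull.dual T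
  have hD₀ : Coh.IsCoh D₀ := RefHullLib.isCoh_dual hT (Coherent.isCoh_structureModule Y)
  let O := (Spec (CommRingCat.of A)).presheaf.stalk (f y)
  let B := Y.presheaf.stalk y
  letI : Algebra O B := (f.stalkMap y).hom.toAlgebra
  haveI : Module.Flat O B := Flat.stalkMap f y
  haveI : IsLocalHom (algebraMap O B) := inferInstanceAs (IsLocalHom (f.stalkMap y).hom)
  let D := D₀.presheaf.stalk y
  haveI : Module.Finite B D := AssSch12.finite_stalk hD₀ y
  have hlev : ∀ n : ℕ, Nonempty ((D →ₗ[B] B ⧸ mB O B ^ (n + 1)) ≃ₗ[B] B ⧸ mB O B ^ (n + 1)) := by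
    intro n
    obtain ⟨A₁, _, _, _, ψ, hψ, Y₁, f₁, p₁, hp, _, y₁, hy₁, hker⟩ := exists_level f y n
    letI : Y₁.Over (Spec (CommRingCat.of A₁)) := ⟨f₁⟩
    haveI := isPreimmersion_of_surjective _ ψ hψ
    have ht := apply_eq_point _ ψ hψ
    haveI : IsProper (Y₁ ↘ Spec (CommRingCat.of A₁)) := MorphismProperty.of_isPullback hp ‹IsProper f›
    obtain ⟨ω₁, hω₁⟩ := exists_dualizing A₁ Y₁ d (hasRelDim_baseChange f _ p₁ _ hp _ ht d hd)
    obtain ⟨a⟩ := exists_stalk_equiv_of_invertibleAt (H A₁ ψ hψ Y₁ p₁ hp ω₁ hω₁ y₁ hy₁)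
    obtain ⟨b⟩ := nonempty_hom_stalk_equiv (A := A) (A' := A₁) p₁ (ψ.comp (algebraMap A _)) hp _ ht d hS hd ω hω ω₁ hω₁ Yo hYo hdim m y₁
    let B' := Y.presheaf.stalk (p₁ y₁)
    let S := Y₁.presheaf.stalk y₁
    letI : Algebra B' S := (p₁.stalkMap y₁).hom.toAlgebra
    let K : Ideal B' := RingHom.ker (algebraMap B' S)
    have hs : Function.Surjective (algebraMap B' S) := p₁.stalkMap_surjective y₁
    let e2 : (B' ⧸ K) ≃ₗ[B'] S :=
      { RingHom.quotientKerEquivOfSurjective (f := algebraMap B' S) hs with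
        map_smul' := fun c x => by
          obtain ⟨x, rfl⟩ := Ideal.Quotient.mk_surjective x
          show algebraMap B' S (c * x) = c • algebraMap B' S x
          rw [map_mul, Algebra.smul_def] }
    let c := (b.trans a).restrictScalars B'
    have key : ∀ x : Y, x = y → ∀ L : Ideal (Y.presheaf.stalk x),
        L = ((maximalIdeal ((Spec (CommRingCat.of A)).presheaf.stalk (f x))).map (f.stalkMap x).hom) ^ (n + 1) →
        Nonempty ((D₀.presheaf.stalk x →ₗ[Y.presheaf.stalk x] Y.presheaf.stalk x ⧸ L) ≃ₗ[Y.presheaf.stalk x]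
          Y.presheaf.stalk x ⧸ L) →
        Nonempty ((D →ₗ[B] B ⧸ mB O B ^ (n + 1)) ≃ₗ[B] B ⧸ mB O B ^ (n + 1)) := by
      intro x hx L hL h
      subst hx
      subst hL
      exact h
    exact key _ hy₁ K hker ⟨(LinearEquiv.arrowCongr (LinearEquiv.refl B' _) e2).trans (c.trans e2.symm)⟩
  have hdimf : ∀ v : f.fiber (f y), v ⤳ f.asFiber y → f.fiberι (f y) v ∉ Yo →
      (2 : WithBot ℕ∞) ≤ ringKrullDim ((f.fiber (f y)).presheaf.stalk v) := fun v _ hv => by
    rw [dim_fibre_pt f (f y) v]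
    exact hdim _ (EGA43.Chevalley.apply_fiberι f _ v) hv
  have havoid : ∀ c ∈ maximalIdeal B, ∃ q : Ideal B, q.IsPrime ∧ mB O B ≤ q ∧ c ∈ q ∧ ¬outIdeal Yo y ≤ q := by
    have h0 : ∀ x : Y, x = f.fiberι (f y) (f.asFiber y) → ∀ c ∈ maximalIdeal (Y.presheaf.stalk x),
        ∃ q : Ideal (Y.presheaf.stalk x), q.IsPrime ∧
          (maximalIdeal ((Spec (CommRingCat.of A)).presheaf.stalk (f x))).map (f.stalkMap x).hom ≤ q ∧ c ∈ q ∧
          ¬outIdeal Yo x ≤ q := by
      intro x hx
      subst hx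
      exact fun c hc => exists_prime_avoiding f (f y) (f.asFiber y) Yo hdimf c hc
    exact h0 y (f.fiberι_asFiber y).symm
  have hfree : ∀ q : Ideal B, ∀ [q.IsPrime], ¬outIdeal Yo y ≤ q →
      Module.Free (Localization.AtPrime q) (LocalizedModule q.primeCompl D) := by
    intro q hq hJ
    refine free_localized_stalk hD₀ y ⟨q, hq⟩ (invertibleAt_dual hT _ (hTi _ ?_))
    by_contra hx
    exact hJ ((outIdeal_le_iff Yo y ⟨q, hq⟩).2 hx)
  obtain ⟨g⟩ := nonempty_dual_equiv_of_levels (A := O) (outIdeal Yo y) D hfree havoid hlev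
  obtain ⟨b⟩ := nonempty_dual_stalk_equiv hD₀ y
  exact invertibleAt_of_stalk_equiv (RefHullLib.isCoh_dual hD₀ (Coherent.isCoh_structureModule Y)) y (b.trans g)

end Groth.Agent.DualLib.RelTop
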