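import Groth.Agent.DualLib.RelTop.ArtBase
import Groth.Agent.DualLib.RelTop.FlatPull

/-!
# Reflexive powers of the dualizing sheaf of an infinitesimal base change
-/

set_option autoImplicit false
set_option backward.isDefEq.respectTransparency false
set_option linter.style.haveILetI false
set_option linter.unusedSectionVars false
set_option maxHeartbeats 800000

universe u

open CategoryTheory CategoryTheory.Limits AlgebraicGeometry TopologicalSpace IsLocalRing TensorProduct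

namespace Groth.Agent.DualLib.RelTop

open Groth.Agent EGA43.DimFormula

variable {A A' : Type u} [CommRing A] [IsNoetherianRing A] [CommRing A'] [IsNoetherianRing A'] {Y Y' : Scheme.{u}}
  [Y.Over (Spec (CommRingCat.of A))] [IsProper (Y ↘ Spec (CommRingCat.of A))] [Y'.Over (Spec (CommRingCat.of A'))]
  (p : Y' ⟶ Y) (φ : A →+* A')
  (hp : IsPullback p (Y' ↘ Spec (CommRingCat.of A')) (Y ↘ Spec (CommRingCat.of A)) (Spec.map (CommRingCat.ofHom φ)))
  [IsPreimmersion (Spec.map (CommRingCat.ofHom φ))] (t : Spec (CommRingCat.of A))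
  (ht : ∀ t' : Spec (CommRingCat.of A'), Spec.map (CommRingCat.ofHom φ) t' = t)
  (d : ℕ) (hS : RelCanon.IsSkMor (Y ↘ Spec (CommRingCat.of A)) 2) (hd : Cyc.HasRelDim (Y ↘ Spec (CommRingCat.of A)) d)
  (ω : Y.Modules) (hω : RelCanon.IsDualizingSheaf A Y d ω) (ω' : Y'.Modules)
  (hω' : RelCanon.IsDualizingSheaf A' Y' d ω') (Yo : Y.Opens)
  (hYo : (Yo : Set Y) ⊆ RelCanon.gorLocus (Y ↘ Spec (CommRingCat.of A)))
  (hdim : ∀ x : Y, (Y ↘ Spec (CommRingCat.of A)) x = t → x ∉ Yo →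
    (2 : WithBot ℕ∞) ≤ ringKrullDim
      (((Y ↘ Spec (CommRingCat.of A)).fiber ((Y ↘ Spec (CommRingCat.of A)) x)).presheaf.stalk
        ((Y ↘ Spec (CommRingCat.of A)).asFiber x)))

include hp ht hS hd hω hω' hYo

theorem isCoh_baseChange_dualizing : Coh.IsCoh ω' := by
  haveI : IsProper (Y' ↘ Spec (CommRingCat.of A')) := MorphismProperty.of_isPullback hp ‹_›
  exact (isCoh_and_two_le_depth (A := A') (Y := Y') d
    (hasRelDim_baseChange _ _ p φ hp t ht d hd) ω' hω').1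

/-- **Reflexive powers of the base change on the Gorenstein locus.** -/
theorem nonempty_pull_refPow_on (m : ℕ) :
    Nonempty (((Scheme.Modules.pullback p).obj (RelCanon.refPowZ ω m)).restrict (p ⁻¹ᵁ Yo).ι ≅
        (RelCanon.refPowZ ω' m).restrict (p ⁻¹ᵁ Yo).ι) ∧
      Nonempty ((RefHull.dual ((Scheme.Modules.pullback p).obj (RefHull.dual (CohB1.tensorPow ω m)))).restrict
          (p ⁻¹ᵁ Yo).ι ≅ (RelCanon.refPowZ ω' m).restrict (p ⁻¹ᵁ Yo).ι) ∧
      ∀ v : Y', v ∈ p ⁻¹ᵁ Yo → RelCanon.InvertibleAt (RelCanon.refPowZ ω' m) v := by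
  haveI : ∀ (U V : Scheme.{u}) (j : U ⟶ V) [IsOpenImmersion j],
      PreservesFiniteLimits (Scheme.Modules.restrictFunctor j) := fun U V j _ =>
    DCat.PullPerf.preservesFiniteLimits_restrict j
  let f := Y ↘ Spec (CommRingCat.of A)
  haveI : Flat f := hS.1
  haveI : IsNoetherianRing (CommRingCat.of A) := ‹IsNoetherianRing A›
  haveI : IsNoetherianRing (CommRingCat.of A') := ‹IsNoetherianRing A'›
  haveI : IsLocallyNoetherian Y := LocallyOfFiniteType.isLocallyNoetherian f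
  haveI : IsProper (Y' ↘ Spec (CommRingCat.of A')) := MorphismProperty.of_isPullback hp ‹_›
  haveI : IsLocallyNoetherian Y' := LocallyOfFiniteType.isLocallyNoetherian (Y' ↘ Spec (CommRingCat.of A'))
  let U' : Y'.Opens := p ⁻¹ᵁ Yo
  obtain ⟨hωc, -⟩ := isCoh_and_two_le_depth (A := A) (Y := Y) d hd ω hω
  have hω'c := isCoh_baseChange_dualizing p φ hp t ht d hS hd ω hω ω' hω' Yo hYo
  obtain ⟨-, hinv⟩ := gor_open_and_invertible A Y d hd ω hω
  obtain ⟨eC⟩ := nonempty_base_change_iso_on_cm A Y d hd ω hω Yo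
    (fun y hy => ⟨(hYo hy).1, by haveI := (hYo hy).2; exact LocCoh.isCohenMacaulayLocalRing_of_gorenstein⟩) A' φ Y' p hp
    ω' hω'
  let T := CohB1.tensorPow ω m
  let T' := CohB1.tensorPow ω' m
  have hT : Coh.IsCoh T := isCoh_tensorPow hωc m
  have hT' : Coh.IsCoh T' := isCoh_tensorPow hω'c m
  have hTi : ∀ x : Y, x ∈ Yo → RelCanon.InvertibleAt T x :=
    invertibleAt_tensorPow Yo ω (fun x hx => hinv x (hYo hx)) m
  obtain ⟨eD⟩ := nonempty_restrict_ddual Yo hT hTi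
  obtain ⟨e1⟩ := nonempty_pull_restrict p Yo eD.symm
  obtain ⟨e2⟩ := nonempty_pull_tensorPow p ω m
  obtain ⟨e3⟩ := nonempty_restrict_tensorPow U' ((Scheme.Modules.pullback p).obj ω) m
  obtain ⟨e4⟩ := nonempty_tensorPow_iso eC m
  obtain ⟨e5⟩ := nonempty_restrict_tensorPow U' ω' m
  have hTinv : ∀ v : Y', v ∈ U' → RelCanon.InvertibleAt T' v := by
    refine invertibleAt_tensorPow U' ω' (fun v hv => invertibleAt_of_restrict_iso U' eC v hv ?_) m
    obtain ⟨W, hW, ⟨eW⟩⟩ := hinv (p v) (hYo hv)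
    obtain ⟨eW'⟩ := nonempty_pull_restrict p W (M := ω) (N := Coh.structureModule Y)
      (eW ≪≫ (Scheme.Modules.restrictUnitIso W.ι).symm)
    exact ⟨p ⁻¹ᵁ W, hW, ⟨eW' ≪≫ (Scheme.Modules.restrictFunctor (p ⁻¹ᵁ W).ι).mapIso
      (PicLoc.pullbackStructureIso p) ≪≫ Scheme.Modules.restrictUnitIso _⟩⟩
  obtain ⟨e6⟩ := nonempty_restrict_ddual U' hT' hTinv
  let φ₁ : ((Scheme.Modules.pullback p).obj (RefHull.ddual T)).restrict U'.ι ≅ (RefHull.ddual T').restrict U'.ι :=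
    e1 ≪≫ (Scheme.Modules.restrictFunctor U'.ι).mapIso e2 ≪≫ e3 ≪≫ e4.symm ≪≫ e5.symm ≪≫ e6
  obtain ⟨π⟩ := nonempty_pull_dual_on p Yo (RefHull.dual T) fun x hx => invertibleAt_dual hT x (hTi x hx)
  exact ⟨⟨φ₁⟩, ⟨π.symm ≪≫ φ₁⟩, fun v hv => invertibleAt_of_restrict_iso U' e6.symm v hv (hTinv v hv)⟩

include hdim

/-- **The stalks of the reflexive powers of the base change are duals.** -/
theorem nonempty_hom_stalk_equiv (m : ℕ) (w : Y') :
    letI := (p.stalkMap w).hom.toAlgebra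
    Nonempty (((RefHull.dual (CohB1.tensorPow ω m)).presheaf.stalk (p w) →ₗ[Y.presheaf.stalk (p w)] Y'.presheaf.stalk w)
      ≃ₗ[Y'.presheaf.stalk w] (RelCanon.refPowZ ω' m).presheaf.stalk w) := by
  let f := Y ↘ Spec (CommRingCat.of A)
  haveI : IsNoetherianRing (CommRingCat.of A) := ‹IsNoetherianRing A›
  haveI : IsNoetherianRing (CommRingCat.of A') := ‹IsNoetherianRing A'›
  haveI : IsLocallyNoetherian Y := LocallyOfFiniteType.isLocallyNoetherian f
  haveI : IsProper (Y' ↘ Spec (CommRingCat.of A')) := MorphismProperty.of_isPullback hp ‹_›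
  haveI : IsLocallyNoetherian Y' := LocallyOfFiniteType.isLocallyNoetherian (Y' ↘ Spec (CommRingCat.of A'))
  obtain ⟨hωc, -⟩ := isCoh_and_two_le_depth (A := A) (Y := Y) d hd ω hω
  have hω'c := isCoh_baseChange_dualizing p φ hp t ht d hS hd ω hω ω' hω' Yo hYo
  obtain ⟨-, ⟨ψ⟩, -⟩ := nonempty_pull_refPow_on p φ hp t ht d hS hd ω hω ω' hω' Yo hYo m
  let D₀ := RefHull.dual (CohB1.tensorPow ω m)
  have hD₀ : Coh.IsCoh D₀ := RefHullLib.isCoh_dual (isCoh_tensorPow hωc m) (Coherent.isCoh_structureModule Y)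
  have hD' : Coh.IsCoh ((Scheme.Modules.pullback p).obj D₀) :=
    ⟨haveI := hD₀.1; EGA43.InjFibre.isQCoh_pullback p D₀, Coherent.isFT_pullback_qcoh p hD₀.1 hD₀.2⟩
  have hD₁ : Coh.IsCoh (RefHull.dual (CohB1.tensorPow ω' m)) :=
    RefHullLib.isCoh_dual (isCoh_tensorPow hω'c m) (Coherent.isCoh_structureModule Y')
  have hdep : ∀ v : Y', v ⤳ w → v ∉ p ⁻¹ᵁ Yo →
      (2 : ℕ∞) ≤ _root_.LocCoh.depth (Y'.presheaf.stalk v) (Y'.presheaf.stalk v) := fun v _ hv =>
    two_le_depth_baseChange f _ p φ hp t ht hS Yo hdim v hv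
  obtain ⟨e⟩ := nonempty_stalk_equiv_of_restrict (RefHullLib.isCoh_dual hD' (Coherent.isCoh_structureModule Y'))
    (RefHullLib.isCoh_dual hD₁ (Coherent.isCoh_structureModule Y')) (p ⁻¹ᵁ Yo) ψ w
    (fun v hv hvo => two_le_depth_dual hD' v (hdep v hv hvo)) (fun v hv hvo => two_le_depth_dual hD₁ v (hdep v hv hvo))
  let R := Y.presheaf.stalk (p w)
  let S := Y'.presheaf.stalk w
  letI : Algebra R S := (p.stalkMap w).hom.toAlgebra
  let eP : ((Scheme.Modules.pullback p).obj D₀).presheaf.stalk w ≃ₗ[S] S ⊗[R] D₀.presheaf.stalk (p w) :=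
    ((ModStalk.pullbackStalkIso p w).app D₀).toLinearEquiv
  obtain ⟨b⟩ := nonempty_dual_stalk_equiv hD' w
  exact ⟨(LinearMap.liftBaseChangeEquiv S).trans
    ((LinearEquiv.arrowCongr eP.symm (LinearEquiv.refl S S)).trans (b.symm.trans e))⟩

end Groth.Agent.DualLib.RelTop
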