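import Groth.Agent.DualLib.RelTop.FibreOpen

/-!
# Base change of the relative dualizing sheaf along a preimmersion on the Cohen–Macaulay locus

The proof of the statement for fibres applies to every affine base change by a preimmersion.
-/

set_option autoImplicit false
set_option backward.isDefEq.respectTransparency false
set_option backward.defeqAttrib.useBackward true
set_option linter.style.haveILetI false
set_option linter.unusedSectionVars false
set_option synthInstance.maxHeartbeats 200000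
set_option maxHeartbeats 1000000

universe u

open CategoryTheory CategoryTheory.Limits CategoryTheory.Pretriangulated DerivedCategory AlgebraicGeometry
open Groth.Agent.DCat

attribute [local instance] HasDerivedCategory.standard
attribute [-instance] Int.instConditionallyCompleteLinearOrder

namespace Groth.Agent.DualLib.RelTop

variable [∀ (U V : Scheme.{u}) (j : U ⟶ V) [IsOpenImmersion j], PreservesFiniteLimits (Scheme.Modules.restrictFunctor j)]
variable (A : Type u) [CommRing A] [IsNoetherianRing A] (Y : Scheme.{u}) [Y.Over (Spec (CommRingCat.of A))]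
  [IsProper (Y ↘ Spec (CommRingCat.of A))] [Flat (Y ↘ Spec (CommRingCat.of A))] (d : ℕ)
  (hd : Cyc.HasRelDim (Y ↘ Spec (CommRingCat.of A)) d)

include hd

/-- **Base change along a preimmersion on the Cohen–Macaulay locus.** -/
theorem nonempty_base_change_iso_on_cm (ω : Y.Modules) (hω : RelCanon.IsDualizingSheaf A Y d ω) (U : Y.Opens)
    (hU : ∀ y ∈ U, MoreMor.IsCMAt (Y ↘ Spec (CommRingCat.of A)) y) (k : Type u) [CommRing k] [IsNoetherianRing k]
    (φ : A →+* k) [IsPreimmersion (Spec.map (CommRingCat.ofHom φ))]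
    (Y' : Scheme.{u}) [Y'.Over (Spec (CommRingCat.of k))] (ι : Y' ⟶ Y)
    (hp : IsPullback ι (Y' ↘ Spec (CommRingCat.of k)) (Y ↘ Spec (CommRingCat.of A)) (Spec.map (CommRingCat.ofHom φ)))
    (ωt : Y'.Modules) (hωt : RelCanon.IsDualizingSheaf k Y' d ωt) :
    Nonempty (ωt.restrict (ι ⁻¹ᵁ U).ι ≅ ((Scheme.Modules.pullback ι).obj ω).restrict (ι ⁻¹ᵁ U).ι) := by
  let f := Y ↘ Spec (CommRingCat.of A)
  let T := Spec (CommRingCat.of A)
  let T' := Spec (CommRingCat.of k)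
  let g : T' ⟶ T := Spec.map (CommRingCat.ofHom φ)
  let f' : Y' ⟶ T' := Y' ↘ T'
  have hsq : IsPullback ι f' f g := hp
  haveI : IsNoetherianRing (CommRingCat.of A) := ‹IsNoetherianRing A›
  haveI : IsNoetherianRing (CommRingCat.of k) := ‹IsNoetherianRing k›
  haveI : IsNoetherian T := {}
  haveI : IsNoetherian T' := {}
  haveI : IsPreimmersion g := ‹_›
  haveI : IsAffineHom g := inferInstance
  haveI : IsAffineHom ι := MorphismProperty.of_isPullback hsq.flip ‹IsAffineHom g›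
  haveI : IsPreimmersion ι := MorphismProperty.of_isPullback hsq.flip ‹IsPreimmersion g›
  haveI : IsProper f' := MorphismProperty.of_isPullback hsq ‹_›
  haveI : CompactSpace Y := QuasiCompact.compactSpace_of_compactSpace f
  haveI : QuasiSeparatedSpace Y := quasiSeparatedSpace_of_quasiSeparated f
  haveI : CompactSpace Y' := QuasiCompact.compactSpace_of_compactSpace f'
  haveI : QuasiSeparatedSpace Y' := quasiSeparatedSpace_of_quasiSeparated f'
  haveI : IsLocallyNoetherian Y := LocallyOfFiniteType.isLocallyNoetherian f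
  haveI : LocallyOfFinitePresentation f := LocallyOfFinitePresentation.iff_locallyOfFiniteType.2 inferInstance
  haveI : ∀ (S : CommRingCat.{u}), PreservesFiniteLimits (tilde.functor S) :=
    Groth.Agent.AffSchLib.preservesFiniteLimits_tilde
  have hfib' : ∀ y, topologicalKrullDim ((Y' ↘ T').fiber y) ≤ (d : WithBot ℕ∞) := fun y => by
    let e := (Y' ↘ T').fiberι y ≫ ι
    have hmem : ∀ w, e w ∈ Set.range (f.fiberι (g y)) := fun w => by
      rw [f.range_fiberι]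
      show f (ι ((Y' ↘ T').fiberι y w)) = g y
      rw [show f (ι ((Y' ↘ T').fiberι y w)) = g (f' ((Y' ↘ T').fiberι y w)) from by
        rw [← Scheme.Hom.comp_apply, hsq.w, Scheme.Hom.comp_apply]]
      congr 1
      have := Set.ext_iff.1 ((Y' ↘ T').range_fiberι y) ((Y' ↘ T').fiberι y w)
      exact this.1 ⟨w, rfl⟩
    have hemb : Topology.IsEmbedding (Set.codRestrict e (Set.range (f.fiberι (g y))) hmem) :=
      (e.isEmbedding).codRestrict _ hmem
    let h := (f.fiberι (g y)).isEmbedding.toHomeomorph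
    exact ((h.symm.isEmbedding.comp hemb).isInducing.topologicalKrullDim_le).trans (fibre_dim_le f d hd (g y))
  let j : (U : Scheme.{u}) ⟶ Y := U.ι
  let U' : Y'.Opens := ι ⁻¹ᵁ U
  let j' : (U' : Scheme.{u}) ⟶ Y' := U'.ι
  let ιU : (U' : Scheme.{u}) ⟶ (U : Scheme.{u}) := ι ∣_ U
  have hjU : ιU ≫ j = j' ≫ ι := morphismRestrict_ι ι U
  haveI := DCat.hasRpush f
  haveI := DCat.hasRpush f'
  haveI : DCoh.HasRpush (Y' ↘ T') := DCat.hasRpush _
  haveI := DCat.hasRpush g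
  haveI := DCat.hasRpush ι
  haveI := DCat.hasLpull f
  haveI := DCat.hasLpull g
  haveI := DCat.hasLpull j
  haveI := DCat.hasLpull ιU
  have hf : DCoh.RpushPreservesQCoh f := fun K hK => DQCoh.isQCohD_Rpush f K hK
  have hf' : DCoh.RpushPreservesQCoh f' := fun K hK => DQCoh.isQCohD_Rpush f' K hK
  have hg : DCoh.RpushPreservesQCoh g := fun K hK => DQCoh.isQCohD_Rpush g K hK
  have hι : DCoh.RpushPreservesQCoh ι := fun K hK => DQCoh.isQCohD_Rpush ι K hK
  haveI := Dual22Lib.AdjGeom.isLeftAdjoint_RpushQ f hf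
  haveI := Dual22Lib.AdjGeom.isLeftAdjoint_RpushQ f' hf'
  let a := (DCoh.RpushQ f hf).rightAdjoint
  let adj : DCoh.RpushQ f hf ⊣ a := Adjunction.ofIsLeftAdjoint _
  let a' := (DCoh.RpushQ f' hf').rightAdjoint
  let adj' : DCoh.RpushQ f' hf' ⊣ a' := Adjunction.ofIsLeftAdjoint _
  haveI : Coh.IsQCoh (Coh.structureModule T) := Coherent.isQCoh_structureModule
  haveI : Coh.IsQCoh (Coh.structureModule T') := Coherent.isQCoh_structureModule
  let O : DCoh.DQCoh T := ⟨DCoh.inD T (Coh.structureModule T), FlatBC14.isQCohD_inD _⟩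
  let O' : DCoh.DQCoh T' := ⟨DCoh.inD T' (Coh.structureModule T'), FlatBC14.isQCohD_inD _⟩
  obtain ⟨hdual, -⟩ := isDualizingSheaf_HD (fibre_dim_le f d hd) hf a adj O ⟨Iso.refl _⟩
  obtain ⟨eω⟩ := nonempty_iso_of_isDualizingSheaf hdual hω
  obtain ⟨hdual', hge'⟩ := isDualizingSheaf_HD (A := k) (X := Y') hfib' hf' a' adj' O' ⟨Iso.refl _⟩
  obtain ⟨eωt⟩ := nonempty_iso_of_isDualizingSheaf hdual' hωt
  let K' := (a'.obj O').obj
  haveI : K'.IsGE (-(d : ℤ)) := hge'
  obtain ⟨eB⟩ := nonempty_bottom_Rpush ι K' (-(d : ℤ)) ((a'.obj O').property _)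
  let eι : (Scheme.Modules.pushforward ι).obj ωt ≅ DCoh.HD ((DCoh.Rpush ι).obj K') (-(d : ℤ)) :=
    (Scheme.Modules.pushforward ι).mapIso eωt.symm ≪≫ eB.symm
  -- base change
  obtain ⟨e, hξ⟩ := Groth.Agent.S3602.result Y T Y' T' f g f' ι hsq (Or.inl ‹_›) hf hf' hg hι a a' adj adj'
  haveI := hξ O'
  let eξ : (DCoh.Rpush ι).obj K' ≅ (a.obj ((DCoh.RpushQ g hg).obj O')).obj :=
    (ObjectProperty.ι DCoh.IsQCohD).mapIso (asIso (Dual3.xi adj adj' e O'))
  obtain ⟨eK⟩ := DQCoh.nonempty_Rpush_inD g (Coh.structureModule T')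
  obtain ⟨N, hNk, ⟨eN⟩⟩ := DCat.PullPerf.exists_kflat_rep (a.obj O).obj
  haveI := LTensorSheaf.hasLTensorCx N
  obtain ⟨eT⟩ := Groth.Agent.S3658.result Y T f hf a adj O ⟨Iso.refl _⟩ N ⟨eN⟩
  let K₀ := ((DCoh.RpushQ g hg).obj O').obj
  let eK' : K₀ ≅ DCoh.inD T ((Scheme.Modules.pushforward g).obj (Coh.structureModule T')) := eK
  haveI : K₀.IsLE 0 := by
    haveI : (DCoh.inD T ((Scheme.Modules.pushforward g).obj (Coh.structureModule T'))).IsLE 0 :=
      (inferInstance : ((singleFunctor T.Modules 0).obj _).IsLE 0)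
    exact DerivedCategory.TStructure.t.isLE_of_iso eK'.symm 0
  let W := (DCoh.LTensorCx N).obj ((DCoh.Lpull f).obj K₀)
  let eW : (Scheme.Modules.pushforward ι).obj ωt ≅ DCoh.HD W (-(d : ℤ)) :=
    eι ≪≫ (homologyFunctor Y.Modules _).mapIso (eξ ≪≫ eT.app ((DCoh.RpushQ g hg).obj O'))
  -- concentration on the open
  let c : DEt.Compactification (j ≫ f) :=
    { Xbar := Y, j := j, fbar := f, isOpenImmersion := inferInstance, isProper := ‹_›, fac := rfl }
  haveI : DCoh.HasRpush c.fbar := ‹DCoh.HasRpush f›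
  haveI : Dual3.IsSepFT (j ≫ f) := by
    haveI : QuasiCompact j := inferInstance
    exact ⟨inferInstance, inferInstance, inferInstance⟩
  haveI : Dual3.IsSepFT (𝟙 T) := ⟨inferInstance, inferInstance, inferInstance⟩
  have hCMU : ∀ x : (U : Scheme.{u}), MoreMor.IsCMAt (j ≫ f) x := fun x =>
    (EGA43.CMChart.isCMAt_comp_iff j f x).2 (hU x.1 x.2)
  have hdU : ∀ (y : T) (Z : Set ↥((j ≫ f).fiber y)), Z ∈ irreducibleComponents ↥((j ≫ f).fiber y) →
      topologicalKrullDim ↥Z = (d : WithBot ℕ∞) := fun y => by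
    refine (EGA43.Chevalley.forall_components_fiber_iff (j ≫ f) y (fun e => e = (d : WithBot ℕ∞))).2 fun x hx hmax => ?_
    rw [EGA43.Chevalley.trdegHom_residueFieldMap_comp j f x]
    refine (EGA43.Chevalley.forall_components_fiber_iff f y (fun e => e = (d : WithBot ℕ∞))).1 (hd y) (j x) hx
      fun w hw hwy => ?_
    let w' : (U : Scheme.{u}) := ⟨w, hw.mem_open U.isOpen x.2⟩
    exact congrArg j (hmax w' (j.isOpenEmbedding.isInducing.specializes_iff.1 hw) hwy)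
  obtain ⟨hz, -, -⟩ := Groth.Agent.S3614.result T (U : Scheme.{u}) T (j ≫ f) (𝟙 _) (j ≫ f) (Category.comp_id _)
    hCMU d hdU c hf a adj O ⟨Iso.refl _⟩
  obtain ⟨r⟩ := DQCoh.nonempty_Lpull_restrict j (a.obj O).obj
  let NU := (Dual22Lib.PullTensorNat.pullC j).obj N
  have hNUk : IsKFlatFor (shT (U : Scheme.{u})) NU := PullTot.isKFlatFor_pullback j hNk
  haveI := LTensorSheaf.hasLTensorCx NU
  let eNU : DerivedCategory.Q.obj NU ≅ (DCoh.restrictD j).obj (a.obj O).obj :=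
    (PullPerf.lpullIso j hNk).symm ≪≫ (DCoh.Lpull j).mapIso eN ≪≫ r
  haveI : (DerivedCategory.Q.obj NU).IsLE (-(d : ℤ)) :=
    (isLE_iff _ _).2 fun i hi => (hz i (by omega)).of_iso ((homologyFunctor _ i).mapIso eNU)
  haveI : QuasiIso (NU.ιTruncLE (-(d : ℤ))) := ⟨fun q => by
    rcases le_or_gt q (-(d : ℤ)) with hq | hq
    · exact CochainComplex.quasiIsoAt_ιTruncLE _ _ _ hq
    · rw [quasiIsoAt_iff_exactAt' _ _ ((HomologicalComplex.exactAt_iff_isZero_homology _ _).2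
        ((isZero_of_isLE (DerivedCategory.Q.obj NU) (-(d : ℤ)) q hq).of_iso
          ((DerivedCategory.homologyFunctorFactors _ q).app NU).symm))]
      exact CochainComplex.exactAt_of_isLE _ (-(d : ℤ)) q hq⟩
  obtain ⟨N₂, q, hN₂k, -, hq, hN₂⟩ := exists_kflat_sheaf_le (NU.truncLE (-(d : ℤ))) (-(d : ℤ))
    fun n hn => CochainComplex.isZero_of_isStrictlyLE _ (-(d : ℤ)) n hn
  haveI := hq
  let q₂ := q ≫ NU.ιTruncLE (-(d : ℤ))
  haveI : QuasiIso q₂ := inferInstance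
  haveI := LTensorSheaf.hasLTensorCx N₂
  -- restriction to the open
  let ZU := (DCoh.Lpull j).obj ((DCoh.Lpull f).obj K₀)
  haveI : ((DCoh.Lpull f).obj K₀).IsLE 0 := Dual6Lib.PerfShriek.isLE_Lpull f K₀ 0
  haveI : ZU.IsLE 0 := Dual6Lib.PerfShriek.isLE_Lpull j _ 0
  obtain ⟨τ⟩ := Dual22Lib.PullTensorNat.nonempty_natIso j hNk
  obtain ⟨eQ⟩ := nonempty_LTensor_quasiIso q₂ hN₂k hNUk ZU
  obtain ⟨rW⟩ := DQCoh.nonempty_Lpull_restrict j W
  let W₂ := (DCoh.LTensorCx N₂).obj ZU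
  let eWU : (DCoh.HD W (-(d : ℤ))).restrict j ≅ DCoh.HD W₂ (-(d : ℤ)) :=
    (DCat.SuppOpen.hdMapIso (Scheme.Modules.restrictFunctor j) W _).symm ≪≫
      (homologyFunctor _ _).mapIso (rW.symm ≪≫ τ.app _ ≪≫ eQ.symm)
  haveI : W₂.IsLE (-(d : ℤ)) := by
    have h' := DQCoh.isLE_LTensor N₂ hN₂k _ hN₂ ZU 0
    rwa [zero_add] at h'
  obtain ⟨eTop⟩ := nonempty_HD_Lpull_top ιU W₂ (-(d : ℤ))
  let N' := (Dual22Lib.PullTensorNat.pullC ιU).obj N₂
  haveI := LTensorSheaf.hasLTensorCx N'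
  obtain ⟨τ'⟩ := Dual22Lib.PullTensorNat.nonempty_natIso ιU hN₂k
  have hN' : ∀ n, -(d : ℤ) < n → IsZero (N'.X n) := fun n hn => (Scheme.Modules.pullback ιU).map_isZero (hN₂ n hn)
  have hNk' : IsKFlatFor (shT (U' : Scheme.{u})) N' := PullTot.isKFlatFor_pullback ιU hN₂k
  let Z := (DCoh.Lpull ιU).obj ZU
  haveI : Z.IsLE 0 := Dual6Lib.PerfShriek.isLE_Lpull ιU _ 0
  let h' : (U' : Scheme.{u}) ⟶ T' := j' ≫ f'
  haveI := DCat.hasLpull h'
  have hm : (ιU ≫ j) ≫ f = h' ≫ g := by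
    rw [hjU, Category.assoc, hsq.w, Category.assoc]
  have hcomp : Nonempty (Z ≅ (DCoh.Lpull h').obj ((DCoh.Lpull g).obj K₀)) := by
    haveI := DCat.hasLpull (ιU ≫ j)
    haveI := DCat.hasLpull ((ιU ≫ j) ≫ f)
    haveI := DCat.hasLpull (h' ≫ g)
    obtain ⟨c₁⟩ := DCat.nonempty_LpullComp ιU j
    obtain ⟨c₂⟩ := DCat.nonempty_LpullComp (ιU ≫ j) f
    obtain ⟨c₃⟩ := DCat.nonempty_LpullComp h' g
    have key : ∀ (m₁ m₂ : (U' : Scheme.{u}) ⟶ T) [DCoh.HasLpull m₁] [DCoh.HasLpull m₂], m₁ = m₂ →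
        Nonempty ((DCoh.Lpull m₁).obj K₀ ≅ (DCoh.Lpull m₂).obj K₀) := by
      intro m₁ m₂ _ _ hh; subst hh; exact ⟨Iso.refl _⟩
    obtain ⟨k₁⟩ := key _ _ hm
    exact ⟨c₁.app _ ≪≫ c₂.app K₀ ≪≫ k₁ ≪≫ (c₃.app K₀).symm⟩
  obtain ⟨eZ⟩ := hcomp
  haveI : ((DCoh.Lpull g).obj K₀).IsLE 0 := Dual6Lib.PerfShriek.isLE_Lpull g K₀ 0
  obtain ⟨z₁⟩ := nonempty_HD_Lpull_top h' ((DCoh.Lpull g).obj K₀) 0
  obtain ⟨z₂⟩ := nonempty_HD_Lpull_top g K₀ 0
  haveI := isIso_counit g (Coh.structureModule T')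
  obtain ⟨z₃⟩ := AmpleLib.exists_pullStructureIso (X := T') h'
  have hZ : Nonempty (DCoh.HD Z 0 ≅ Coh.structureModule (U' : Scheme.{u})) :=
    ⟨(homologyFunctor _ 0).mapIso eZ ≪≫ z₁ ≪≫ (Scheme.Modules.pullback h').mapIso
      (z₂ ≪≫ (Scheme.Modules.pullback g).mapIso ((homologyFunctor T.Modules 0).mapIso eK' ≪≫
          (singleFunctorCompHomologyFunctorIso T.Modules 0).app _) ≪≫
        asIso ((Scheme.Modules.pullbackPushforwardAdjunction g).counit.app (Coh.structureModule T'))) ≪≫ z₃⟩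
  obtain ⟨eU⟩ := nonempty_top_tensor N' hNk' _ hN' Z hZ
  haveI : (DerivedCategory.Q.obj N₂).IsLE (-(d : ℤ)) :=
    (isLE_iff _ _).2 fun i hi => (isZero_of_isLE (DerivedCategory.Q.obj NU) (-(d : ℤ)) i hi).of_iso
      (haveI : IsIso (DerivedCategory.Q.map q₂) := inferInstance
       (homologyFunctor _ i).mapIso (asIso (DerivedCategory.Q.map q₂)))
  obtain ⟨eV⟩ := nonempty_HD_Lpull_top ιU (DerivedCategory.Q.obj N₂) (-(d : ℤ))
  let eωU : DCoh.HD (DerivedCategory.Q.obj N₂) (-(d : ℤ)) ≅ ω.restrict j :=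
    (homologyFunctor _ _).mapIso (asIso (DerivedCategory.Q.map q₂) ≪≫ eNU) ≪≫
      DCat.SuppOpen.hdMapIso (Scheme.Modules.restrictFunctor j) (a.obj O).obj _ ≪≫
      (Scheme.Modules.restrictFunctor j).mapIso eω
  let Φ : (Scheme.Modules.pullback ιU).obj (((Scheme.Modules.pushforward ι).obj ωt).restrict j) ≅
      (Scheme.Modules.pullback ιU).obj (ω.restrict j) :=
    (Scheme.Modules.pullback ιU).mapIso ((Scheme.Modules.restrictFunctor j).mapIso eW ≪≫ eWU) ≪≫ eTop.symm ≪≫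
      (homologyFunctor _ _).mapIso (τ'.app _) ≪≫ eU ≪≫
      (homologyFunctor _ _).mapIso (PullPerf.lpullIso ιU hN₂k).symm ≪≫ eV ≪≫
      (Scheme.Modules.pullback ιU).mapIso eωU
  let sw : ∀ M : Y.Modules, (Scheme.Modules.pullback ιU).obj (M.restrict j) ≅
      ((Scheme.Modules.pullback ι).obj M).restrict j' := fun M =>
    (Scheme.Modules.pullback ιU).mapIso ((Scheme.Modules.restrictFunctorIsoPullback j).app M) ≪≫
      (Scheme.Modules.pullbackComp ιU j).app M ≪≫ (Scheme.Modules.pullbackCongr hjU).app M ≪≫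
      ((Scheme.Modules.pullbackComp j' ι).app M).symm ≪≫
      ((Scheme.Modules.restrictFunctorIsoPullback j').app _).symm
  haveI := isIso_counit ι ωt
  exact ⟨(Scheme.Modules.restrictFunctor j').mapIso
      (asIso ((Scheme.Modules.pullbackPushforwardAdjunction ι).counit.app ωt)).symm ≪≫
    (sw _).symm ≪≫ Φ ≪≫ sw ω⟩

end Groth.Agent.DualLib.RelTop
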