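import Groth.Agent.DualLib.RelTop.LiftCrit
import Groth.Agent.DualLib.RelTop.ExtLocal
import Mathlib.RingTheory.Flat.EquationalCriterion
import Mathlib.RingTheory.Filtration

/-!
# Isomorphisms of flat modules lift from the closed fibre when self-extensions split there
-/

set_option autoImplicit false
set_option backward.isDefEq.respectTransparency false
set_option linter.style.haveILetI false
set_option linter.unusedSectionVars false

universe u

open IsLocalRing TensorProduct

namespace Groth.Agent.DualLib.RelTop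

open Groth.Agent

variable {A B : Type u} [CommRing A] [IsLocalRing A] [IsNoetherianRing A] [CommRing B] [IsNoetherianRing B]
  [IsLocalRing B] [Algebra A B] [IsLocalHom (algebraMap A B)]

theorem mB_le : mB A B ≤ maximalIdeal B :=
  Ideal.map_le_iff_le_comap.2 fun a ha => map_nonunit (algebraMap A B) a ha

variable {M N P : Type u} [AddCommGroup M] [Module B M] [Module.Finite B M] [Module A M] [IsScalarTower A B M]
  [AddCommGroup N] [Module B N] [Module.Finite B N] [Module A N] [IsScalarTower A B N]
  [AddCommGroup P] [Module B P] [Module.Finite B P] [Module A P] [IsScalarTower A B P]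

omit [IsLocalHom (algebraMap A B)] [IsNoetherianRing A] [IsNoetherianRing B] [IsLocalRing B] in
theorem exists_sum_of_mem_map_smul {C : Type u} [AddCommGroup C] [Module B C] [Module A C] [IsScalarTower A B C]
    (I : Ideal A) {x : C} (hx : x ∈ I.map (algebraMap A B) • (⊤ : Submodule B C)) :
    ∃ (n : ℕ) (a : Fin n → A) (c : Fin n → C), (∀ i, a i ∈ I) ∧ x = ∑ i, a i • c i := by
  rw [← Submodule.restrictScalars_mem A, Ideal.smul_restrictScalars, Submodule.restrictScalars_top] at hx
  refine Submodule.smul_induction_on hx (fun a ha c _ => ⟨1, fun _ => a, fun _ => c, fun _ => ha, by simp⟩) ?_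
  rintro x y ⟨n, a, c, ha, rfl⟩ ⟨n', a', c', ha', rfl⟩
  refine ⟨n + n', Fin.append a a', Fin.append c c', fun i => ?_, ?_⟩
  · induction i using Fin.addCases with
    | left i => rw [Fin.append_left]; exact ha i
    | right i => rw [Fin.append_right]; exact ha' i
  · rw [Fin.sum_univ_add]
    simp

omit [IsLocalHom (algebraMap A B)] [IsNoetherianRing B] [IsLocalRing B] in
/-- A layer of the filtration by the powers of the maximal ideal of the base. -/
theorem exists_module_layer (j : ℕ) :
    ∃ (n : ℕ) (a : Fin n → A), (∀ i, a i ∈ maximalIdeal A ^ j) ∧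
      (∀ (C : Type u) [AddCommGroup C] [Module B C] [Module A C] [IsScalarTower A B C], ∀ x ∈ (mB A B) ^ j • (⊤ : Submodule B C),
        ∃ c : Fin n → C, x - ∑ i, a i • c i ∈ (mB A B) ^ (j + 1) • (⊤ : Submodule B C)) ∧
      (∀ (C : Type u) [AddCommGroup C] [Module B C] [Module A C] [IsScalarTower A B C] [Module.Flat A C] (c : Fin n → C),
        ∑ i, a i • c i ∈ (mB A B) ^ (j + 1) • (⊤ : Submodule B C) → ∀ i, c i ∈ mB A B • (⊤ : Submodule B C)) := by
  obtain ⟨n, a, ha, hgen, hind⟩ := exists_layer (A := A) (B := A) j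
  have hmA : mB A A = maximalIdeal A := Ideal.map_id _
  simp only [hmA, Algebra.algebraMap_self, RingHom.id_apply] at ha hgen hind
  have hpow : ∀ k, (mB A B) ^ k = (maximalIdeal A ^ k).map (algebraMap A B) := fun k => (Ideal.map_pow _ _ _).symm
  have hmem : ∀ (C : Type u) [AddCommGroup C] [Module B C] [Module A C] [IsScalarTower A B C] (k : ℕ) (r : A) (v : C),
      r ∈ maximalIdeal A ^ k → r • v ∈ (mB A B) ^ k • (⊤ : Submodule B C) := by
    intro C _ _ _ _ k r v hr
    rw [hpow, ← algebraMap_smul B r v]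
    exact Submodule.smul_mem_smul (Ideal.mem_map_of_mem _ hr) trivial
  refine ⟨n, a, ha, fun C _ _ _ _ x hx => ?_, fun C _ _ _ _ _ c hc => ?_⟩
  · rw [hpow] at hx
    obtain ⟨N, r, v, hr, rfl⟩ := exists_sum_of_mem_map_smul _ hx
    choose b hb using fun i => hgen (r i) (hr i)
    refine ⟨fun i => ∑ l, b l i • v l, ?_⟩
    have : ∑ l, r l • v l - ∑ i, a i • ∑ l, b l i • v l = ∑ l, (r l - ∑ i, a i * b l i) • v l := by
      simp only [Finset.smul_sum, smul_smul, sub_smul, Finset.sum_smul, Finset.sum_sub_distrib]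
      rw [Finset.sum_comm]
    rw [this]
    exact Submodule.sum_mem _ fun l _ => hmem C _ _ _ (hb l)
  · rw [hpow] at hc
    obtain ⟨N, r, v, hr, hrv⟩ := exists_sum_of_mem_map_smul _ hc
    have hrel : ∑ s : Fin n ⊕ Fin N, (Sum.elim a (fun l => -r l) s) • (Sum.elim c v s) = 0 := by
      simp [Fintype.sum_sum_type, hrv]
    obtain ⟨k, α, y, hy, hα⟩ := Module.Flat.isTrivialRelation_of_sum_smul_eq_zero hrel
    intro i
    have hi : c i = ∑ q, α (Sum.inl i) q • y q := hy (Sum.inl i)
    rw [hi]
    refine Submodule.sum_mem _ fun q _ => ?_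
    have h0 := hα q
    simp only [Fintype.sum_sum_type, Sum.elim_inl, Sum.elim_inr, neg_mul, Finset.sum_neg_distrib] at h0
    have hmemq : ∑ i', a i' * α (Sum.inl i') q ∈ maximalIdeal A ^ (j + 1) := by
      rw [eq_of_sub_eq_zero (by rw [sub_eq_add_neg]; exact h0 :
        (∑ i', a i' * α (Sum.inl i') q) - ∑ l, r l * α (Sum.inr l) q = 0)]
      exact Ideal.sum_mem _ fun l _ => Ideal.mul_mem_right _ _ (hr l)
    have := hmem C 1 _ (y q) (by rw [pow_one]; exact hind (fun i' => α (Sum.inl i') q) hmemq i)
    rwa [pow_one] at this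

/-- Kernels lift from the closed fibre where the fibre complex is exact. -/
theorem exists_kernel_lift [Module.Flat A P] (f : M →ₗ[B] N) (g : N →ₗ[B] P) (hgf : ∀ x, g (f x) = 0)
    (hex : ∀ c : N, g c ∈ mB A B • (⊤ : Submodule B P) → ∃ x : M, c - f x ∈ mB A B • (⊤ : Submodule B N))
    (x : M) (hx : f x ∈ mB A B • (⊤ : Submodule B N)) :
    ∃ x' : M, x' - x ∈ mB A B • (⊤ : Submodule B M) ∧ f x' = 0 := by
  let I := mB A B
  have key : ∀ j : ℕ, ∃ x' : M, x' - x ∈ I • (⊤ : Submodule B M) ∧ f x' ∈ I ^ (j + 1) • (⊤ : Submodule B N) := by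
    intro j
    induction j with
    | zero => exact ⟨x, by simp, by rw [pow_one]; exact hx⟩
    | succ j ih =>
      obtain ⟨x', hx', hfx⟩ := ih
      obtain ⟨n, a, ha, hgen, hind⟩ := exists_module_layer (A := A) (B := B) (j + 1)
      obtain ⟨c, hc⟩ := hgen N (f x') hfx
      have hgc : ∀ i, g (c i) ∈ I • (⊤ : Submodule B P) := hind P (fun i => g (c i)) (by
        have h1 : g (f x' - ∑ i, a i • c i) ∈ I ^ (j + 1 + 1) • (⊤ : Submodule B P) := by
          have h2 : g (f x' - ∑ i, a i • c i) ∈ (I ^ (j + 1 + 1) • (⊤ : Submodule B N)).map g := ⟨_, hc, rfl⟩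
          rw [Submodule.map_smul''] at h2
          exact Submodule.smul_mono le_rfl le_top h2
        rw [map_sub, hgf, zero_sub, Submodule.neg_mem_iff, map_sum] at h1
        simpa only [LinearMap.map_smul_of_tower] using h1)
      choose z hz using fun i => hex (c i) (hgc i)
      refine ⟨x' - ∑ i, a i • z i, ?_, ?_⟩
      · rw [sub_right_comm]
        refine Submodule.sub_mem _ hx' (Submodule.sum_mem _ fun i _ => ?_)
        rw [← algebraMap_smul B (a i) (z i)]
        exact Submodule.smul_mem_smul (Ideal.mem_map_of_mem _ (Ideal.pow_le_self (by omega) (ha i))) trivial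
      · have : f (x' - ∑ i, a i • z i) = (f x' - ∑ i, a i • c i) + ∑ i, a i • (c i - f (z i)) := by
          simp only [map_sub, map_sum, LinearMap.map_smul_of_tower, smul_sub, Finset.sum_sub_distrib]
          abel
        rw [this]
        refine Submodule.add_mem _ hc (Submodule.sum_mem _ fun i _ => ?_)
        rw [← algebraMap_smul B (a i) (c i - f (z i)), pow_succ, Submodule.mul_smul]
        refine Submodule.smul_mem_smul ?_ (hz i)
        rw [← Ideal.map_pow]
        exact Ideal.mem_map_of_mem _ (ha i)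
  let K : Submodule B N := (I • (⊤ : Submodule B M)).map f
  have hsep : f x ∈ K := by
    rw [← Submodule.Quotient.mk_eq_zero K, ← Submodule.mem_bot B,
      ← Ideal.iInf_pow_smul_eq_bot_of_isLocalRing (M := N ⧸ K) I
        (fun h => (maximalIdeal.isMaximal B).ne_top (top_le_iff.1 (h ▸ mB_le)))]
    refine Submodule.mem_iInf _ |>.2 fun j => ?_
    obtain ⟨x', hx', hfx⟩ := key j
    have hd : Submodule.Quotient.mk (p := K) (f x) = K.mkQ (f x') :=
      (Submodule.Quotient.eq K).2 ⟨x - x', by rw [← neg_sub]; exact Submodule.neg_mem _ hx', map_sub f x x'⟩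
    rw [hd]
    have h2 : K.mkQ (f x') ∈ (I ^ (j + 1) • (⊤ : Submodule B N)).map K.mkQ := ⟨_, hfx, rfl⟩
    rw [Submodule.map_smul''] at h2
    exact Submodule.smul_mono (Ideal.pow_le_pow_right j.le_succ) le_top h2
  obtain ⟨w, hw, hwx⟩ := hsep
  exact ⟨x - w, by rw [sub_sub_cancel_left]; exact Submodule.neg_mem _ hw, by rw [map_sub, hwx, sub_self]⟩

/-- A map between finite modules, bijective on the closed fibre, is bijective when the target is flat. -/
theorem bijective_of_fibre [Module.Flat A N] (φ : M →ₗ[B] N)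
    (hinj : ∀ x : M, φ x ∈ mB A B • (⊤ : Submodule B N) → x ∈ mB A B • (⊤ : Submodule B M))
    (hsurj : ∀ y : N, ∃ x : M, y - φ x ∈ mB A B • (⊤ : Submodule B N)) : Function.Bijective φ := by
  let I := mB A B
  refine ⟨?_, ?_⟩
  · rw [injective_iff_map_eq_zero]
    intro x hx
    have key : ∀ j : ℕ, x ∈ I ^ j • (⊤ : Submodule B M) := by
      intro j
      induction j with
      | zero => simp
      | succ j ih =>
        obtain ⟨n, a, ha, hgen, hind⟩ := exists_module_layer (A := A) (B := B) j
        obtain ⟨c, hc⟩ := hgen M x ih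
        have hφ : ∀ i, φ (c i) ∈ I • (⊤ : Submodule B N) := hind N (fun i => φ (c i)) (by
          have h2 : φ (x - ∑ i, a i • c i) ∈ (I ^ (j + 1) • (⊤ : Submodule B M)).map φ := ⟨_, hc, rfl⟩
          rw [Submodule.map_smul''] at h2
          have h1 : φ (x - ∑ i, a i • c i) ∈ I ^ (j + 1) • (⊤ : Submodule B N) := Submodule.smul_mono le_rfl le_top h2
          rw [map_sub, hx, zero_sub, Submodule.neg_mem_iff, map_sum] at h1
          simpa only [LinearMap.map_smul_of_tower] using h1)
        rw [← sub_add_cancel x (∑ i, a i • c i)]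
        refine Submodule.add_mem _ hc (Submodule.sum_mem _ fun i _ => ?_)
        rw [← algebraMap_smul B (a i) (c i), pow_succ, Submodule.mul_smul]
        refine Submodule.smul_mem_smul ?_ (hinj _ (hφ i))
        rw [← Ideal.map_pow]
        exact Ideal.mem_map_of_mem _ (ha i)
    rw [← Submodule.mem_bot B, ← Ideal.iInf_pow_smul_eq_bot_of_isLocalRing (M := M) I
      (fun h => (maximalIdeal.isMaximal B).ne_top (top_le_iff.1 (h ▸ mB_le)))]
    exact (Submodule.mem_iInf _).2 key
  · rw [← LinearMap.range_eq_top]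
    refine le_antisymm le_top (Submodule.le_of_le_smul_of_le_jacobson_bot (Module.finite_def.1 inferInstance)
      ((mB_le (A := A)).trans (maximalIdeal_le_jacobson _)) fun y _ => ?_)
    obtain ⟨x, hx⟩ := hsurj y
    exact Submodule.mem_sup.2 ⟨φ x, ⟨x, rfl⟩, y - φ x, hx, add_sub_cancel _ _⟩

omit [IsNoetherianRing B] [IsLocalRing B] [IsLocalHom (algebraMap A B)] [IsLocalRing A] [IsNoetherianRing A] in
theorem mem_smul_top_pi_iff {n : ℕ} (I : Ideal B) (v : Fin n → N) :
    v ∈ I • (⊤ : Submodule B (Fin n → N)) ↔ ∀ i, v i ∈ I • (⊤ : Submodule B N) := by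
  classical
  constructor
  · intro h i
    have h2 : (LinearMap.proj i : (Fin n → N) →ₗ[B] N) v ∈ (I • (⊤ : Submodule B (Fin n → N))).map (LinearMap.proj i) :=
      ⟨v, h, rfl⟩
    rw [Submodule.map_smul''] at h2
    exact Submodule.smul_mono le_rfl le_top h2
  · intro h
    rw [← Finset.univ_sum_single v]
    refine Submodule.sum_mem _ fun i _ => ?_
    have h2 : LinearMap.single B (fun _ : Fin n => N) i (v i) ∈
        (I • (⊤ : Submodule B N)).map (LinearMap.single B (fun _ : Fin n => N) i) := ⟨_, h i, rfl⟩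
    rw [Submodule.map_smul''] at h2
    exact Submodule.smul_mono le_rfl le_top h2

variable {R : Type u} [CommRing R] [Algebra B R]

omit [IsNoetherianRing A] [IsNoetherianRing B] [IsLocalRing B] [IsLocalHom (algebraMap A B)] in
theorem mk_one_eq_zero_iff (hs : Function.Surjective (algebraMap B R)) (hk : RingHom.ker (algebraMap B R) = mB A B)
    (x : M) : (1 : R) ⊗ₜ[B] x = 0 ↔ x ∈ mB A B • (⊤ : Submodule B M) := by
  let I : Ideal B := RingHom.ker (algebraMap B R)
  let e2 : (B ⧸ I) ≃ₗ[B] R :=
    { RingHom.quotientKerEquivOfSurjective (f := algebraMap B R) hs with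
      map_smul' := fun c x => by
        obtain ⟨x, rfl⟩ := Ideal.Quotient.mk_surjective x
        show algebraMap B R (c * x) = c • algebraMap B R x
        rw [map_mul, Algebra.smul_def] }
  have h1 : (TensorProduct.congr e2 (LinearEquiv.refl B M)) ((1 : B ⧸ I) ⊗ₜ[B] x) = (1 : R) ⊗ₜ[B] x := by
    show algebraMap B R 1 ⊗ₜ[B] x = _
    rw [map_one]
  rw [← h1, LinearEquiv.map_eq_zero_iff, ← LinearEquiv.map_eq_zero_iff (TensorProduct.quotTensorEquivQuotSMul M I),
    show (TensorProduct.quotTensorEquivQuotSMul M I) ((1 : B ⧸ I) ⊗ₜ[B] x) = Submodule.Quotient.mk x from by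
      rw [show (1 : B ⧸ I) = Ideal.Quotient.mk I 1 from rfl]
      exact (TensorProduct.quotTensorEquivQuotSMul_mk_tmul I 1 x).trans (congrArg _ (one_smul B x)),
    Submodule.Quotient.mk_eq_zero, show I = mB A B from hk]

/-- Flat modules isomorphic on the closed fibre are isomorphic when self-extensions split there. -/
theorem nonempty_linearEquiv_of_fibre_split [Module.Flat A M] [Module.Flat A N]
    (hs : Function.Surjective (algebraMap B R)) (hk : RingHom.ker (algebraMap B R) = mB A B)
    (e : R ⊗[B] M ≃ₗ[R] R ⊗[B] N) (hsplit : Split R (R ⊗[B] N)) : Nonempty (M ≃ₗ[B] N) := by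
  classical
  let RN := R ⊗[B] N
  let πN : N →ₗ[B] RN := TensorProduct.mk B R N 1
  let πM : M →ₗ[B] R ⊗[B] M := TensorProduct.mk B R M 1
  have hπN : ∀ y, πN y = 0 ↔ y ∈ mB A B • (⊤ : Submodule B N) := mk_one_eq_zero_iff hs hk
  have hπM : ∀ y, πM y = 0 ↔ y ∈ mB A B • (⊤ : Submodule B M) := mk_one_eq_zero_iff hs hk
  have hπNs : Function.Surjective πN := TensorProduct.mk_surjective B N R hs
  have hπMs : Function.Surjective πM := TensorProduct.mk_surjective B M R hs
  have hkill : ∀ (b : B) (w : RN), b ∈ mB A B → b • w = 0 := fun b w hb => by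
    rw [← algebraMap_smul R b w, RingHom.mem_ker.1 (hk.symm ▸ hb : b ∈ RingHom.ker (algebraMap B R)), zero_smul]
  haveI := Module.finitePresentation_of_finite B M
  obtain ⟨a, p, hp⟩ := Module.Finite.exists_fin' B M
  obtain ⟨b, u, hu⟩ := Submodule.fg_iff_exists_fin_generating_family.1 (IsNoetherian.noetherian (LinearMap.ker p))
  let q : (Fin b → B) →ₗ[B] (Fin a → B) := Fintype.linearCombination B u
  have hq : LinearMap.range q = LinearMap.ker p := by rw [Fintype.range_linearCombination, hu]
  obtain ⟨c, w, hw⟩ := Submodule.fg_iff_exists_fin_generating_family.1 (IsNoetherian.noetherian (LinearMap.ker q))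
  let comb : ∀ n, (Fin n → N) → (Fin n → B) →ₗ[B] N := fun n v => Fintype.linearCombination B v
  let f : (Fin a → N) →ₗ[B] (Fin b → N) :=
    { toFun := fun v l => comb a v (u l)
      map_add' := fun v v' => funext fun l => by simp [comb, Fintype.linearCombination_apply, Finset.sum_add_distrib]
      map_smul' := fun r v => funext fun l => by simp [comb, Fintype.linearCombination_apply, Finset.smul_sum, smul_comm r] }
  let g : (Fin b → N) →ₗ[B] (Fin c → N) :=
    { toFun := fun v l => comb b v (w l)
      map_add' := fun v v' => funext fun l => by simp [comb, Fintype.linearCombination_apply, Finset.sum_add_distrib]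
      map_smul' := fun r v => funext fun l => by simp [comb, Fintype.linearCombination_apply, Finset.smul_sum, smul_comm r] }
  have hcomp : ∀ v l, comb b (f v) l = comb a v (q l) := fun v l => by
    show (Fintype.linearCombination B fun i => comb a v (u i)) l = comb a v (Fintype.linearCombination B u l)
    simp only [Fintype.linearCombination_apply, map_sum, map_smul]
  have hwq : ∀ l, q (w l) = 0 := fun l =>
    LinearMap.mem_ker.1 (hw.le (Submodule.subset_span ⟨l, rfl⟩))
  have hgf : ∀ v, g (f v) = 0 := fun v => funext fun l => by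
    show comb b (f v) (w l) = 0
    rw [hcomp, hwq, map_zero]
  haveI : Module.Flat A (Fin c → N) :=
    Module.Flat.of_linearEquiv (DirectSum.linearEquivFunOnFintype A (Fin c) (fun _ => N)).symm
  have hex : ∀ v : Fin b → N, g v ∈ mB A B • (⊤ : Submodule B (Fin c → N)) →
      ∃ x : Fin a → N, v - f x ∈ mB A B • (⊤ : Submodule B (Fin b → N)) := by
    intro v hv
    let H : (Fin b → B) →ₗ[B] RN := πN ∘ₗ comb b v
    have hH : LinearMap.ker q ≤ LinearMap.ker H := by
      rw [← hw, Submodule.span_le]
      rintro _ ⟨l, rfl⟩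
      exact (hπN _).2 ((mem_smul_top_pi_iff _ _).1 hv l)
    let K := LinearMap.range q
    let h : K →ₗ[B] RN := (LinearMap.ker q).liftQ H hH ∘ₗ q.quotKerEquivRange.symm.toLinearMap
    have hh : ∀ z, h ⟨q z, z, rfl⟩ = H z := fun z => by
      show (LinearMap.ker q).liftQ H hH (q.quotKerEquivRange.symm ⟨q z, z, rfl⟩) = H z
      rw [show q.quotKerEquivRange.symm ⟨q z, z, rfl⟩ = Submodule.Quotient.mk z from
        q.quotKerEquivRange.injective ((LinearEquiv.apply_symm_apply _ _).trans
          (Subtype.ext (q.quotKerEquivRange_apply_mk z).symm))]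
      rfl
    let Rel : Submodule B (RN × (Fin a → B)) :=
      LinearMap.range (h.prod (-K.subtype)) ⊔ Submodule.prod ⊥ (mB A B • ⊤)
    let E := (RN × (Fin a → B)) ⧸ Rel
    let i : RN →ₗ[B] E := Rel.mkQ ∘ₗ LinearMap.inl B RN (Fin a → B)
    have hK : ∀ k : K, p (k : Fin a → B) = 0 := fun k => LinearMap.mem_ker.1 (hq.le k.2)
    have hmF : ∀ z ∈ mB A B • (⊤ : Submodule B (Fin a → B)), πM (p z) = 0 := fun z hz => (hπM _).2 (by
      have h2 : p z ∈ (mB A B • (⊤ : Submodule B (Fin a → B))).map p := ⟨z, hz, rfl⟩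
      rw [Submodule.map_smul''] at h2
      exact Submodule.smul_mono le_rfl le_top h2)
    let p0 : RN × (Fin a → B) →ₗ[B] RN :=
      (e.toLinearMap.restrictScalars B) ∘ₗ πM ∘ₗ p ∘ₗ LinearMap.snd B RN (Fin a → B)
    have hp0 : Rel ≤ LinearMap.ker p0 := by
      refine sup_le ?_ ?_
      · rintro _ ⟨k, rfl⟩
        show e (πM (p (-(k : Fin a → B)))) = 0
        rw [map_neg, hK, neg_zero, map_zero, map_zero]
      · rintro ⟨x, z⟩ ⟨-, hz⟩
        show e (πM (p z)) = 0
        rw [hmF z hz, map_zero]
    let p' : E →ₗ[B] RN := Rel.liftQ p0 hp0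
    -- flatness: the syzygies meet `m` in `m` times themselves
    have hKm : ∀ k : K, (k : Fin a → B) ∈ mB A B • (⊤ : Submodule B (Fin a → B)) → h k = 0 := by
      intro k hk'
      obtain ⟨n, r, z, hr, hz⟩ := exists_sum_of_mem_map_smul _ hk'
      have hrel : ∑ i, r i • p (z i) = 0 := by
        rw [← hK k, hz, map_sum]
        simp only [LinearMap.map_smul_of_tower]
      obtain ⟨m, α, y, hy, hα⟩ := Module.Flat.isTrivialRelation_of_sum_smul_eq_zero hrel
      choose y' hy' using fun l => hp (y l)
      let k' : Fin n → K := fun i => ⟨z i - ∑ l, α i l • y' l, hq.ge (LinearMap.mem_ker.2 (by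
        rw [map_sub, map_sum, show p (z i) = _ from hy i]
        simp only [LinearMap.map_smul_of_tower, hy', sub_self]))⟩
      have hk2 : k = ∑ i, algebraMap A B (r i) • k' i := Subtype.ext (by
        show (k : Fin a → B) = K.subtype (∑ i, algebraMap A B (r i) • k' i)
        rw [map_sum]
        simp only [map_smul, k']
        simp only [Submodule.subtype_apply, algebraMap_smul, smul_sub, Finset.sum_sub_distrib,
          Finset.smul_sum, smul_smul]
        rw [hz, Finset.sum_comm (f := fun i l => (r i * α i l) • y' l)]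
        simp only [← Finset.sum_smul, hα, zero_smul, Finset.sum_const_zero, sub_zero])
      rw [hk2, map_sum]
      exact Finset.sum_eq_zero fun i _ => by rw [map_smul]; exact hkill _ _ (Ideal.mem_map_of_mem _ (hr i))
    have hi : Function.Injective i := by
      rw [injective_iff_map_eq_zero]
      intro x hx
      have hx' : (x, (0 : Fin a → B)) ∈ Rel := (Submodule.Quotient.mk_eq_zero Rel).1 hx
      obtain ⟨_, ⟨k, rfl⟩, ⟨z, z'⟩, ⟨hz, hz'⟩, hsum⟩ := Submodule.mem_sup.1 hx'
      obtain rfl : z = 0 := (Submodule.mem_bot B).1 hz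
      have h1 : h k = x := by simpa using congrArg Prod.fst hsum
      have h2 : z' = (k : Fin a → B) := by
        have h3 : -(k : Fin a → B) + z' = 0 := by simpa using congrArg Prod.snd hsum
        exact (neg_add_eq_zero.1 h3).symm
      rw [← h1]
      exact hKm k (h2 ▸ hz')
    have hp' : Function.Surjective p' := fun y => by
      obtain ⟨m', hm'⟩ := hπMs (e.symm y)
      obtain ⟨z, rfl⟩ := hp m'
      exact ⟨Submodule.Quotient.mk (0, z), show e (πM (p z)) = y by rw [hm', e.apply_symm_apply]⟩
    have hex' : Function.Exact i p' := fun x => by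
      constructor
      · intro hx
        obtain ⟨⟨x, z⟩, rfl⟩ := Submodule.Quotient.mk_surjective Rel x
        have hz : πM (p z) = 0 := e.injective (hx.trans (map_zero e).symm)
        obtain ⟨n, r, v, hr, hv⟩ := exists_sum_of_mem_map_smul _ ((hπM _).1 hz)
        choose v' hv' using fun l => hp (v l)
        let z₁ : Fin a → B := ∑ l, r l • v' l
        have hz₁ : z₁ ∈ mB A B • (⊤ : Submodule B (Fin a → B)) := Submodule.sum_mem _ fun l _ => by
          rw [← algebraMap_smul B (r l) (v' l)]
          exact Submodule.smul_mem_smul (Ideal.mem_map_of_mem _ (hr l)) trivial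
        let k : K := ⟨z - z₁, hq.ge (LinearMap.mem_ker.2 (by
          rw [map_sub, hv, map_sum]
          simp only [LinearMap.map_smul_of_tower, hv', sub_self]))⟩
        refine ⟨x + h k, (Submodule.Quotient.eq Rel).2 ?_⟩
        have : ((x + h k, (0 : Fin a → B)) - (x, z) : RN × (Fin a → B)) = (h k, -(k : Fin a → B)) + (0, -z₁) := by
          ext1 <;> simp [k] <;> abel
        show (x + h k, (0 : Fin a → B)) - (x, z) ∈ Rel
        rw [this]
        exact Submodule.add_mem_sup ⟨k, rfl⟩ ⟨Submodule.zero_mem _, Submodule.neg_mem _ hz₁⟩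
      · rintro ⟨x, rfl⟩
        show e (πM (p (0 : Fin a → B))) = 0
        simp
    have htor : Module.IsTorsionBySet B E (RingHom.ker (algebraMap B R) : Set B) := fun x r => by
      obtain ⟨⟨x, z⟩, rfl⟩ := Submodule.Quotient.mk_surjective Rel x
      have hr : (r : B) ∈ mB A B := hk ▸ r.2
      rw [← Submodule.Quotient.mk_smul, Submodule.Quotient.mk_eq_zero]
      exact Submodule.mem_sup_right ⟨(Submodule.mem_bot B).2 (hkill _ _ hr), Submodule.smul_mem_smul hr trivial⟩
    let eR := RingHom.quotientKerEquivOfSurjective (f := algebraMap B R) hs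
    letI : Module (B ⧸ RingHom.ker (algebraMap B R)) E := htor.module
    letI : Module R E := Module.compHom E eR.symm.toRingHom
    haveI : IsScalarTower B R E := IsScalarTower.of_algebraMap_smul fun r x => by
      show eR.symm (algebraMap B R r) • x = r • x
      rw [show eR.symm (algebraMap B R r) = Ideal.Quotient.mk _ r from eR.injective (by
        rw [eR.apply_symm_apply]; rfl)]
      rfl
    obtain ⟨s, hs'⟩ := hsplit E (LinearMap.extendScalarsOfSurjective hs i) (LinearMap.extendScalarsOfSurjective hs p')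
      hi hp' hex'
    have hps : ∀ y, p' (s y) = y := fun y => LinearMap.congr_fun hs' y
    let ρ0 : E →ₗ[B] E := LinearMap.id - (s.restrictScalars B) ∘ₗ p'
    have hρ0 : ∀ x, ρ0 x ∈ LinearMap.range i := fun x => (hex' _).1 (by
      show p' (x - s (p' x)) = 0
      rw [map_sub, hps, sub_self])
    let ρ : E →ₗ[B] RN := (LinearEquiv.ofInjective i hi).symm.toLinearMap ∘ₗ ρ0.codRestrict _ hρ0
    have hρi : ∀ x, ρ (i x) = x := fun x => by
      refine (LinearEquiv.symm_apply_eq _).2 (Subtype.ext ?_)
      show i x - s (p' (i x)) = i x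
      rw [(hex' _).2 ⟨x, rfl⟩, map_zero, sub_zero]
    let G : (Fin a → B) →ₗ[B] RN := ρ ∘ₗ Rel.mkQ ∘ₗ LinearMap.inr B RN (Fin a → B)
    have hG : ∀ z, G (q z) = H z := fun z => by
      let k : K := ⟨q z, z, rfl⟩
      rw [← hh z, ← hρi (h k)]
      refine congrArg ρ ((Submodule.Quotient.eq Rel).2 (Submodule.mem_sup_left ⟨-k, ?_⟩))
      ext1 <;> simp [k]
    choose x hx using fun l : Fin a => hπNs (G (Pi.single l 1))
    refine ⟨x, (mem_smul_top_pi_iff _ _).2 fun l => (hπN _).1 ?_⟩
    have hGx : ∀ z, πN (comb a x z) = G z := fun z => by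
      conv_rhs => rw [pi_eq_sum_univ' z]
      simp only [comb, Fintype.linearCombination_apply, map_sum, map_smul, hx]
    show πN (v l - comb a x (u l)) = 0
    rw [map_sub, hGx, show u l = q (Pi.single l 1) by simp [q, Fintype.linearCombination_apply, Pi.single_apply],
      hG, sub_eq_zero]
    simp [H, comb, Fintype.linearCombination_apply, Pi.single_apply]
  -- lifting the given isomorphism
  choose x hx using fun l : Fin a => hπNs (e (πM (p (Pi.single l 1))))
  have hx0 : ∀ z, πN (comb a x z) = e (πM (p z)) := fun z => by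
    conv_rhs => rw [pi_eq_sum_univ' z]
    simp only [comb, Fintype.linearCombination_apply, map_sum, map_smul, hx]
    exact Finset.sum_congr rfl fun i _ => by
      rw [← algebraMap_smul R (z i) (πM (p (Pi.single i 1))), map_smul e, algebraMap_smul]
  have hfx : f x ∈ mB A B • (⊤ : Submodule B (Fin b → N)) := (mem_smul_top_pi_iff _ _).2 fun l => (hπN _).1 (by
    show πN (comb a x (u l)) = 0
    rw [hx0, LinearMap.mem_ker.1 (hu.le (Submodule.subset_span ⟨l, rfl⟩)), map_zero, map_zero])
  obtain ⟨x', hxx', hfx'⟩ := exists_kernel_lift f g hgf hex x hfx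
  have hker : LinearMap.ker p ≤ LinearMap.ker (comb a x') := by
    rw [← hu, Submodule.span_le]
    rintro _ ⟨l, rfl⟩
    exact congrFun hfx' l
  let φ : M →ₗ[B] N := (LinearMap.ker p).liftQ (comb a x') hker ∘ₗ (p.quotKerEquivOfSurjective hp).symm.toLinearMap
  have hφp : ∀ z, φ (p z) = comb a x' z := fun z => by
    show (LinearMap.ker p).liftQ (comb a x') hker ((p.quotKerEquivOfSurjective hp).symm (p z)) = _
    rw [show (p.quotKerEquivOfSurjective hp).symm (p z) = Submodule.Quotient.mk z from
      (LinearEquiv.symm_apply_eq _).2 rfl]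
    rfl
  have hφ : ∀ m, πN (φ m) = e (πM m) := fun m => by
    obtain ⟨z, rfl⟩ := hp m
    rw [hφp, ← hx0, ← sub_eq_zero, ← map_sub]
    refine (hπN _).2 ?_
    simp only [comb, Fintype.linearCombination_apply, ← Finset.sum_sub_distrib, ← smul_sub]
    exact Submodule.sum_mem _ fun l _ => Submodule.smul_mem _ _ ((mem_smul_top_pi_iff _ _).1 hxx' l)
  refine ⟨LinearEquiv.ofBijective φ (bijective_of_fibre (A := A) φ (fun m hm => ?_) fun y => ?_)⟩
  · rw [← hπM]
    exact e.injective (by rw [← hφ, (hπN _).2 hm, map_zero])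
  · obtain ⟨m, hm⟩ := hπMs (e.symm (πN y))
    exact ⟨m, (hπN _).1 (by rw [map_sub, hφ, hm, e.apply_symm_apply, sub_self])⟩

end Groth.Agent.DualLib.RelTop
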