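import Groth.Agent.DualLib.RelTop.ArbCM
import Groth.Agent.DualLib.RelTop.KernelLift

/-!
# Base change of a relatively `(S₂)` dualizing sheaf
-/

set_option autoImplicit false
set_option backward.isDefEq.respectTransparency false
set_option backward.defeqAttrib.useBackward true
set_option linter.style.haveILetI false
set_option linter.unusedSectionVars false
set_option synthInstance.maxHeartbeats 100000
set_option maxHeartbeats 1000000

universe u

open CategoryTheory CategoryTheory.Limits AlgebraicGeometry TopologicalSpace IsLocalRing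
open scoped TensorProduct

namespace Groth.Agent.DualLib.RelTop

open Groth.Agent EGA43.DimFormula

section Field

variable {k k' : Type u} [Field k] [Field k'] [Algebra k k'] {X X' : Scheme.{u}} (q : X' ⟶ X)
  (f : X ⟶ Spec (CommRingCat.of k)) [LocallyOfFiniteType f] (f' : X' ⟶ Spec (CommRingCat.of k'))
  (hsq : IsPullback q f' f (Spec.map (CommRingCat.ofHom (algebraMap k k'))))

include hsq

/-- Dimensions do not drop and Cohen–Macaulay local rings stay so along extensions of the base field. -/
theorem dim_and_cm_pullback_field (v : X') :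
    ringKrullDim (X.presheaf.stalk (q v)) ≤ ringKrullDim (X'.presheaf.stalk v) ∧
      (_root_.LocCoh.IsCohenMacaulayLocalRing (X.presheaf.stalk (q v)) →
        _root_.LocCoh.IsCohenMacaulayLocalRing (X'.presheaf.stalk v)) := by
  haveI : IsLocallyNoetherian X := LocallyOfFiniteType.isLocallyNoetherian f
  haveI : LocallyOfFiniteType f' := MorphismProperty.of_isPullback hsq ‹_›
  haveI : IsLocallyNoetherian X' := LocallyOfFiniteType.isLocallyNoetherian f'
  haveI : Flat (Spec.map (CommRingCat.ofHom (algebraMap k k'))) := by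
    rw [Flat.SpecMap_iff]
    exact RingHom.flat_algebraMap_iff.2 inferInstance
  haveI : Flat q := MorphismProperty.of_isPullback hsq.flip ‹_›
  let R := X.presheaf.stalk (q v)
  let S := X'.presheaf.stalk v
  letI : Algebra R S := (q.stalkMap v).hom.toAlgebra
  haveI : Module.Flat R S := Flat.stalkMap q v
  haveI : IsLocalHom (algebraMap R S) := inferInstanceAs (IsLocalHom (q.stalkMap v).hom)
  let I := (maximalIdeal R).map (algebraMap R S)
  let eI : (S ⧸ (I • (⊤ : Submodule S S))) ≃ₗ[S] S ⧸ I :=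
    Submodule.quotEquivOfEq _ _ (by rw [smul_eq_mul, Ideal.mul_top])
  haveI hg := gor_closedFibre q f f' hsq v
  haveI hcm : _root_.LocCoh.IsCohenMacaulayLocalRing (S ⧸ I) := Groth.Agent.LocCoh.isCohenMacaulayLocalRing_of_gorenstein
  haveI : Nontrivial (S ⧸ I) := inferInstance
  let e : S ≃ₗ[S] S ⊗[R] R := (TensorProduct.AlgebraTensorModule.rid R S S).symm
  have hdim : ringKrullDim S = ringKrullDim R + ringKrullDim (S ⧸ I) := by
    rw [← Module.supportDim_self_eq_ringKrullDim (R := S), Module.supportDim_eq_of_equiv e,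
      CommAlg6.supportDim_tensor_eq (A := R) (B := S) S R, Module.supportDim_self_eq_ringKrullDim,
      Module.supportDim_eq_of_equiv eI, ← CommAlg6.supportDim_of_surjective (R := S) (S := S ⧸ I) Ideal.Quotient.mk_surjective,
      Module.supportDim_self_eq_ringKrullDim]
  have hdep : _root_.LocCoh.depth S S = _root_.LocCoh.depth R R + _root_.LocCoh.depth (S ⧸ I) (S ⧸ I) := by
    rw [CAlgH3.depth_congr e, CommAlg6.depth_tensor_eq (A := R) (B := S) S R, CAlgH3.depth_congr eI,
      ← CAlgH3.depth_of_surjective (R := S) (S := S ⧸ I) Ideal.Quotient.mk_surjective]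
  have hF := hcm.supportDim_eq_depth
  rw [Module.supportDim_self_eq_ringKrullDim] at hF
  refine ⟨?_, fun hR => { supportDim_eq_depth := ?_ }⟩
  · rw [hdim, hF]
    exact le_add_of_nonneg_right (WithBot.coe_le_coe.2 zero_le')
  · have hR' := hR.supportDim_eq_depth
    rw [Module.supportDim_self_eq_ringKrullDim] at hR'
    rw [Module.supportDim_self_eq_ringKrullDim, hdim, hdep, hR', hF, WithBot.coe_add]

end Field

variable [∀ (U V : Scheme.{u}) (j : U ⟶ V) [IsOpenImmersion j], PreservesFiniteLimits (Scheme.Modules.restrictFunctor j)]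

variable (A : Type u) [CommRing A] [IsNoetherianRing A] (Y : Scheme.{u}) [Y.Over (Spec (CommRingCat.of A))]
  [IsProper (Y ↘ Spec (CommRingCat.of A))] [Flat (Y ↘ Spec (CommRingCat.of A))] (d : ℕ)
  (hd : Cyc.HasRelDim (Y ↘ Spec (CommRingCat.of A)) d)

include hd

/-- **Base change of a relatively `(S₂)` dualizing sheaf.** -/
theorem nonempty_iso_of_relSk (hS : RelCanon.IsSkMor (Y ↘ Spec (CommRingCat.of A)) 2) (ω : Y.Modules)
    (hω : RelCanon.IsDualizingSheaf A Y d ω) (h2 : RelCanon.RelSk (Y ↘ Spec (CommRingCat.of A)) 2 ω)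
    (B : Type u) [CommRing B] [IsNoetherianRing B] (φ : A →+* B) (Y' : Scheme.{u}) [Y'.Over (Spec (CommRingCat.of B))]
    (p : Y' ⟶ Y)
    (hp : IsPullback p (Y' ↘ Spec (CommRingCat.of B)) (Y ↘ Spec (CommRingCat.of A)) (Spec.map (CommRingCat.ofHom φ)))
    (ω' : Y'.Modules) (hω' : RelCanon.IsDualizingSheaf B Y' d ω') :
    Nonempty ((Scheme.Modules.pullback p).obj ω ≅ ω') := by
  let f := Y ↘ Spec (CommRingCat.of A)
  let f' := Y' ↘ Spec (CommRingCat.of B)
  let T := Spec (CommRingCat.of A)
  let T' := Spec (CommRingCat.of B)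
  let h : T' ⟶ T := Spec.map (CommRingCat.ofHom φ)
  haveI : IsNoetherianRing (CommRingCat.of A) := ‹IsNoetherianRing A›
  haveI : IsNoetherianRing (CommRingCat.of B) := ‹IsNoetherianRing B›
  haveI : IsLocallyNoetherian Y := LocallyOfFiniteType.isLocallyNoetherian f
  haveI : IsProper f' := MorphismProperty.of_isPullback hp ‹IsProper f›
  haveI : IsProper (Y' ↘ Spec (CommRingCat.of B)) := ‹IsProper f'›
  haveI : Flat f' := MorphismProperty.of_isPullback hp ‹Flat f›
  haveI : Flat (Y' ↘ Spec (CommRingCat.of B)) := ‹Flat f'›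
  haveI : IsLocallyNoetherian Y' := LocallyOfFiniteType.isLocallyNoetherian f'
  haveI : LocallyOfFinitePresentation f := LocallyOfFinitePresentation.iff_locallyOfFiniteType.2 inferInstance
  haveI : LocallyOfFinitePresentation f' := LocallyOfFinitePresentation.iff_locallyOfFiniteType.2 inferInstance
  have hd' : Cyc.HasRelDim f' d := by
    obtain ⟨i, hi, -, h2⟩ : ∃ (i : Y' ⟶ pullback f h) (_ : IsIso i), i ≫ pullback.fst f h = p ∧
        i ≫ pullback.snd f h = f' :=
      ⟨hp.isoPullback.hom, inferInstance, hp.isoPullback_hom_fst, hp.isoPullback_hom_snd⟩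
    rw [← h2]
    haveI : LocallyOfFiniteType (pullback.snd f h) := MorphismProperty.pullback_snd _ _ inferInstance
    exact CycLib28.PB.hasRelDim_iso_comp (asIso i) _ (CycLib28.hasRelDim_snd f h hd)
  obtain ⟨hωc, -⟩ := isCoh_and_two_le_depth (A := A) (Y := Y) d hd ω hω
  obtain ⟨hω'c, hω'2⟩ := isCoh_and_two_le_depth (A := B) (Y := Y') d hd' ω' hω'
  let P := (Scheme.Modules.pullback p).obj ω
  have hP : Coh.IsCoh P := ⟨haveI := hωc.1; EGA43.InjFibre.isQCoh_pullback p ω, Coherent.isFT_pullback_qcoh p hωc.1 hωc.2⟩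
  obtain ⟨β, hβ⟩ := exists_surjective_on_cm A Y d hd ω hω B φ Y' p hp ω' hω'
  let U : Y.Opens := ⟨_, (Groth.Agent.S1341.result f).1⟩
  let U' : Y'.Opens := p ⁻¹ᵁ U
  let U'' : Y'.Opens := ⟨_, (Groth.Agent.S1341.result f').1⟩
  -- on each fibre
  have hfibre : ∀ (t' : T') (z : f'.fiber t'),
      (p (f'.fiberι t' z) ∈ U → MoreMor.IsCMAt f' (f'.fiberι t' z) ∧
        Function.Bijective ((DerSch.stalkFunctor Y' (f'.fiberι t' z)).map β).hom) ∧
      (p (f'.fiberι t' z) ∉ U → (2 : WithBot ℕ∞) ≤ ringKrullDim ((f'.fiber t').presheaf.stalk z)) := by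
    intro t' z
    let t := h t'
    let Z := f.fiber t
    let Z' := f'.fiber t'
    let k := IsLocalRing.ResidueField (T.presheaf.stalk t)
    let k' := IsLocalRing.ResidueField (T'.presheaf.stalk t')
    letI : Algebra k k' := (h.residueFieldMap t').hom.toAlgebra
    obtain ⟨q, _, hw, sq'⟩ := exists_fibre_map p f f' h hp t'
    let ι := f.fiberι t
    let ι' := f'.fiberι t'
    let fZ : Z ⟶ Spec (T.residueField t) := f.fiberToSpecResidueField t
    haveI : IsProper fZ := MorphismProperty.pullback_snd _ _ ‹IsProper f›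
    haveI : IsLocallyNoetherian Z := LocallyOfFiniteType.isLocallyNoetherian fZ
    haveI : IsProper (f'.fiberToSpecResidueField t') := MorphismProperty.pullback_snd _ _ ‹IsProper f'›
    haveI : IsLocallyNoetherian Z' := LocallyOfFiniteType.isLocallyNoetherian (f'.fiberToSpecResidueField t')
    obtain ⟨hle, hcm⟩ := dim_and_cm_pullback_field (k := k) (k' := k') q fZ (f'.fiberToSpecResidueField t') sq' z
    have hι : ι (q z) = p (ι' z) := by
      rw [← Scheme.Hom.comp_apply, hw, Scheme.Hom.comp_apply]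
    have key : ∀ (x : Y) (s : T), f x = s → ∀ w : f.fiber s, f.fiberι s w = x →
        (x ∈ U → _root_.LocCoh.IsCohenMacaulayLocalRing ((f.fiber s).presheaf.stalk w)) ∧
        (x ∉ U → (2 : WithBot ℕ∞) ≤ ringKrullDim ((f.fiber s).presheaf.stalk w)) := by
      intro x s hs
      subst hs
      intro w hw'
      obtain rfl : w = f.asFiber x := (f.fiberι _).isEmbedding.injective (hw'.trans (f.fiberι_asFiber x).symm)
      exact ⟨fun hx => hx.2, fun hx => two_le_dim_of_not_isCMAt f hS x hx⟩
    have key₀ := key (p (ι' z)) t (by rw [← hι]; exact EGA43.Chevalley.apply_fiberι f t _) (q z) hι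
    refine ⟨fun hU => ?_, fun hU => (key₀.2 hU).trans hle⟩
    have key' : ∀ (x : Y') (s : T'), f' x = s → ∀ w : f'.fiber s, f'.fiberι s w = x →
        _root_.LocCoh.IsCohenMacaulayLocalRing ((f'.fiber s).presheaf.stalk w) → MoreMor.IsCMAt f' x := by
      intro x s hs
      subst hs
      intro w hw' hc
      obtain rfl : w = f'.asFiber x := (f'.fiberι _).isEmbedding.injective (hw'.trans (f'.fiberι_asFiber x).symm)
      exact ⟨Flat.stalkMap f' x, hc⟩
    have hCM' : MoreMor.IsCMAt f' (ι' z) :=
      key' _ t' (EGA43.Chevalley.apply_fiberι f' t' z) z rfl (hcm (key₀.1 hU))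
    refine ⟨hCM', ?_⟩
    -- dualizing sheaves of the two fibres
    obtain ⟨ωt, hωt⟩ := exists_fibre_dualizing A Y d hd t
    obtain ⟨ωt', hωt'⟩ := exists_fibre_dualizing B Y' d hd' t'
    have hωtc := isCoh_fibre_dualizing Y d hd t ωt hωt
    have hωt'c := isCoh_fibre_dualizing Y' d hd' t' ωt' hωt'
    obtain ⟨eC1⟩ := nonempty_fibre_iso_on_cm A Y d hd ω hω U (fun v hv => hv) t ωt hωt
    obtain ⟨eC2⟩ := nonempty_fibre_iso_on_cm B Y' d hd' ω' hω' U'' (fun v hv => hv) t' ωt' hωt'
    obtain ⟨eq⟩ : Nonempty ((Scheme.Modules.pullback q).obj ωt ≅ ωt') := by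
      letI : Z.Over (Spec (CommRingCat.of (T.residueField t))) := ⟨fZ⟩
      letI : Z'.Over (Spec (CommRingCat.of (T'.residueField t'))) := ⟨f'.fiberToSpecResidueField t'⟩
      haveI : IsProper (Z ↘ Spec (CommRingCat.of (T.residueField t))) := ‹IsProper fZ›
      haveI : IsNoetherianRing (T.residueField t) := inferInstance
      haveI : IsNoetherianRing (T'.residueField t') := inferInstance
      refine nonempty_iso_of_isDualizingSheaf (isDualizingSheaf_pullback (T.residueField t) Z d (fun y =>
        fibre_dim_le fZ d (hasRelDim_fibre Y d hd t) y) ωt hωt (T'.residueField t') (h.residueFieldMap t').hom ?_ Z' q sq') hωt'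
      rw [RingHom.Flat]
      letI : Algebra (T.residueField t) (T'.residueField t') := (h.residueFieldMap t').hom.toAlgebra
      exact Module.Flat.of_free
    let N₁ := (Scheme.Modules.pullback ι).obj ω
    have hN₁ : Coh.IsCoh N₁ :=
      ⟨haveI := hωc.1; EGA43.InjFibre.isQCoh_pullback ι ω, Coherent.isFT_pullback_qcoh ι hωc.1 hωc.2⟩
    have cohq : ∀ M : Z.Modules, Coh.IsCoh M → Coh.IsCoh ((Scheme.Modules.pullback q).obj M) := fun M hM =>
      ⟨haveI := hM.1; EGA43.InjFibre.isQCoh_pullback q M, Coherent.isFT_pullback_qcoh q hM.1 hM.2⟩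
    obtain ⟨e1⟩ := nonempty_pull_restrict q (ι ⁻¹ᵁ U) eC1.symm
    have hzU : z ∈ q ⁻¹ᵁ (ι ⁻¹ᵁ U) := by
      show ι (q z) ∈ U
      rw [hι]; exact hU
    obtain ⟨s1⟩ := nonempty_stalk_equiv_of_mem (cohq N₁ hN₁) (cohq ωt hωtc) _ e1 z hzU
    have hN' : Coh.IsCoh ((Scheme.Modules.pullback ι').obj ω') :=
      ⟨haveI := hω'c.1; EGA43.InjFibre.isQCoh_pullback ι' ω', Coherent.isFT_pullback_qcoh ι' hω'c.1 hω'c.2⟩
    obtain ⟨s2⟩ := nonempty_stalk_equiv_of_mem hωt'c hN' _ eC2 z hCM'
    let eN : (Scheme.Modules.pullback q).obj N₁ ≅ (Scheme.Modules.pullback ι').obj P :=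
      (Scheme.Modules.pullbackComp q ι).app ω ≪≫ (Scheme.Modules.pullbackCongr hw).app ω ≪≫
        ((Scheme.Modules.pullbackComp ι' p).app ω).symm
    let y := ι' z
    let Aₜ := T'.presheaf.stalk (f' y)
    let S := Y'.presheaf.stalk y
    let R := Z'.presheaf.stalk z
    let M := P.presheaf.stalk y
    let N := ω'.presheaf.stalk y
    letI : Algebra S R := (ι'.stalkMap z).hom.toAlgebra
    let eM : ((Scheme.Modules.pullback ι').obj P).presheaf.stalk z ≃ₗ[R] R ⊗[S] M :=
      ((ModStalk.pullbackStalkIso ι' z).app P).toLinearEquiv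
    let eN' : ((Scheme.Modules.pullback ι').obj ω').presheaf.stalk z ≃ₗ[R] R ⊗[S] N :=
      ((ModStalk.pullbackStalkIso ι' z).app ω').toLinearEquiv
    let e0 : R ⊗[S] M ≃ₗ[R] R ⊗[S] N :=
      (((eM.symm.trans ((DerSch.stalkFunctor Z' z).mapIso eN.symm).toLinearEquiv).trans s1).trans
        ((DerSch.stalkFunctor Z' z).mapIso eq).toLinearEquiv).trans (s2.trans eN')
    letI : Algebra Aₜ S := (f'.stalkMap y).hom.toAlgebra
    haveI : IsLocalHom (algebraMap Aₜ S) := inferInstanceAs (IsLocalHom (f'.stalkMap y).hom)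
    haveI : Module.Flat Aₜ S := Flat.stalkMap f' y
    letI := FlatMod.moduleStalkOver f' ω' y
    haveI : IsScalarTower Aₜ S N := IsScalarTower.of_compHom _ _ _
    letI := FlatMod.moduleStalkOver f' P y
    haveI : IsScalarTower Aₜ S M := IsScalarTower.of_compHom _ _ _
    haveI : Module.Flat Aₜ N := isFlatOverAt_of_cm B Y' d hd' ω' hω' y hCM'
    haveI : Module.Finite S M := AssSch12.finite_stalk hP y
    haveI : Module.Finite S N := AssSch12.finite_stalk hω'c y
    haveI : Module.Finite R (R ⊗[S] M) := inferInstance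
    obtain ⟨hs, hker⟩ := Props12.stalkMap_fiberι f' t' z
    let l : M →ₗ[S] N := ((DerSch.stalkFunctor Y' y).map β).hom
    have hl : Function.Surjective l := hβ y hU
    let lR : R ⊗[S] M →ₗ[R] R ⊗[S] N := l.baseChange R
    have hlR : Function.Surjective lR := LinearMap.lTensor_surjective R hl
    have hinj : Function.Injective lR := by
      have := OrzechProperty.injective_of_surjective_endomorphism (e0.symm.toLinearMap ∘ₗ lR)
        (e0.symm.surjective.comp hlR)
      exact fun a b hab => this (congrArg e0.symm hab)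
    refine bijective_of_fibre (A := Aₜ) l (fun x hx => ?_) fun y => ?_
    · refine (mk_one_eq_zero_iff (A := Aₜ) hs hker x).1 (hinj ?_)
      rw [map_zero]
      exact (mk_one_eq_zero_iff (A := Aₜ) hs hker (l x)).2 hx
    · obtain ⟨x, rfl⟩ := hl y
      exact ⟨x, by rw [sub_self]; exact Submodule.zero_mem _⟩
  have hbij : ∀ v : Y', v ∈ U' → MoreMor.IsCMAt f' v ∧ Function.Bijective ((DerSch.stalkFunctor Y' v).map β).hom := by
    intro v hv
    have hz := f'.fiberι_asFiber v
    exact hz ▸ (hfibre (f' v) (f'.asFiber v)).1 (by rw [hz]; exact hv)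
  have hdim' : ∀ v : Y', v ∉ U' → (2 : WithBot ℕ∞) ≤ ringKrullDim ((f'.fiber (f' v)).presheaf.stalk (f'.asFiber v)) :=
    fun v hv => (hfibre (f' v) (f'.asFiber v)).2 (by rw [f'.fiberι_asFiber]; exact hv)
  have hPflat : ∀ v : Y', p v ∈ U → FlatMod.IsFlatOverAt f' P v := fun v hv => by
    let S := Y'.presheaf.stalk v
    let e : P.presheaf.stalk v ≃ₗ[S] ω'.presheaf.stalk v :=
      LinearEquiv.ofBijective ((DerSch.stalkFunctor Y' v).map β).hom (hbij v hv).2
    letI := (f'.stalkMap v).hom.toAlgebra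
    letI := FlatMod.moduleStalkOver f' P v
    letI := FlatMod.moduleStalkOver f' ω' v
    haveI : IsScalarTower (T'.presheaf.stalk (f' v)) S (P.presheaf.stalk v) := IsScalarTower.of_compHom _ _ _
    haveI : IsScalarTower (T'.presheaf.stalk (f' v)) S (ω'.presheaf.stalk v) := IsScalarTower.of_compHom _ _ _
    haveI : Module.Flat (T'.presheaf.stalk (f' v)) (ω'.presheaf.stalk v) :=
      isFlatOverAt_of_cm B Y' d hd' ω' hω' v (hbij v hv).1
    exact Module.Flat.of_linearEquiv (e.restrictScalars (T'.presheaf.stalk (f' v)))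
  obtain ⟨-, hPdep⟩ := two_le_depth_pullback p f f' h hp hωc U (fun t z hz => by
    haveI : LocallyOfFiniteType (f.fiberToSpecResidueField t) :=
      MorphismProperty.pullback_snd _ _ inferInstance
    haveI : IsLocallyNoetherian (f.fiber t) := LocallyOfFiniteType.isLocallyNoetherian (f.fiberToSpecResidueField t)
    let N := (Scheme.Modules.pullback (f.fiberι t)).obj ω
    have hN : Coh.IsCoh N :=
      ⟨haveI := hωc.1; EGA43.InjFibre.isQCoh_pullback _ ω, Coherent.isFT_pullback_qcoh _ hωc.1 hωc.2⟩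
    have key : ∀ (x : Y) (s : T), f x = s → ∀ v : f.fiber s, f.fiberι s v = x →
        RelCanon.SkAt 2 ((Scheme.Modules.pullback (f.fiberι s)).obj ω) v ∧
          (x ∉ U → (2 : WithBot ℕ∞) ≤ ringKrullDim ((f.fiber s).presheaf.stalk v)) := by
      intro x s hs
      subst hs
      intro v hv
      obtain rfl : v = f.asFiber x := (f.fiberι _).isEmbedding.injective (hv.trans (f.fiberι_asFiber x).symm)
      exact ⟨(h2 x).2, fun hx => two_le_dim_of_not_isCMAt f hS x hx⟩
    have key' := fun v : f.fiber t => key _ t (EGA43.Chevalley.apply_fiberι f t v) v rfl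
    refine two_le_depth_of_skAt hN z (key' z).1 (f.fiberι t ⁻¹ᵁ U) (fun w _ hw => (key' w).2 hw)
      (fun w _ hw => ?_) z (specializes_refl z) hz
    -- Nakayama
    let y := f.fiberι t w
    let S := Y.presheaf.stalk y
    let R := (f.fiber t).presheaf.stalk w
    let M := ω.presheaf.stalk y
    letI : Algebra S R := ((f.fiberι t).stalkMap w).hom.toAlgebra
    let eM : N.presheaf.stalk w ≃ₗ[R] R ⊗[S] M := ((ModStalk.pullbackStalkIso (f.fiberι t) w).app ω).toLinearEquiv
    let Aₜ := T.presheaf.stalk (f y)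
    letI : Algebra Aₜ S := (f.stalkMap y).hom.toAlgebra
    haveI : IsLocalHom (algebraMap Aₜ S) := inferInstanceAs (IsLocalHom (f.stalkMap y).hom)
    letI := FlatMod.moduleStalkOver f ω y
    haveI : IsScalarTower Aₜ S M := IsScalarTower.of_compHom _ _ _
    haveI : Module.Finite S M := AssSch12.finite_stalk hωc y
    obtain ⟨hs, hker⟩ := Props12.stalkMap_fiberι f t w
    rcases subsingleton_or_nontrivial (N.presheaf.stalk w) with hsub | hnt
    · exfalso
      haveI : Subsingleton (R ⊗[S] M) := eM.symm.toEquiv.subsingleton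
      haveI := nontrivial_stalk_of_cm A Y d hd ω hω y hw
      refine (top_ne_bot : (⊤ : Submodule S M) ≠ ⊥) (Submodule.eq_bot_of_le_smul_of_le_jacobson_bot _ _
        Module.Finite.fg_top (fun x _ => (mk_one_eq_zero_iff (A := Aₜ) hs hker x).1 (Subsingleton.elim _ _))
        ((mB_le (A := Aₜ) (B := S)).trans (maximalIdeal_le_jacobson _)))
    · exact hnt) hPflat
  haveI : IsIso ((Scheme.Modules.restrictFunctor U'.ι).map β) := by
    refine ZClosLib.isIso_of_bijective_stalk _ fun x => ?_
    let ν := Scheme.Modules.restrictStalkNatIso U'.ι x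
    have hn := ν.hom.naturality β
    have key : (ν.hom.app ω').hom ∘ ZClosLib.stalkMap ((Scheme.Modules.restrictFunctor U'.ι).map β) x =
        ((DerSch.stalkFunctor Y' (U'.ι x)).map β).hom ∘ (ν.hom.app P).hom :=
      funext fun z => ConcreteCategory.congr_hom hn z
    refine (Function.Bijective.of_comp_iff' (ConcreteCategory.bijective_of_isIso (ν.hom.app ω')) _).1 ?_
    exact key ▸ (hbij _ x.2).2.comp (ConcreteCategory.bijective_of_isIso (ν.hom.app P))
  exact nonempty_iso_of_extends (extends_of_depth P hP U' hPdep)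
    (extends_of_depth ω' hω'c U' fun x hx => hω'2 x (hdim' x hx))
    (asIso ((Scheme.Modules.restrictFunctor U'.ι).map β))

end Groth.Agent.DualLib.RelTop
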