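import Groth.Agent.DualLib.RelTop.TopGen
import Groth.Agent.S1341
import Groth.Agent.S3614
import Groth.Agent.EGA43.CMChart.Main

/-!
# The right adjoint of direct image at a Cohen–Macaulay point
-/

set_option autoImplicit false
set_option backward.isDefEq.respectTransparency false
set_option backward.defeqAttrib.useBackward true
set_option linter.style.haveILetI false
set_option linter.unusedSectionVars false
set_option synthInstance.maxHeartbeats 200000
set_option maxHeartbeats 1000000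

universe u

open CategoryTheory CategoryTheory.Limits CategoryTheory.Pretriangulated DerivedCategory AlgebraicGeometry
open Groth.Agent.DCat Groth.Agent.Dual6Lib.HomFlat

attribute [local instance] HasDerivedCategory.standard
attribute [-instance] Int.instConditionallyCompleteLinearOrder

namespace Groth.Agent.DualLib.RelTop

variable [∀ (U V : Scheme.{u}) (j : U ⟶ V) [IsOpenImmersion j], PreservesFiniteLimits (Scheme.Modules.restrictFunctor j)]

variable (A : Type u) [CommRing A] [IsNoetherianRing A] (Y : Scheme.{u}) [Y.Over (Spec (CommRingCat.of A))]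
  [IsProper (Y ↘ Spec (CommRingCat.of A))] [Flat (Y ↘ Spec (CommRingCat.of A))] (d : ℕ)
  (hd : Cyc.HasRelDim (Y ↘ Spec (CommRingCat.of A)) d)

include hd

/-- The dualizing sheaf is non-zero at a Cohen–Macaulay point. -/
theorem nontrivial_stalk_of_cm (ω : Y.Modules) (hω : RelCanon.IsDualizingSheaf A Y d ω) (y : Y)
    (hy : MoreMor.IsCMAt (Y ↘ Spec (CommRingCat.of A)) y) : Nontrivial (ω.presheaf.stalk y) := by
  let f := Y ↘ Spec (CommRingCat.of A)
  haveI : IsNoetherianRing (CommRingCat.of A) := ‹IsNoetherianRing A›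
  haveI : IsNoetherian (Spec (CommRingCat.of A)) := {}
  haveI : Dual3.IsSepFT f := ⟨inferInstance, inferInstance, inferInstance⟩
  haveI : CompactSpace Y := QuasiCompact.compactSpace_of_compactSpace f
  haveI : QuasiSeparatedSpace Y := quasiSeparatedSpace_of_quasiSeparated f
  haveI : IsLocallyNoetherian Y := LocallyOfFiniteType.isLocallyNoetherian f
  haveI : ∀ (S : CommRingCat.{u}), PreservesFiniteLimits (tilde.functor S) :=
    Groth.Agent.AffSchLib.preservesFiniteLimits_tilde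
  haveI := DCat.hasRpush f
  haveI : DCoh.HasRpush (Y ↘ Spec (CommRingCat.of A)) := DCat.hasRpush _
  have hf : DCoh.RpushPreservesQCoh f := fun K hK => DQCoh.isQCohD_Rpush f K hK
  haveI := Dual22Lib.AdjGeom.isLeftAdjoint_RpushQ f hf
  let a := (DCoh.RpushQ f hf).rightAdjoint
  let adj : DCoh.RpushQ f hf ⊣ a := Adjunction.ofIsLeftAdjoint _
  haveI : Coh.IsQCoh (Coh.structureModule (Spec (CommRingCat.of A))) := Coherent.isQCoh_structureModule
  let O : DCoh.DQCoh (Spec (CommRingCat.of A)) :=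
    ⟨DCoh.inD _ (Coh.structureModule (Spec (CommRingCat.of A))), FlatBC14.isQCohD_inD _⟩
  obtain ⟨hdual, -⟩ := isDualizingSheaf_HD (fibre_dim_le f d hd) hf a adj O ⟨Iso.refl _⟩
  obtain ⟨eω⟩ := nonempty_iso_of_isDualizingSheaf hdual hω
  let c : DEt.Compactification f :=
    { Xbar := Y, j := 𝟙 Y, fbar := f, isOpenImmersion := inferInstance, isProper := ‹_›, fac := Category.id_comp f }
  haveI : DCoh.HasRpush c.fbar := ‹DCoh.HasRpush f›
  haveI : IsOpenImmersion c.j := c.isOpenImmersion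
  obtain ⟨eG⟩ : Nonempty ((Dual3.shriekC c a).obj O ≅ (a.obj O).obj) := DCat.PCTriangle.rd_id (a.obj O).obj
  obtain ⟨C⟩ := ShriekLocal.nonempty_chart c hf a adj O ⟨Iso.refl _⟩ y
  have hnt : Nontrivial ((DCoh.HD ((Dual3.shriekC c a).obj O) (-(d : ℤ))).presheaf.stalk y) := by
    have := (Dual22Lib.nontrivial_stalk_iff C.jX C.iso C.pt (-(d : ℤ))).2
      (ShriekCM.support_of_cm C d (ShriekCM.fibreDimAt_eq_of_components f d hd y) hy).2
    rwa [C.hpt] at this
  let e := ((DerSch.stalkFunctor Y y).mapIso ((homologyFunctor Y.Modules (-(d : ℤ))).mapIso eG ≪≫ eω)).toLinearEquiv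
  exact @Equiv.nontrivial _ _ e.symm.toEquiv hnt

variable [DCoh.HasRpush (Y ↘ Spec (CommRingCat.of A))] (hf : DCoh.RpushPreservesQCoh (Y ↘ Spec (CommRingCat.of A)))
  (a : DCoh.DQCoh (Spec (CommRingCat.of A)) ⥤ DCoh.DQCoh Y) (adj : DCoh.RpushQ (Y ↘ Spec (CommRingCat.of A)) hf ⊣ a)
  (O : DCoh.DQCoh (Spec (CommRingCat.of A)))
  (hO : Nonempty (O.obj ≅ DCoh.inD (Spec (CommRingCat.of A)) (Coh.structureModule (Spec (CommRingCat.of A)))))

include adj hO

/-- **Generators at a Cohen–Macaulay point.** -/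
theorem span_range_of_cm (y : Y) (hy : MoreMor.IsCMAt (Y ↘ Spec (CommRingCat.of A)) y) {ι : Type u}
    (K : DCoh.DQCoh (Spec (CommRingCat.of A))) (F₀ : (Spec (CommRingCat.of A)).Modules)
    (eK : K.obj ≅ DCoh.inD (Spec (CommRingCat.of A)) F₀) (q : ι → (O ⟶ K))
    (hgen : Submodule.span ((Spec (CommRingCat.of A)).presheaf.stalk ((Y ↘ Spec (CommRingCat.of A)) y))
      (⋃ i, Set.range ((DerSch.stalkFunctor _ ((Y ↘ Spec (CommRingCat.of A)) y)).map
        ((homologyFunctor _ 0).map (q i).hom)).hom) = ⊤) :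
    Submodule.span (Y.presheaf.stalk y)
      (⋃ i, Set.range ((DerSch.stalkFunctor Y y).map
        ((homologyFunctor _ (-(d : ℤ))).map (a.map (q i)).hom)).hom) = ⊤ := by
  let f := Y ↘ Spec (CommRingCat.of A)
  let T := Spec (CommRingCat.of A)
  haveI : IsNoetherianRing (CommRingCat.of A) := ‹IsNoetherianRing A›
  haveI : IsNoetherian T := {}
  haveI : CompactSpace Y := QuasiCompact.compactSpace_of_compactSpace f
  haveI : QuasiSeparatedSpace Y := quasiSeparatedSpace_of_quasiSeparated f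
  haveI : IsLocallyNoetherian Y := LocallyOfFiniteType.isLocallyNoetherian f
  haveI : LocallyOfFinitePresentation f := LocallyOfFinitePresentation.iff_locallyOfFiniteType.2 inferInstance
  let U : Y.Opens := ⟨_, (Groth.Agent.S1341.result f).1⟩
  let V : Scheme.{u} := (U : Scheme.{u})
  let j : V ⟶ Y := U.ι
  let w : V := (⟨y, hy⟩ : U)
  let h : V ⟶ T := j ≫ f
  haveI : Flat h := inferInstance
  haveI := DCat.hasLpull f
  haveI := DCat.hasLpull j
  haveI := DCat.hasLpull h
  let c : DEt.Compactification (j ≫ f) :=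
    { Xbar := Y, j := j, fbar := f, isOpenImmersion := inferInstance, isProper := ‹_›, fac := rfl }
  haveI : DCoh.HasRpush c.fbar := ‹DCoh.HasRpush f›
  haveI : Dual3.IsSepFT (j ≫ f) := by
    haveI : QuasiCompact j := inferInstance
    exact ⟨inferInstance, inferInstance, inferInstance⟩
  haveI : Dual3.IsSepFT (𝟙 T) := ⟨inferInstance, inferInstance, inferInstance⟩
  have hCMU : ∀ x : V, MoreMor.IsCMAt (j ≫ f) x := fun x =>
    (EGA43.CMChart.isCMAt_comp_iff j f x).2 x.2
  have hdU : ∀ (t : T) (Z : Set ↥((j ≫ f).fiber t)), Z ∈ irreducibleComponents ↥((j ≫ f).fiber t) →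
      topologicalKrullDim ↥Z = (d : WithBot ℕ∞) := fun t => by
    refine (EGA43.Chevalley.forall_components_fiber_iff (j ≫ f) t (fun e => e = (d : WithBot ℕ∞))).2 fun x hx hmax => ?_
    rw [EGA43.Chevalley.trdegHom_residueFieldMap_comp j f x]
    refine (EGA43.Chevalley.forall_components_fiber_iff f t (fun e => e = (d : WithBot ℕ∞))).1 (hd t) (j x) hx
      fun w hw hwy => ?_
    let w' : V := (⟨w, hw.mem_open U.isOpen x.2⟩ : U)
    exact congrArg j (hmax w' (j.isOpenEmbedding.isInducing.specializes_iff.1 hw) hwy)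
  obtain ⟨hz, -, -⟩ := Groth.Agent.S3614.result T V T (j ≫ f) (𝟙 _) (j ≫ f) (Category.comp_id _)
    hCMU d hdU c hf a adj O hO
  obtain ⟨N, hNk, ⟨eN⟩⟩ := DCat.PullPerf.exists_kflat_rep (a.obj O).obj
  haveI := LTensorSheaf.hasLTensorCx N
  obtain ⟨eT⟩ := Groth.Agent.S3658.result Y T f hf a adj O hO N ⟨eN⟩
  let NU := (Dual22Lib.PullTensorNat.pullC j).obj N
  have hNUk : IsKFlatFor (shT V) NU := PullTot.isKFlatFor_pullback j hNk
  haveI := LTensorSheaf.hasLTensorCx NU
  obtain ⟨r⟩ := DQCoh.nonempty_Lpull_restrict j (a.obj O).obj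
  let eNU : DerivedCategory.Q.obj NU ≅ (DCoh.restrictD j).obj (a.obj O).obj :=
    (PullPerf.lpullIso j hNk).symm ≪≫ (DCoh.Lpull j).mapIso eN ≪≫ r
  haveI : (DerivedCategory.Q.obj NU).IsLE (-(d : ℤ)) :=
    (isLE_iff _ _).2 fun i hi => (hz i (by omega)).of_iso ((homologyFunctor _ i).mapIso eNU)
  haveI : QuasiIso (NU.ιTruncLE (-(d : ℤ))) := ⟨fun q => by
    rcases le_or_gt q (-(d : ℤ)) with hq | hq
    · exact CochainComplex.quasiIsoAt_ιTruncLE _ _ _ hq
    · rw [quasiIsoAt_iff_exactAt' _ _ ((HomologicalComplex.exactAt_iff_isZero_homology _ _).2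
        ((isZero_of_isLE (DerivedCategory.Q.obj NU) (-(d : ℤ)) q hq).of_iso
          ((DerivedCategory.homologyFunctorFactors _ q).app NU).symm))]
      exact CochainComplex.exactAt_of_isLE _ (-(d : ℤ)) q hq⟩
  obtain ⟨N₂, q', hN₂k, -, hq, hN₂⟩ := exists_kflat_sheaf_le (NU.truncLE (-(d : ℤ))) (-(d : ℤ))
    fun n hn => CochainComplex.isZero_of_isStrictlyLE _ (-(d : ℤ)) n hn
  haveI := hq
  let q₂ := q' ≫ NU.ιTruncLE (-(d : ℤ))
  haveI : QuasiIso q₂ := inferInstance
  haveI := LTensorSheaf.hasLTensorCx N₂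
  haveI : IsIso (DerivedCategory.Q.map q₂) := inferInstance
  obtain ⟨n₁⟩ := TensorCongr.nonempty_congr (asIso (DerivedCategory.Q.map q₂)).symm
  obtain ⟨τ⟩ := Dual22Lib.PullTensorNat.nonempty_natIso j hNk
  obtain ⟨cc⟩ := DCat.nonempty_LpullComp j f
  obtain ⟨αj⟩ := Dual6Lib.BCShriekAffine.nonempty_Lpull_Gd j
  obtain ⟨αh⟩ := Dual6Lib.BCShriekAffine.nonempty_Lpull_Gd h
  let ιT := ObjectProperty.ι (DCoh.IsQCohD (X := T))
  let ιY := ObjectProperty.ι (DCoh.IsQCohD (X := Y))
  let e₁ : a ⋙ ιY ⋙ Gd j ≅ ιT ⋙ Gd h ⋙ DCoh.LTensorCx N₂ :=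
    Functor.isoWhiskerLeft a (Functor.isoWhiskerLeft ιY αj.symm) ≪≫ (Functor.associator _ _ _).symm ≪≫
      Functor.isoWhiskerRight eT _ ≪≫ Functor.associator _ _ _ ≪≫
      Functor.isoWhiskerLeft ιT (Functor.associator _ _ _ ≪≫ Functor.isoWhiskerLeft (DCoh.Lpull f) τ ≪≫
        (Functor.associator _ _ _).symm ≪≫ Functor.isoWhiskerRight (cc ≪≫ αh) _ ≪≫
        Functor.isoWhiskerLeft _ n₁)
  let Ψ : DCoh.D T ⥤ V.Modules := Gd h ⋙ DCoh.LTensorCx N₂ ⋙ homologyFunctor V.Modules (-(d : ℤ))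
  let e₃ : (a ⋙ ιY ⋙ homologyFunctor Y.Modules (-(d : ℤ))) ⋙ Scheme.Modules.pullback j ≅
      (ιT ⋙ Ψ) ⋙ Scheme.Modules.pullback (𝟙 V) :=
    Functor.associator _ _ _ ≪≫ Functor.isoWhiskerLeft a (Functor.associator _ _ _ ≪≫
      Functor.isoWhiskerLeft ιY (sigma j (-(d : ℤ))).symm ≪≫ (Functor.associator _ _ _).symm) ≪≫
      (Functor.associator _ _ _).symm ≪≫ Functor.isoWhiskerRight e₁ _ ≪≫ Functor.associator _ _ _ ≪≫
      Functor.isoWhiskerLeft ιT (Functor.associator _ _ _) ≪≫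
      (Functor.rightUnitor _).symm ≪≫ Functor.isoWhiskerLeft _ (Scheme.Modules.pullbackId V).symm
  -- the value on modules in degree zero
  let sT := singleFunctor T.Modules 0
  let sX := HomologicalComplex.single V.Modules (ComplexShape.up ℤ) 0
  let R₂ := (DCoh.tensorCx (X := V)).flip.obj N₂
  let cN := LTensorSheaf.counit N₂
  haveI : ∀ P, IsIso (cN.app P) := fun P => LTensorSheaf.isIso_counit_of_right hN₂k P
  haveI : IsIso cN := NatIso.isIso_of_isIso_app cN
  let Γ : sT ⋙ Ψ ≅ Scheme.Modules.pullback h ⋙ sX ⋙ R₂ ⋙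
      HomologicalComplex.homologyFunctor V.Modules (ComplexShape.up ℤ) (-(d : ℤ)) :=
    (Functor.associator _ _ _).symm ≪≫
      Functor.isoWhiskerRight ((Scheme.Modules.pullback h).mapDerivedCategorySingleFunctor 0) _ ≪≫
      Functor.associator _ _ _ ≪≫ Functor.isoWhiskerLeft _ (
        Functor.isoWhiskerRight (singleFunctorIsoCompQ V.Modules 0) _ ≪≫ Functor.associator _ _ _ ≪≫
        Functor.isoWhiskerLeft sX ((Functor.associator _ _ _).symm ≪≫ Functor.isoWhiskerRight (asIso cN) _ ≪≫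
          Functor.associator _ _ _ ≪≫ Functor.isoWhiskerLeft R₂ (homologyFunctorFactors V.Modules (-(d : ℤ)))))
  let eO := hO.some
  choose x hx using fun i => sT.map_surjective (eO.inv ≫ (q i).hom ≫ eK.hom)
  let sO := singleFunctorCompHomologyFunctorIso T.Modules 0
  have hx1 : Submodule.span (T.presheaf.stalk (f y))
      (⋃ i, Set.range ((DerSch.stalkFunctor T (f y)).map (x i)).hom) = ⊤ := by
    let St := DerSch.stalkFunctor T (f y)
    let b := (homologyFunctor T.Modules 0).map eK.hom ≫ sO.hom.app F₀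
    haveI : Epi (St.map b) := inferInstance
    refine span_range_of_square _ _ (St.map ((homologyFunctor T.Modules 0).map eO.hom ≫ sO.hom.app _)) (St.map b)
      (fun i => ?_) hgen
    rw [← St.map_comp, ← St.map_comp]
    congr 1
    have hn := sO.hom.naturality (x i)
    simp only [Functor.comp_map, Functor.id_map] at hn
    rw [Category.assoc, ← hn, hx, Functor.map_comp, Functor.map_comp]
    simp only [b, Category.assoc, ← Functor.map_comp_assoc, Iso.hom_inv_id_assoc]
    exact (Functor.map_comp_assoc _ _ _ _).symm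
  have hΦ : Submodule.span (V.presheaf.stalk w)
      (⋃ i, Set.range ((DerSch.stalkFunctor V w).map (Ψ.map (q i).hom)).hom) = ⊤ := by
    let Sw := DerSch.stalkFunctor V w
    haveI : Epi (Sw.map (Γ.inv.app F₀ ≫ Ψ.map eK.inv)) := inferInstance
    refine span_range_of_square _ _ (Sw.map (Γ.inv.app _ ≫ Ψ.map eO.inv)) (Sw.map (Γ.inv.app F₀ ≫ Ψ.map eK.inv))
      (fun i => ?_) (span_range_top_tot w (fun i => (Scheme.Modules.pullback h).map (x i)) N₂ (-(d : ℤ)) hN₂
        (span_range_pullback h w x hx1))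
    rw [← Sw.map_comp, ← Sw.map_comp]
    congr 1
    have hn := Γ.inv.naturality (x i)
    simp only [Functor.comp_map] at hn
    erw [reassoc_of% hn]
    rw [Category.assoc, hx, ← Ψ.map_comp, ← Ψ.map_comp]
    simp
  exact span_range_of_pullback (a ⋙ ιY ⋙ homologyFunctor Y.Modules (-(d : ℤ))) (ιT ⋙ Ψ) j (𝟙 V) e₃ w
    (ConcreteCategory.bijective_of_isIso (j.stalkMap w)) q hΦ

end Groth.Agent.DualLib.RelTop
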