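import Groth.Agent.ZClosLib.Depth
import Groth.Agent.ZClosLib.Criterion
import Groth.Prelude.Def_RefHull

/-!
# Stalks of `j_* j^*` at points of depth at least two
-/

set_option autoImplicit false
set_option backward.isDefEq.respectTransparency false
set_option linter.style.haveILetI false

universe u

open CategoryTheory CategoryTheory.Limits AlgebraicGeometry TopologicalSpace Opposite

namespace Groth.Agent.DualLib.RelTop

variable {X : Scheme.{u}} [IsLocallyNoetherian X]

theorem bijective_stalk_restrictUnit (M : X.Modules) (hM : Coh.IsCoh M) (U : X.Opens) (y : X)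
    (h : ∀ z : X, z ⤳ y → z ∉ U → (2 : ℕ∞) ≤ _root_.LocCoh.depth (X.presheaf.stalk z) (M.presheaf.stalk z)) :
    Function.Bijective (RefHull.stalkMapₗ ((Scheme.Modules.restrictAdjunction U.ι).unit.app M) y) := by
  let Z : Set X := (U : Set X)ᶜ
  have hZ : StableUnderSpecialization Z := U.isOpen.isClosed_compl.stableUnderSpecialization
  haveI : Coh.IsQCoh M := hM.1
  have hpure : ZClosLib.PureAt Z M y :=
    (ZClosLib.pureAt_iff_depth hM hZ y).2 fun z hz hzZ => le_trans (by norm_num) (h z hz hzZ)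
  have hext : ZClosLib.ExtAt Z M y := ZClosLib.extAt_of_depth hM hZ hpure fun z hz hzZ => h z hz hzZ
  let G : X.Modules := (Scheme.Modules.pushforward U.ι).obj (M.restrict U.ι)
  let φ : M ⟶ G := (Scheme.Modules.restrictAdjunction U.ι).unit.app M
  show Function.Bijective (RefHull.stalkMapₗ φ y)
  have himg : ∀ (V : X.Opens) (z : X), z ∈ V → z ∈ U → z ∈ U.ι ''ᵁ (U.ι ⁻¹ᵁ V) := fun V z hz hzU =>
    ⟨⟨z, hzU⟩, hz, rfl⟩
  have hU : ∀ (V : X.Opens) (z : X), z ∈ U.ι ''ᵁ (U.ι ⁻¹ᵁ V) → z ∈ U := by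
    rintro V z ⟨w, -, rfl⟩
    exact w.2
  constructor
  · rw [injective_iff_map_eq_zero]
    intro v hv
    obtain ⟨W, hyW, m, rfl⟩ := M.presheaf.exists_germ_eq v
    rw [RefHull.stalkMapₗ_germ φ] at hv
    replace hv := hv.trans (map_zero (G.presheaf.germ W y hyW).hom).symm
    obtain ⟨W', hyW', i₁, i₂, he⟩ := G.presheaf.germ_eq y hyW hyW _ _ hv
    rw [← TopCat.Presheaf.germ_res_apply M.presheaf i₁ y hyW' m]
    refine hpure W' _ hyW' fun z hz hzZ => ?_
    have hzU : z ∈ U := Classical.not_not.1 hzZ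
    rw [map_zero] at he
    have he' : M.presheaf.map (U.ι.opensFunctor.map ((Opens.map U.ι.base).map i₁)).op
        (M.presheaf.map (homOfLE (U.ι.image_preimage_le W)).op m) = 0 := he
    have h2 := congrArg (M.presheaf.germ _ z (himg W' z hz hzU)) he'
    rw [map_zero, TopCat.Presheaf.germ_res_apply, TopCat.Presheaf.germ_res_apply] at h2
    rw [TopCat.Presheaf.germ_res_apply]
    exact h2
  · intro w
    obtain ⟨W, hyW, n, rfl⟩ := G.presheaf.exists_germ_eq w
    let n' : Γ(M, U.ι ''ᵁ (U.ι ⁻¹ᵁ W)) := n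
    obtain ⟨N, s, hyN, hs⟩ := hext W _ n' hyW (U.ι.image_preimage_le W)
      (fun z hz hnot hzU => hnot (himg W z hz hzU))
    let s' : Γ(M, N ⊓ W) := M.presheaf.map (homOfLE inf_le_left).op s
    have hyNW : y ∈ N ⊓ W := ⟨hyN, hyW⟩
    refine ⟨M.presheaf.germ (N ⊓ W) y hyNW s', ?_⟩
    rw [RefHull.stalkMapₗ_germ φ]
    refine Eq.trans ?_ (TopCat.Presheaf.germ_res_apply G.presheaf (homOfLE (inf_le_right : N ⊓ W ≤ W)) y hyNW n)
    refine congrArg (G.presheaf.germ (N ⊓ W) y hyNW) ?_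
    show M.presheaf.map (homOfLE (U.ι.image_preimage_le (N ⊓ W))).op s' =
      M.presheaf.map (U.ι.opensFunctor.map ((Opens.map U.ι.base).map (homOfLE (inf_le_right : N ⊓ W ≤ W)))).op n'
    refine TopCat.Presheaf.section_ext (⟨M.presheaf, M.isSheaf⟩ : TopCat.Sheaf Ab X) _ _ _ fun z hz => ?_
    show M.presheaf.germ _ z hz _ = M.presheaf.germ _ z hz _
    have hzNW : z ∈ N ⊓ W := U.ι.image_preimage_le _ hz
    refine (TopCat.Presheaf.germ_res_apply M.presheaf _ z hz s').trans ?_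
    refine (TopCat.Presheaf.germ_res_apply M.presheaf _ z hzNW s).trans ?_
    refine Eq.trans ?_ (TopCat.Presheaf.germ_res_apply M.presheaf _ z hz n').symm
    exact hs z hzNW.1 (himg W z hzNW.2 (hU _ z hz)) (fun hc => hc (hU _ z hz))

end Groth.Agent.DualLib.RelTop
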