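import Groth.Agent.DualLib.RelTop.RelS2
import Groth.Agent.DualLib.RelTop.UnitStalk
import Groth.Agent.DualLib.RelTop.FibreQGor
import Groth.Agent.CAlgMisc2.HomDepth
import Groth.Agent.QG15.SkNhd
import Groth.Agent.Coherent.TensorQcoh
import Groth.Agent.AmpleLib.Power
import Groth.Agent.Coherent.RestrictTensorIso
import Groth.Agent.EGA43.InjFibre.Scheme

/-!
# Relative `(S₂)` of reflexive hulls from lifts of fibre modules
-/

set_option autoImplicit false
set_option backward.isDefEq.respectTransparency false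
set_option linter.style.haveILetI false
set_option linter.unusedSectionVars false

universe u

open CategoryTheory CategoryTheory.Limits AlgebraicGeometry TopologicalSpace IsLocalRing TensorProduct

namespace Groth.Agent.DualLib.RelTop

open Groth.Agent EGA43.DimFormula

variable {X : Scheme.{u}} [IsLocallyNoetherian X]

/-- The stalks of the dual are the duals of the stalks. -/
theorem nonempty_dual_stalk_equiv {G : X.Modules} (hG : Coh.IsCoh G) (x : X) :
    Nonempty ((RefHull.dual G).presheaf.stalk x ≃ₗ[X.presheaf.stalk x]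
      (G.presheaf.stalk x →ₗ[X.presheaf.stalk x] X.presheaf.stalk x)) :=
  ⟨(LinearEquiv.ofBijective (RefHull.evalStalk G (Coh.structureModule X) x)
    (RefHullLib.evalStalk_bijective_of_isCoh hG x)).trans
    (LinearEquiv.arrowCongr (LinearEquiv.refl _ _) (SDiv28.unitStalkEquiv x).symm)⟩

/-- A dual has depth at least two where the local ring has. -/
theorem two_le_depth_dual {G : X.Modules} (hG : Coh.IsCoh G) (x : X)
    (h : (2 : ℕ∞) ≤ _root_.LocCoh.depth (X.presheaf.stalk x) (X.presheaf.stalk x)) :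
    (2 : ℕ∞) ≤ _root_.LocCoh.depth (X.presheaf.stalk x) ((RefHull.dual G).presheaf.stalk x) := by
  haveI := AssSch12.finite_stalk hG x
  obtain ⟨e⟩ := nonempty_dual_stalk_equiv hG x
  rw [CAlgH3.depth_congr e]
  exact le_trans (le_min le_rfl h) (CAlgMisc2.min_two_depth_le_depth_hom _ _)

/-- A dual satisfies `(S₂)` where the local ring does. -/
theorem skAt_dual {G : X.Modules} (hG : Coh.IsCoh G) (x : X)
    (h : _root_.LocCoh.HasSk 2 (X.presheaf.stalk x) (X.presheaf.stalk x)) :
    RelCanon.SkAt 2 (RefHull.dual G) x := by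
  haveI := AssSch12.finite_stalk hG x
  obtain ⟨e⟩ := nonempty_dual_stalk_equiv hG x
  exact (EGA43.FibDepth.hasSk_congr e 2).2 (CAlgMisc2.hasSk_hom _ _ le_rfl h)

/-- Depth two on both sides off an open makes stalks of modules isomorphic on the open isomorphic. -/
theorem nonempty_stalk_equiv_of_restrict {F G : X.Modules} (hF : Coh.IsCoh F) (hG : Coh.IsCoh G) (U : X.Opens)
    (φ : F.restrict U.ι ≅ G.restrict U.ι) (y : X)
    (h1 : ∀ z : X, z ⤳ y → z ∉ U → (2 : ℕ∞) ≤ _root_.LocCoh.depth (X.presheaf.stalk z) (F.presheaf.stalk z))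
    (h2 : ∀ z : X, z ⤳ y → z ∉ U → (2 : ℕ∞) ≤ _root_.LocCoh.depth (X.presheaf.stalk z) (G.presheaf.stalk z)) :
    Nonempty (F.presheaf.stalk y ≃ₗ[X.presheaf.stalk y] G.presheaf.stalk y) :=
  ⟨((LinearEquiv.ofBijective _ (bijective_stalk_restrictUnit F hF U y h1)).trans
    (((DerSch.stalkFunctor X y).mapIso ((Scheme.Modules.pushforward U.ι).mapIso φ)).toLinearEquiv)).trans
    (LinearEquiv.ofBijective _ (bijective_stalk_restrictUnit G hG U y h2)).symm⟩

/-- Restriction commutes with tensor powers. -/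
theorem nonempty_restrict_tensorPow (U : X.Opens) (L : X.Modules) :
    ∀ n : ℕ, Nonempty ((CohB1.tensorPow L n).restrict U.ι ≅ CohB1.tensorPow (L.restrict U.ι) n)
  | 0 => ⟨Scheme.Modules.restrictUnitIso U.ι⟩
  | n + 1 => by
    obtain ⟨e⟩ := nonempty_restrict_tensorPow U L n
    exact ⟨(Coherent.restrictTensorIso U.ι (CohB1.tensorPow L n) L).symm ≪≫
      AmpleLib.tensorIso e (Iso.refl _)⟩

/-- A map bijective on the stalks over an open restricts to an isomorphism. -/
theorem isIso_restrict_map (U : X.Opens) {M N : X.Modules} (φ : M ⟶ N)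
    (hb : ∀ x : X, x ∈ U → Function.Bijective (RefHull.stalkMapₗ φ x)) :
    IsIso ((Scheme.Modules.restrictFunctor U.ι).map φ) := by
  refine Scheme.Modules.Hom.isIso_iff_isIso_app.2 fun V => ?_
  have h : IsIso (φ.app (U.ι ''ᵁ V)) := by
    rw [ConcreteCategory.isIso_iff_bijective]
    exact TopCat.Presheaf.app_bijective_of_stalkFunctor_map_bijective
      (F := ⟨M.presheaf, M.isSheaf⟩) (G := ⟨N.presheaf, N.isSheaf⟩) ⟨φ.mapPresheaf⟩
      (U.ι ''ᵁ V) fun x hx => hb x (by obtain ⟨w, -, rfl⟩ := hx; exact w.2)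
  exact h

/-- A module invertible on an open agrees there with its double dual. -/
theorem nonempty_restrict_ddual (U : X.Opens) {T : X.Modules} (hT : Coh.IsCoh T)
    (h : ∀ x : X, x ∈ U → RelCanon.InvertibleAt T x) :
    Nonempty (T.restrict U.ι ≅ (RefHull.ddual T).restrict U.ι) := by
  haveI := isIso_restrict_map U (RefHull.bidualMap T) fun x hx =>
    (RefHullLib.bijective_stalk_bidualMap_iff hT x).2 (isReflexiveAt_of_invertibleAt (h x hx))
  exact ⟨asIso ((Scheme.Modules.restrictFunctor U.ι).map (RefHull.bidualMap T))⟩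

/-- Coherence of tensor powers. -/
theorem isCoh_tensorPow {L : X.Modules} (hL : Coh.IsCoh L) : ∀ n : ℕ, Coh.IsCoh (CohB1.tensorPow L n)
  | 0 => Coherent.isCoh_structureModule X
  | n + 1 => by
    have h := isCoh_tensorPow hL n
    haveI : Coh.IsQCoh (CohB1.tensorPow L n) := h.1
    haveI : Coh.IsQCoh L := hL.1
    exact ⟨Coherent.isQCoh_tensorMod _ L, Coherent.isFT_tensorMod _ L h.2 hL.2⟩

/-- Invertibility on an open passes to tensor powers. -/
theorem invertibleAt_tensorPow (U : X.Opens) (L : X.Modules) (hL : ∀ x : X, x ∈ U → RelCanon.InvertibleAt L x)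
    (n : ℕ) : ∀ x : X, x ∈ U → RelCanon.InvertibleAt (CohB1.tensorPow L n) x := by
  intro x hx
  obtain ⟨V, hxV, ⟨eV⟩⟩ := hL x hx
  have hV : PicF.IsInvertible (L.restrict V.ι) := fun v =>
    ⟨⊤, trivial, ⟨(Scheme.Modules.restrictFunctor _).mapIso eV ≪≫ Scheme.Modules.restrictUnitIso _⟩⟩
  obtain ⟨W, hvW, ⟨eW⟩⟩ := AmpleLib.isInvertible_tensorPow hV n ⟨x, hxV⟩
  obtain ⟨e⟩ := nonempty_restrict_tensorPow V L n
  exact invertibleAt_of_immersion (W.ι ≫ V.ι)
    ((Scheme.Modules.restrictFunctorComp W.ι V.ι).app _ ≪≫ (Scheme.Modules.restrictFunctor W.ι).mapIso e ≪≫ eW)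
    ⟨⟨x, hxV⟩, hvW⟩

/-- Invertibility on an open only depends on the restriction to it. -/
theorem invertibleAt_of_restrict_iso (U : X.Opens) {F G : X.Modules} (φ : F.restrict U.ι ≅ G.restrict U.ι) (x : X)
    (hx : x ∈ U) (hG : RelCanon.InvertibleAt G x) : RelCanon.InvertibleAt F x := by
  obtain ⟨W, hxW, ⟨eW⟩⟩ := hG
  let V : (U : Scheme.{u}).Opens := U.ι ⁻¹ᵁ W
  let w : (V : Scheme.{u}) := ⟨⟨x, hx⟩, hxW⟩
  have hr : Set.range (V.ι ≫ U.ι) ⊆ Set.range W.ι := by
    rintro _ ⟨v, rfl⟩
    exact ⟨⟨_, v.2⟩, rfl⟩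
  let l := IsOpenImmersion.lift W.ι (V.ι ≫ U.ι) hr
  have hle : V.ι ≫ U.ι = l ≫ W.ι := (IsOpenImmersion.lift_fac _ _ _).symm
  exact invertibleAt_of_immersion (V.ι ≫ U.ι)
    ((Scheme.Modules.restrictFunctorComp V.ι U.ι).app F ≪≫
      (Scheme.Modules.restrictFunctor V.ι).mapIso φ ≪≫
      ((Scheme.Modules.restrictFunctorComp V.ι U.ι).app G).symm ≪≫
      (Scheme.Modules.restrictFunctorCongr hle).app G ≪≫
      (Scheme.Modules.restrictFunctorComp l W.ι).app G ≪≫
      (Scheme.Modules.restrictFunctor l).mapIso eW ≪≫ Scheme.Modules.restrictUnitIso l) w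

variable {T : Scheme.{u}} (f : X ⟶ T) [IsLocallyNoetherian T] [LocallyOfFiniteType f]

/-- Depth of the fibre at points of codimension two of an `S₂`-morphism. -/
theorem two_le_depth_fibre (hS : RelCanon.IsSkMor f 2) (t : T) (w : f.fiber t)
    (hdim : ∀ x : X, f.fiberι t w = x →
      (2 : WithBot ℕ∞) ≤ ringKrullDim ((f.fiber (f x)).presheaf.stalk (f.asFiber x))) :
    (2 : ℕ∞) ≤ _root_.LocCoh.depth ((f.fiber t).presheaf.stalk w) ((f.fiber t).presheaf.stalk w) := by
  have key : ∀ (x : X) (q : T), f x = q → ∀ v : f.fiber q, f.fiberι q v = x →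
      (2 : WithBot ℕ∞) ≤ ringKrullDim ((f.fiber (f x)).presheaf.stalk (f.asFiber x)) →
      (2 : ℕ∞) ≤ _root_.LocCoh.depth ((f.fiber q).presheaf.stalk v) ((f.fiber q).presheaf.stalk v) := by
    intro x q hq
    subst hq
    intro v hv h2
    obtain rfl : v = f.asFiber x := (f.fiberι _).isEmbedding.injective (hv.trans (f.fiberι_asFiber x).symm)
    let R := (f.fiber (f x)).presheaf.stalk (f.asFiber x)
    have h1 : _root_.LocCoh.HasSk 2 R R :=
      (EGA43.FibDepth.hasSk_congr (EGA43.FibDepth.unitStalkEquiv (f.asFiber x)) 2).2 (hS.2.2 x)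
    haveI : LocallyOfFiniteType (f.fiberToSpecResidueField (f x)) :=
      MorphismProperty.pullback_snd _ _ inferInstance
    haveI : IsLocallyNoetherian (f.fiber (f x)) :=
      LocallyOfFiniteType.isLocallyNoetherian (f.fiberToSpecResidueField (f x))
    have h3 := (CAlgH3.hasSk_self_iff 2).1 h1 (IsLocalRing.maximalIdeal R)
    let e : R ≃+* Localization.AtPrime (IsLocalRing.maximalIdeal R) :=
      (IsLocalization.atUnits R (IsLocalRing.maximalIdeal R).primeCompl (fun a ha =>
        IsLocalRing.notMem_maximalIdeal.1 ha)).toRingEquiv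
    rw [← ringKrullDim_eq_of_ringEquiv e, ← CAlgH3.depth_ringEquiv e,
      min_eq_left (show ((2 : ℕ) : WithBot ℕ∞) ≤ ringKrullDim R by simpa using h2)] at h3
    exact WithBot.coe_le_coe.1 h3
  exact key _ t (EGA43.Chevalley.apply_fiberι f t w) w rfl (hdim _ rfl)

/-- The structure sheaf has depth two off an open of fibrewise codimension two. -/
theorem two_le_depth_total (hS : RelCanon.IsSkMor f 2) (t : T) (z : f.fiber t) (Yo : X.Opens)
    (hdim : ∀ x : X, f x = t → x ∉ Yo →
      (2 : WithBot ℕ∞) ≤ ringKrullDim ((f.fiber (f x)).presheaf.stalk (f.asFiber x))) :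
    ∀ x : X, x ⤳ f.fiberι t z → x ∉ Yo →
      (2 : ℕ∞) ≤ _root_.LocCoh.depth (X.presheaf.stalk x) (X.presheaf.stalk x) := by
  haveI : Flat f := hS.1
  haveI : LocallyOfFiniteType (f.fiberToSpecResidueField t) :=
    MorphismProperty.pullback_snd _ _ inferInstance
  haveI : IsLocallyNoetherian (f.fiber t) := LocallyOfFiniteType.isLocallyNoetherian (f.fiberToSpecResidueField t)
  have hO := Coherent.isCoh_structureModule X
  intro x hx hxo
  rw [CAlgH3.depth_congr (SDiv28.unitStalkEquiv (X := X) x)]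
  refine (flat_and_depth f (Coh.structureModule X) hO t z Yo
    (fun v _ _ => Lef23.isFlatOver_structureModule f v) ?_).2 x hx hxo
  intro p hp
  obtain ⟨e⟩ := QG15.exists_fibre_unit_equiv f t (toPt z p)
  haveI := hO.1
  have hqc : Coh.IsQCoh ((Scheme.Modules.pullback (f.fiberι t)).obj (Coh.structureModule X)) :=
    EGA43.InjFibre.isQCoh_pullback (f.fiberι t) _
  rw [depth_toPt _ hqc z p, CAlgH3.depth_congr e]
  exact two_le_depth_fibre f hS t _ fun v hv => hdim v
    (by rw [← hv]; exact EGA43.Chevalley.apply_fiberι f t _) (by rwa [← hv])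

/-- Relative `(S₂)` passes along an isomorphism of stalks. -/
theorem relSkAt_of_stalk_equiv {F G : X.Modules} (t : T) (z : f.fiber t)
    (e : F.presheaf.stalk (f.fiberι t z) ≃ₗ[X.presheaf.stalk (f.fiberι t z)] G.presheaf.stalk (f.fiberι t z))
    (hflat : FlatMod.IsFlatOverAt f F (f.fiberι t z))
    (hsk : RelCanon.SkAt 2 ((Scheme.Modules.pullback (f.fiberι t)).obj F) z) :
    FlatMod.IsFlatOverAt f G (f.fiberι t z) ∧
      RelCanon.SkAt 2 ((Scheme.Modules.pullback (f.fiberι t)).obj G) z := by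
  let y := f.fiberι t z
  refine ⟨?_, ?_⟩
  · letI := (f.stalkMap y).hom.toAlgebra
    letI := FlatMod.moduleStalkOver f F y
    letI := FlatMod.moduleStalkOver f G y
    haveI : IsScalarTower (T.presheaf.stalk (f y)) (X.presheaf.stalk y) (F.presheaf.stalk y) :=
      IsScalarTower.of_compHom _ _ _
    haveI : IsScalarTower (T.presheaf.stalk (f y)) (X.presheaf.stalk y) (G.presheaf.stalk y) :=
      IsScalarTower.of_compHom _ _ _
    haveI : Module.Flat (T.presheaf.stalk (f y)) (F.presheaf.stalk y) := hflat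
    exact Module.Flat.of_linearEquiv (e.symm.restrictScalars (T.presheaf.stalk (f y)))
  · letI : Algebra (X.presheaf.stalk y) ((f.fiber t).presheaf.stalk z) := ((f.fiberι t).stalkMap z).hom.toAlgebra
    let R := (f.fiber t).presheaf.stalk z
    let eF : ((Scheme.Modules.pullback (f.fiberι t)).obj F).presheaf.stalk z ≃ₗ[R]
        R ⊗[X.presheaf.stalk y] F.presheaf.stalk y :=
      ((ModStalk.pullbackStalkIso (f.fiberι t) z).app F).toLinearEquiv
    let eG : ((Scheme.Modules.pullback (f.fiberι t)).obj G).presheaf.stalk z ≃ₗ[R]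
        R ⊗[X.presheaf.stalk y] G.presheaf.stalk y :=
      ((ModStalk.pullbackStalkIso (f.fiberι t) z).app G).toLinearEquiv
    exact (EGA43.FibDepth.hasSk_congr (eG.trans ((AlgebraTensorModule.congr
      (LinearEquiv.refl ((f.fiber t).presheaf.stalk z) _) e.symm).trans eF.symm)) 2).2 hsk

/-- A coherent lift of an `(S₂)` module on the fibre which is a dual on the open makes that dual relatively `(S₂)`. -/
theorem relSkAt_dual_of_lift (hS : RelCanon.IsSkMor f 2) (t : T) (z : f.fiber t) (Yo : X.Opens)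
    (hdim : ∀ x : X, f x = t → x ∉ Yo →
      (2 : WithBot ℕ∞) ≤ ringKrullDim ((f.fiber (f x)).presheaf.stalk (f.asFiber x)))
    (F D : X.Modules) (hF : Coh.IsCoh F) (hD : Coh.IsCoh D) (φ : F.restrict Yo.ι ≅ (RefHull.dual D).restrict Yo.ι)
    (hflat : ∀ x : X, x ⤳ f.fiberι t z → x ∈ Yo → FlatMod.IsFlatOverAt f F x)
    (D' : (f.fiber t).Modules) (hD' : Coh.IsCoh D')
    (ψ : (Scheme.Modules.pullback (f.fiberι t)).obj F ≅ RefHull.dual D') :
    FlatMod.IsFlatOverAt f (RefHull.dual D) (f.fiberι t z) ∧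
      RelCanon.SkAt 2 ((Scheme.Modules.pullback (f.fiberι t)).obj (RefHull.dual D)) z := by
  haveI : LocallyOfFiniteType (f.fiberToSpecResidueField t) :=
    MorphismProperty.pullback_snd _ _ inferInstance
  haveI : IsLocallyNoetherian (f.fiber t) := LocallyOfFiniteType.isLocallyNoetherian (f.fiberToSpecResidueField t)
  let ι := f.fiberι t
  have hcoh : Coh.IsCoh (RefHull.dual D) := RefHullLib.isCoh_dual hD (Coherent.isCoh_structureModule X)
  have hqc : Coh.IsQCoh ((Scheme.Modules.pullback ι).obj F) :=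
    haveI := hF.1
    EGA43.InjFibre.isQCoh_pullback ι F
  obtain ⟨hfl, hdep⟩ := flat_and_depth f F hF t z Yo hflat fun p hp => by
    have eψ : ((Scheme.Modules.pullback ι).obj F).presheaf.stalk (toPt z p) ≃ₗ[(f.fiber t).presheaf.stalk (toPt z p)]
        (RefHull.dual D').presheaf.stalk (toPt z p) :=
      ((DerSch.stalkFunctor (f.fiber t) (toPt z p)).mapIso ψ).toLinearEquiv
    rw [depth_toPt _ hqc z p, CAlgH3.depth_congr eψ]
    exact two_le_depth_dual hD' _ (two_le_depth_fibre f hS t _ fun v hv => hdim v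
      (by rw [← hv]; exact EGA43.Chevalley.apply_fiberι f t _) (by rwa [← hv]))
  have hO := two_le_depth_total f hS t z Yo hdim
  obtain ⟨e⟩ := nonempty_stalk_equiv_of_restrict hF hcoh Yo φ (f.fiberι t z) hdep
    fun x hx hxo => two_le_depth_dual hD x (hO x hx hxo)
  refine relSkAt_of_stalk_equiv f t z e hfl ?_
  refine (EGA43.FibDepth.hasSk_congr ((DerSch.stalkFunctor (f.fiber t) z).mapIso ψ).toLinearEquiv 2).2 ?_
  refine skAt_dual hD' z ?_
  have key : ∀ (x : X) (q : T), f x = q → ∀ v : f.fiber q, f.fiberι q v = x →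
      _root_.LocCoh.HasSk 2 ((f.fiber q).presheaf.stalk v) ((f.fiber q).presheaf.stalk v) := by
    intro x q hq
    subst hq
    intro v hv
    obtain rfl : v = f.asFiber x := (f.fiberι _).isEmbedding.injective (hv.trans (f.fiberι_asFiber x).symm)
    exact (EGA43.FibDepth.hasSk_congr (EGA43.FibDepth.unitStalkEquiv (f.asFiber x)) 2).2 (hS.2.2 x)
  exact key _ t (EGA43.Chevalley.apply_fiberι f t z) z rfl

end Groth.Agent.DualLib.RelTop
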