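import Groth.Agent.DualLib.RelTop.KernelLift
import Groth.Agent.DualLib.RelTop.FlatCM
import Groth.Agent.DualLib.RelTop.RelS2Glue
import Groth.Agent.DualLib.RelTop.FibrePow
import Groth.Agent.FlatMor12.CMMor

/-!
# A flat lift of the dualizing sheaf of a fibre is the relative one at Cohen–Macaulay points
-/

set_option autoImplicit false
set_option backward.isDefEq.respectTransparency false
set_option linter.style.haveILetI false
set_option linter.unusedSectionVars false

universe u

open CategoryTheory CategoryTheory.Limits AlgebraicGeometry IsLocalRing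
open scoped TensorProduct

namespace Groth.Agent.DualLib.RelTop

open Groth.Agent

variable [∀ (U V : Scheme.{u}) (j : U ⟶ V) [IsOpenImmersion j], PreservesFiniteLimits (Scheme.Modules.restrictFunctor j)]

variable (A : Type u) [CommRing A] [IsNoetherianRing A] (Y : Scheme.{u}) [Y.Over (Spec (CommRingCat.of A))]
  [IsProper (Y ↘ Spec (CommRingCat.of A))] [Flat (Y ↘ Spec (CommRingCat.of A))] (d : ℕ)
  (hd : Cyc.HasRelDim (Y ↘ Spec (CommRingCat.of A)) d)

include hd

/-- At a Cohen–Macaulay point a flat lift of the fibre dualizing sheaf has the stalk of the relative one. -/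
theorem nonempty_stalk_equiv_of_fibre_dualizing (ω : Y.Modules) (hω : RelCanon.IsDualizingSheaf A Y d ω)
    (t : Spec (CommRingCat.of A)) (L : Y.Modules) (hL : Coh.IsCoh L)
    (hLt : RelCanon.IsDualizingSheafFib (Y ↘ Spec (CommRingCat.of A)) d L t)
    (z : (Y ↘ Spec (CommRingCat.of A)).fiber t)
    (hflat : FlatMod.IsFlatOverAt (Y ↘ Spec (CommRingCat.of A)) L ((Y ↘ Spec (CommRingCat.of A)).fiberι t z))
    (hcm : MoreMor.IsCMAt (Y ↘ Spec (CommRingCat.of A)) ((Y ↘ Spec (CommRingCat.of A)).fiberι t z)) :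
    Nonempty (L.presheaf.stalk ((Y ↘ Spec (CommRingCat.of A)).fiberι t z)
      ≃ₗ[Y.presheaf.stalk ((Y ↘ Spec (CommRingCat.of A)).fiberι t z)]
        ω.presheaf.stalk ((Y ↘ Spec (CommRingCat.of A)).fiberι t z)) := by
  let f := Y ↘ Spec (CommRingCat.of A)
  let T := Spec (CommRingCat.of A)
  let k := T.residueField t
  let Y' := f.fiber t
  let ι := f.fiberι t
  let y := ι z
  haveI : IsNoetherianRing (CommRingCat.of A) := ‹IsNoetherianRing A›
  haveI : IsLocallyNoetherian Y := LocallyOfFiniteType.isLocallyNoetherian f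
  haveI : LocallyOfFinitePresentation f := LocallyOfFinitePresentation.iff_locallyOfFiniteType.2 inferInstance
  haveI : IsProper (f.fiberToSpecResidueField t) := MorphismProperty.pullback_snd _ _ ‹IsProper f›
  haveI : Flat (f.fiberToSpecResidueField t) := MorphismProperty.pullback_snd _ _ ‹Flat f›
  haveI : IsLocallyNoetherian Y' := LocallyOfFiniteType.isLocallyNoetherian (f.fiberToSpecResidueField t)
  obtain ⟨hωc, -⟩ := isCoh_and_two_le_depth (A := A) (Y := Y) d hd ω hω
  have hωf := isFlatOverAt_of_cm A Y d hd ω hω y hcm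
  let Lt := (Scheme.Modules.pullback ι).obj L
  letI : Y'.Over (Spec (CommRingCat.of k)) := ⟨f.fiberToSpecResidueField t⟩
  haveI : IsProper (Y' ↘ Spec (CommRingCat.of k)) := ‹IsProper (f.fiberToSpecResidueField t)›
  haveI : Flat (Y' ↘ Spec (CommRingCat.of k)) := ‹Flat (f.fiberToSpecResidueField t)›
  -- the fibre is Cohen–Macaulay at `z`
  have key : ∀ (x : Y) (q : T), f x = q → ∀ v : f.fiber q, f.fiberι q v = x →
      MoreMor.IsCMAt f x → LocCoh.IsCohenMacaulayLocalRing ((f.fiber q).presheaf.stalk v) := by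
    intro x q hq
    subst hq
    intro v hv h2
    obtain rfl : v = f.asFiber x := (f.fiberι _).isEmbedding.injective (hv.trans (f.fiberι_asFiber x).symm)
    exact h2.2
  have hR := key y t (EGA43.Chevalley.apply_fiberι f t z) z rfl hcm
  have hcm' : MoreMor.IsCMAt (Y' ↘ Spec (CommRingCat.of k)) z := by
    refine (FlatMor12.isCMAt_iff _ z).2 ⟨Flat.stalkMap (Y' ↘ Spec (CommRingCat.of k)) z, ?_⟩
    let p := Y' ↘ Spec (CommRingCat.of k)
    have hm : (maximalIdeal ((Spec (CommRingCat.of k)).presheaf.stalk (p z))).map (p.stalkMap z).hom = ⊥ := by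
      let q : PrimeSpectrum k := p z
      letI : Algebra k ((Spec (CommRingCat.of k)).presheaf.stalk (p z)) :=
        (StructureSheaf.toStalk k q).hom.toAlgebra
      haveI : IsLocalization.AtPrime ((Spec (CommRingCat.of k)).presheaf.stalk (p z)) q.asIdeal :=
        StructureSheaf.IsLocalization.to_stalk (CommRingCat.of k) q
      rw [← IsLocalization.AtPrime.map_eq_maximalIdeal q.asIdeal ((Spec (CommRingCat.of k)).presheaf.stalk (p z)),
        show q.asIdeal = ⊥ from (Ideal.eq_bot_or_top q.asIdeal).resolve_right q.2.ne_top, Ideal.map_bot, Ideal.map_bot]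
    exact CAlgH3.isCohenMacaulayLocalRing_of_ringEquiv
      ((RingEquiv.quotientBot _).symm.trans (Ideal.quotEquivOfEq hm.symm))
  have hd' : Cyc.HasRelDim (Y' ↘ Spec (CommRingCat.of k)) d := hasRelDim_fibre Y d hd t
  have hsplit := split_stalk k Y' d hd' Lt hLt z hcm'
  -- the two stalks on the fibre
  obtain ⟨eC⟩ := nonempty_fibre_iso_on_cm A Y d hd ω hω ⟨_, (Groth.Agent.S1341.result f).1⟩ (fun x hx => hx) t Lt hLt
  have hpc : ∀ M : Y.Modules, Coh.IsCoh M → Coh.IsCoh ((Scheme.Modules.pullback ι).obj M) := fun M hM =>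
    ⟨haveI := hM.1; EGA43.InjFibre.isQCoh_pullback ι M, Coherent.isFT_pullback_qcoh ι hM.1 hM.2⟩
  obtain ⟨eS⟩ := nonempty_stalk_equiv_of_mem (hpc L hL) (hpc ω hωc) _ eC z hcm
  let B := Y.presheaf.stalk y
  let R := Y'.presheaf.stalk z
  letI : Algebra (T.presheaf.stalk (f y)) B := (f.stalkMap y).hom.toAlgebra
  haveI : IsLocalHom (algebraMap (T.presheaf.stalk (f y)) B) := inferInstanceAs (IsLocalHom (f.stalkMap y).hom)
  letI : Algebra B R := (ι.stalkMap z).hom.toAlgebra
  obtain ⟨hs, hker⟩ := Props12.stalkMap_fiberι f t z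
  let eL : ((Scheme.Modules.pullback ι).obj L).presheaf.stalk z ≃ₗ[R] R ⊗[B] L.presheaf.stalk y :=
    ((ModStalk.pullbackStalkIso ι z).app L).toLinearEquiv
  let eW : ((Scheme.Modules.pullback ι).obj ω).presheaf.stalk z ≃ₗ[R] R ⊗[B] ω.presheaf.stalk y :=
    ((ModStalk.pullbackStalkIso ι z).app ω).toLinearEquiv
  letI := FlatMod.moduleStalkOver f L y
  letI := FlatMod.moduleStalkOver f ω y
  haveI : IsScalarTower (T.presheaf.stalk (f y)) B (L.presheaf.stalk y) := IsScalarTower.of_compHom _ _ _
  haveI : IsScalarTower (T.presheaf.stalk (f y)) B (ω.presheaf.stalk y) := IsScalarTower.of_compHom _ _ _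
  haveI : Module.Flat (T.presheaf.stalk (f y)) (L.presheaf.stalk y) := hflat
  haveI : Module.Flat (T.presheaf.stalk (f y)) (ω.presheaf.stalk y) := hωf
  haveI : Module.Finite B (L.presheaf.stalk y) := AssSch12.finite_stalk hL y
  haveI : Module.Finite B (ω.presheaf.stalk y) := AssSch12.finite_stalk hωc y
  exact nonempty_linearEquiv_of_fibre_split (A := T.presheaf.stalk (f y)) hs hker (eL.symm.trans (eS.trans eW))
    (split_congr (eS.trans eW) hsplit)

end Groth.Agent.DualLib.RelTop
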