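import Groth.Agent.DualLib.SerreTop
import Groth.Agent.DualLib.ShriekLocal
import Groth.Prelude.Def_RelCanon

/-!
# `H^{-d}` of the right adjoint at `O` represents `F ↦ Hom_A(H^d F, A)`
-/

set_option autoImplicit false
set_option backward.isDefEq.respectTransparency false
set_option backward.defeqAttrib.useBackward true
set_option linter.style.haveILetI false
set_option linter.unusedSectionVars false
set_option synthInstance.maxHeartbeats 100000

universe u

open CategoryTheory CategoryTheory.Limits CategoryTheory.Pretriangulated DerivedCategory AlgebraicGeometry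

attribute [local instance] HasDerivedCategory.standard

namespace Groth.Agent.DualLib.RelTop

attribute [local instance] Groth.Agent.SerreDualA.hhAddCommGroup Groth.Agent.SerreDualA.hhModule

/-- Two representing objects of the same functor are isomorphic. -/
theorem nonempty_iso_of_isDualizingSheaf {A : Type u} [CommRing A] {Y : Scheme.{u}} [Y.Over (Spec (CommRingCat.of A))]
    {d : ℕ} {ω ω' : Y.Modules} (h : RelCanon.IsDualizingSheaf A Y d ω) (h' : RelCanon.IsDualizingSheaf A Y d ω') :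
    Nonempty (ω ≅ ω') := by
  obtain ⟨t, hq, ht⟩ := h
  obtain ⟨t', hq', ht'⟩ := h'
  have hc : ∀ {F G K : Y.Modules} (φ : F ⟶ G) (ψ : G ⟶ K),
      Canon.HHlin A (φ ≫ ψ) d = Canon.HHlin A ψ d ∘ₗ Canon.HHlin A φ d := fun φ ψ => LinearMap.ext fun x => by
    show Sheaf.H.map ((SheafOfModules.toSheaf Y.ringCatSheaf).map (φ ≫ ψ)) d x = _
    rw [Functor.map_comp, Sheaf.H.map_comp_apply]
    rfl
  have hid : ∀ F : Y.Modules, Canon.HHlin A (𝟙 F) d = LinearMap.id := fun F => LinearMap.ext fun x => by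
    show Sheaf.H.map ((SheafOfModules.toSheaf Y.ringCatSheaf).map (𝟙 F)) d x = x
    rw [CategoryTheory.Functor.map_id, Sheaf.H.map_id_apply]
  obtain ⟨φ, hφ⟩ := (ht' ω hq).2 t
  obtain ⟨ψ, hψ⟩ := (ht ω' hq').2 t'
  simp only [Canon.dualityMap] at hφ hψ
  refine ⟨⟨φ, ψ, (ht ω hq).1 ?_, (ht' ω' hq').1 ?_⟩⟩
  · show t ∘ₗ Canon.HHlin A (φ ≫ ψ) d = t ∘ₗ Canon.HHlin A (𝟙 ω) d
    rw [hc, hid, LinearMap.comp_id, ← LinearMap.comp_assoc, hψ, hφ]
  · show t' ∘ₗ Canon.HHlin A (ψ ≫ φ) d = t' ∘ₗ Canon.HHlin A (𝟙 ω') d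
    rw [hc, hid, LinearMap.comp_id, ← LinearMap.comp_assoc, hφ, hψ]

/-- The representing property passes along isomorphisms. -/
theorem isDualizingSheaf_of_iso {A : Type u} [CommRing A] {Y : Scheme.{u}} [Y.Over (Spec (CommRingCat.of A))]
    {d : ℕ} {ω ω' : Y.Modules} (h : RelCanon.IsDualizingSheaf A Y d ω) (e : ω ≅ ω') :
    RelCanon.IsDualizingSheaf A Y d ω' := by
  obtain ⟨t, hq, ht⟩ := h
  refine ⟨t ∘ₗ Canon.HHlin A e.inv d, Coherent.isQCoh_of_iso e (h := hq), fun F hF => ?_⟩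
  have : Canon.dualityMap A Y d ω' (t ∘ₗ Canon.HHlin A e.inv d) F =
      Canon.dualityMap A Y d ω t F ∘ fun φ => φ ≫ e.inv := by
    funext φ
    refine LinearMap.ext fun x => ?_
    show t (Sheaf.H.map ((SheafOfModules.toSheaf Y.ringCatSheaf).map e.inv) d
      (Sheaf.H.map ((SheafOfModules.toSheaf Y.ringCatSheaf).map φ) d x)) =
      t (Sheaf.H.map ((SheafOfModules.toSheaf Y.ringCatSheaf).map (φ ≫ e.inv)) d x)
    rw [Functor.map_comp, Sheaf.H.map_comp_apply]
  rw [this]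
  exact (ht F hF).comp e.symm.homToEquiv.bijective

variable {A : Type u} [CommRing A] [IsNoetherianRing A] {X : Scheme.{u}}
  [X.Over (Spec (CommRingCat.of A))] [IsProper (X ↘ Spec (CommRingCat.of A))]
  [DCoh.HasRpush (X ↘ Spec (CommRingCat.of A))]

local notation "π" => X ↘ Spec (CommRingCat.of A)

variable {d : ℕ} (hfib : ∀ y, topologicalKrullDim ((X ↘ Spec (CommRingCat.of A)).fiber y) ≤ (d : WithBot ℕ∞))

include hfib

/-- Direct images of modules vanish above the dimension of the fibres. -/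
theorem isZero_HD_Rpush_module (M : X.Modules) (hM : Coh.IsQCoh M) (i : ℤ) (hi : (d : ℤ) < i) :
    IsZero (DCoh.HD ((DCoh.Rpush π).obj (DCoh.inD X M)) i) := by
  haveI := hM
  haveI : IsNoetherianRing (CommRingCat.of A) := ‹IsNoetherianRing A›
  haveI : CompactSpace X := QuasiCompact.compactSpace_of_compactSpace π
  haveI : QuasiSeparatedSpace X := quasiSeparatedSpace_of_quasiSeparated π
  obtain ⟨_, _⟩ := DCat.exists_commShift_Rpush π
  obtain ⟨p, rfl⟩ := Int.eq_ofNat_of_zero_le (show 0 ≤ i by omega)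
  haveI := H8Lim.subsingleton_HH_of_fibre_dim π d hfib M p (by omega)
  obtain ⟨e, -⟩ := RingBase.exists_eLin (R := A) (X := X)
  haveI : Subsingleton (RingBase.PS A ⟶ RingBase.gS A M p) := (e M p).toEquiv.subsingleton
  refine Dual22Lib.PerfGen.isZero_HD_of_pt_top (DQCoh.isQCohD_Rpush π _ (FlatBC14.isQCohD_inD M)) (p : ℤ) fun φ => ?_
  let w : ((DCoh.Rpush π).obj (DCoh.inD X M))⟦(p : ℤ)⟧ ≅ RingBase.gS A M p :=
    ((DCoh.Rpush π).commShiftIso (p : ℤ)).symm.app _
  have h0 : ((shiftFunctorCompIsoId (DCoh.D (Spec (CommRingCat.of A))) (-(p : ℤ)) (p : ℤ) (by omega)).inv.app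
      (RingBase.PS A) ≫ φ⟦(p : ℤ)⟧') ≫ w.hom = 0 :=
    Subsingleton.elim (α := RingBase.PS A ⟶ RingBase.gS A M p) _ _
  rw [Preadditive.IsIso.comp_right_eq_zero, Preadditive.IsIso.comp_left_eq_zero] at h0
  exact (shiftFunctor _ (p : ℤ)).map_eq_zero_iff.1 h0

/-- The right adjoint of `Rf_*` loses at most `d` degrees. -/
theorem isGE_rep {Q : DCoh.D (Spec (CommRingCat.of A))} {K : DCoh.D X} (n : ℤ) [Q.IsGE n]
    (hK : Dual22Lib.RepLib.RepObj π Q K) : K.IsGE (n - d) := by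
  haveI : IsNoetherianRing (CommRingCat.of A) := ‹IsNoetherianRing A›
  haveI : CompactSpace X := QuasiCompact.compactSpace_of_compactSpace π
  haveI : QuasiSeparatedSpace X := quasiSeparatedSpace_of_quasiSeparated π
  obtain ⟨hKq, ε, hε⟩ := hK.out
  obtain ⟨c', hc'⟩ := Dual22Lib.RepLib.exists_isGE n hK
  suffices h : ∀ m : ℕ, c' + m ≤ n - d → K.IsGE (c' + m) by
    rcases le_or_gt c' (n - d) with hle | hgt
    · haveI := h (n - d - c').toNat (by omega)
      exact DerivedCategory.TStructure.t.isGE_of_ge K (n - d) (c' + (n - d - c').toNat) (by omega)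
    · exact DerivedCategory.TStructure.t.isGE_of_ge K (n - d) c' hgt.le
  intro m
  induction m with
  | zero => intro _; simpa using hc'
  | succ m ih =>
    intro hm
    let c := c' + (m : ℤ)
    haveI hc : K.IsGE c := ih (by omega)
    let t := DerivedCategory.TStructure.t (C := X.Modules)
    let N := (t.truncLT (c + 1)).obj K
    haveI hNle : N.IsLE c := t.isLE_truncLT_obj _ _ _ (by omega)
    have hT := t.triangleLTGE_distinguished (c + 1) K
    haveI hNge : N.IsGE c := by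
      haveI hB : ((t.truncGE (c + 1)).obj K).IsGE (c + 1) := t.isGE_truncGE_obj ..
      haveI : (((t.truncGE (c + 1)).obj K)⟦(-1 : ℤ)⟧).IsGE (c + 2) := t.isGE_shift _ (c + 1) (-1) (c + 2) (by omega)
      exact t.isGE₂ _ (inv_rot_of_distTriang _ hT) c
        (t.isGE_of_ge (((t.truncGE (c + 1)).obj K)⟦(-1 : ℤ)⟧) c (c + 2) (by omega)) hc
    have hNq : DCoh.IsQCohD N := DQCoh.isQCohD_truncLT K hKq (c + 1)
    haveI := Dual22Lib.RpushBound.isLE_Rpush_of_modules π d (fun M hM i hi => isZero_HD_Rpush_module hfib M hM i hi)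
      N c c hNq
    have h0 : (t.truncLTι (c + 1)).app K = 0 :=
      (hε N hNq).1 (DerivedCategory.TStructure.t.zero (X := (DCoh.Rpush π).obj N) _ (c + d) n (by omega) |>.trans
        (DerivedCategory.TStructure.t.zero (X := (DCoh.Rpush π).obj N) _ (c + d) n (by omega)).symm)
    refine (DerivedCategory.isGE_iff _ _).2 fun i hi => ?_
    rcases lt_or_ge i c with hlt | hge
    · exact isZero_of_isGE K c i hlt
    · have hic : i = c := by push_cast at hi; omega
      rw [hic]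
      haveI : Epi ((homologyFunctor X.Modules c).map ((t.truncLTι (c + 1)).app K)) :=
        (HomologySequence.epi_homologyMap_mor₁_iff _ hT c).2
          ((isZero_of_isGE ((t.truncGE (c + 1)).obj K) (c + 1) c (by omega)).eq_of_tgt _ _)
      rw [IsZero.iff_id_eq_zero, ← cancel_epi ((homologyFunctor X.Modules c).map ((t.truncLTι (c + 1)).app K))]
      simp [h0]


/-- **Duality in degree `d`.** -/
theorem isDualizingSheaf_HD (h : DCoh.RpushPreservesQCoh π) (a : DCoh.DQCoh (Spec (CommRingCat.of A)) ⥤ DCoh.DQCoh X)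
    (adj : DCoh.RpushQ π h ⊣ a) (O : DCoh.DQCoh (Spec (CommRingCat.of A)))
    (hO : Nonempty (O.obj ≅ DCoh.inD (Spec (CommRingCat.of A)) (Coh.structureModule (Spec (CommRingCat.of A))))) :
    RelCanon.IsDualizingSheaf A X d (DCoh.HD (a.obj O).obj (-(d : ℤ))) ∧ (a.obj O).obj.IsGE (-(d : ℤ)) := by
  let f := X ↘ Spec (CommRingCat.of A)
  haveI : IsNoetherianRing (CommRingCat.of A) := ‹IsNoetherianRing A›
  haveI : CompactSpace X := QuasiCompact.compactSpace_of_compactSpace f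
  haveI : QuasiSeparatedSpace X := quasiSeparatedSpace_of_quasiSeparated f
  haveI : ∀ (S : CommRingCat.{u}), PreservesFiniteLimits (tilde.functor S) :=
    Groth.Agent.AffSchLib.preservesFiniteLimits_tilde
  obtain ⟨_, _⟩ := Groth.Agent.DCat.exists_commShift_Rpush f
  obtain ⟨eO⟩ := hO
  obtain ⟨eR⟩ := ShriekLocal.nonempty_structure_tilde A
  have hA : Groth.Agent.Dual22Lib.RepLib.RepObj f O.obj (a.obj O).obj := ⟨fun {_} =>
    ⟨(a.obj O).property, (adj.counit.app O).hom,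
      fun L hL => Groth.Agent.Dual22Lib.SupportAdj.rep_counit f h a adj O L hL⟩⟩
  let eW : O.obj ≅ (DCoh.tildeD (CommRingCat.of A)).obj (Dual.inD A A) := eO ≪≫ eR.symm
  haveI hWge : O.obj.IsGE 0 := by
    haveI : (Dual.inD A A).IsGE 0 := (inferInstance : ((singleFunctor (ModuleCat.{u} A) 0).obj (ModuleCat.of A A)).IsGE 0)
    haveI := SerreTop.isGE_tildeD A (Dual.inD A A) 0
    exact DerivedCategory.TStructure.t.isGE_of_iso eW.symm _
  haveI hK : (a.obj O).obj.IsGE (-(d : ℤ)) := by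
    have h' := isGE_rep hfib 0 hA
    rwa [zero_sub] at h'
  refine ⟨?_, hK⟩
  let K := (a.obj O).obj
  haveI : (K⟦(-(d : ℤ))⟧).IsGE 0 := DerivedCategory.TStructure.t.isGE_shift K (-(d : ℤ)) (-(d : ℤ)) 0 (by omega)
  obtain ⟨N, ι, hι, hι'⟩ := SerreTop.exists_incl (K⟦(-(d : ℤ))⟧)
  haveI := hι
  let eN : DCoh.HD K (-(d : ℤ)) ≅ N :=
    (((homologyFunctor X.Modules 0).shiftIso (-(d : ℤ)) 0 (-(d : ℤ)) (by omega)).app K).symm ≪≫
      (asIso ((homologyFunctor X.Modules 0).map ι)).symm ≪≫ (singleFunctorCompHomologyFunctorIso X.Modules 0).app N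
  let κ : (singleFunctor X.Modules 0).obj (DCoh.HD K (-(d : ℤ))) ⟶ K⟦(-(d : ℤ))⟧ :=
    (singleFunctor X.Modules 0).map eN.hom ≫ ι
  have hκ : ∀ F : X.Modules, Function.Bijective fun φ : F ⟶ DCoh.HD K (-(d : ℤ)) =>
      (singleFunctor X.Modules 0).map φ ≫ κ := fun F => by
    refine ⟨fun φ φ' hφ => ?_, fun g => ?_⟩
    · have h1 := congrArg (homologyFunctor X.Modules 0).map hφ
      simp only [κ, Functor.map_comp, ← Category.assoc, cancel_mono] at h1
      exact (singleFunctor X.Modules 0).map_injective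
        ((SerreTop.bijective_H0 _ _).1 h1)
    · obtain ⟨g', hg'⟩ := hι' _ inferInstance g
      obtain ⟨ψ, rfl⟩ := (singleFunctor X.Modules 0).map_surjective g'
      exact ⟨ψ ≫ eN.inv, by simp only [κ, ← Functor.map_comp_assoc, Category.assoc, Iso.inv_hom_id, Category.comp_id, hg']⟩
  let c : (K⟦(-(d : ℤ))⟧)⟦(d : ℤ)⟧ ≅ K := (shiftFunctorCompIsoId (DCoh.D X) (-(d : ℤ)) (d : ℤ) (by omega)).app K
  let τ : RingBase.gS A (DCoh.HD K (-(d : ℤ))) (d : ℤ) ⟶ O.obj :=
    (DCoh.Rpush f).map (κ⟦(d : ℤ)⟧' ≫ c.hom) ≫ (adj.counit.app O).hom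
  have hΦ : ∀ F : X.Modules, Coh.IsQCoh F → Function.Bijective fun φ : F ⟶ DCoh.HD K (-(d : ℤ)) =>
      (DCoh.Rpush f).map (((singleFunctor X.Modules 0).map φ)⟦(d : ℤ)⟧') ≫ τ := by
    intro F hF
    haveI := hF
    let b1 : (F ⟶ DCoh.HD K (-(d : ℤ))) → (((singleFunctor X.Modules 0).obj F)⟦(d : ℤ)⟧ ⟶ K) :=
      fun φ => ((singleFunctor X.Modules 0).map φ ≫ κ)⟦(d : ℤ)⟧' ≫ c.hom
    have hb1 : Function.Bijective b1 :=
      (c.homToEquiv.bijective).comp (((Functor.FullyFaithful.ofFullyFaithful (shiftFunctor (DCoh.D X) (d : ℤ))).map_bijective _ _).comp (hκ F))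
    have hb2 := Groth.Agent.Dual22Lib.SupportAdj.rep_counit f h a adj O _
      (Groth.Agent.DQCoh.isQCohD_shift (Groth.Agent.FlatBC14.isQCohD_inD F) (d : ℤ))
    refine (iff_of_eq (congrArg Function.Bijective (funext fun φ => ?_))).1 (Function.Bijective.comp hb2 hb1)
    simp only [Function.comp_apply, b1, τ, Functor.map_comp, Category.assoc]
  obtain ⟨e, he⟩ := RingBase.exists_eLin (R := A) (X := X)
  obtain ⟨E1⟩ : Nonempty (A ≃ₗ[A] (SerreTop.g₀ A ⟶ Dual.inD A A)) :=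
    ⟨((singleFunctorCompHomologyFunctorIso (ModuleCat.{u} A) 0).app (ModuleCat.of A A)).toLinearEquiv.symm.trans
      (SerreTop.elt A (Dual.inD A A)).symm⟩
  let E2 : A ≃ₗ[A] (RingBase.PS A ⟶ O.obj) := E1.trans (SerreTop.theta A eW.symm)
  let t : Coh.HH X (DCoh.HD K (-(d : ℤ))) d →ₗ[A] A :=
    E2.symm.toLinearMap ∘ₗ Linear.rightComp A (RingBase.PS A) τ ∘ₗ (e (DCoh.HD K (-(d : ℤ))) d).symm.toLinearMap
  refine ⟨t, (a.obj O).property _, fun F hFq => ?_⟩
  haveI := hFq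
  haveI : (((singleFunctor X.Modules 0).obj F)⟦(d : ℤ)⟧).IsGE (-(d : ℤ)) :=
    DerivedCategory.TStructure.t.isGE_shift _ 0 (d : ℤ) (-(d : ℤ)) (by omega)
  haveI : (((singleFunctor X.Modules 0).obj F)⟦(d : ℤ)⟧).IsLE (-(d : ℤ)) :=
    DerivedCategory.TStructure.t.isLE_shift _ 0 (d : ℤ) (-(d : ℤ)) (by omega)
  haveI : (RingBase.gS A F (d : ℤ)).IsLE 0 := by
    have h' := Groth.Agent.Dual22Lib.RpushBound.isLE_Rpush_of_modules f d
      (fun M hM i hi => isZero_HD_Rpush_module hfib M hM i hi)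
      (((singleFunctor X.Modules 0).obj F)⟦(d : ℤ)⟧) (-(d : ℤ)) (-(d : ℤ))
      (Groth.Agent.DQCoh.isQCohD_shift (Groth.Agent.FlatBC14.isQCohD_inD F) _)
    rwa [show -(d : ℤ) + (d : ℤ) = 0 by omega] at h'
  have hs := SerreTop.bijective_scheme A (RingBase.gS A F (d : ℤ)) O.obj (RingBase.isQCohD_gS F _) O.property
  let C : ((RingBase.PS A ⟶ RingBase.gS A F (d : ℤ)) →ₗ[A] (RingBase.PS A ⟶ O.obj)) ≃
      (Coh.HH X F d →ₗ[A] A) :=
    (LinearEquiv.arrowCongr (e F d) E2.symm).toEquiv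
  have hall := C.bijective.comp (hs.comp (hΦ F hFq))
  refine (iff_of_eq (congrArg Function.Bijective (funext fun φ => LinearMap.ext fun x => ?_))).1 hall
  obtain ⟨y, rfl⟩ := (e F d).surjective x
  show E2.symm (((e F d).symm (e F d y)) ≫ _ ≫ τ) =
    E2.symm (((e _ d).symm (Sheaf.H.map ((SheafOfModules.toSheaf X.ringCatSheaf).map φ) d (e F d y))) ≫ τ)
  rw [← he F _ φ d y, LinearEquiv.symm_apply_apply, LinearEquiv.symm_apply_apply, Category.assoc]

end Groth.Agent.DualLib.RelTop
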