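import Groth.Agent.DualLib.RelTop.Fibre
import Groth.Agent.DualLib.RelTop.Serre
import Groth.Agent.DCat.RelEquivBC
import Groth.Agent.DCat.PullPush

/-!
# The trace of a proper Cohen–Macaulay morphism does not vanish on any fibre
-/

set_option autoImplicit false
set_option backward.isDefEq.respectTransparency false
set_option backward.defeqAttrib.useBackward true
set_option linter.style.haveILetI false
set_option linter.unusedSectionVars false
set_option synthInstance.maxHeartbeats 200000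
set_option maxHeartbeats 1000000

universe u

open CategoryTheory CategoryTheory.Limits CategoryTheory.Pretriangulated DerivedCategory AlgebraicGeometry
open Groth.Agent.DCat

attribute [local instance] HasDerivedCategory.standard
attribute [-instance] Int.instConditionallyCompleteLinearOrder

namespace Groth.Agent.DualLib.RelTop

/-- Functions in the prime of a point die in its residue field. -/
theorem residue_eq_zero_of_mem (A : Type u) [CommRing A] (t : Spec (CommRingCat.of A)) (r : A) (hr : r ∈ t.asIdeal) :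
    ((Spec (CommRingCat.of A)).fromSpecResidueField t).appTop ((Scheme.ΓSpecIso (CommRingCat.of A)).inv r) = 0 := by
  let g := (Spec (CommRingCat.of A)).fromSpecResidueField t
  rw [← AlgebraicGeometry.basicOpen_eq_bot_iff]
  refine le_bot_iff.1 fun z hz => ?_
  rw [← Scheme.preimage_basicOpen_top, basicOpen_eq_of_affine] at hz
  have h1 : g z = t := by
    have : g z ∈ Set.range g := ⟨z, rfl⟩
    rwa [Scheme.range_fromSpecResidueField] at this
  have h2 : g z ∈ PrimeSpectrum.basicOpen r := hz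
  rw [h1] at h2
  exact absurd hr h2

section

variable [∀ (U V : Scheme.{u}) (j : U ⟶ V) [IsOpenImmersion j], PreservesFiniteLimits (Scheme.Modules.restrictFunctor j)]
variable (A : Type u) [CommRing A] [IsNoetherianRing A] (Y : Scheme.{u}) [Y.Over (Spec (CommRingCat.of A))]
  [IsProper (Y ↘ Spec (CommRingCat.of A))] (d : ℕ)
  (hCM : ∀ y : Y, MoreMor.IsCMAt (Y ↘ Spec (CommRingCat.of A)) y) (hd : Cyc.HasRelDim (Y ↘ Spec (CommRingCat.of A)) d)
  [DCoh.HasRpush (Y ↘ Spec (CommRingCat.of A))] (h : DCoh.RpushPreservesQCoh (Y ↘ Spec (CommRingCat.of A)))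
  (a : DCoh.DQCoh (Spec (CommRingCat.of A)) ⥤ DCoh.DQCoh Y) (adj : DCoh.RpushQ (Y ↘ Spec (CommRingCat.of A)) h ⊣ a)
  (O : DCoh.DQCoh (Spec (CommRingCat.of A)))
  (hO : Nonempty (O.obj ≅ DCoh.inD (Spec (CommRingCat.of A)) (Coh.structureModule (Spec (CommRingCat.of A)))))

include hCM hd adj hO

/-- The right adjoint does not kill a map to the residue field whose restriction is an isomorphism. -/
theorem map_ne_zero_of_fibre (y : Y) (t : Spec (CommRingCat.of A)) (ht : (Y ↘ Spec (CommRingCat.of A)) y = t)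
    [DCoh.HasLpull ((Spec (CommRingCat.of A)).fromSpecResidueField t)]
    [DCoh.HasRpush ((Spec (CommRingCat.of A)).fromSpecResidueField t)]
    (ap : DCoh.Lpull ((Spec (CommRingCat.of A)).fromSpecResidueField t) ⊣
      DCoh.Rpush ((Spec (CommRingCat.of A)).fromSpecResidueField t))
    {M : DCoh.D (Spec (CommRingCat.of ((Spec (CommRingCat.of A)).residueField t)))}
    (Og : DCoh.DQCoh (Spec (CommRingCat.of A)))
    (w : Og.obj ≅ (DCoh.Rpush ((Spec (CommRingCat.of A)).fromSpecResidueField t)).obj M)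
    (l : (DCoh.Lpull ((Spec (CommRingCat.of A)).fromSpecResidueField t)).obj O.obj ≅ M)
    (e : O ⟶ Og) (he : e.hom ≫ w.hom = ap.homEquiv _ _ l.hom) : a.map e ≠ 0 := by
  intro h0
  let f := Y ↘ Spec (CommRingCat.of A)
  let T := Spec (CommRingCat.of A)
  let g := T.fromSpecResidueField t
  let Y' := f.fiber t
  let ι : Y' ⟶ Y := f.fiberι t
  let f' : Y' ⟶ Spec (CommRingCat.of (T.residueField t)) := f.fiberToSpecResidueField t
  have hsq : IsPullback ι f' f g := IsPullback.of_hasPullback _ _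
  haveI : IsNoetherianRing (CommRingCat.of A) := ‹IsNoetherianRing A›
  haveI : IsNoetherian T := {}
  haveI : IsLocallyNoetherian Y := LocallyOfFiniteType.isLocallyNoetherian f
  haveI : CompactSpace Y := QuasiCompact.compactSpace_of_compactSpace f
  haveI : QuasiSeparatedSpace Y := quasiSeparatedSpace_of_quasiSeparated f
  haveI : Flat f := Flat.of_stalkMap _ fun x => (hCM x).1
  haveI : LocallyOfFinitePresentation f := LocallyOfFinitePresentation.iff_locallyOfFiniteType.2 inferInstance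
  haveI : ∀ (S : CommRingCat.{u}), PreservesFiniteLimits (tilde.functor S) :=
    Groth.Agent.AffSchLib.preservesFiniteLimits_tilde
  haveI := DCat.hasLpull f
  haveI := DCat.hasLpull f'
  haveI := DCat.hasLpull ι
  haveI := DCat.hasRpush ι
  obtain ⟨hz, -, -, -, -⟩ := cm_package A Y d hCM hd h a adj O hO
  obtain ⟨-, hstalk⟩ := fibre_package A Y d hCM hd h a adj O hO t
  haveI : (a.obj O).obj.IsLE (-(d : ℤ)) := (isLE_iff _ _).2 fun i hi => hz i (by omega)
  obtain ⟨C, hC, ⟨eC⟩⟩ := DerivedCategory.exists_iso_Q_obj_of_isLE (a.obj O).obj (-(d : ℤ))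
  obtain ⟨N, q, hNk, -, hq, hN⟩ := exists_kflat_sheaf_le C (-(d : ℤ))
    fun n hn => CochainComplex.isZero_of_isStrictlyLE C _ n hn
  haveI := hq
  let eN : DerivedCategory.Q.obj N ≅ (a.obj O).obj := asIso (DerivedCategory.Q.map q) ≪≫ eC.symm
  haveI := LTensorSheaf.hasLTensorCx N
  obtain ⟨eT⟩ := Groth.Agent.S3658.result Y T f h a adj O hO N ⟨eN⟩
  have h1 : (DCoh.LTensorCx N).map ((DCoh.Lpull f).map e.hom) = 0 := by
    have hn := eT.hom.naturality e
    simp only [Functor.comp_map, ObjectProperty.ι_map] at hn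
    rw [h0] at hn
    rw [← cancel_epi (eT.hom.app O), comp_zero]
    exact hn.symm.trans zero_comp
  let N' := (Dual22Lib.PullTensorNat.pullC ι).obj N
  haveI := LTensorSheaf.hasLTensorCx N'
  obtain ⟨τ⟩ := Dual22Lib.PullTensorNat.nonempty_natIso ι hNk
  obtain ⟨api⟩ := DCat.nonempty_pullPushAdj ι
  haveI := api.isLeftAdjoint
  have h2 : (DCoh.LTensorCx N').map ((DCoh.Lpull ι).map ((DCoh.Lpull f).map e.hom)) = 0 := by
    have hn := τ.hom.naturality ((DCoh.Lpull f).map e.hom)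
    simp only [Functor.comp_map] at hn
    rw [h1, Functor.map_zero, zero_comp] at hn
    rw [← cancel_epi (τ.hom.app ((DCoh.Lpull f).obj O.obj)), comp_zero]
    exact hn.symm
  have hcomp : Nonempty (DCoh.Lpull f ⋙ DCoh.Lpull ι ≅ DCoh.Lpull g ⋙ DCoh.Lpull f') := by
    haveI := DCat.hasLpull (ι ≫ f)
    haveI := DCat.hasLpull (f' ≫ g)
    have key : ∀ (m₁ m₂ : Y' ⟶ T) [DCoh.HasLpull m₁] [DCoh.HasLpull m₂], m₁ = m₂ →
        Nonempty (DCoh.Lpull m₁ ≅ DCoh.Lpull m₂) := by
      intro m₁ m₂ _ _ hh; subst hh; exact ⟨Iso.refl _⟩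
    obtain ⟨c₁⟩ := DCat.nonempty_LpullComp ι f
    obtain ⟨c₂⟩ := DCat.nonempty_LpullComp f' g
    obtain ⟨k⟩ := key (ι ≫ f) (f' ≫ g) hsq.w
    exact ⟨c₁ ≪≫ k ≪≫ c₂.symm⟩
  obtain ⟨Φ⟩ := hcomp
  have h3 : (DCoh.LTensorCx N').map ((DCoh.Lpull f').map ((DCoh.Lpull g).map e.hom)) = 0 := by
    have hn := congrArg (DCoh.LTensorCx N').map (Φ.hom.naturality e.hom)
    simp only [Functor.comp_map, Functor.map_comp] at hn
    rw [h2, zero_comp] at hn
    rw [← cancel_epi ((DCoh.LTensorCx N').map (Φ.hom.app O.obj)), comp_zero]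
    exact hn.symm
  let r : (DCoh.Lpull g).obj Og.obj ⟶ (DCoh.Lpull g).obj O.obj :=
    (DCoh.Lpull g).map w.hom ≫ ap.counit.app M ≫ l.inv
  have hr : (DCoh.Lpull g).map e.hom ≫ r = 𝟙 _ := by
    show _ ≫ (DCoh.Lpull g).map w.hom ≫ ap.counit.app M ≫ l.inv = _
    rw [← Functor.map_comp_assoc, he]
    have := (ap.homEquiv_counit O.obj M (ap.homEquiv _ _ l.hom)).symm.trans ((ap.homEquiv _ _).symm_apply_apply l.hom)
    exact ((Category.assoc _ _ _).symm.trans (congrArg (· ≫ l.inv) this)).trans l.hom_inv_id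
  have hzero : IsZero ((DCoh.LTensorCx N').obj ((DCoh.Lpull f').obj ((DCoh.Lpull g).obj O.obj))) := by
    rw [IsZero.iff_id_eq_zero, ← CategoryTheory.Functor.map_id, ← CategoryTheory.Functor.map_id, ← hr,
      Functor.map_comp, Functor.map_comp, h3, zero_comp]
  obtain ⟨eO⟩ := hO
  obtain ⟨lg⟩ := DCat.RelEquivBC.nonempty_Lpull_inD_structure g
  obtain ⟨lf⟩ := DCat.RelEquivBC.nonempty_Lpull_inD_structure f'
  obtain ⟨u⟩ := DQCoh.nonempty_unit_LTensor N'
  let eS : (DCoh.Lpull f').obj ((DCoh.Lpull g).obj O.obj) ≅ (DQCoh.sec Y').pt.obj ⊤ :=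
    (DCoh.Lpull f').mapIso ((DCoh.Lpull g).mapIso eO ≪≫ lg) ≪≫ lf ≪≫
      (singleFunctor Y'.Modules 0).mapIso (DQCoh.topStructIso Y').symm
  have hQ : IsZero ((DCoh.Lpull ι).obj (DerivedCategory.Q.obj N)) :=
    hzero.of_iso (PullPerf.lpullIso ι hNk ≪≫ u.symm ≪≫ (DCoh.LTensorCx N').mapIso eS.symm)
  haveI : (DerivedCategory.Q.obj N).IsLE (-(d : ℤ)) := DerivedCategory.TStructure.t.isLE_of_iso eN.symm _
  obtain ⟨eV⟩ := nonempty_HD_Lpull_top ι (DerivedCategory.Q.obj N) (-(d : ℤ))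
  have hω : IsZero ((Scheme.Modules.pullback ι).obj (DCoh.HD (a.obj O).obj (-(d : ℤ)))) :=
    ((homologyFunctor Y'.Modules (-(d : ℤ))).map_isZero hQ).of_iso
      ((Scheme.Modules.pullback ι).mapIso ((homologyFunctor Y.Modules _).mapIso eN.symm) ≪≫ eV.symm)
  have hy : y ∈ Set.range ι := by
    rw [show Set.range ι = _ from f.range_fiberι t]
    exact ht
  obtain ⟨z, -⟩ := hy
  refine not_nontrivial_iff_subsingleton.2 ?_ (hstalk z).1
  exact DCat.SuppOpen.subsingleton_of_isZero_stalkFunctor _ _ ((DerSch.stalkFunctor Y' z).map_isZero hω)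

/-- **A functional on top cohomology which is nonzero at a given point of the base.** -/
theorem exists_functional_not_mem (y : Y) (t : Spec (CommRingCat.of A)) (ht : (Y ↘ Spec (CommRingCat.of A)) y = t) :
    ∃ F : Y.Modules, Coh.IsCoh F ∧ FlatMod.IsFlatOver (Y ↘ Spec (CommRingCat.of A)) F ∧
      ∃ (γ : Coh.HH Y F d →ₗ[A] A) (x : Coh.HH Y F d), γ x ∉ t.asIdeal := by
  classical
  let f := Y ↘ Spec (CommRingCat.of A)
  let T := Spec (CommRingCat.of A)
  let g := T.fromSpecResidueField t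
  let T' := Spec (CommRingCat.of (T.residueField t))
  haveI : IsNoetherianRing (CommRingCat.of A) := ‹IsNoetherianRing A›
  haveI : IsLocallyNoetherian Y := LocallyOfFiniteType.isLocallyNoetherian f
  haveI : CompactSpace Y := QuasiCompact.compactSpace_of_compactSpace f
  haveI : QuasiSeparatedSpace Y := quasiSeparatedSpace_of_quasiSeparated f
  haveI : ∀ (S : CommRingCat.{u}), PreservesFiniteLimits (tilde.functor S) :=
    Groth.Agent.AffSchLib.preservesFiniteLimits_tilde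
  obtain ⟨_, _⟩ := DCat.exists_commShift_Rpush f
  haveI := DCat.hasLpull g
  haveI := DCat.hasRpush g
  letI : T'.Over T := ⟨g⟩
  haveI : DCoh.HasRpush (T' ↘ T) := ‹DCoh.HasRpush g›
  haveI : QuasiCompact g := inferInstance
  haveI : QuasiSeparated g := inferInstance
  haveI : IsAffineHom g := inferInstance
  have hgq : DCoh.RpushPreservesQCoh g := fun K hK => DQCoh.isQCohD_Rpush g K hK
  let M₀ := Coh.structureModule T'
  haveI : Coh.IsQCoh M₀ := Coherent.isQCoh_structureModule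
  let O' : DCoh.DQCoh T' := ⟨DCoh.inD T' M₀, FlatBC14.isQCohD_inD _⟩
  let Og : DCoh.DQCoh T := (DCoh.RpushQ g hgq).obj O'
  obtain ⟨ap⟩ := DCat.nonempty_pullPushAdj g
  obtain ⟨lg⟩ := DCat.RelEquivBC.nonempty_Lpull_inD_structure g
  let l : (DCoh.Lpull g).obj O.obj ≅ DCoh.inD T' M₀ := (DCoh.Lpull g).mapIso hO.some ≪≫ lg
  let e : O ⟶ Og := ObjectProperty.homMk (ap.homEquiv _ _ l.hom)
  have hne : a.map e ≠ 0 := map_ne_zero_of_fibre A Y d hCM hd h a adj O hO y t ht ap (M := DCoh.inD T' M₀) Og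
    (Iso.refl _) l e (Category.comp_id _)
  have hεe : (adj.counit.app O).hom ≫ e.hom ≠ 0 := by
    intro h0
    apply hne
    apply (adj.homEquiv _ _).symm.injective
    rw [adj.homEquiv_counit, adj.homEquiv_counit, adj.counit_naturality]
    refine InducedCategory.hom_ext ?_
    show (adj.counit.app O).hom ≫ e.hom = (DCoh.Rpush f).map 0 ≫ _
    rw [h0, Functor.map_zero, zero_comp]
  -- the module
  obtain ⟨hz, hcoh, hfl, -, -⟩ := cm_package A Y d hCM hd h a adj O hO
  let K := (a.obj O).obj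
  haveI : K.IsLE (-(d : ℤ)) := (isLE_iff _ _).2 fun i hi => hz i (by omega)
  haveI : K.IsGE (-(d : ℤ)) := (isGE_iff _ _).2 fun i hi => hz i (by omega)
  obtain ⟨F, ⟨eF⟩⟩ := exists_iso_singleFunctor_obj_of_isGE_of_isLE K (-(d : ℤ))
  let eF0 : DCoh.HD K (-(d : ℤ)) ≅ F :=
    (homologyFunctor Y.Modules _).mapIso eF ≪≫ (singleFunctorCompHomologyFunctorIso Y.Modules _).app F
  haveI : Coh.IsQCoh F := Coherent.isQCoh_of_iso eF0 (h := hcoh.1)
  let eFd : K ≅ (DCoh.inD Y F)⟦(d : ℤ)⟧ :=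
    eF ≪≫ ((singleFunctors Y.Modules).shiftIso (d : ℤ) (-(d : ℤ)) 0 (by omega)).symm.app F
  let τ : RingBase.gS A F (d : ℤ) ⟶ O.obj := (DCoh.Rpush f).map eFd.inv ≫ (adj.counit.app O).hom
  have hτ : τ ≫ e.hom ≠ 0 := fun h0 => hεe (by
    rw [← cancel_epi ((DCoh.Rpush f).map eFd.inv), comp_zero, ← Category.assoc]
    exact h0)
  -- detection on elements
  obtain ⟨eK⟩ := DQCoh.nonempty_Rpush_inD g M₀
  haveI : (Og.obj).IsGE 0 := by
    haveI : (DCoh.inD T ((Scheme.Modules.pushforward g).obj M₀)).IsGE 0 :=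
      (inferInstance : ((singleFunctor T.Modules 0).obj _).IsGE 0)
    exact DerivedCategory.TStructure.t.isGE_of_iso eK.symm 0
  have hfib : ∀ s, topologicalKrullDim (f.fiber s) ≤ (d : WithBot ℕ∞) := fun s => fibre_dim_le f d hd s
  haveI : (((singleFunctor Y.Modules 0).obj F)⟦(d : ℤ)⟧).IsGE (-(d : ℤ)) :=
    DerivedCategory.TStructure.t.isGE_shift _ 0 (d : ℤ) (-(d : ℤ)) (by omega)
  haveI : (((singleFunctor Y.Modules 0).obj F)⟦(d : ℤ)⟧).IsLE (-(d : ℤ)) :=
    DerivedCategory.TStructure.t.isLE_shift _ 0 (d : ℤ) (-(d : ℤ)) (by omega)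
  haveI : (RingBase.gS A F (d : ℤ)).IsLE 0 := by
    have h' := Groth.Agent.Dual22Lib.RpushBound.isLE_Rpush_of_modules f d
      (fun M hM i hi => isZero_HD_Rpush_module hfib M hM i hi)
      (((singleFunctor Y.Modules 0).obj F)⟦(d : ℤ)⟧) (-(d : ℤ)) (-(d : ℤ))
      (Groth.Agent.DQCoh.isQCohD_shift (Groth.Agent.FlatBC14.isQCohD_inD F) _)
    rwa [show -(d : ℤ) + (d : ℤ) = 0 by omega] at h'
  obtain ⟨z, hzne⟩ : ∃ z : RingBase.PS A ⟶ RingBase.gS A F (d : ℤ), z ≫ τ ≫ e.hom ≠ 0 := by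
    by_contra hall
    simp only [not_exists, not_not] at hall
    exact hτ ((SerreTop.bijective_scheme A _ Og.obj (RingBase.isQCohD_gS F _) Og.property).1
      (LinearMap.ext fun z => (hall z).trans (comp_zero (f := z)).symm))
  -- the functional
  obtain ⟨eR⟩ := ShriekLocal.nonempty_structure_tilde A
  let eW : O.obj ≅ (DCoh.tildeD (CommRingCat.of A)).obj (Dual.inD A A) := hO.some ≪≫ eR.symm
  let E1 : A ≃ₗ[A] (SerreTop.g₀ A ⟶ Dual.inD A A) :=
    ((singleFunctorCompHomologyFunctorIso (ModuleCat.{u} A) 0).app (ModuleCat.of A A)).toLinearEquiv.symm.trans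
      (SerreTop.elt A (Dual.inD A A)).symm
  let E2 : A ≃ₗ[A] (RingBase.PS A ⟶ O.obj) := E1.trans (SerreTop.theta A eW.symm)
  obtain ⟨eL, -⟩ := RingBase.exists_eLin (R := A) (X := Y)
  obtain ⟨eL', -⟩ := RingBase.exists_eLin (R := A) (X := T')
  refine ⟨F, Coherent.isCoh_of_iso eF0 hcoh, fun y' => EGA43.DvrCrit.isFlatOverAt_of_iso f eF0 y' (hfl y'),
    E2.symm.toLinearMap ∘ₗ Linear.rightComp A (RingBase.PS A) τ ∘ₗ (eL F d).symm.toLinearMap, eL F d z, ?_⟩
  intro hmem
  apply hzne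
  have hmem' : E2.symm (z ≫ τ) ∈ t.asIdeal := by
    rw [show E2.symm (z ≫ τ) = (E2.symm.toLinearMap ∘ₗ Linear.rightComp A (RingBase.PS A) τ ∘ₗ
      (eL F d).symm.toLinearMap) (eL F d z) by simp]
    exact hmem
  obtain ⟨r, hr, hzr⟩ : ∃ r ∈ t.asIdeal, z ≫ τ = r • E2 1 := ⟨_, hmem', by
    rw [← map_smul, smul_eq_mul, mul_one, LinearEquiv.apply_symm_apply]⟩
  rw [← Category.assoc, hzr, Linear.smul_comp]
  let w : Og.obj ≅ RingBase.gS A M₀ ((0 : ℕ) : ℤ) :=
    (DCoh.Rpush g).mapIso ((shiftFunctorZero (DCoh.D T') ℤ).app _).symm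
  have hkill : ∀ v : Coh.HH T' M₀ 0, r • v = 0 := fun v => by
    show Coh.toGlobal g r • v = 0
    have : Coh.toGlobal g r = 0 := by
      exact residue_eq_zero_of_mem A t r hr
    rw [this, zero_smul]
  rw [← cancel_mono w.hom, zero_comp, Linear.smul_comp]
  apply (eL' M₀ 0).injective
  rw [map_smul, map_zero]
  exact hkill _

end

end Groth.Agent.DualLib.RelTop
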