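import Groth.Agent.DualLib.RelTop.CechFibre
import Groth.Agent.DualLib.RelTop.TraceCore
import Groth.Agent.AbSchLib.GlobalSections
import Groth.Agent.PicLib.FlatSections
import Groth.Agent.Dual22Lib.AdjExists
import Groth.Agent.Coherent.FormalFunctions

/-!
# Kernel elements of the trace are killed near points with geometrically connected reduced fibre
-/

set_option autoImplicit false
set_option backward.isDefEq.respectTransparency false
set_option linter.style.haveILetI false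
set_option linter.unusedSectionVars false
set_option synthInstance.maxHeartbeats 200000
set_option maxHeartbeats 1000000

universe u

open CategoryTheory CategoryTheory.Limits AlgebraicGeometry Opposite TopologicalSpace
open Groth.Agent.Coherent Groth.Agent.Coherent.CohBC Groth.Agent.PicLib Groth.Agent.AmpleLib
open Groth.Agent.DualLib.RelTop.CechPush Groth.Agent.DualLib.RelTop.CechTrace
open Groth.Agent.DualLib.RelTop.CechFibre

attribute [local instance] HasDerivedCategory.standard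

namespace Groth.Agent.DualLib.RelTop.CechBij

open TensorProduct in
/-- Constant global functions descend along field extensions. -/
theorem bijective_appTop_descend {P X : Scheme.{u}} {R B : CommRingCat.{u}} (g : P ⟶ X) (q : P ⟶ Spec B)
    (π : X ⟶ Spec R) (φ : R ⟶ B) (hR : IsField R) (H : IsPullback g q π (Spec.map φ)) [CompactSpace X]
    [QuasiSeparatedSpace X] [Nontrivial B] (hq : Function.Bijective q.appTop) : Function.Bijective π.appTop := by
  haveI : Flat (Spec.map φ) := by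
    letI := hR.toField
    rw [HasRingHomProperty.Spec_iff (P := @Flat)]
    letI := φ.hom.toAlgebra
    exact RingHom.flat_algebraMap_iff.2 (Module.Flat.of_free (R := R) (M := B))
  have hi := isIso_pushoutSection_of_isQuasiSeparated_of_flat_right H (US := ⊤) (UT := ⊤) (UX := ⊤) (UY := ⊤)
    (by simp) (by simp) (by simp) (isAffineOpen_top _) (isAffineOpen_top _) isCompact_univ
    isQuasiSeparated_univ
  have hp := (isIso_pushoutSection_iff ..).1 hi
  let R₀ := Γ(Spec R, ⊤)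
  let B₀ := Γ(Spec B, ⊤)
  letI : Algebra R₀ Γ(X, ⊤) := (π.appLE ⊤ ⊤ (by simp)).hom.toAlgebra
  letI : Algebra R₀ B₀ := ((Spec.map φ).appLE ⊤ ⊤ (by simp)).hom.toAlgebra
  letI : Algebra Γ(X, ⊤) Γ(P, ⊤) := (g.appLE ⊤ ⊤ (by simp)).hom.toAlgebra
  letI : Algebra B₀ Γ(P, ⊤) := (q.appLE ⊤ ⊤ (by simp)).hom.toAlgebra
  letI : Algebra R₀ Γ(P, ⊤) := ((g.appLE ⊤ ⊤ (by simp)).hom.comp (π.appLE ⊤ ⊤ (by simp)).hom).toAlgebra
  haveI : IsScalarTower R₀ Γ(X, ⊤) Γ(P, ⊤) := .of_algebraMap_eq fun _ => rfl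
  haveI : IsScalarTower R₀ B₀ Γ(P, ⊤) := .of_algebraMap_eq fun r => ConcreteCategory.congr_hom hp.w r
  have hpo : Algebra.IsPushout R₀ Γ(X, ⊤) B₀ Γ(P, ⊤) := CommRingCat.isPushout_iff_isPushout.1 hp
  haveI : Algebra.IsPushout R₀ B₀ Γ(X, ⊤) Γ(P, ⊤) := Algebra.IsPushout.symm hpo
  have hR₀ : IsField R₀ := (Scheme.ΓSpecIso R).commRingCatIsoToRingEquiv.toMulEquiv.isField hR
  letI := hR₀.toField
  haveI : Nontrivial B₀ := (Scheme.ΓSpecIso B).commRingCatIsoToRingEquiv.toEquiv.nontrivial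
  haveI : Module.FaithfullyFlat R₀ B₀ := inferInstance
  let f := Algebra.linearMap R₀ Γ(X, ⊤)
  suffices h : Function.Bijective (f.lTensor B₀) by
    have := (Module.FaithfullyFlat.lTensor_bijective_iff_bijective (R := R₀) (M := B₀) f).1 h
    rw [Scheme.Hom.appTop, Scheme.Hom.app_eq_appLE]
    exact this
  let e := (Algebra.IsPushout.equiv R₀ B₀ Γ(X, ⊤) Γ(P, ⊤))
  have hc : ∀ w, e (f.lTensor B₀ w) = algebraMap B₀ Γ(P, ⊤) (TensorProduct.rid R₀ B₀ w) := fun w => by
    induction w using TensorProduct.induction_on with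
    | zero => simp
    | add a b ha hb => rw [map_add, map_add, ha, hb, map_add, map_add]
    | tmul b r =>
      simp only [LinearMap.lTensor_tmul, f, Algebra.linearMap_apply, TensorProduct.rid_tmul, e,
        Algebra.IsPushout.equiv_tmul, Algebra.smul_def, map_mul]
      rw [← IsScalarTower.algebraMap_apply, ← IsScalarTower.algebraMap_apply, mul_comm]
  have hb : Function.Bijective (algebraMap B₀ Γ(P, ⊤)) := by
    simpa [Scheme.Hom.appLE, Scheme.Hom.appTop, RingHom.algebraMap_toAlgebra] using hq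
  refine (e.toEquiv.comp_bijective _).1 ?_
  rw [show ⇑e.toEquiv ∘ ⇑(f.lTensor B₀) = ⇑(algebraMap B₀ Γ(P, ⊤)) ∘ ⇑(TensorProduct.rid R₀ B₀) from funext hc]
  exact hb.comp (TensorProduct.rid R₀ B₀).bijective

theorem H_comp (A : Type u) [CommRing A] {X : Scheme.{u}} [X.Over (Spec (CommRingCat.of A))] {M N P : X.Modules}
    (f : M ⟶ N) (g : N ⟶ P) (n : ℕ) (x : Coh.HH X M n) :
    Sheaf.H.map ((SheafOfModules.toSheaf X.ringCatSheaf).map (f ≫ g)) n x =
      Sheaf.H.map ((SheafOfModules.toSheaf X.ringCatSheaf).map g) n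
        (Sheaf.H.map ((SheafOfModules.toSheaf X.ringCatSheaf).map f) n x) := by
  rw [← RelMod.hmap_eq A (f ≫ g), ← RelMod.hmap_eq A f, ← RelMod.hmap_eq A g, RelMod.hmap_comp]
  rfl

theorem key {A A₂ B : Type u} [CommRing A] [CommRing A₂] [CommRing B] (φ₁ : A →+* A₂)
    (φ₂ : A₂ →+* B) {X' X₂ X : Scheme.{u}} [X'.Over (Spec (CommRingCat.of B))]
    [X₂.Over (Spec (CommRingCat.of A₂))] [X.Over (Spec (CommRingCat.of A))] (g₂ : X' ⟶ X₂) (hh : X₂ ⟶ X)
    {ι : Type u} [Finite ι] (W : ι → X.Opens) (hcov : ⨆ i, W i = ⊤)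
    (hW : ∀ (p : ℕ) (a : Fin (p + 1) → ι), IsAffineOpen (cinter W a)) (n : ℕ)
    (M : X'.Modules) [Coh.IsQCoh ((Scheme.Modules.pushforward (g₂ ≫ hh)).obj M)]
    [Coh.IsQCoh ((Scheme.Modules.pushforward hh).obj ((Scheme.Modules.pushforward g₂).obj M))]
    (c' : cocy B (fun i => (g₂ ≫ hh) ⁻¹ᵁ W i) n M) (c'' : cocy B (fun i => g₂ ⁻¹ᵁ (hh ⁻¹ᵁ W i)) n M := c') :
    c'' = c' → Sheaf.H.map ((SheafOfModules.toSheaf X.ringCatSheaf).map
        ((Scheme.Modules.pushforwardComp g₂ hh).inv.app M)) n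
        (hcls A W hcov hW n _ (pZ (A := A) (B := B) (g₂ ≫ hh) W n M c')) =
      hcls A W hcov hW n _ (pZ (A := A) (B := A₂) hh W n ((Scheme.Modules.pushforward g₂).obj M)
        (pZ (A := A₂) (B := B) g₂ (fun i => hh ⁻¹ᵁ W i) n M c'')) := by
  rintro rfl
  refine (hmap_hcls A W hcov hW n (N := (Scheme.Modules.pushforward hh).obj ((Scheme.Modules.pushforward g₂).obj M))
    _ _).trans ?_
  refine congrArg _ (Subtype.ext (funext fun a => ?_))
  exact (resM_resM M (cinter_pull g₂ (fun i => hh ⁻¹ᵁ W i) a).ge (g₂.preimage_mono (cinter_pull hh W a).ge) (c''.1 a)).symm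

/-- A map into a direct image along a composite, seen one stage up. -/
theorem descend_hom {A A₂ B : Type u} [CommRing A] [CommRing A₂] [CommRing B] (φ : A →+* B) (φ₁ : A →+* A₂)
    (φ₂ : A₂ →+* B) {X' X₂ X : Scheme.{u}} [X'.Over (Spec (CommRingCat.of B))]
    [X₂.Over (Spec (CommRingCat.of A₂))] [X.Over (Spec (CommRingCat.of A))] (g : X' ⟶ X) (g₂ : X' ⟶ X₂)
    (hh : X₂ ⟶ X) (hg : g₂ ≫ hh = g)
    (h : IsPullback g (X' ↘ Spec (CommRingCat.of B)) (X ↘ Spec (CommRingCat.of A)) (Spec.map (CommRingCat.ofHom φ)))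
    (h₁ : IsPullback hh (X₂ ↘ Spec (CommRingCat.of A₂)) (X ↘ Spec (CommRingCat.of A)) (Spec.map (CommRingCat.ofHom φ₁)))
    (h₂ : IsPullback g₂ (X' ↘ Spec (CommRingCat.of B)) (X₂ ↘ Spec (CommRingCat.of A₂)) (Spec.map (CommRingCat.ofHom φ₂)))
    {ι : Type u} [Finite ι] (W : ι → X.Opens) (hcov : ⨆ i, W i = ⊤)
    (hW : ∀ (p : ℕ) (a : Fin (p + 1) → ι), IsAffineOpen (cinter W a)) (n : ℕ)
    (F : X.Modules) [Coh.IsQCoh F] [Coh.IsQCoh ((Scheme.Modules.pullback hh).obj F)]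
    [Coh.IsQCoh ((Scheme.Modules.pushforward hh).obj ((Scheme.Modules.pullback hh).obj F))]
    (M : X'.Modules) [Coh.IsQCoh M] [Coh.IsQCoh ((Scheme.Modules.pushforward g).obj M)]
    [Coh.IsQCoh ((Scheme.Modules.pushforward g₂).obj M)]
    [Coh.IsQCoh ((Scheme.Modules.pushforward hh).obj ((Scheme.Modules.pushforward g₂).obj M))]
    (ψ : F ⟶ (Scheme.Modules.pushforward g).obj M) :
    ∃ ψ₂ : (Scheme.Modules.pullback hh).obj F ⟶ (Scheme.Modules.pushforward g₂).obj M, ∀ y : Coh.HH X F n,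
      (CechPush.E φ₂ g₂ h₂ (fun i => hh ⁻¹ᵁ W i) (hcov' φ₁ hh h₁ W hcov) (hW' φ₁ hh h₁ W hW) n M).symm
          (Sheaf.H.map ((SheafOfModules.toSheaf X₂.ringCatSheaf).map ψ₂) n (β φ₁ hh h₁ W hcov hW n F y)) =
        (CechPush.E φ g h W hcov hW n M).symm (Sheaf.H.map ((SheafOfModules.toSheaf X.ringCatSheaf).map ψ) n y) := by
  subst hg
  let W₂ := fun i => hh ⁻¹ᵁ W i
  let c : (Scheme.Modules.pushforward (g₂ ≫ hh)).obj M ⟶
      (Scheme.Modules.pushforward hh).obj ((Scheme.Modules.pushforward g₂).obj M) :=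
    (Scheme.Modules.pushforwardComp g₂ hh).inv.app M
  refine ⟨((Scheme.Modules.pullbackPushforwardAdjunction hh).homEquiv _ _).symm (ψ ≫ c), fun y => ?_⟩
  have hψ : eta hh F ≫ (Scheme.Modules.pushforward hh).map
      (((Scheme.Modules.pullbackPushforwardAdjunction hh).homEquiv _ _).symm (ψ ≫ c)) = ψ ≫ c :=
    ((Scheme.Modules.pullbackPushforwardAdjunction hh).homEquiv_unit _ _ _).symm.trans
      (((Scheme.Modules.pullbackPushforwardAdjunction hh).homEquiv _ _).apply_symm_apply _)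
  rw [AddEquiv.symm_apply_eq]
  apply (CechPush.E φ₁ hh h₁ W hcov hW n _).injective
  rw [E_map_β φ₁ hh h₁ W hcov hW n F, hψ]
  obtain ⟨d, rfl⟩ := hcls_surjective A W hcov hW n F y
  obtain ⟨c', hc'⟩ := hcls_surjective B (fun i => (g₂ ≫ hh) ⁻¹ᵁ W i) (hcov' φ (g₂ ≫ hh) h W hcov)
    (hW' φ (g₂ ≫ hh) h W hW) n M ((CechPush.E φ (g₂ ≫ hh) h W hcov hW n M).symm
      (Sheaf.H.map ((SheafOfModules.toSheaf X.ringCatSheaf).map ψ) n (hcls A W hcov hW n F d)))
  have h0 : hcls A W hcov hW n _ (pZ (A := A) (B := B) (g₂ ≫ hh) W n M c') =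
      Sheaf.H.map ((SheafOfModules.toSheaf X.ringCatSheaf).map ψ) n (hcls A W hcov hW n F d) :=
    (E_hcls φ (g₂ ≫ hh) h W hcov hW n M c').symm.trans ((AddEquiv.eq_symm_apply _).1 hc')
  rw [← hc']
  have h1 : CechPush.E φ₂ g₂ h₂ W₂ (hcov' φ₁ hh h₁ W hcov) (hW' φ₁ hh h₁ W hW) n M
      (hclsU φ₂ g₂ h₂ W₂ (hcov' φ₁ hh h₁ W hcov) (hW' φ₁ hh h₁ W hW) n M c') =
      hcls A₂ W₂ (hcov' φ₁ hh h₁ W hcov) (hW' φ₁ hh h₁ W hW) n _ (pZ (A := A₂) (B := B) g₂ W₂ n M c') :=
    E_hcls φ₂ g₂ h₂ W₂ _ _ n M c'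
  refine Eq.trans ?_ (congrArg (CechPush.E φ₁ hh h₁ W hcov hW n _) h1).symm
  refine Eq.trans ?_ (E_hcls φ₁ hh h₁ W hcov hW n _ _).symm
  rw [H_comp A ψ c n]
  refine (congrArg (fun w => Sheaf.H.map ((SheafOfModules.toSheaf X.ringCatSheaf).map c) n w) h0.symm).trans ?_
  exact key φ₁ φ₂ g₂ hh W hcov hW n M c' c' rfl

/-- A Noetherian proper Cohen–Macaulay morphism has a coherent flat dualizing pair. -/
theorem exists_dualizing_coh (A : Type u) [CommRing A] [IsNoetherianRing A] (Y : Scheme.{u})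
    [Y.Over (Spec (CommRingCat.of A))] [IsProper (Y ↘ Spec (CommRingCat.of A))] (d : ℕ)
    (hCM : ∀ y : Y, MoreMor.IsCMAt (Y ↘ Spec (CommRingCat.of A)) y)
    (hd : Cyc.HasRelDim (Y ↘ Spec (CommRingCat.of A)) d) :
    ∃ ω : Y.Modules, Coh.IsCoh ω ∧ FlatMod.IsFlatOver (Y ↘ Spec (CommRingCat.of A)) ω ∧
      RelCanon.IsDualizingSheaf A Y d ω := by
  haveI : ∀ (U V : Scheme.{u}) (j : U ⟶ V) [IsOpenImmersion j],
      PreservesFiniteLimits (Scheme.Modules.restrictFunctor j) := fun U V j _ =>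
    DCat.PullPerf.preservesFiniteLimits_restrict j
  let f := Y ↘ Spec (CommRingCat.of A)
  haveI : IsNoetherianRing (CommRingCat.of A) := ‹IsNoetherianRing A›
  haveI : CompactSpace Y := QuasiCompact.compactSpace_of_compactSpace f
  haveI : QuasiSeparatedSpace Y := quasiSeparatedSpace_of_quasiSeparated f
  haveI := DCat.hasRpush f
  have h : DCoh.RpushPreservesQCoh f := fun K hK => DQCoh.isQCohD_Rpush f K hK
  haveI := Dual22Lib.AdjGeom.isLeftAdjoint_RpushQ f h
  let a := (DCoh.RpushQ f h).rightAdjoint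
  let adj : DCoh.RpushQ f h ⊣ a := Adjunction.ofIsLeftAdjoint _
  let O : DCoh.DQCoh (Spec (CommRingCat.of A)) :=
    ⟨DCoh.inD _ (Coh.structureModule (Spec (CommRingCat.of A))), DCat.RelEquivBC.isQCohD_inD_structure _⟩
  obtain ⟨hdual, -⟩ := isDualizingSheaf_HD (fibre_dim_le f d hd) h a adj O ⟨Iso.refl _⟩
  obtain ⟨-, hcoh, hfl, -, -⟩ := cm_package A Y d hCM hd h a adj O ⟨Iso.refl _⟩
  exact ⟨_, hcoh, hfl, hdual⟩

open TensorProduct in
/-- **A kernel element of the trace is killed outside the prime of a good point.** -/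
theorem exists_killer (A : Type u) [CommRing A] [IsNoetherianRing A] (Y : Scheme.{u})
    [Y.Over (Spec (CommRingCat.of A))] [IsProper (Y ↘ Spec (CommRingCat.of A))] (d : ℕ)
    (hCM : ∀ y : Y, MoreMor.IsCMAt (Y ↘ Spec (CommRingCat.of A)) y)
    (hd : Cyc.HasRelDim (Y ↘ Spec (CommRingCat.of A)) d) (ω : Y.Modules) (hcoh : Coh.IsCoh ω)
    (tr : Coh.HH Y ω d →ₗ[A] A) (hb : Canon.IsRDualOver A Y d ω tr) (t : Spec (CommRingCat.of A))
    (y : Y) (hy : (Y ↘ Spec (CommRingCat.of A)) y = t)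
    (hΓ : Function.Bijective ((Y ↘ Spec (CommRingCat.of A)).fiberToSpecResidueField t).appTop)
    (z : Coh.HH Y ω d) (hz : tr z = 0) : ∃ c : A, c ∉ t.asIdeal ∧ c • z = 0 := by
  classical
  haveI : ∀ (U V : Scheme.{u}) (j : U ⟶ V) [IsOpenImmersion j],
      PreservesFiniteLimits (Scheme.Modules.restrictFunctor j) := fun U V j _ =>
    DCat.PullPerf.preservesFiniteLimits_restrict j
  let f := Y ↘ Spec (CommRingCat.of A)
  haveI : IsNoetherianRing (CommRingCat.of A) := ‹IsNoetherianRing A›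
  haveI : CompactSpace Y := QuasiCompact.compactSpace_of_compactSpace f
  haveI : QuasiSeparatedSpace Y := quasiSeparatedSpace_of_quasiSeparated f
  haveI := DCat.hasRpush f
  have h : DCoh.RpushPreservesQCoh f := fun K hK => DQCoh.isQCohD_Rpush f K hK
  haveI := Dual22Lib.AdjGeom.isLeftAdjoint_RpushQ f h
  let a := (DCoh.RpushQ f h).rightAdjoint
  let adj : DCoh.RpushQ f h ⊣ a := Adjunction.ofIsLeftAdjoint _
  let O : DCoh.DQCoh (Spec (CommRingCat.of A)) :=
    ⟨DCoh.inD _ (Coh.structureModule (Spec (CommRingCat.of A))), DCat.RelEquivBC.isQCohD_inD_structure _⟩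
  obtain ⟨F, hF, -, γ₁, x₁, hx₁⟩ := exists_functional_not_mem A Y d hCM hd h a adj O ⟨Iso.refl _⟩ y t hy
  obtain ⟨ψ, hψ⟩ := (hb.2 F hF.1).2 γ₁
  let h₀ : Coh.HH Y ω d := Canon.HHlin A ψ d x₁
  have hh₀ : tr h₀ ∉ t.asIdeal := by
    have : tr h₀ = γ₁ x₁ := LinearMap.congr_fun hψ x₁
    rwa [this]
  let iso := Scheme.Spec.residueFieldIso (CommRingCat.of A) t
  let φ : A →+* (Spec (CommRingCat.of A)).residueField t :=
    iso.inv.hom.comp (algebraMap A t.asIdeal.ResidueField)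
  have he : Spec.map (CommRingCat.ofHom φ) = (Spec (CommRingCat.of A)).fromSpecResidueField t := by
    rw [← Scheme.Spec.map_residueFieldIso_inv_eq_fromSpecResidueField, ← Spec.map_comp]
    rfl
  have hker : ∀ r, φ r = 0 ↔ r ∈ t.asIdeal := fun r => by
    rw [show φ r = iso.inv (algebraMap A t.asIdeal.ResidueField r) from rfl,
      map_eq_zero_iff _ (ConcreteCategory.bijective_of_isIso iso.inv).1, Ideal.algebraMap_residueField_eq_zero]
  haveI : Module.Finite A (Coh.HH Y ω d) := Coherent.finite_HH (A := A) hcoh d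
  let K := LinearMap.ker tr
  by_contra hne
  simp only [not_exists, not_and] at hne
  have hmem : t ∈ Module.support A K := Module.mem_support_iff'.2 ⟨⟨z, hz⟩, fun c hc h0 =>
    hne c hc (congrArg Subtype.val h0)⟩
  haveI : Nontrivial (t.asIdeal.ResidueField ⊗[A] K) :=
    (Module.mem_support_iff_nontrivial_residueField_tensorProduct t).1 hmem
  obtain ⟨v, hv⟩ := exists_ne (0 : t.asIdeal.ResidueField ⊗[A] K)
  obtain ⟨L, hL⟩ : ∃ L : Module.Dual t.asIdeal.ResidueField (t.asIdeal.ResidueField ⊗[A] K), L v ≠ 0 := by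
    by_contra hall
    simp only [not_exists, not_not] at hall
    exact hv ((Module.forall_dual_apply_eq_zero_iff _ v).1 hall)
  let proj : Coh.HH Y ω d →ₗ[A] K :=
    (tr h₀ • LinearMap.id - (LinearMap.toSpanSingleton A _ h₀).comp tr).codRestrict K fun w => by
      rw [LinearMap.mem_ker]
      simp only [LinearMap.sub_apply, LinearMap.smul_apply, LinearMap.id_apply, LinearMap.comp_apply,
        LinearMap.toSpanSingleton_apply, map_sub, map_smul, smul_eq_mul]
      ring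
  let ℓ₁ : Coh.HH Y ω d →+ (Spec (CommRingCat.of A)).residueField t :=
    iso.inv.hom.toAddMonoidHom.comp (L.toAddMonoidHom.comp
      ((TensorProduct.mk A t.asIdeal.ResidueField K 1).toAddMonoidHom.comp proj.toAddMonoidHom))
  have h₁ : ∀ r x, ℓ₁ (r • x) = φ r * ℓ₁ x := fun r x => by
    show iso.inv (L ((1 : t.asIdeal.ResidueField) ⊗ₜ[A] proj (r • x))) =
      iso.inv (algebraMap A _ r) * iso.inv (L (1 ⊗ₜ[A] proj x))
    rw [map_smul, TensorProduct.tmul_smul, ← algebraMap_smul t.asIdeal.ResidueField r, map_smul, smul_eq_mul, map_mul]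
  let ℓ₂ : Coh.HH Y ω d →+ (Spec (CommRingCat.of A)).residueField t :=
    φ.toAddMonoidHom.comp tr.toAddMonoidHom
  have h₂ : ∀ r x, ℓ₂ (r • x) = φ r * ℓ₂ x := fun r x => by
    show φ (tr (r • x)) = φ r * φ (tr x)
    rw [map_smul, smul_eq_mul, map_mul]
  have hco := exists_coeff A Y d hCM hd ω ⟨tr, hb⟩ hcoh t φ he hΓ ℓ₁ ℓ₂ h₁ h₂ h₀ ((hker _).not.2 hh₀)
  have hp0 : proj h₀ = 0 := Subtype.ext (by
    show tr h₀ • h₀ - tr h₀ • h₀ = (0 : Coh.HH Y ω d)
    exact sub_self _)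
  have hz1 : ∀ x, ℓ₁ x = 0 := fun x => by
    have := hco x
    rw [show ℓ₁ h₀ = 0 by
      show iso.inv (L ((1 : t.asIdeal.ResidueField) ⊗ₜ[A] proj h₀)) = 0
      rw [hp0, TensorProduct.tmul_zero, map_zero, map_zero], zero_mul] at this
    exact (mul_eq_zero.1 this).resolve_right ((hker _).not.2 hh₀)
  refine hL ?_
  induction v using TensorProduct.induction_on with
  | zero => exact map_zero _
  | tmul b k =>
    have hk := hz1 k.1
    have hpk : proj k.1 = tr h₀ • k := Subtype.ext (by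
      show tr h₀ • k.1 - tr k.1 • h₀ = tr h₀ • k.1
      rw [show tr k.1 = 0 from k.2, zero_smul, sub_zero])
    change iso.inv (L ((1 : t.asIdeal.ResidueField) ⊗ₜ[A] proj k.1)) = 0 at hk
    rw [hpk, TensorProduct.tmul_smul, ← algebraMap_smul t.asIdeal.ResidueField (tr h₀), map_smul,
      map_eq_zero_iff _ (ConcreteCategory.bijective_of_isIso iso.inv).1, smul_eq_mul] at hk
    have hk0 := (mul_eq_zero.1 hk).resolve_left fun h0 => hh₀ (Ideal.algebraMap_residueField_eq_zero.1 h0)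
    rw [show b ⊗ₜ[A] k = b • ((1 : t.asIdeal.ResidueField) ⊗ₜ[A] k) by
      rw [TensorProduct.smul_tmul', smul_eq_mul, mul_one], map_smul, hk0, smul_zero]
  | add p q hp hq =>
    rw [map_add]
    by_cases hp' : p = 0
    · subst hp'
      rw [map_zero, zero_add]
      exact hq (by simpa using hv) (by simpa using hL)
    · by_cases hLp : L p = 0
      · rw [hLp, zero_add]
        by_contra hLq
        exact hLq (hq (fun h0 => hLq (by rw [h0, map_zero])) hLq)
      · exact absurd (hp hp' hLp) hLp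

end Groth.Agent.DualLib.RelTop.CechBij
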