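import Groth.Agent.DualLib.RelTop.Fibre
import Groth.Agent.CAlgH3.CMRing
import Groth.Agent.CommAlg6.SerreOpen
import Groth.Agent.Coherent.SupportPullback
import Groth.Agent.EGA43.InjFibre.Scheme
import Groth.Agent.AssSch12.Primary

/-!
# Properties of any relative dualizing sheaf of a Cohen–Macaulay morphism
-/

set_option autoImplicit false
set_option backward.isDefEq.respectTransparency false
set_option backward.defeqAttrib.useBackward true
set_option linter.style.haveILetI false
set_option synthInstance.maxHeartbeats 100000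

universe u

open CategoryTheory CategoryTheory.Limits DerivedCategory AlgebraicGeometry

attribute [local instance] HasDerivedCategory.standard
attribute [-instance] Int.instConditionallyCompleteLinearOrder

namespace Groth.Agent.DualLib.RelTop

/-- Cohen–Macaulay modules satisfy every `(S_k)`. -/
theorem hasSk_of_cm {R : Type u} [CommRing R] [IsLocalRing R] [IsNoetherianRing R] {M : Type u} [AddCommGroup M]
    [Module R M] [Module.Finite R M] (hM : _root_.LocCoh.IsCohenMacaulayModule R M) (k : ℕ) :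
    _root_.LocCoh.HasSk k R M := by
  intro p _
  by_cases hs : Subsingleton (LocalizedModule p.primeCompl M)
  · rw [Module.supportDim_eq_bot_of_subsingleton]
    exact le_trans (min_le_right _ _) bot_le
  · haveI := not_subsingleton_iff_nontrivial.1 hs
    haveI : Nontrivial M := CAlgH3.nontrivial_of_cm hM
    obtain ⟨n, hn⟩ := CAlgH3.exists_depth_eq_natCast (R := R) (M := M)
    have hp : (⟨p, inferInstance⟩ : PrimeSpectrum R) ∈ Module.support R M :=
      Module.mem_support_iff.2 (not_subsingleton_iff_nontrivial.1 hs)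
    have h := (CAlgH3.localization_isCohenMacaulayModule n M hn hM p hp).1
    unfold _root_.LocCoh.IsCohenMacaulayModule at h
    exact le_trans (min_le_right _ _) h.le

/-- **The relative dualizing sheaf of a Cohen–Macaulay morphism.** -/
theorem package (A : Type u) [CommRing A] [IsNoetherianRing A] (Y : Scheme.{u}) [Y.Over (Spec (CommRingCat.of A))]
    [IsProper (Y ↘ Spec (CommRingCat.of A))] (d : ℕ)
    (hCM : ∀ y : Y, MoreMor.IsCMAt (Y ↘ Spec (CommRingCat.of A)) y)
    (hd : Cyc.HasRelDim (Y ↘ Spec (CommRingCat.of A)) d) (ω : Y.Modules) (hω : RelCanon.IsDualizingSheaf A Y d ω) :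
    (FlatMod.IsFlatOver (Y ↘ Spec (CommRingCat.of A)) ω ∧
      (∀ t : Spec (CommRingCat.of A), RelCanon.IsDualizingSheafFib (Y ↘ Spec (CommRingCat.of A)) d ω t) ∧
      (∀ y : Y, y ∈ RelCanon.gorLocus (Y ↘ Spec (CommRingCat.of A)) ↔ RelCanon.InvertibleAt ω y)) ∧
    (∀ (y : Y) (k : ℕ), RelCanon.RelSkAt (Y ↘ Spec (CommRingCat.of A)) k ω y) ∧ CohB1.support ω = Set.univ := by
  haveI : ∀ (U V : Scheme.{u}) (j : U ⟶ V) [IsOpenImmersion j],
      PreservesFiniteLimits (Scheme.Modules.restrictFunctor j) := fun U V j _ =>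
    DCat.PullPerf.preservesFiniteLimits_restrict j
  let f := Y ↘ Spec (CommRingCat.of A)
  haveI : IsNoetherianRing (CommRingCat.of A) := ‹IsNoetherianRing A›
  haveI : CompactSpace Y := QuasiCompact.compactSpace_of_compactSpace f
  haveI : QuasiSeparatedSpace Y := quasiSeparatedSpace_of_quasiSeparated f
  haveI := DCat.hasRpush f
  have h : DCoh.RpushPreservesQCoh f := fun K hK => DQCoh.isQCohD_Rpush f K hK
  haveI := Dual22Lib.AdjGeom.isLeftAdjoint_RpushQ f h
  let a := (DCoh.RpushQ f h).rightAdjoint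
  let adj : DCoh.RpushQ f h ⊣ a := Adjunction.ofIsLeftAdjoint _
  haveI : Coh.IsQCoh (Coh.structureModule (Spec (CommRingCat.of A))) := Coherent.isQCoh_structureModule
  let O : DCoh.DQCoh (Spec (CommRingCat.of A)) :=
    ⟨DCoh.inD _ (Coh.structureModule (Spec (CommRingCat.of A))), FlatBC14.isQCohD_inD _⟩
  obtain ⟨hdual, -⟩ := isDualizingSheaf_HD (fibre_dim_le f d hd) h a adj O ⟨Iso.refl _⟩
  obtain ⟨e⟩ := nonempty_iso_of_isDualizingSheaf hdual hω
  obtain ⟨-, hcoh, hfl, hsupp, hgor⟩ := cm_package A Y d hCM hd h a adj O ⟨Iso.refl _⟩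
  have hflω : FlatMod.IsFlatOver f ω := fun y => EGA43.DvrCrit.isFlatOverAt_of_iso _ e y (hfl y)
  refine ⟨⟨hflω, fun t => ?_, fun y => ?_⟩, fun y k => ⟨hflω y, ?_⟩, Set.eq_univ_iff_forall.2 fun y => ?_⟩
  · obtain ⟨ht, -⟩ := fibre_package A Y d hCM hd h a adj O ⟨Iso.refl _⟩ t
    letI : (f.fiber t).Over (Spec (CommRingCat.of ((Spec (CommRingCat.of A)).residueField t))) :=
      ⟨f.fiberToSpecResidueField t⟩
    exact isDualizingSheaf_of_iso ht ((Scheme.Modules.pullback (f.fiberι t)).mapIso e)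
  · refine (hgor y).trans ?_
    exact ⟨fun ⟨U, hU, ⟨i⟩⟩ => ⟨U, hU, ⟨(Scheme.Modules.restrictFunctor U.ι).mapIso e.symm ≪≫ i⟩⟩,
      fun ⟨U, hU, ⟨i⟩⟩ => ⟨U, hU, ⟨(Scheme.Modules.restrictFunctor U.ι).mapIso e ≪≫ i⟩⟩⟩
  · obtain ⟨-, hst⟩ := fibre_package A Y d hCM hd h a adj O ⟨Iso.refl _⟩ (f y)
    let z := f.asFiber y
    let Y' := f.fiber (f y)
    haveI : LocallyOfFiniteType (f.fiberToSpecResidueField (f y)) :=
      inferInstanceAs (LocallyOfFiniteType (Limits.pullback.snd f ((Spec (CommRingCat.of A)).fromSpecResidueField (f y))))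
    haveI : IsLocallyNoetherian Y' := LocallyOfFiniteType.isLocallyNoetherian (f.fiberToSpecResidueField (f y))
    let M := (Scheme.Modules.pullback (f.fiberι (f y))).obj ω
    let φ := ((DerSch.stalkFunctor Y' z).mapIso ((Scheme.Modules.pullback (f.fiberι (f y))).mapIso e)).toLinearEquiv
    have hcm : _root_.LocCoh.IsCohenMacaulayModule (Y'.presheaf.stalk z) (M.presheaf.stalk z) :=
      (CAlgH3.isCohenMacaulayModule_congr φ).1 (hst z).2
    haveI : Module.Finite (Y'.presheaf.stalk z) (M.presheaf.stalk z) :=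
      AssSch12.finite_stalk (DQCoh.CohExt.isCoh_of_iso ((Scheme.Modules.pullback (f.fiberι (f y))).mapIso e)
        ⟨(haveI := hcoh.1; EGA43.InjFibre.isQCoh_pullback (f.fiberι (f y)) _),
          Coherent.isFT_pullback_qcoh (f.fiberι (f y)) hcoh.1 hcoh.2⟩) z
    exact hasSk_of_cm hcm k
  · haveI : Nontrivial ((DerSch.stalkFunctor Y y).obj (DCoh.HD (a.obj O).obj (-(d : ℤ)))) := hsupp y
    exact not_subsingleton_iff_nontrivial.2 ((DerSch.stalkFunctor Y y).mapIso e).toLinearEquiv.symm.toEquiv.nontrivial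

end Groth.Agent.DualLib.RelTop
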