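import Groth.Agent.H8Lim.NoetherianModel
import Groth.Agent.S1342
import Groth.Agent.S4961
import Groth.Agent.AlgSpLib.RelDimLocus
import Groth.Agent.AlgSpLib.LocalDimChart
import Groth.Agent.FlatMor12.CMFibreDim
import Groth.Agent.DualLib.ShriekCM

/-!
# A Noetherian model of a proper Cohen–Macaulay morphism of pure relative dimension
-/

set_option autoImplicit false
set_option backward.isDefEq.respectTransparency false
set_option backward.defeqAttrib.useBackward true
set_option linter.style.haveILetI false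
set_option maxHeartbeats 800000

universe u

open CategoryTheory CategoryTheory.Limits AlgebraicGeometry

namespace Groth.Agent.DualLib.RelTop

open Groth.Agent Groth.Agent.FlatMor12 DimLib EGA43.FibDepth

/-- The points where a morphism is Cohen–Macaulay of given relative dimension form an open set. -/
theorem isOpen_cm_dim {X Y : Scheme.{u}} (f : X ⟶ Y) [LocallyOfFinitePresentation f] [Flat f] (n : ℕ) :
    IsOpen {x : X | MoreMor.IsCMAt f x ∧ FlatMor.fibreDimAt f x = (n : WithBot ℕ∞)} := by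
  refine isOpen_iff_forall_mem_open.2 fun x hx => ?_
  have hflat : FlatMod.IsFlatOver f (Coh.structureModule X) := fun x =>
    (isFlatOverAt_structureModule f x).2 (Flat.stalkMap f x)
  refine ⟨({x | MoreMor.IsCMAt f x} ∩ {x | FlatMor.fibreDimAt f x ≤ (n : WithBot ℕ∞)}) ∩
      {x | EGA43.FibDepth.RectifiedDepthGE f (Coh.structureModule X) n (f x) (f.asFiber x)},
    fun z hz => ⟨hz.1.1, fibreDimAt_eq_of_piece f z n hz.1.2 hz.2⟩,
    ((Groth.Agent.S4961.result f).inter (FlatMorDim.isOpen_fibreDimAt_le f n)).inter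
      (EGA43.FibDepth.isOpen_loci f _ (isFP_structureModule X) hflat n).1,
    ⟨⟨hx.1, hx.2.le⟩, rect_of_cm f x hx.1 n hx.2.ge⟩⟩

/-- **Noetherian models.** -/
theorem exists_cm_model {A : Type u} [CommRing A] {X : Scheme.{u}} (f : X ⟶ Spec (CommRingCat.of A))
    [IsProper f] [Flat f] [LocallyOfFinitePresentation f] (hCM : ∀ x : X, MoreMor.IsCMAt f x) (n : ℕ)
    (hd : Cyc.HasRelDim f n) :
    ∃ (A₁ : Type u) (_ : CommRing A₁) (_ : IsNoetherianRing A₁) (φ : A₁ →+* A) (X₁ : Scheme.{u})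
      (f₁ : X₁ ⟶ Spec (CommRingCat.of A₁)) (g : X ⟶ X₁),
      IsProper f₁ ∧ (∀ x, MoreMor.IsCMAt f₁ x) ∧ Cyc.HasRelDim f₁ n ∧
        IsPullback g f f₁ (Spec.map (CommRingCat.ofHom φ)) := by
  obtain ⟨s, X₀, f₀, g, _, _, _, hsq⟩ := H8Lim.exists_noetherian_model_proper_flat f
  let A₀ := H8Lim.fgSub A s
  haveI : IsNoetherianRing ↥A₀ := inferInstanceAs (IsNoetherianRing ↥(H8Lim.fgSub A s))
  let φ₀ : ↥A₀ →+* A := A₀.val.toRingHom
  haveI : ∀ (S : CommRingCat.{u}), PreservesFiniteLimits (tilde.functor S) :=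
    Groth.Agent.AffSchLib.preservesFiniteLimits_tilde
  let good : Set X₀ := {x | MoreMor.IsCMAt f₀ x ∧ FlatMor.fibreDimAt f₀ x = (n : WithBot ℕ∞)}
  have hgood : ∀ x : X, g x ∈ good := fun x => by
    refine ⟨?_, ?_⟩
    · have h := Groth.Agent.S1342.result f₀ f g _ hsq
      exact (Set.ext_iff.1 h x).1 (hCM x)
    · rw [← AlgSpLib.fibreDimAt_baseChange hsq x]
      exact ShriekCM.fibreDimAt_eq_of_components f n hd x
  let B₀ : Set (Spec (CommRingCat.of ↥A₀)) := f₀ '' goodᶜ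
  have hB : IsClosed B₀ := f₀.isClosedMap _ (isOpen_cm_dim f₀ n).isClosed_compl
  let J : Ideal ↥A₀ := PrimeSpectrum.vanishingIdeal B₀
  have hJ : ∀ p : Spec (CommRingCat.of ↥A₀), J ≤ p.asIdeal → p ∈ B₀ := fun p hp => by
    have h1 : p ∈ PrimeSpectrum.zeroLocus (J : Set ↥A₀) := (PrimeSpectrum.mem_zeroLocus p _).2 hp
    exact hB.closure_eq ▸ ((PrimeSpectrum.zeroLocus_vanishingIdeal_eq_closure B₀).subset h1)
  have htop : J.map φ₀ = ⊤ := by
    by_contra hne
    obtain ⟨m, hm, hle⟩ := Ideal.exists_le_maximal _ hne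
    let y : Spec (CommRingCat.of A) := ⟨m, hm.isPrime⟩
    obtain ⟨x₀, hx₀, hxy⟩ := hJ (Spec.map (CommRingCat.ofHom φ₀) y) (Ideal.map_le_iff_le_comap.1 hle)
    obtain ⟨z, hz, -⟩ := Scheme.Pullback.exists_preimage_pullback x₀ y hxy
    refine hx₀ ?_
    have h := hgood (hsq.isoPullback.inv z)
    rw [← Scheme.Hom.comp_apply, hsq.isoPullback_inv_fst] at h
    exact hz ▸ h
  obtain ⟨r, j, hj⟩ := Submodule.fg_iff_exists_fin_generating_family.1 (IsNoetherian.noetherian J)
  have h1 : (1 : A) ∈ Ideal.span (Set.range fun i => φ₀ (j i)) := by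
    have : J.map φ₀ = Ideal.span (Set.range fun i => φ₀ (j i)) := by
      rw [show J = Ideal.span (Set.range j) from hj.symm, Ideal.map_span]
      exact congrArg Ideal.span (Set.range_comp φ₀ j).symm
    rw [← this, htop]
    trivial
  obtain ⟨c, hc⟩ := Ideal.mem_span_range_iff_exists_fun.1 h1
  let P := MvPolynomial (Fin r) ↥A₀
  let rel : P := ∑ i, MvPolynomial.X i * MvPolynomial.C (j i) - 1
  let A₁ : Type u := P ⧸ Ideal.span {rel}
  letI iR : CommRing A₁ := Ideal.Quotient.commRing _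
  haveI : IsNoetherianRing A₁ := inferInstanceAs (IsNoetherianRing (P ⧸ Ideal.span {rel}))
  let ψ : ↥A₀ →+* A₁ := (Ideal.Quotient.mk (Ideal.span {rel})).comp MvPolynomial.C
  have hrel : ∀ a ∈ Ideal.span {rel}, MvPolynomial.eval₂Hom φ₀ c a = 0 := by
    intro a ha
    obtain ⟨b, rfl⟩ := Ideal.mem_span_singleton.1 ha
    have : MvPolynomial.eval₂Hom φ₀ c rel = 0 := by
      simp only [rel, map_sub, map_sum, map_mul, map_one, MvPolynomial.coe_eval₂Hom, MvPolynomial.eval₂_X,
        MvPolynomial.eval₂_C, hc, sub_self]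
    rw [map_mul, this, zero_mul]
  let φ : A₁ →+* A := Ideal.Quotient.lift _ (MvPolynomial.eval₂Hom φ₀ c) hrel
  have hφ : φ.comp ψ = φ₀ := RingHom.ext fun a =>
    (Ideal.Quotient.lift_mk (Ideal.span {rel}) (MvPolynomial.eval₂Hom φ₀ c) hrel).trans (MvPolynomial.eval₂Hom_C φ₀ c a)
  have hJ1 : J.map ψ = ⊤ := by
    rw [Ideal.eq_top_iff_one]
    have h0 : (Ideal.Quotient.mk (Ideal.span {rel})) rel = 0 :=
      Ideal.Quotient.eq_zero_iff_mem.2 (Ideal.mem_span_singleton_self _)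
    have h2 : (1 : A₁) = ∑ i, Ideal.Quotient.mk (Ideal.span {rel}) (MvPolynomial.X i) * ψ (j i) := by
      simp only [rel, map_sub, map_sum, map_mul, map_one, sub_eq_zero] at h0
      exact h0.symm
    rw [h2]
    exact Ideal.sum_mem _ fun i _ => Ideal.mul_mem_left _ _ (Ideal.mem_map_of_mem _ (by
      rw [show J = Ideal.span (Set.range j) from hj.symm]
      exact Ideal.subset_span ⟨i, rfl⟩))
  let q : Spec (CommRingCat.of A₁) ⟶ Spec (CommRingCat.of ↥A₀) := Spec.map (CommRingCat.ofHom (R := ↥A₀) (S := A₁) ψ)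
  have hq : Spec.map (CommRingCat.ofHom φ) ≫ q = Spec.map (CommRingCat.ofHom φ₀) := by
    rw [← Spec.map_comp, ← CommRingCat.ofHom_comp, hφ]
  let f₁ := pullback.snd f₀ q
  let g₁ : X ⟶ pullback f₀ q := pullback.lift g (f ≫ Spec.map (CommRingCat.ofHom φ)) (by
    rw [Category.assoc, hq]
    exact hsq.w)
  have hsq₁ : IsPullback g₁ f f₁ (Spec.map (CommRingCat.ofHom φ)) :=
    IsPullback.of_right (by rw [pullback.lift_fst, hq]; exact hsq) (pullback.lift_snd _ _ _)
      (IsPullback.of_hasPullback f₀ q)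
  have hx : ∀ x : ↑(pullback f₀ q), pullback.fst f₀ q x ∈ good := fun x => by
    by_contra hb
    have hmem : f₀ (pullback.fst f₀ q x) ∈ B₀ := ⟨_, hb, rfl⟩
    have hle : J ≤ (f₀ (pullback.fst f₀ q x)).asIdeal := fun a ha =>
      (PrimeSpectrum.mem_vanishingIdeal _ _).1 ha _ hmem
    rw [← Scheme.Hom.comp_apply, pullback.condition, Scheme.Hom.comp_apply] at hle
    have : J.map ψ ≤ (pullback.snd f₀ q x).asIdeal := Ideal.map_le_iff_le_comap.2 hle
    rw [hJ1, top_le_iff] at this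
    exact (pullback.snd f₀ q x).isPrime.ne_top this
  refine ⟨A₁, inferInstance, inferInstance, φ, pullback f₀ q, f₁, g₁, inferInstance, fun x => ?_,
    AlgSpLib.hasRelDim_of_fibreDimAt f₁ fun x => ?_, hsq₁⟩
  · exact (Set.ext_iff.1 (Groth.Agent.S1342.result f₀ f₁ (pullback.fst f₀ q) q
      (IsPullback.of_hasPullback f₀ q)) x).2 (hx x).1
  · rw [AlgSpLib.fibreDimAt_baseChange (IsPullback.of_hasPullback f₀ q) x]
    exact (hx x).2

end Groth.Agent.DualLib.RelTop
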