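import Groth.Agent.DualLib.RelTop.CechTrace
import Groth.Agent.DualLib.RelTop.EndLocal
import Groth.Agent.DualLib.RelTop.Result
import Groth.Agent.DualLib.RelTop.TraceModel
import Groth.Agent.QCohLoc.Basic
import Groth.Agent.SerreDual.LocFreeCriterion
import Groth.Agent.Coherent.ProperFinite
import Groth.Agent.EGA43.InjFibre.Scheme

/-!
# Functionals on top cohomology at a point with only scalar functions on its fibre
-/

set_option autoImplicit false
set_option backward.isDefEq.respectTransparency false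
set_option linter.style.haveILetI false
set_option linter.unusedSectionVars false
set_option synthInstance.maxHeartbeats 200000
set_option maxHeartbeats 1000000

universe u

open CategoryTheory CategoryTheory.Limits AlgebraicGeometry Opposite TopologicalSpace
open Groth.Agent.Coherent Groth.Agent.Coherent.CohBC Groth.Agent.PicLib Groth.Agent.AmpleLib
open Groth.Agent.DualLib.RelTop.CechPush Groth.Agent.DualLib.RelTop.CechTrace

attribute [local instance] HasDerivedCategory.standard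

namespace Groth.Agent.DualLib.RelTop.CechFibre

theorem isQCoh_pf {X' X : Scheme.{u}} (g : X' ⟶ X) [QuasiCompact g] [QuasiSeparated g] (M : X'.Modules)
    [Coh.IsQCoh M] : Coh.IsQCoh ((Scheme.Modules.pushforward g).obj M) :=
  Coherent.isQCoh_push g M

/-- Cohen–Macaulay morphisms of pure relative dimension are stable under base change. -/
theorem cm_baseChange {X' X S' S : Scheme.{u}} {p : X' ⟶ X} {f' : X' ⟶ S'} {f : X ⟶ S} {q : S' ⟶ S}
    (hsq : IsPullback p f' f q) [Flat f] [LocallyOfFinitePresentation f] [LocallyOfFinitePresentation f']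
    (hCM : ∀ x, MoreMor.IsCMAt f x) (n : ℕ) (hd : Cyc.HasRelDim f n) :
    (∀ x, MoreMor.IsCMAt f' x) ∧ Cyc.HasRelDim f' n := by
  haveI : ∀ (S : CommRingCat.{u}), PreservesFiniteLimits (tilde.functor S) :=
    Groth.Agent.AffSchLib.preservesFiniteLimits_tilde
  refine ⟨fun x => (Set.ext_iff.1 (Groth.Agent.S1342.result f f' p q hsq) x).2 (hCM _),
    AlgSpLib.hasRelDim_of_fibreDimAt f' fun x => ?_⟩
  rw [AlgSpLib.fibreDimAt_baseChange hsq x]
  exact ShriekCM.fibreDimAt_eq_of_components f n hd _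

/-- Endomorphisms which are scalars on stalks are multiplications by global functions. -/
theorem exists_scalar {X : Scheme.{u}} (ω : X.Modules) (hω : Coh.IsCoh ω)
    (hend : ∀ z : X, Function.Bijective fun r : X.presheaf.stalk z => r •
      (LinearMap.id : ω.presheaf.stalk z →ₗ[X.presheaf.stalk z] ω.presheaf.stalk z))
    (φ : ω ⟶ ω) : ∃ r : Γ(X, ⊤), φ = Formal.smulModΓ ω r := by
  haveI := hω.1
  choose a ha using fun z => (hend z).2 ((DerSch.stalkFunctor X z).map φ).hom
  have hpt : ∀ z : X, ∃ (V : X.Opens) (_ : z ∈ V) (r : Γ(X, V)), ∀ w (hw : w ∈ V), X.presheaf.germ V w hw r = a w := by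
    intro z
    obtain ⟨V₀, hV₀, r, hr⟩ := X.presheaf.exists_germ_eq (a z)
    obtain ⟨U, hU, hzU, hUV⟩ := exists_isAffineOpen_mem_and_subset hV₀
    let r₁ : Γ(X, U) := X.presheaf.map (homOfLE hUV).op r
    haveI := Coherent.finite_sections ω (Coherent.locallyFinGen_of_isFT ω hω.2) hU
    obtain ⟨m, s, hs⟩ := Module.Finite.exists_fin (R := Γ(X, U)) (M := Γ(ω, U))
    have h0 : ∀ i, ω.presheaf.germ U z hzU (φ.app U (s i) - r₁ • s i) = 0 := fun i => by
      have hr1 : X.presheaf.germ U z hzU r₁ = a z := (TopCat.Presheaf.germ_res_apply _ _ _ _ r).trans hr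
      rw [map_sub, sub_eq_zero, QCohLoc.germ_smul' ω hzU, ← SerreDual.stalkMap_germ' φ hzU, hr1]
      exact (LinearMap.congr_fun (ha z) _).symm
    choose f hf hf0 using fun i => QCohLoc.exists_smul_eq_zero_of_germ ω hU hzU _ (h0 i)
    let V : X.Opens := U ⊓ Finset.univ.inf fun i => X.basicOpen (f i)
    refine ⟨V, ⟨hzU, ?_⟩, X.presheaf.map (homOfLE (inf_le_left : V ≤ U)).op r₁, fun w hw => (hend w).1 ?_⟩
    · rw [SetLike.mem_coe, ← SetLike.mem_coe, TopologicalSpace.Opens.coe_finset_inf]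
      simpa using hf
    have hwU : w ∈ U := hw.1
    show X.presheaf.germ V w hw _ • LinearMap.id = a w • LinearMap.id
    rw [show a w • (LinearMap.id : ω.presheaf.stalk w →ₗ[X.presheaf.stalk w] ω.presheaf.stalk w) =
      ((DerSch.stalkFunctor X w).map φ).hom from ha w, TopCat.Presheaf.germ_res_apply]
    refine LinearMap.ext fun q => ?_
    obtain ⟨g, t, hg, hgt⟩ := QCohLoc.exists_smul_stalk_eq_germ ω hU hwU q
    rw [Scheme.mem_basicOpen _ _ _ hwU] at hg
    have key : ∀ y : Γ(ω, U), ((DerSch.stalkFunctor X w).map φ).hom (ω.presheaf.germ U w hwU y) =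
        X.presheaf.germ U w hwU r₁ • ω.presheaf.germ U w hwU y := by
      intro y
      have hy : y ∈ Submodule.span Γ(X, U) (Set.range s) := hs.ge trivial
      induction hy using Submodule.span_induction with
      | mem y hy =>
        obtain ⟨i, rfl⟩ := hy
        have hu : IsUnit (X.presheaf.germ U w hwU (f i)) := by
          rw [← Scheme.mem_basicOpen]
          exact (Finset.inf_le (f := fun j => X.basicOpen (f j)) (Finset.mem_univ i)) hw.2
        have h1 := congrArg (ω.presheaf.germ U w hwU) (hf0 i)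
        rw [QCohLoc.germ_smul' ω hwU, map_zero, hu.smul_eq_zero, map_sub, sub_eq_zero, QCohLoc.germ_smul' ω hwU] at h1
        rw [SerreDual.stalkMap_germ' φ hwU, h1]
      | zero => rw [map_zero]; exact (map_zero _).trans (smul_zero _).symm
      | add y y' _ _ hy hy' =>
        rw [map_add]
        exact (map_add _ _ _).trans ((congrArg₂ (· + ·) hy hy').trans (smul_add _ _ _).symm)
      | smul c y _ hy =>
        rw [QCohLoc.germ_smul' ω hwU]
        exact (map_smul _ _ _).trans ((congrArg _ hy).trans (smul_comm _ _ _))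
    refine hg.smul_left_cancel.1 ?_
    refine Eq.trans ?_ (map_smul ((DerSch.stalkFunctor X w).map φ).hom (X.presheaf.germ U w hwU g) q)
    show X.presheaf.germ U w hwU g • (X.presheaf.germ U w hwU r₁ • q) = _
    rw [smul_comm, hgt]
    exact (key t).symm
  choose V hzV r hr using hpt
  have hcomp : TopCat.Presheaf.IsCompatible X.presheaf V r := fun i j =>
    TopCat.Presheaf.section_ext X.sheaf _ _ _ fun w hw => by
      erw [TopCat.Presheaf.germ_res_apply, TopCat.Presheaf.germ_res_apply]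
      exact (hr i w hw.1).trans (hr j w hw.2).symm
  obtain ⟨R, hR, -⟩ := X.sheaf.existsUnique_gluing' V ⊤ (fun z => homOfLE le_top)
    (fun z _ => Opens.mem_iSup.2 ⟨z, hzV z⟩) r hcomp
  refine ⟨R, Scheme.Modules.hom_ext _ _ fun W => ?_⟩
  ext s
  refine TopCat.Presheaf.section_ext ⟨ω.presheaf, ω.isSheaf⟩ W _ _ fun w hw => ?_
  show ω.presheaf.germ W w hw (φ.app W s) =
    ω.presheaf.germ W w hw ((X.presheaf.map (homOfLE (le_top : W ≤ ⊤)).op R) • s)
  rw [← SerreDual.stalkMap_germ' φ hw, QCohLoc.germ_smul' ω hw, TopCat.Presheaf.germ_res_apply, ← ha w]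
  have : X.presheaf.germ ⊤ w trivial R = a w := by
    rw [← hr w w (hzV w), ← hR w]
    exact (TopCat.Presheaf.germ_res_apply _ _ _ _ R).symm
  rw [this]
  rfl

/-- **Functionals at a point whose fibre has only constant functions are proportional.** -/
theorem exists_coeff (A : Type u) [CommRing A] [IsNoetherianRing A] (Y : Scheme.{u})
    [Y.Over (Spec (CommRingCat.of A))] [IsProper (Y ↘ Spec (CommRingCat.of A))] (d : ℕ)
    (hCM : ∀ y : Y, MoreMor.IsCMAt (Y ↘ Spec (CommRingCat.of A)) y)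
    (hd : Cyc.HasRelDim (Y ↘ Spec (CommRingCat.of A)) d) (ω : Y.Modules)
    (hω : RelCanon.IsDualizingSheaf A Y d ω) (hcoh : Coh.IsCoh ω) (t : Spec (CommRingCat.of A))
    (φ : A →+* (Spec (CommRingCat.of A)).residueField t)
    (he : Spec.map (CommRingCat.ofHom φ) = (Spec (CommRingCat.of A)).fromSpecResidueField t)
    (hΓ : Function.Bijective ((Y ↘ Spec (CommRingCat.of A)).fiberToSpecResidueField t).appTop)
    (ℓ₁ ℓ₂ : Coh.HH Y ω d →+ (Spec (CommRingCat.of A)).residueField t) (h₁ : ∀ r x, ℓ₁ (r • x) = φ r * ℓ₁ x) (h₂ : ∀ r x, ℓ₂ (r • x) = φ r * ℓ₂ x)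
    (x₀ : Coh.HH Y ω d) (hx₀ : ℓ₂ x₀ ≠ 0) : ∀ x, ℓ₁ x * ℓ₂ x₀ = ℓ₁ x₀ * ℓ₂ x := by
  classical
  haveI : ∀ (U V : Scheme.{u}) (j : U ⟶ V) [IsOpenImmersion j],
      PreservesFiniteLimits (Scheme.Modules.restrictFunctor j) := fun U V j _ =>
    DCat.PullPerf.preservesFiniteLimits_restrict j
  let f := Y ↘ Spec (CommRingCat.of A)
  haveI : IsNoetherianRing (CommRingCat.of A) := ‹IsNoetherianRing A›
  haveI : LocallyOfFinitePresentation f := LocallyOfFinitePresentation.iff_locallyOfFiniteType.2 inferInstance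
  obtain ⟨⟨hfl, hfib, -⟩, -, -⟩ := package A Y d hCM hd ω hω
  let k := (Spec (CommRingCat.of A)).residueField t
  let Y' := f.fiber t
  letI : Y'.Over (Spec (CommRingCat.of k)) := ⟨f.fiberToSpecResidueField t⟩
  have hsq : IsPullback (f.fiberι t) (Y' ↘ Spec (CommRingCat.of k)) f (Spec.map (CommRingCat.ofHom φ)) := by
    rw [he]
    exact IsPullback.of_hasPullback f _
  haveI : IsProper (Y' ↘ Spec (CommRingCat.of k)) := MorphismProperty.of_isPullback hsq ‹IsProper f›
  haveI : LocallyOfFinitePresentation (Y' ↘ Spec (CommRingCat.of k)) := MorphismProperty.of_isPullback hsq ‹_›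
  haveI : Flat f := Flat.of_stalkMap _ fun x => (hCM x).1
  obtain ⟨hCM', hd'⟩ := cm_baseChange hsq hCM d hd
  haveI : Flat (Y' ↘ Spec (CommRingCat.of k)) := Flat.of_stalkMap _ fun x => (hCM' x).1
  let ι := f.fiberι t
  haveI : IsAffineHom ι := MorphismProperty.IsStableUnderBaseChange.of_isPullback
    (P := @IsAffineHom) hsq.flip inferInstance
  haveI := hcoh.1
  let ωt := (Scheme.Modules.pullback ι).obj ω
  haveI : Coh.IsQCoh ωt := EGA43.InjFibre.isQCoh_pullback ι ω
  haveI := isQCoh_pf ι ωt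
  have hcoht : Coh.IsCoh ωt := ⟨‹_›, Coherent.isFT_pullback_qcoh ι hcoh.1 hcoh.2⟩
  obtain ⟨ι', _, W, hcov, hW⟩ := exists_affine_cover A Y
  have hdim : ∀ y, topologicalKrullDim ↥(f.fiber y) ≤ (d : WithBot ℕ∞) := fun y => fibre_dim_le f d hd y
  obtain ⟨g₁, hg₁⟩ := exists_extension φ ι hsq W hcov hW d hdim ω hfl ℓ₁ h₁
  obtain ⟨g₂, hg₂⟩ := exists_extension φ ι hsq W hcov hW d hdim ω hfl ℓ₂ h₂
  -- duality on the fibre
  have hωt : RelCanon.IsDualizingSheaf k Y' d ωt := hfib t
  obtain ⟨tr, -, hb⟩ := hωt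
  have hend := fun z => bijective_end_stalk k Y' d hd' ωt ⟨tr, ‹_›, hb⟩ z (hCM' z)
  have hΓ' : Function.Surjective (Coh.toGlobal (Y' ↘ Spec (CommRingCat.of k))) :=
    hΓ.2.comp (Scheme.ΓSpecIso (CommRingCat.of k)).commRingCatIsoToRingEquiv.symm.surjective
  have hscal : ∀ ψ : ωt ⟶ ωt, ∃ c : k, ∀ x, tr (Canon.HHlin k ψ d x) = c * tr x := by
    intro ψ
    obtain ⟨R, rfl⟩ := exists_scalar ωt hcoht hend ψ
    obtain ⟨c, rfl⟩ := hΓ' R
    refine ⟨c, fun x => ?_⟩
    have := smul_eq_sca ι W d ωt c x (hcov' φ ι hsq W hcov) (hW' φ ι hsq W hW)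
    rw [← smul_eq_mul, ← map_smul, this]
    rfl
  obtain ⟨ψ₁, hψ₁⟩ := (hb ωt ‹_›).2 g₁
  obtain ⟨ψ₂, hψ₂⟩ := (hb ωt ‹_›).2 g₂
  obtain ⟨c₁, hc₁⟩ := hscal ψ₁
  obtain ⟨c₂, hc₂⟩ := hscal ψ₂
  have e₁ : ∀ x, ℓ₁ x = c₁ * tr (β φ ι hsq W hcov hW d ω x) := fun x =>
    (hg₁ x).symm.trans ((LinearMap.congr_fun hψ₁ _).symm.trans (hc₁ _))
  have e₂ : ∀ x, ℓ₂ x = c₂ * tr (β φ ι hsq W hcov hW d ω x) := fun x =>
    (hg₂ x).symm.trans ((LinearMap.congr_fun hψ₂ _).symm.trans (hc₂ _))
  intro x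
  rw [e₁ x, e₁ x₀, e₂ x, e₂ x₀]
  ring

end Groth.Agent.DualLib.RelTop.CechFibre
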