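import Groth.Agent.Coherent.CohBC.BaseChange
import Groth.Agent.CAlgH.TorIsoModules

/-!
# Čech classes along the projection of a base change
-/

set_option autoImplicit false
set_option backward.isDefEq.respectTransparency false
set_option linter.style.haveILetI false
set_option linter.unusedSectionVars false
set_option synthInstance.maxHeartbeats 200000
set_option maxHeartbeats 1000000

universe u

open CategoryTheory CategoryTheory.Limits AlgebraicGeometry Opposite TopologicalSpace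
open Groth.Agent.Coherent Groth.Agent.Coherent.CohBC Groth.Agent.PicLib Groth.Agent.AmpleLib
open Groth.Agent.CAlgH.TorIsoModules (cls cls_surjective cls_eq_zero_iff cls_map)

namespace Groth.Agent.DualLib.RelTop.CechPush

section Classes

variable (A : Type u) [CommRing A] {X : Scheme.{u}} [X.Over (Spec (CommRingCat.of A))]
  {ι : Type u} [Finite ι] (W : ι → X.Opens) (hcov : ⨆ i, W i = ⊤)
  (hW : ∀ (p : ℕ) (a : Fin (p + 1) → ι), IsAffineOpen (cinter W a)) (n : ℕ)

/-- Cocycles. -/
noncomputable abbrev cocy (M : X.Modules) : Submodule A ((cxA A W M).X n) := LinearMap.ker ((cxA A W M).d n (n + 1)).hom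

/-- The cohomology class of a cocycle. -/
noncomputable def hcls (M : X.Modules) [Coh.IsQCoh M] : cocy A W n M →ₗ[A] Coh.HH X M n :=
  (hhCech A W hcov hW M n).symm.toLinearMap ∘ₗ cls (CochainComplex.next ℕ n)

theorem hcls_surjective (M : X.Modules) [Coh.IsQCoh M] : Function.Surjective (hcls A W hcov hW n M) :=
  (hhCech A W hcov hW M n).symm.surjective.comp (cls_surjective _)

theorem hcls_eq_zero_iff (M : X.Modules) [Coh.IsQCoh M] (c : cocy A W n M) :
    hcls A W hcov hW n M c = 0 ↔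
      (c : (cxA A W M).X n) ∈ LinearMap.range ((cxA A W M).d ((ComplexShape.up ℕ).prev n) n).hom :=
  (hhCech A W hcov hW M n).symm.map_eq_zero_iff.trans (cls_eq_zero_iff rfl _ c)

theorem cocy_map {M N : X.Modules} (φ : M ⟶ N) (c : cocy A W n M) :
    (cxMapA A W φ).f n (c : (cxA A W M).X n) ∈ cocy A W n N := by
  rw [LinearMap.mem_ker]
  show ((cxMapA A W φ).f n ≫ (cxA A W N).d n (n + 1)) _ = 0
  rw [(cxMapA A W φ).comm, CategoryTheory.comp_apply, show (cxA A W M).d n (n + 1) (c : (cxA A W M).X n) = 0 from c.2,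
    map_zero]

theorem hmap_hcls {M N : X.Modules} [Coh.IsQCoh M] [Coh.IsQCoh N] (φ : M ⟶ N) (c : cocy A W n M) :
    Sheaf.H.map ((SheafOfModules.toSheaf X.ringCatSheaf).map φ) n (hcls A W hcov hW n M c) =
      hcls A W hcov hW n N ⟨(cxMapA A W φ).f n (c : (cxA A W M).X n), cocy_map A W n φ c⟩ := by
  apply (hhCech A W hcov hW N n).injective
  refine (hhCech_naturality A W hcov hW φ n _).trans ?_
  rw [hcls, LinearMap.comp_apply, LinearEquiv.coe_coe, LinearEquiv.apply_symm_apply, hcls, LinearMap.comp_apply,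
    LinearEquiv.coe_coe, LinearEquiv.apply_symm_apply]
  exact cls_map _ _ c _

end Classes

section Push

variable {A B : Type u} [CommRing A] [CommRing B] (φ : A →+* B) {X' X : Scheme.{u}}
  [X'.Over (Spec (CommRingCat.of B))] [X.Over (Spec (CommRingCat.of A))] (g : X' ⟶ X)
  (h : IsPullback g (X' ↘ Spec (CommRingCat.of B)) (X ↘ Spec (CommRingCat.of A))
    (Spec.map (CommRingCat.ofHom φ)))
  {ι : Type u} [Finite ι] (W : ι → X.Opens) (hcov : ⨆ i, W i = ⊤)
  (hW : ∀ (p : ℕ) (a : Fin (p + 1) → ι), IsAffineOpen (cinter W a)) (n : ℕ)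

/-- Cochains of a module are those of its direct image. -/
noncomputable def pX (M : X'.Modules) (p : ℕ) :
    (∀ a : Fin (p + 1) → ι, Γ(M, cinter (fun i => g ⁻¹ᵁ W i) a)) ≃+
      (∀ a : Fin (p + 1) → ι, Γ((Scheme.Modules.pushforward g).obj M, cinter W a)) :=
  AddEquiv.piCongrRight fun a =>
    AddEquiv.ofBijective (resM M (cinter_pull g W a).ge) (resM_bijective_of_eq M _ (cinter_pull g W a))

theorem pX_apply (M : X'.Modules) (p : ℕ) (x : ∀ a : Fin (p + 1) → ι, Γ(M, cinter (fun i => g ⁻¹ᵁ W i) a))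
    (a : Fin (p + 1) → ι) : pX g W M p x a = resM M (cinter_pull g W a).ge (x a) := rfl

theorem pX_d (M : X'.Modules) (p : ℕ) (x : ∀ a : Fin (p + 1) → ι, Γ(M, cinter (fun i => g ⁻¹ᵁ W i) a)) :
    cxD A W ((Scheme.Modules.pushforward g).obj M) p (pX g W M p x) =
      pX g W M (p + 1) (cxD B (fun i => g ⁻¹ᵁ W i) M p x) := by
  funext a
  show ∑ j : Fin (p + 2), (-1 : ℤ) ^ (j : ℕ) • resM M (g.preimage_mono (cinter_face W a j)) _ =
    resM M (cinter_pull g W a).ge (∑ j : Fin (p + 2), (-1 : ℤ) ^ (j : ℕ) •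
      resM M (cinter_face (fun i => g ⁻¹ᵁ W i) a j) (x (a ∘ j.succAbove)))
  rw [map_sum]
  refine Finset.sum_congr rfl fun j _ => ?_
  rw [map_zsmul, pX_apply, resM_resM, resM_resM]

include h in
theorem pX_smul (M : X'.Modules) (p : ℕ) (r : A) (x : ∀ a : Fin (p + 1) → ι, Γ(M, cinter (fun i => g ⁻¹ᵁ W i) a)) :
    pX g W M p (φ r • x) = r • pX g W M p x := by
  funext a
  rw [pX_apply, Pi.smul_apply, resM_smulA]
  show _ = g.app (cinter W a) (toΓ A (cinter W a) r) • (resM M (cinter_pull g W a).ge (x a) : Γ(M, g ⁻¹ᵁ cinter W a))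
  rw [toΓ_pull φ g h]
  rfl

theorem pX_map {M N : X'.Modules} (χ : M ⟶ N) (p : ℕ) (x : ∀ a : Fin (p + 1) → ι, Γ(M, cinter (fun i => g ⁻¹ᵁ W i) a)) :
    cxMapX A W ((Scheme.Modules.pushforward g).map χ) p (pX g W M p x) =
      pX g W N p (cxMapX B (fun i => g ⁻¹ᵁ W i) χ p x) :=
  funext fun _ => app_resM χ _ _

theorem mem_cocy_pX_iff (M : X'.Modules) (x : (cxA B (fun i => g ⁻¹ᵁ W i) M).X n) :
    (pX g W M n x : (cxA A W ((Scheme.Modules.pushforward g).obj M)).X n) ∈
      cocy A W n ((Scheme.Modules.pushforward g).obj M) ↔ x ∈ cocy B (fun i => g ⁻¹ᵁ W i) n M := by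
  rw [LinearMap.mem_ker, LinearMap.mem_ker, cxA_d, cxA_d]
  show cxD A W _ n (pX g W M n x) = 0 ↔ cxD B _ M n x = 0
  rw [pX_d (B := B), (pX g W M (n + 1)).map_eq_zero_iff]

theorem mem_bound_pX_iff (M : X'.Modules) (x : (cxA B (fun i => g ⁻¹ᵁ W i) M).X n) :
    (pX g W M n x : (cxA A W ((Scheme.Modules.pushforward g).obj M)).X n) ∈
        LinearMap.range ((cxA A W ((Scheme.Modules.pushforward g).obj M)).d ((ComplexShape.up ℕ).prev n) n).hom ↔
      x ∈ LinearMap.range ((cxA B (fun i => g ⁻¹ᵁ W i) M).d ((ComplexShape.up ℕ).prev n) n).hom := by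
  cases n with
  | zero =>
    rw [CochainComplex.prev_nat_zero, (cxA A W _).shape 0 0 (by simp), (cxA B _ M).shape 0 0 (by simp)]
    simp only [ModuleCat.hom_zero, LinearMap.range_zero, Submodule.mem_bot]
    exact (pX g W M 0).map_eq_zero_iff
  | succ m =>
    rw [CochainComplex.prev_nat_succ, cxA_d, cxA_d]
    refine ⟨fun ⟨y, hy⟩ => ?_, fun ⟨y, hy⟩ => ⟨pX g W M m y, ?_⟩⟩
    · obtain ⟨y', rfl⟩ := (pX g W M m).surjective y
      exact ⟨y', (pX g W M (m + 1)).injective ((pX_d (A := A) (B := B) g W M m y').symm.trans hy)⟩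
    · exact (pX_d (A := A) (B := B) g W M m y).trans (congrArg (pX g W M (m + 1)) hy)

/-- Cocycles as cocycles of the direct image. -/
noncomputable def pZ (M : X'.Modules) :
    cocy B (fun i => g ⁻¹ᵁ W i) n M →+ cocy A W n ((Scheme.Modules.pushforward g).obj M) where
  toFun c := ⟨pX g W M n c.1, (mem_cocy_pX_iff (A := A) (B := B) g W n M c.1).2 c.2⟩
  map_zero' := Subtype.ext (map_zero (pX g W M n))
  map_add' c c' := Subtype.ext (map_add (pX g W M n) c.1 c'.1)

theorem pZ_surjective (M : X'.Modules) : Function.Surjective (pZ (A := A) (B := B) g W n M) := fun c => by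
  obtain ⟨x, hx⟩ := (pX g W M n).surjective c.1
  exact ⟨⟨x, (mem_cocy_pX_iff (A := A) (B := B) g W n M x).1 (by rw [hx]; exact c.2)⟩, Subtype.ext hx⟩

include h hcov in
theorem hcov' : ⨆ i, g ⁻¹ᵁ W i = ⊤ := by
  rw [← Scheme.Hom.preimage_iSup, hcov, Scheme.Hom.preimage_top]

include h hW in
theorem hW' (p : ℕ) (a : Fin (p + 1) → ι) : IsAffineOpen (cinter (fun i => g ⁻¹ᵁ W i) a) := by
  haveI : IsAffineHom g := MorphismProperty.IsStableUnderBaseChange.of_isPullback
    (P := @IsAffineHom) h.flip inferInstance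
  rw [cinter_pull]
  exact (hW p a).preimage g

/-- Classes upstairs. -/
noncomputable def hclsU (M : X'.Modules) [Coh.IsQCoh M] : cocy B (fun i => g ⁻¹ᵁ W i) n M →ₗ[B] Coh.HH X' M n :=
  hcls B (fun i => g ⁻¹ᵁ W i) (hcov' φ g h W hcov) (hW' φ g h W hW) n M

/-- Classes downstairs of cocycles upstairs. -/
noncomputable def hclsD (M : X'.Modules) [Coh.IsQCoh ((Scheme.Modules.pushforward g).obj M)] :
    cocy B (fun i => g ⁻¹ᵁ W i) n M →+ Coh.HH X ((Scheme.Modules.pushforward g).obj M) n :=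
  (hcls A W hcov hW n _).toAddMonoidHom.comp (pZ (A := A) (B := B) g W n M)

theorem ker_eq (M : X'.Modules) [Coh.IsQCoh M] [Coh.IsQCoh ((Scheme.Modules.pushforward g).obj M)] :
    (hclsU φ g h W hcov hW n M).toAddMonoidHom.ker = (hclsD (A := A) (B := B) g W hcov hW n M).ker := by
  ext c
  exact (hcls_eq_zero_iff B (fun i => g ⁻¹ᵁ W i) (hcov' φ g h W hcov) (hW' φ g h W hW) n M c).trans
    ((mem_bound_pX_iff (A := A) (B := B) g W n M c.1).symm.trans (hcls_eq_zero_iff A W hcov hW n _ (pZ (A := A) (B := B) g W n M c)).symm)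

/-- Cohomology of a module is that of its direct image. -/
noncomputable def E (M : X'.Modules) [Coh.IsQCoh M] [Coh.IsQCoh ((Scheme.Modules.pushforward g).obj M)] :
    Coh.HH X' M n ≃+ Coh.HH X ((Scheme.Modules.pushforward g).obj M) n :=
  (QuotientAddGroup.quotientKerEquivOfSurjective (hclsU φ g h W hcov hW n M).toAddMonoidHom
    (hcls_surjective B (fun i => g ⁻¹ᵁ W i) (hcov' φ g h W hcov) (hW' φ g h W hW) n M)).symm.trans
    ((QuotientAddGroup.quotientAddEquivOfEq (ker_eq φ g h W hcov hW n M)).trans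
      (QuotientAddGroup.quotientKerEquivOfSurjective (hclsD (A := A) (B := B) g W hcov hW n M)
        ((hcls_surjective A W hcov hW n _).comp (pZ_surjective g W n M))))

theorem E_hcls (M : X'.Modules) [Coh.IsQCoh M] [Coh.IsQCoh ((Scheme.Modules.pushforward g).obj M)]
    (c : cocy B (fun i => g ⁻¹ᵁ W i) n M) :
    E φ g h W hcov hW n M (hclsU φ g h W hcov hW n M c) = hcls A W hcov hW n _ (pZ (A := A) (B := B) g W n M c) := by
  let q₁ := QuotientAddGroup.quotientKerEquivOfSurjective (hclsU φ g h W hcov hW n M).toAddMonoidHom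
    (hcls_surjective B (fun i => g ⁻¹ᵁ W i) (hcov' φ g h W hcov) (hW' φ g h W hW) n M)
  have h1 : q₁.symm (hclsU φ g h W hcov hW n M c) = QuotientAddGroup.mk c := (AddEquiv.symm_apply_eq _).2 rfl
  rw [E, AddEquiv.trans_apply, AddEquiv.trans_apply, h1]
  rfl

theorem E_natural {M N : X'.Modules} [Coh.IsQCoh M] [Coh.IsQCoh N] [Coh.IsQCoh ((Scheme.Modules.pushforward g).obj M)]
    [Coh.IsQCoh ((Scheme.Modules.pushforward g).obj N)] (χ : M ⟶ N) (x : Coh.HH X' M n) :
    E φ g h W hcov hW n N (Sheaf.H.map ((SheafOfModules.toSheaf X'.ringCatSheaf).map χ) n x) =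
      Sheaf.H.map ((SheafOfModules.toSheaf X.ringCatSheaf).map ((Scheme.Modules.pushforward g).map χ)) n
        (E φ g h W hcov hW n M x) := by
  obtain ⟨c, rfl⟩ := hcls_surjective B _ (hcov' φ g h W hcov) (hW' φ g h W hW) n M x
  refine (congrArg (E φ g h W hcov hW n N) (hmap_hcls B _ _ _ n χ c)).trans ?_
  refine (E_hcls φ g h W hcov hW n N _).trans ?_
  refine (congrArg (hcls A W hcov hW n _) ?_).trans ((congrArg _ (E_hcls φ g h W hcov hW n M c)).trans
    (hmap_hcls A W hcov hW n _ (pZ (A := A) (B := B) g W n M c))).symm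
  exact Subtype.ext (pX_map g W χ n c.1).symm

theorem E_smul (M : X'.Modules) [Coh.IsQCoh M] [Coh.IsQCoh ((Scheme.Modules.pushforward g).obj M)] (r : A)
    (x : Coh.HH X' M n) : E φ g h W hcov hW n M (φ r • x) = r • E φ g h W hcov hW n M x := by
  obtain ⟨c, rfl⟩ := hcls_surjective B _ (hcov' φ g h W hcov) (hW' φ g h W hW) n M x
  rw [← map_smul]
  refine (E_hcls φ g h W hcov hW n M _).trans ?_
  refine Eq.trans ?_ (congrArg (r • ·) (E_hcls φ g h W hcov hW n M c)).symm
  rw [← map_smul]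
  exact congrArg _ (Subtype.ext (pX_smul φ g h W M n r c.1))

/-- The unit, as a map into the direct image. -/
noncomputable abbrev eta (F : X.Modules) :
    F ⟶ (Scheme.Modules.pushforward g).obj ((Scheme.Modules.pullback g).obj F) :=
  (Scheme.Modules.pullbackPushforwardAdjunction g).unit.app F

/-- The base change map on cohomology. -/
noncomputable def β (F : X.Modules) [Coh.IsQCoh F] [Coh.IsQCoh ((Scheme.Modules.pullback g).obj F)]
    [Coh.IsQCoh ((Scheme.Modules.pushforward g).obj ((Scheme.Modules.pullback g).obj F))] (x : Coh.HH X F n) :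
    Coh.HH X' ((Scheme.Modules.pullback g).obj F) n :=
  (E φ g h W hcov hW n _).symm
    (Sheaf.H.map ((SheafOfModules.toSheaf X.ringCatSheaf).map
      (eta g F)) n x)

theorem β_smul (F : X.Modules) [Coh.IsQCoh F] [Coh.IsQCoh ((Scheme.Modules.pullback g).obj F)]
    [Coh.IsQCoh ((Scheme.Modules.pushforward g).obj ((Scheme.Modules.pullback g).obj F))] (r : A) (x : Coh.HH X F n) :
    β φ g h W hcov hW n F (r • x) = φ r • β φ g h W hcov hW n F x := by
  apply (E φ g h W hcov hW n _).injective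
  rw [E_smul, β, β, AddEquiv.apply_symm_apply, AddEquiv.apply_symm_apply]
  obtain ⟨c, rfl⟩ := hcls_surjective A W hcov hW n F x
  rw [← map_smul]
  refine (hmap_hcls A W hcov hW n _ (r • c)).trans ?_
  refine Eq.trans ?_ (congrArg (r • ·) (hmap_hcls A W hcov hW n _ c)).symm
  rw [← map_smul]
  exact congrArg _ (Subtype.ext (map_smul ((cxMapA A W _).f n).hom r c.1))

/-- Adjoint maps and the base change map. -/
theorem E_map_β (F : X.Modules) [Coh.IsQCoh F] [Coh.IsQCoh ((Scheme.Modules.pullback g).obj F)]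
    [Coh.IsQCoh ((Scheme.Modules.pushforward g).obj ((Scheme.Modules.pullback g).obj F))] {M : X'.Modules}
    [Coh.IsQCoh M] [Coh.IsQCoh ((Scheme.Modules.pushforward g).obj M)] (χ : (Scheme.Modules.pullback g).obj F ⟶ M)
    (x : Coh.HH X F n) :
    E φ g h W hcov hW n M (Sheaf.H.map ((SheafOfModules.toSheaf X'.ringCatSheaf).map χ) n (β φ g h W hcov hW n F x)) =
      Sheaf.H.map ((SheafOfModules.toSheaf X.ringCatSheaf).map (eta g F ≫ (Scheme.Modules.pushforward g).map χ)) n x := by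
  obtain ⟨c, rfl⟩ := hcls_surjective A W hcov hW n F x
  refine (E_natural φ g h W hcov hW n χ _).trans ?_
  rw [β, AddEquiv.apply_symm_apply, hmap_hcls A W hcov hW n (eta g F) c, hmap_hcls A W hcov hW n _ _,
    hmap_hcls A W hcov hW n (eta g F ≫ (Scheme.Modules.pushforward g).map χ) c]
  rfl

end Push

end Groth.Agent.DualLib.RelTop.CechPush
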