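import Groth.Agent.DualLib.RelTop.CechPush
import Groth.Agent.DualLib.RelDualizingModule
import Groth.Agent.Coherent.Existence.TwoStep
import Groth.Agent.FlatCxLib.Algebra
import Groth.Agent.Coherent.CohBC.Geom
import Groth.Agent.H8Lim.FibreDimVanish

/-!
# Base change maps on top cohomology: generation, extension of functionals, transitivity
-/

set_option autoImplicit false
set_option backward.isDefEq.respectTransparency false
set_option linter.style.haveILetI false
set_option linter.unusedSectionVars false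
set_option synthInstance.maxHeartbeats 200000
set_option maxHeartbeats 1000000

universe u

open CategoryTheory CategoryTheory.Limits AlgebraicGeometry Opposite TopologicalSpace
open Groth.Agent.Coherent Groth.Agent.Coherent.CohBC Groth.Agent.PicLib Groth.Agent.AmpleLib
open Groth.Agent.DualLib.RelTop.CechPush

namespace Groth.Agent.DualLib.RelTop.CechTrace

open TensorProduct

section Algebra

variable {A : Type u} [CommRing A] (C : CochainComplex (ModuleCat.{u} A) ℕ)

theorem exact_d {i j k : ℕ} (hij : i + 1 = j) (hjk : j + 1 = k) (h : IsZero (C.homology j)) :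
    Function.Exact (C.d i j).hom (C.d j k).hom := by
  have h1 := (C.exactAt_iff_isZero_homology j).mpr h
  rw [C.exactAt_iff' i j k (by subst hij; exact CochainComplex.prev_nat_succ i)
    ((CochainComplex.next ℕ j).trans hjk)] at h1
  exact (ShortComplex.ShortExact.moduleCat_exact_iff_function_exact _).mp h1

/-- `d` onto the cocycles of the next degree. -/
noncomputable def toKer (p : ℕ) : C.X p →ₗ[A] LinearMap.ker (C.d (p + 1) (p + 1 + 1)).hom :=
  (C.d p (p + 1)).hom.codRestrict _ fun x =>
    LinearMap.congr_fun (congrArg ModuleCat.Hom.hom (C.d_comp_d p (p + 1) (p + 1 + 1))) x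

theorem exact_toKer (p : ℕ) :
    Function.Exact (LinearMap.ker (C.d p (p + 1)).hom).subtype (toKer C p) := by
  rw [LinearMap.exact_iff, toKer, LinearMap.ker_codRestrict, Submodule.range_subtype]

theorem toKer_surjective (p : ℕ) (h : IsZero (C.homology (p + 1))) : Function.Surjective (toKer C p) := by
  rintro ⟨y, hy⟩
  obtain ⟨x, hx⟩ := (exact_d C rfl rfl h y).mp hy
  exact ⟨x, Subtype.ext hx⟩

/-- Cocycles commute with base change below a range of universal exactness. -/
theorem exact_lTensor_cocycles (hfl : ∀ i, Module.Flat A (C.X i)) (n : ℕ)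
    (h : ∀ j, n < j → IsZero (C.homology j)) (hu : ∀ (M : ModuleCat.{u} A), IsZero (CohIII.T C (n + 1) M))
    (B : Type u) [AddCommGroup B] [Module A B] :
    Function.Injective ((LinearMap.ker (C.d n (n + 1)).hom).subtype.lTensor B) ∧
      Function.Exact ((LinearMap.ker (C.d n (n + 1)).hom).subtype.lTensor B) ((C.d n (n + 1)).hom.lTensor B) := by
  haveI := hfl n
  haveI := hfl (n + 1)
  haveI : Module.Flat A (LinearMap.ker (C.d (n + 2) (n + 2 + 1)).hom) := by
    haveI := hfl (n + 2)
    let Z2 := LinearMap.ker (C.d (n + 2) (n + 2 + 1)).hom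
    have key : ∀ (M : Type u) [AddCommGroup M] [Module A M], Function.Injective (Z2.subtype.rTensor M) := by
      intro M _ _
      rw [injective_iff_map_eq_zero]
      intro z hz
      obtain ⟨w, rfl⟩ := LinearMap.rTensor_surjective M (toKer_surjective C (n + 1) (h _ (by omega))) z
      rw [rTensor_comp_apply] at hz
      obtain ⟨v, rfl⟩ := (exact_d (CohIII.tensorObj C (ModuleCat.of A M)) (i := n) (j := n + 1) (k := n + 2)
        rfl rfl (hu (ModuleCat.of A M)) w).mp hz
      show (toKer C (n + 1)).rTensor M ((C.d n (n + 1)).hom.rTensor M v) = 0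
      rw [rTensor_comp_apply, show toKer C (n + 1) ∘ₗ (C.d n (n + 1)).hom = 0 from LinearMap.ext fun x =>
        Subtype.ext (LinearMap.congr_fun (congrArg ModuleCat.Hom.hom (C.d_comp_d n (n + 1) (n + 1 + 1))) x),
        LinearMap.rTensor_zero, LinearMap.zero_apply]
    rw [Module.Flat.iff_lTensor_preserves_injective_linearMap]
    intro M N _ _ _ _ f hf
    have hsq : Z2.subtype.rTensor N ∘ₗ f.lTensor _ = f.lTensor (C.X (n + 2)) ∘ₗ Z2.subtype.rTensor M :=
      TensorProduct.ext' fun x m => rfl
    refine Function.Injective.of_comp (f := Z2.subtype.rTensor N) ?_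
    rw [← LinearMap.coe_comp, hsq, LinearMap.coe_comp]
    exact (Module.Flat.lTensor_preserves_injective_linearMap f hf).comp (key M)
  have hs1 := toKer_surjective C (n + 1) (h _ (by omega))
  have i1 := LinearMap.lTensor_injective_of_exact_of_flat (toKer C (n + 1)) hs1
    (LinearMap.ker (C.d (n + 1) (n + 1 + 1)).hom).subtype Subtype.val_injective (exact_toKer C (n + 1)) B
  haveI : Module.Flat A (LinearMap.ker (C.d (n + 1) (n + 1 + 1)).hom) :=
    Groth.Agent.FlatCxLib.flat_of_exact_left _ _ (exact_toKer C (n + 1)) hs1 Subtype.val_injective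
  have hs0 := toKer_surjective C n (h _ (by omega))
  refine ⟨LinearMap.lTensor_injective_of_exact_of_flat (toKer C n) hs0 _ Subtype.val_injective (exact_toKer C n) B, ?_⟩
  have e : (C.d n (n + 1)).hom = (LinearMap.ker (C.d (n + 1) (n + 1 + 1)).hom).subtype ∘ₗ toKer C n := rfl
  intro w
  rw [show (C.d n (n + 1)).hom.lTensor B w =
      (LinearMap.ker (C.d (n + 1) (n + 1 + 1)).hom).subtype.lTensor B ((toKer C n).lTensor B w) by
    rw [← LinearMap.lTensor_comp_apply, ← e], map_eq_zero_iff _ i1]
  exact (_root_.lTensor_exact B (exact_toKer C n) hs0) w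

end Algebra

variable {A B : Type u} [CommRing A] [CommRing B] (φ : A →+* B) {X' X : Scheme.{u}}
  [X'.Over (Spec (CommRingCat.of B))] [X.Over (Spec (CommRingCat.of A))] (g : X' ⟶ X)
  (h : IsPullback g (X' ↘ Spec (CommRingCat.of B)) (X ↘ Spec (CommRingCat.of A))
    (Spec.map (CommRingCat.ofHom φ)))
  {ι : Type u} [Finite ι] (W : ι → X.Opens) (hcov : ⨆ i, W i = ⊤)
  (hW : ∀ (p : ℕ) (a : Fin (p + 1) → ι), IsAffineOpen (cinter W a)) (n : ℕ)

/-- The action of a global scalar on a module. -/
noncomputable abbrev sca (M : X'.Modules) (b : B) : M ⟶ M :=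
  Formal.smulModΓ M (Coh.toGlobal (X' ↘ Spec (CommRingCat.of B)) b)

theorem smul_eq_sca (M : X'.Modules) [Coh.IsQCoh M] (b : B) (x : Coh.HH X' M n)
    (hcov₁ : ⨆ i, g ⁻¹ᵁ W i = ⊤) (hW₁ : ∀ (p : ℕ) (a : Fin (p + 1) → ι), IsAffineOpen (cinter (fun i => g ⁻¹ᵁ W i) a)) :
    b • x = Sheaf.H.map ((SheafOfModules.toSheaf X'.ringCatSheaf).map (sca M b)) n x := by
  obtain ⟨c, rfl⟩ := hcls_surjective B (fun i => g ⁻¹ᵁ W i) hcov₁ hW₁ n M x
  rw [← map_smul]
  refine Eq.trans ?_ (hmap_hcls _ _ _ _ n (sca M b) c).symm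
  exact congrArg _ (Subtype.ext (funext fun a => rfl))

theorem E_smul_β (F : X.Modules) [Coh.IsQCoh F] [Coh.IsQCoh ((Scheme.Modules.pullback g).obj F)]
    [Coh.IsQCoh ((Scheme.Modules.pushforward g).obj ((Scheme.Modules.pullback g).obj F))] (b : B) (y : Coh.HH X F n) :
    E φ g h W hcov hW n ((Scheme.Modules.pullback g).obj F) (b • β φ g h W hcov hW n F y) =
      Sheaf.H.map ((SheafOfModules.toSheaf X.ringCatSheaf).map
        (eta g F ≫ (Scheme.Modules.pushforward g).map (sca ((Scheme.Modules.pullback g).obj F) b))) n y := by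
  rw [smul_eq_sca g W n _ b _ (hcov' φ g h W hcov) (hW' φ g h W hW)]
  exact E_map_β φ g h W hcov hW n F _ y

variable [IsProper (X ↘ Spec (CommRingCat.of A))]
  (hd : ∀ y, topologicalKrullDim ↥((X ↘ Spec (CommRingCat.of A)).fiber y) ≤ n)

include hd in
/-- **The base change map generates top cohomology.** -/
theorem span_range_β (F : X.Modules) [Coh.IsQCoh F] [Coh.IsQCoh ((Scheme.Modules.pullback g).obj F)]
    [Coh.IsQCoh ((Scheme.Modules.pushforward g).obj ((Scheme.Modules.pullback g).obj F))] :
    Submodule.span B (Set.range (β φ g h W hcov hW n F)) = ⊤ := by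
  classical
  let M := (Scheme.Modules.pullback g).obj F
  let T : QCohCat.QCoh X := ⟨(Scheme.Modules.pushforward g).obj M, ‹_›⟩
  let F' : QCohCat.QCoh X := ⟨F, ‹_›⟩
  let S := Submodule.span B (Set.range (β φ g h W hcov hW n F))
  haveI := RelMod.preservesColimits_Hn A hd
  haveI : HasCoproductsOfShape B (QCohCat.QCoh X) := inferInstance
  let θ : B → (F' ⟶ T) := fun b => ObjectProperty.homMk (eta g F ≫ (Scheme.Modules.pushforward g).map (sca M b))
  let Φ : (∐ fun _ : B => F') ⟶ T := Sigma.desc θ
  haveI : Epi Φ := by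
    refine ⟨fun {N} u v huv => ObjectProperty.hom_ext _ (sub_eq_zero.1 ?_)⟩
    haveI : Coh.IsQCoh N.obj := N.property
    haveI : Coh.IsQCoh T.obj := T.property
    have hb : ∀ b, (θ b).hom ≫ u.hom = (θ b).hom ≫ v.hom := fun b => by
      have := congrArg (fun q => Sigma.ι (fun _ : B => F') b ≫ q) huv
      simp only [Φ, colimit.ι_desc_assoc, Cofan.mk_ι_app] at this
      exact congrArg (fun q : F' ⟶ N => q.hom) this
    refine Existence.hom_eq_zero_of_cover W (isAffineOpen_of_cinter W hW) (fun x => ?_) _ fun i t => ?_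
    · have hx : x ∈ (⨆ i, W i : X.Opens) := hcov ▸ trivial
      exact Opens.mem_iSup.1 hx
    let _ := φ.toAlgebra
    obtain ⟨z, rfl⟩ := (bijective_secBC φ g h F (isAffineOpen_of_cinter W hW i)).2 t
    induction z using TensorProduct.induction_on with
    | zero => rw [map_zero]; exact map_zero _
    | add p q hp hq => rw [map_add]; exact (map_add _ _ _).trans (by rw [hp, hq, add_zero])
    | tmul b m =>
      show u.hom.app (W i) ((θ b).hom.app (W i) m) - v.hom.app (W i) ((θ b).hom.app (W i) m) = 0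
      rw [sub_eq_zero]
      exact congr($(hb b).app (W i) m)
  have hsurj : Function.Surjective ((RelMod.Hn A X n).map Φ).hom :=
    (ModuleCat.epi_iff_surjective _).1 inferInstance
  let ST : Submodule A (Coh.HH X T.obj n) :=
    { carrier := {w | (E φ g h W hcov hW n M).symm w ∈ S}
      zero_mem' := by simp only [Set.mem_setOf_eq]; rw [map_zero]; exact S.zero_mem
      add_mem' := fun ha hb => by simp only [Set.mem_setOf_eq] at ha hb ⊢; rw [map_add]; exact S.add_mem ha hb
      smul_mem' := fun r w hw => by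
        show (E φ g h W hcov hW n M).symm (r • w) ∈ S
        rw [show (E φ g h W hcov hW n M).symm (r • w) = φ r • (E φ g h W hcov hW n M).symm w from
          (AddEquiv.symm_apply_eq _).2 (by rw [E_smul, AddEquiv.apply_symm_apply])]
        exact S.smul_mem _ hw }
  have hall : ∀ w, ((RelMod.Hn A X n).map Φ).hom w ∈ ST := by
    have hι : ∀ b (y : Coh.HH X F n), ((RelMod.Hn A X n).map (θ b)).hom y ∈ ST := fun b y => by
      show (E φ g h W hcov hW n M).symm _ ∈ S
      rw [show (E φ g h W hcov hW n M).symm (((RelMod.Hn A X n).map (θ b)).hom y) = b • β φ g h W hcov hW n F y from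
        (AddEquiv.symm_apply_eq _).2 ((RelMod.hmap_eq A (θ b).hom n y).trans (E_smul_β φ g h W hcov hW n F b y).symm)]
      exact S.smul_mem _ (Submodule.subset_span ⟨y, rfl⟩)
    let q : (RelMod.Hn A X n).obj T ⟶ ModuleCat.of A (Coh.HH X T.obj n ⧸ ST) := ModuleCat.ofHom ST.mkQ
    have h0 : (RelMod.Hn A X n).map Φ ≫ q = 0 := by
      refine (isColimitCofanMkObjOfIsColimit (RelMod.Hn A X n) _ _
        (coproductIsCoproduct fun _ : B => F')).hom_ext fun ⟨b⟩ => ?_
      rw [comp_zero]
      show (RelMod.Hn A X n).map (Sigma.ι (fun _ : B => F') b) ≫ (RelMod.Hn A X n).map Φ ≫ q = 0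
      rw [← Functor.map_comp_assoc, show Sigma.ι (fun _ : B => F') b ≫ Φ = θ b from Sigma.ι_desc _ _]
      exact ModuleCat.hom_ext (LinearMap.ext fun y => (Submodule.Quotient.mk_eq_zero _).2 (hι b y))
    exact fun w => (Submodule.Quotient.mk_eq_zero _).1 (ConcreteCategory.congr_hom h0 w)
  refine eq_top_iff.2 fun x _ => ?_
  obtain ⟨w, hw⟩ := hsurj (E φ g h W hcov hW n M x)
  have := hall w
  rw [hw] at this
  have h2 : (E φ g h W hcov hW n M).symm (E φ g h W hcov hW n M x) ∈ S := this
  rwa [AddEquiv.symm_apply_apply] at h2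

include hd in
/-- **Functionals extend along the base change map.** -/
theorem exists_extension [IsNoetherianRing A] (F : X.Modules) [Coh.IsQCoh F]
    [Coh.IsQCoh ((Scheme.Modules.pullback g).obj F)]
    [Coh.IsQCoh ((Scheme.Modules.pushforward g).obj ((Scheme.Modules.pullback g).obj F))]
    (hfl : FlatMod.IsFlatOver (X ↘ Spec (CommRingCat.of A)) F) (γ : Coh.HH X F n →+ B)
    (hγ : ∀ r x, γ (r • x) = φ r * γ x) :
    ∃ γ' : Coh.HH X' ((Scheme.Modules.pullback g).obj F) n →ₗ[B] B, ∀ x, γ' (β φ g h W hcov hW n F x) = γ x := by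
  classical
  let _ := φ.toAlgebra
  haveI : IsSeparated (X ↘ Spec (CommRingCat.of A)) := inferInstance
  let W' := fun i => g ⁻¹ᵁ W i
  let M := (Scheme.Modules.pullback g).obj F
  let C := cxA A W F
  let C' := cxA B W' M
  have hflC : ∀ i, Module.Flat A (C.X i) := flat_cxA W F hfl hW
  have hz : ∀ j, n < j → IsZero (C.homology j) := fun j hj => by
    haveI := H8Lim.subsingleton_HH_of_fibre_dim (X ↘ Spec (CommRingCat.of A)) n hd F j hj
    haveI := (hhCech A W hcov hW F j).symm.toEquiv.subsingleton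
    exact ModuleCat.isZero_of_subsingleton _
  have hu : ∀ N : ModuleCat.{u} A, IsZero (CohIII.T C (n + 1) N) := fun N => by
    haveI : Coh.IsQCoh (CohB1.tensorMod F (pullTilde (X := X) A N)) := Coherent.isQCoh_tensorMod _ _
    haveI := H8Lim.subsingleton_HH_of_fibre_dim (X ↘ Spec (CommRingCat.of A)) n hd
      (CohB1.tensorMod F (pullTilde (X := X) A N)) (n + 1) n.lt_succ_self
    haveI := (hhTensorEquiv W F hW hcov N (n + 1)).symm.toEquiv.subsingleton
    exact ModuleCat.isZero_of_subsingleton _
  obtain ⟨hinj, hex⟩ := exact_lTensor_cocycles C hflC n hz hu B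
  let Z : Submodule A (C.X n) := cocy A W n F
  let e : B ⊗[A] (∀ a : Fin (n + 1) → ι, Γ(F, cinter W a)) ≃ₗ[B] C'.X n :=
    LinearEquiv.ofBijective (cochainBC φ g h W F n) (bijective_cochainBC φ g h W hW F n)
  have hd' : ∀ (p : ℕ) (w : B ⊗[A] (∀ a : Fin (p + 1) → ι, Γ(F, cinter W a))),
      (C'.d p (p + 1)).hom (cochainBC φ g h W F p w) =
        cochainBC φ g h W F (p + 1) (LinearMap.lTensor B (C.d p (p + 1)).hom w) := fun p w =>
    ConcreteCategory.congr_hom ((cxBCIso φ g h W hW F).hom.comm p (p + 1)) w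
  -- cocycles upstairs
  let j : B ⊗[A] Z →ₗ[B] C'.X n := e.toLinearMap ∘ₗ LinearMap.baseChange B Z.subtype
  have hjker : ∀ w, j w ∈ cocy B W' n M := fun w => by
    rw [LinearMap.mem_ker]
    show (C'.d n (n + 1)).hom (cochainBC φ g h W F n (LinearMap.lTensor B Z.subtype w)) = 0
    rw [hd', hex.apply_apply_eq_zero w, map_zero]
  let jZ : B ⊗[A] Z →ₗ[B] cocy B W' n M := j.codRestrict _ hjker
  have hjZ : Function.Bijective jZ := by
    refine ⟨fun a b hab => hinj (e.injective (congrArg (fun c : cocy B W' n M => (c : C'.X n)) hab : j a = j b)), fun c => ?_⟩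
    obtain ⟨w, hw⟩ := e.surjective c.1
    have h0 : LinearMap.lTensor B (C.d n (n + 1)).hom w = 0 := by
      apply (bijective_cochainBC φ g h W hW F (n + 1)).1
      rw [map_zero, ← hd']
      show (C'.d n (n + 1)).hom (e w) = 0
      rw [hw]
      exact c.2
    obtain ⟨v, rfl⟩ := (hex w).1 h0
    exact ⟨v, Subtype.ext hw⟩
  let γZ : Z →ₗ[A] B :=
    { toFun := fun z => γ (hcls A W hcov hW n F z)
      map_add' := fun a b => by rw [map_add, map_add]
      map_smul' := fun r z => by rw [map_smul, hγ, RingHom.id_apply]; rfl }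
  let k : cocy B W' n M →ₗ[B] B :=
    (LinearMap.liftBaseChange B γZ) ∘ₗ (LinearEquiv.ofBijective jZ hjZ).symm.toLinearMap
  have hk : ∀ w, k (jZ w) = LinearMap.liftBaseChange B γZ w := fun w => by
    show LinearMap.liftBaseChange B γZ ((LinearEquiv.ofBijective jZ hjZ).symm (jZ w)) = _
    rw [show (LinearEquiv.ofBijective jZ hjZ).symm (jZ w) = w from (LinearEquiv.ofBijective jZ hjZ).symm_apply_apply w]
  have hker : ∀ c : cocy B W' n M, hclsU φ g h W hcov hW n M c = 0 → k c = 0 := by
    intro c hc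
    have hb := (hcls_eq_zero_iff B W' (hcov' φ g h W hcov) (hW' φ g h W hW) n M c).1 hc
    cases n with
    | zero =>
      obtain ⟨y, hy⟩ := hb
      rw [(cxA B W' M).shape _ _ (by simp)] at hy
      rw [show c = 0 from Subtype.ext hy.symm, map_zero]
    | succ m =>
      rw [CochainComplex.prev_nat_succ] at hb
      obtain ⟨y, hy⟩ := hb
      obtain ⟨v, rfl⟩ := (bijective_cochainBC φ g h W hW F m).2 y
      let t : C.X m →ₗ[A] Z := (C.d m (m + 1)).hom.codRestrict Z fun x =>
        LinearMap.congr_fun (congrArg ModuleCat.Hom.hom (C.d_comp_d m (m + 1) (m + 1 + 1))) x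
      have ht : ∀ x, γZ (t x) = 0 := fun x => by
        show γ (hcls A W hcov hW (m + 1) F (t x)) = 0
        rw [(hcls_eq_zero_iff A W hcov hW (m + 1) F (t x)).2 (by rw [CochainComplex.prev_nat_succ]; exact ⟨x, rfl⟩),
          map_zero]
      have hc' : c = jZ (LinearMap.lTensor B t v) := by
        refine Subtype.ext (hy.symm.trans ((hd' m v).trans ?_))
        show cochainBC φ g h W F (m + 1) (LinearMap.lTensor B (Z.subtype ∘ₗ t) v) =
          cochainBC φ g h W F (m + 1) (LinearMap.lTensor B Z.subtype (LinearMap.lTensor B t v))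
        rw [LinearMap.lTensor_comp_apply]
      rw [hc', hk]
      clear hc' hy
      induction v using TensorProduct.induction_on with
      | zero => simp
      | add p q hp hq => rw [map_add, map_add, hp, hq, add_zero]
      | tmul b x => rw [LinearMap.lTensor_tmul, LinearMap.liftBaseChange_tmul, ht, smul_zero]
  have hs := hcls_surjective B W' (hcov' φ g h W hcov) (hW' φ g h W hW) n M
  let u := hclsU φ g h W hcov hW n M
  let γ' : Coh.HH X' M n →ₗ[B] B :=
    (Submodule.liftQ (LinearMap.ker u) k fun c hc => hker c hc) ∘ₗ (u.quotKerEquivOfSurjective hs).symm.toLinearMap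
  refine ⟨γ', fun x => ?_⟩
  have hγ' : ∀ c, γ' (u c) = k c := fun c => by
    simp only [γ', LinearMap.comp_apply, LinearEquiv.coe_coe]
    rw [show (u.quotKerEquivOfSurjective hs).symm (u c) = Submodule.Quotient.mk c from
      (LinearEquiv.symm_apply_eq _).2 rfl]
    rfl
  obtain ⟨c, rfl⟩ := hcls_surjective A W hcov hW n F x
  have hβ : β φ g h W hcov hW n F (hcls A W hcov hW n F c) = u (jZ ((1 : B) ⊗ₜ[A] (show Z from c))) := by
    apply (E φ g h W hcov hW n M).injective
    rw [β, AddEquiv.apply_symm_apply]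
    refine (hmap_hcls A W hcov hW n (eta g F) c).trans (Eq.trans ?_ (E_hcls φ g h W hcov hW n M _).symm)
    refine congrArg _ (Subtype.ext (funext fun a => ?_))
    show pullSec g (c.1 a) = resM M (cinter_pull g W a).ge (secBCTo φ g h W F a ((1 : B) ⊗ₜ[A] c.1 a))
    rw [secBCTo_tmul, one_smul, resM_resM, resM_refl]
  rw [hβ, hγ', hk, LinearMap.liftBaseChange_tmul, one_smul]
  rfl

end Groth.Agent.DualLib.RelTop.CechTrace
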