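import Groth.Agent.DualLib.RelTop.LiftCrit
import Mathlib.RingTheory.DiscreteValuationRing.Basic
import Mathlib.RingTheory.Flat.EquationalCriterion
import Mathlib.RingTheory.Flat.TorsionFree
import Mathlib.LinearAlgebra.TensorProduct.RightExactness

/-!
# Liftings of duals and flatness of the cokernel of a dualized presentation
-/

set_option autoImplicit false
set_option backward.isDefEq.respectTransparency false
set_option linter.style.haveILetI false
set_option linter.unusedSectionVars false

universe u

open IsLocalRing TensorProduct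

namespace Groth.Agent.DualLib.RelTop

variable {B : Type u} [CommRing B] {n k : ℕ} (ρ : Fin k → (Fin n → B))

/-- The dual of the matrix of relations `ρ`, with values in a module. -/
noncomputable def dualRel (N : Type u) [AddCommGroup N] [Module B N] : (Fin n → N) →ₗ[B] (Fin k → N) :=
  LinearMap.pi fun j => ∑ i, ρ j i • LinearMap.proj i

@[simp] theorem dualRel_apply (N : Type u) [AddCommGroup N] [Module B N] (x : Fin n → N) (j : Fin k) :
    dualRel ρ N x j = ∑ i, ρ j i • x i := by
  simp [dualRel]

variable {P : Type u} [AddCommGroup P] [Module B P] (π : (Fin n → B) →ₗ[B] P) (hπ : Function.Surjective π)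
  (hρ : Submodule.span B (Set.range ρ) = LinearMap.ker π)

include hρ in
/-- Images of the basis under a homomorphism satisfy the dual relations. -/
theorem dualRel_apply_hom {N : Type u} [AddCommGroup N] [Module B N] (h : P →ₗ[B] N) :
    dualRel ρ N (fun i => h (π (Pi.single i 1))) = 0 := by
  funext j
  have h1 : π (ρ j) = 0 := LinearMap.mem_ker.1 (hρ ▸ Submodule.subset_span ⟨j, rfl⟩)
  rw [dualRel_apply, Pi.zero_apply, ← map_zero h, ← h1]
  conv_rhs => rw [pi_eq_sum_univ' (ρ j)]
  simp [map_sum, map_smul]

include hπ hρ in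
/-- A solution of the dual relations is a homomorphism. -/
theorem exists_hom_of_dualRel {N : Type u} [AddCommGroup N] [Module B N] (x : Fin n → N) (hx : dualRel ρ N x = 0) :
    ∃ h : P →ₗ[B] N, ∀ i, h (π (Pi.single i 1)) = x i := by
  let ψ : (Fin n → B) →ₗ[B] N := Fintype.linearCombination B x
  have hker : LinearMap.ker π ≤ LinearMap.ker ψ := by
    rw [← hρ, Submodule.span_le]
    rintro _ ⟨j, rfl⟩
    rw [SetLike.mem_coe, LinearMap.mem_ker]
    have := congrFun hx j
    rw [dualRel_apply] at this
    simpa [ψ, Fintype.linearCombination_apply] using this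
  refine ⟨(LinearMap.ker π).liftQ ψ hker ∘ₗ (π.quotKerEquivOfSurjective hπ).symm.toLinearMap, fun i => ?_⟩
  have h5 : (π.quotKerEquivOfSurjective hπ).symm (π (Pi.single i 1)) = Submodule.Quotient.mk (Pi.single i 1) :=
    (LinearEquiv.symm_apply_eq _).2 rfl
  rw [LinearMap.comp_apply, LinearEquiv.coe_coe, h5, Submodule.liftQ_apply]
  simp [ψ, Fintype.linearCombination_apply, Pi.single_apply]

include hπ in
/-- Two homomorphisms agreeing on the images of the basis are equal. -/
theorem hom_ext_single {N : Type u} [AddCommGroup N] [Module B N] (g g' : P →ₗ[B] N)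
    (h : ∀ i, g (π (Pi.single i 1)) = g' (π (Pi.single i 1))) : g = g' := by
  refine LinearMap.ext fun p => ?_
  obtain ⟨c, rfl⟩ := hπ p
  rw [pi_eq_sum_univ' c]
  simp [map_sum, map_smul, h]

section Flat

variable {A : Type u} [CommRing A] [IsLocalRing A] [IsNoetherianRing A] [Algebra A B] [IsNoetherianRing B]

include hπ hρ in
/-- **A flat cokernel of the dualized presentation** makes restriction of the dual to the closed fibre onto. -/
theorem surjective_restrDual_of_flat_coker [Module.Finite B P]
    [Module.Flat A ((Fin k → B) ⧸ LinearMap.range (dualRel ρ B))] :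
    Function.Surjective (restrDual A B P) := by
  classical
  intro g
  choose b hb using fun i => Submodule.mkQ_surjective (mB A B) (g (π (Pi.single i 1)))
  have hTb : ∀ j, dualRel ρ B b j ∈ mB A B := fun j => by
    rw [← Submodule.Quotient.mk_eq_zero, ← Submodule.mkQ_apply, dualRel_apply, map_sum]
    simp only [map_smul, hb]
    have := congrFun (dualRel_apply_hom ρ π hρ g) j
    rwa [dualRel_apply] at this
  obtain ⟨r, a, ha⟩ := Submodule.fg_iff_exists_fin_generating_family.1 (IsNoetherian.noetherian (maximalIdeal A))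
  have hmB : mB A B = Ideal.span (Set.range fun l => algebraMap A B (a l)) := by
    rw [show mB A B = (maximalIdeal A).map (algebraMap A B) from rfl, ← ha, ← Ideal.span, Ideal.map_span, ← Set.range_comp]
    rfl
  choose c hc using fun j => Ideal.mem_span_range_iff_exists_fun.1 (hmB ▸ hTb j)
  let C := (Fin k → B) ⧸ LinearMap.range (dualRel ρ B)
  let w : Fin r → (Fin k → B) := fun l j => c j l
  let m : Fin r → C := fun l => Submodule.Quotient.mk (w l)
  have hw : ∑ l, a l • w l = dualRel ρ B b := by
    funext j
    rw [Finset.sum_apply, ← hc j]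
    refine Finset.sum_congr rfl fun l _ => ?_
    rw [Pi.smul_apply, Algebra.smul_def, mul_comm]
  have hrel : ∑ l, a l • m l = 0 := by
    show ∑ l, a l • (Submodule.mkQ (LinearMap.range (dualRel ρ B)) (w l)) = 0
    rw [show (∑ l, a l • (Submodule.mkQ (LinearMap.range (dualRel ρ B)) (w l))) =
      Submodule.mkQ (LinearMap.range (dualRel ρ B)) (∑ l, a l • w l) by simp [map_sum], hw]
    exact (Submodule.Quotient.mk_eq_zero _).2 ⟨b, rfl⟩
  obtain ⟨s, α, y, hm, hα⟩ := Module.Flat.iff_forall_isTrivialRelation.1 ‹_› hrel
  choose Y hY using fun q => Submodule.mkQ_surjective (LinearMap.range (dualRel ρ B)) (y q)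
  have hz : ∀ l, ∃ z : Fin n → B, dualRel ρ B z = w l - ∑ q, α l q • Y q := fun l => by
    refine (Submodule.Quotient.mk_eq_zero (LinearMap.range (dualRel ρ B))).1 ?_
    show Submodule.mkQ (LinearMap.range (dualRel ρ B)) (w l - ∑ q, α l q • Y q) = 0
    simp only [map_sub, map_sum, LinearMap.map_smul_of_tower, hY]
    exact sub_eq_zero.2 (hm l)
  choose z hz using hz
  let x : Fin n → B := b - ∑ l, a l • z l
  have hx : dualRel ρ B x = 0 := by
    simp only [x, map_sub, map_sum, LinearMap.map_smul_of_tower, hz, smul_sub, Finset.sum_sub_distrib, hw,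
      Finset.smul_sum, smul_smul]
    rw [Finset.sum_comm]
    simp only [← Finset.sum_smul, hα, zero_smul, Finset.sum_const_zero, sub_zero, sub_self]
  obtain ⟨h, hh⟩ := exists_hom_of_dualRel ρ π hπ hρ x hx
  refine ⟨h, hom_ext_single π hπ _ g fun i => ?_⟩
  show Submodule.mkQ (mB A B) (h (π (Pi.single i 1))) = _
  rw [hh, ← hb i]
  refine (Submodule.Quotient.eq _).2 ?_
  simp only [x, Pi.sub_apply, Finset.sum_apply, sub_sub_cancel_left, Pi.smul_apply, neg_mem_iff]
  refine sum_mem fun l _ => ?_
  rw [Algebra.smul_def]
  refine Ideal.mul_mem_right _ _ (Ideal.mem_map_of_mem _ (ha ▸ ?_))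
  exact Submodule.subset_span ⟨l, rfl⟩

end Flat

/-- A module over a discrete valuation ring on which a uniformizer is injective is flat. -/
theorem flat_of_uniformizer {V M : Type u} [CommRing V] [IsDomain V] [IsDiscreteValuationRing V] [AddCommGroup M]
    [Module V M] {t : V} (ht : Irreducible t) (h : ∀ m : M, t • m = 0 → m = 0) : Module.Flat V M := by
  rw [Module.Flat.flat_iff_torsion_eq_bot_of_isBezout, eq_bot_iff]
  rintro z ⟨⟨a, ha⟩, haz⟩
  obtain ⟨e, u, rfl⟩ := IsDiscreteValuationRing.eq_unit_mul_pow_irreducible (nonZeroDivisors.ne_zero ha) ht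
  rw [Submonoid.mk_smul, ← smul_smul] at haz
  have h0 : t ^ e • z = 0 := by
    have := congrArg ((↑u⁻¹ : V) • ·) haz
    simpa [smul_smul] using this
  rw [Submodule.mem_bot]
  clear haz ha
  induction e with
  | zero => simpa using h0
  | succ e ih => exact ih (h _ (by rwa [smul_smul, ← pow_succ']))

section DVR

variable (O : Type u) [CommRing O] [Algebra B O]

theorem piScalarRight_dualRel (z : O ⊗[B] (Fin n → B)) :
    TensorProduct.piScalarRight B O O (Fin k) ((dualRel ρ B).lTensor O z) =
      dualRel ρ O (TensorProduct.piScalarRight B O O (Fin n) z) := by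
  induction z using TensorProduct.induction_on with
  | zero => simp
  | tmul o x =>
    funext j
    simp [dualRel_apply, Finset.sum_smul, smul_smul]
  | add a b ha hb => simp only [map_add, ha, hb]

include hπ hρ in
/-- Lifting of homomorphisms modulo a regular element makes the element injective on the tensored cokernel. -/
theorem smul_injective_coker_of_lift {t : O} (ht : IsSMulRegular O t)
    (hlift : ∀ g : P →ₗ[B] O ⧸ Ideal.span {t}, ∃ h : P →ₗ[B] O,
      ∀ p, Ideal.Quotient.mk (Ideal.span {t}) (h p) = g p)
    (m : O ⊗[B] ((Fin k → B) ⧸ LinearMap.range (dualRel ρ B))) (hm : t • m = 0) : m = 0 := by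
  classical
  let T := dualRel ρ B
  let q := (LinearMap.range T).mkQ
  have hex := lTensor_exact O (LinearMap.exact_map_mkQ_range T) (Submodule.mkQ_surjective _)
  obtain ⟨w, rfl⟩ := LinearMap.lTensor_surjective O (Submodule.mkQ_surjective (LinearMap.range T)) m
  have hsm : ∀ z : O ⊗[B] (Fin k → B), t • q.lTensor O z = q.lTensor O (t • z) := fun z =>
    ((TensorProduct.AlgebraTensorModule.lTensor O O q).map_smul t z).symm
  rw [hsm] at hm
  obtain ⟨z, hz⟩ := (hex _).1 hm
  let e := TensorProduct.piScalarRight B O O (Fin k)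
  let u := TensorProduct.piScalarRight B O O (Fin n) z
  have hu : dualRel ρ O u = t • e w := by
    rw [← piScalarRight_dualRel, hz]
    exact map_smul e t w
  obtain ⟨g, hg⟩ := exists_hom_of_dualRel ρ π hπ hρ (N := O ⧸ Ideal.span {t})
    (fun i => Ideal.Quotient.mk _ (u i)) (by
      funext j
      rw [dualRel_apply, Pi.zero_apply]
      have : Submodule.mkQ ((Ideal.span {t} : Ideal O).restrictScalars B) (dualRel ρ O u j) = 0 := by
        rw [Submodule.mkQ_apply, Submodule.Quotient.mk_eq_zero, Submodule.restrictScalars_mem, hu]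
        exact Ideal.mem_span_singleton'.2 ⟨e w j, mul_comm _ _⟩
      rw [dualRel_apply, map_sum] at this
      simp only [map_smul] at this
      exact this)
  obtain ⟨h, hh⟩ := hlift g
  let v : Fin n → O := fun i => h (π (Pi.single i 1))
  have hv : ∀ i, u i - v i ∈ Ideal.span {t} := fun i => by
    rw [← Ideal.Quotient.eq_zero_iff_mem, map_sub, hh, hg, sub_self]
  choose y hy using fun i => Ideal.mem_span_singleton'.1 (hv i)
  have hy' : u = v + t • y := funext fun i => by
    rw [Pi.add_apply, Pi.smul_apply, smul_eq_mul, mul_comm, hy]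
    abel
  have hwy : dualRel ρ O y = e w := by
    funext j
    apply ht
    have h1 := congrFun hu j
    rw [hy', map_add, dualRel_apply_hom ρ π hρ h, zero_add] at h1
    show t • (dualRel ρ O y j) = t • (e w j)
    rw [show t • (e w j) = (t • e w) j from rfl, ← h1, dualRel_apply, dualRel_apply, Finset.smul_sum]
    simp only [Pi.smul_apply, smul_comm t]
  rw [show w = T.lTensor O ((TensorProduct.piScalarRight B O O (Fin n)).symm y) from e.injective (by
    rw [← hwy]
    conv_lhs => rw [← (TensorProduct.piScalarRight B O O (Fin n)).apply_symm_apply y]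
    exact (piScalarRight_dualRel ρ O _).symm)]
  exact (hex _).2 ⟨_, rfl⟩

end DVR

end Groth.Agent.DualLib.RelTop
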