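import Groth.Agent.DualLib.RelTop.CokerFlat
import Groth.Agent.FlatCrit.Inj

/-!
# Flatness of the cokernel of a dualized presentation is surjectivity of restriction of the dual
-/

set_option autoImplicit false
set_option backward.isDefEq.respectTransparency false
set_option linter.style.haveILetI false
set_option linter.unusedSectionVars false

universe u

open IsLocalRing TensorProduct

namespace Groth.Agent.DualLib.RelTop

open Groth.Agent

section Iff

variable {A O : Type u} [CommRing A] [IsLocalRing A] [IsNoetherianRing A] [CommRing O] [IsLocalRing O]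
  [IsNoetherianRing O] [Algebra A O] [IsLocalHom (algebraMap A O)] [Module.Flat A O]
  {n k : ℕ} (ρ : Fin k → (Fin n → O)) {P : Type u} [AddCommGroup P] [Module O P] [Module.Finite O P]
  (π : (Fin n → O) →ₗ[O] P) (hπ : Function.Surjective π)
  (hρ : Submodule.span O (Set.range ρ) = LinearMap.ker π)

include hπ hρ in
/-- **The dualized presentation has flat cokernel iff restriction of the dual to the closed fibre is onto.** -/
theorem flat_coker_iff_surjective_restrDual :
    Module.Flat A ((Fin k → O) ⧸ LinearMap.range (dualRel ρ O)) ↔ Function.Surjective (restrDual A O P) := by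
  refine ⟨fun _ => surjective_restrDual_of_flat_coker ρ π hπ hρ, fun hsur => ?_⟩
  let N := LinearMap.range (dualRel ρ O)
  let u : N →ₗ[A] (Fin k → O) := N.subtype.restrictScalars A
  have key : ∀ x : N, u x ∈ maximalIdeal A • (⊤ : Submodule A (Fin k → O)) →
      x ∈ maximalIdeal A • (⊤ : Submodule A N) := by
    rintro ⟨_, b, rfl⟩ hb
    have hb' : ∀ j, dualRel ρ O b j ∈ mB A O := fun j => by
      have h1 : (LinearMap.proj j : (Fin k → O) →ₗ[A] O) (dualRel ρ O b) ∈
          (maximalIdeal A • (⊤ : Submodule A (Fin k → O))).map (LinearMap.proj j) :=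
        Submodule.mem_map_of_mem hb
      rw [Submodule.map_smul''] at h1
      have h2 := Submodule.smul_mono le_rfl le_top h1
      rw [Ideal.smul_top_eq_map] at h2
      exact h2
    obtain ⟨g, hg⟩ := exists_hom_of_dualRel ρ π hπ hρ (N := O ⧸ mB A O) (fun i => Submodule.mkQ (mB A O) (b i)) (by
      funext j
      rw [Pi.zero_apply, dualRel_apply]
      have h2 : Submodule.mkQ (mB A O) (dualRel ρ O b j) = 0 := (Submodule.Quotient.mk_eq_zero _).2 (hb' j)
      rw [dualRel_apply, map_sum] at h2
      simpa only [map_smul] using h2)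
    obtain ⟨h, rfl⟩ := hsur g
    let v : Fin n → O := fun i => h (π (Pi.single i 1))
    have hv : b - v ∈ maximalIdeal A • (⊤ : Submodule A (Fin n → O)) := by
      rw [pi_eq_sum_univ' (b - v)]
      refine sum_mem fun i _ => ?_
      have hi : (b - v) i ∈ mB A O := by
        rw [← Submodule.Quotient.mk_eq_zero (mB A O), Pi.sub_apply, Submodule.Quotient.mk_sub, sub_eq_zero]
        exact (hg i).symm
      have h3 : (b - v) i ∈ (maximalIdeal A • (⊤ : Submodule A O)) := by
        rw [Ideal.smul_top_eq_map]
        exact hi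
      exact Submodule.smul_induction_on h3
        (fun a ha o _ => by rw [smul_assoc]; exact Submodule.smul_mem_smul ha trivial)
        fun p q hp hq => by rw [add_smul]; exact add_mem hp hq
    let T : (Fin n → O) →ₗ[A] N := (dualRel ρ O).rangeRestrict.restrictScalars A
    have h4 : T (b - v) ∈ maximalIdeal A • (⊤ : Submodule A N) := by
      refine Submodule.smul_mono le_rfl le_top (Submodule.map_smul'' (maximalIdeal A) ⊤ T ▸ Submodule.mem_map_of_mem hv)
    convert h4 using 1
    refine Subtype.ext ?_
    show dualRel ρ O b = dualRel ρ O (b - v)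
    rw [map_sub, dualRel_apply_hom ρ π hρ h, sub_zero]
  have hinj : Function.Injective (u.lTensor (ResidueField A)) := by
    rw [injective_iff_map_eq_zero]
    intro z hz
    obtain ⟨x, rfl⟩ := TensorProduct.mk_surjective A N (ResidueField A) Ideal.Quotient.mk_surjective z
    have h1 : u x ∈ LinearMap.ker (TensorProduct.mk A (A ⧸ maximalIdeal A) (Fin k → O) 1) := hz
    rw [LinearMap.ker_tensorProductMk] at h1
    have h2 := key x h1
    rw [← LinearMap.ker_tensorProductMk] at h2
    exact h2
  haveI : Module.Flat A (Fin k → O) := Module.Flat.trans A O _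
  have h := FlatCrit.flat_coker_of_injective_mod_max u hinj (S := O) (by
    rw [IsLocalRing.jacobson_eq_maximalIdeal ⊥ bot_ne_top]
    exact ((local_hom_TFAE (algebraMap A O)).out 0 2 rfl rfl).1 inferInstance)
  haveI := h
  have he : LinearMap.range u = N.restrictScalars A := by
    ext x
    exact ⟨fun ⟨y, hy⟩ => hy ▸ y.2, fun hx => ⟨⟨x, hx⟩, rfl⟩⟩
  exact Module.Flat.of_linearEquiv
    ((Submodule.quotEquivOfEq _ _ he).trans (Submodule.Quotient.restrictScalarsEquiv A N)).symm

end Iff

section BaseChange

variable {B : Type u} [CommRing B] (O : Type u) [CommRing O] [Algebra B O] {n k : ℕ} (ρ : Fin k → (Fin n → B))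
  {P : Type u} [AddCommGroup P] [Module B P] (π : (Fin n → B) →ₗ[B] P) (hπ : Function.Surjective π)
  (hρ : Submodule.span B (Set.range ρ) = LinearMap.ker π)

include hπ hρ in
/-- The base change of a presentation, and of the cokernel of its dual. -/
theorem exists_baseChange_pres : ∃ π' : (Fin n → O) →ₗ[O] O ⊗[B] P, Function.Surjective π' ∧
    Submodule.span O (Set.range fun j i => algebraMap B O (ρ j i)) = LinearMap.ker π' ∧
    Nonempty (O ⊗[B] ((Fin k → B) ⧸ LinearMap.range (dualRel ρ B)) ≃ₗ[O]
      (Fin k → O) ⧸ LinearMap.range (dualRel (fun j i => algebraMap B O (ρ j i)) O)) := by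
  classical
  let en := TensorProduct.piScalarRight B O O (Fin n)
  let ek := TensorProduct.piScalarRight B O O (Fin k)
  let π' : (Fin n → O) →ₗ[O] O ⊗[B] P := π.baseChange O ∘ₗ en.symm.toLinearMap
  let ρ' : Fin k → Fin n → O := fun j i => algebraMap B O (ρ j i)
  let R : (Fin k → B) →ₗ[B] (Fin n → B) := Fintype.linearCombination B ρ
  have hex : Function.Exact R π := by
    rw [LinearMap.exact_iff, Fintype.range_linearCombination, hρ]
  have hexO := lTensor_exact O hex hπ
  have hj : ∀ j, en (1 ⊗ₜ[B] ρ j) = ρ' j := fun j => by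
    funext i
    simp [en, ρ', Algebra.algebraMap_eq_smul_one]
  refine ⟨π', (LinearMap.lTensor_surjective O hπ).comp en.symm.surjective, le_antisymm ?_ fun x hx => ?_, ?_⟩
  · rw [Submodule.span_le]
    rintro _ ⟨j, rfl⟩
    have h0 : π (ρ j) = 0 := LinearMap.mem_ker.1 (hρ ▸ Submodule.subset_span ⟨j, rfl⟩)
    show π.baseChange O (en.symm (ρ' j)) = 0
    rw [← hj, en.symm_apply_apply, LinearMap.baseChange_tmul, h0, TensorProduct.tmul_zero]
  · obtain ⟨w, hw⟩ := (hexO _).1 (show π.lTensor O (en.symm x) = 0 from hx)
    rw [← en.apply_symm_apply x, ← hw]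
    clear hw hx
    induction w using TensorProduct.induction_on with
    | zero => simp
    | add a b ha hb => rw [map_add, map_add]; exact add_mem ha hb
    | tmul o c =>
      rw [LinearMap.lTensor_tmul, show R c = ∑ j, c j • ρ j from Fintype.linearCombination_apply B ρ c,
        TensorProduct.tmul_sum, map_sum]
      refine sum_mem fun j _ => ?_
      rw [show o ⊗ₜ[B] (c j • ρ j) = (c j • o) • (1 : O) ⊗ₜ[B] ρ j by
        rw [TensorProduct.smul_tmul', smul_eq_mul, mul_one, TensorProduct.smul_tmul], map_smul, hj]
      exact Submodule.smul_mem _ _ (Submodule.subset_span ⟨j, rfl⟩)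
  · let T := dualRel ρ B
    let T' := dualRel ρ' O
    have hc : ∀ z, ek (T.lTensor O z) = T' (en z) := fun z => by
      rw [piScalarRight_dualRel ρ O z]
      funext j
      simp only [T', dualRel_apply, ρ', algebraMap_smul]
      rfl
    have hexT := lTensor_exact O (LinearMap.exact_map_mkQ_range T) (Submodule.mkQ_surjective _)
    let q' : O ⊗[B] (Fin k → B) →ₗ[O] O ⊗[B] ((Fin k → B) ⧸ LinearMap.range T) :=
      (LinearMap.range T).mkQ.baseChange O
    let φ : (Fin k → O) →ₗ[O] O ⊗[B] ((Fin k → B) ⧸ LinearMap.range T) := q' ∘ₗ ek.symm.toLinearMap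
    have hφ : Function.Surjective φ := (LinearMap.lTensor_surjective O (Submodule.mkQ_surjective _)).comp ek.symm.surjective
    have hker : LinearMap.ker φ = LinearMap.range T' := by
      refine le_antisymm (fun x hx => ?_) ?_
      · obtain ⟨z, hz⟩ := (hexT _).1 (show (LinearMap.range T).mkQ.lTensor O (ek.symm x) = 0 from hx)
        exact ⟨en z, by rw [← hc, hz, ek.apply_symm_apply]⟩
      · rintro _ ⟨y, rfl⟩
        show (LinearMap.range T).mkQ.lTensor O (ek.symm (T' y)) = 0
        rw [← en.apply_symm_apply y, ← hc, ek.symm_apply_apply]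
        exact (hexT _).2 ⟨_, rfl⟩
    exact ⟨((Submodule.quotEquivOfEq _ _ hker.symm).trans (φ.quotKerEquivOfSurjective hφ)).symm⟩

end BaseChange

end Groth.Agent.DualLib.RelTop
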