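import Groth.Agent.DualLib.RelTop.DualSurj
import Groth.Agent.DualLib.RelTop.ArbQGor

/-!
# Relative `(S₂)` of a dual after base change makes restriction to the fibre onto
-/

set_option autoImplicit false
set_option backward.isDefEq.respectTransparency false
set_option linter.style.haveILetI false
set_option linter.unusedSectionVars false
set_option maxHeartbeats 800000

universe u

open CategoryTheory CategoryTheory.Limits AlgebraicGeometry TopologicalSpace IsLocalRing TensorProduct

namespace Groth.Agent.DualLib.RelTop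

open Groth.Agent EGA43.DimFormula

variable {X Y T T' : Scheme.{u}} [IsLocallyNoetherian T] [IsLocallyNoetherian T'] (g : Y ⟶ X) (f : X ⟶ T)
  [LocallyOfFiniteType f] (f' : Y ⟶ T') [LocallyOfFiniteType f'] (h : T' ⟶ T) (sq : IsPullback g f' f h)

include sq

/-- Off the preimage of an open of fibrewise codimension two the fibres of a base change have depth two. -/
theorem two_le_depth_fibre_baseChange (hS : RelCanon.IsSkMor f 2) (Xo : X.Opens)
    (hdim : ∀ x : X, x ∉ Xo → (2 : WithBot ℕ∞) ≤ ringKrullDim ((f.fiber (f x)).presheaf.stalk (f.asFiber x)))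
    (t' : T') (v : f'.fiber t') (hv : f'.fiberι t' v ∉ g ⁻¹ᵁ Xo) :
    (2 : ℕ∞) ≤ _root_.LocCoh.depth ((f'.fiber t').presheaf.stalk v) ((f'.fiber t').presheaf.stalk v) := by
  obtain ⟨q, _, hw, -⟩ := exists_fibre_map g f f' h sq t'
  haveI : LocallyOfFiniteType (f.fiberToSpecResidueField (h t')) :=
    MorphismProperty.pullback_snd _ _ inferInstance
  haveI : IsLocallyNoetherian (f.fiber (h t')) :=
    LocallyOfFiniteType.isLocallyNoetherian (f.fiberToSpecResidueField (h t'))
  haveI : LocallyOfFiniteType (f'.fiberToSpecResidueField t') :=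
    MorphismProperty.pullback_snd _ _ inferInstance
  haveI : IsLocallyNoetherian (f'.fiber t') := LocallyOfFiniteType.isLocallyNoetherian (f'.fiberToSpecResidueField t')
  let R := (f.fiber (h t')).presheaf.stalk (q v)
  let S := (f'.fiber t').presheaf.stalk v
  letI : Algebra R S := (q.stalkMap v).hom.toAlgebra
  haveI : Module.Flat R S := Flat.stalkMap q v
  haveI : IsLocalHom (algebraMap R S) := inferInstanceAs (IsLocalHom (q.stalkMap v).hom)
  rw [← CAlgH3.depth_congr (AlgebraTensorModule.rid R S S), CommAlg6.depth_tensor_eq (A := R) (B := S) S R]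
  haveI : IsLocallyNoetherian X := LocallyOfFiniteType.isLocallyNoetherian f
  refine le_trans (two_le_depth_fibre f hS _ (q v) fun x hx => hdim x ?_) le_self_add
  rw [← hx, ← Scheme.Hom.comp_apply, hw]
  exact hv

/-- **Relative `(S₂)` of a dual on a base change makes restriction to the fibre onto.** -/
theorem surjective_restrDual_baseChange (hS : RelCanon.IsSkMor f 2) (Xo : X.Opens)
    (hdim : ∀ x : X, x ∉ Xo → (2 : WithBot ℕ∞) ≤ ringKrullDim ((f.fiber (f x)).presheaf.stalk (f.asFiber x)))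
    {D : Y.Modules} (hD : Coh.IsCoh D) (hDi : ∀ x : Y, x ∈ g ⁻¹ᵁ Xo → RelCanon.InvertibleAt D x)
    (y : Y) (hsk : RelCanon.SkAt 2 ((Scheme.Modules.pullback (f'.fiberι (f' y))).obj (RefHull.dual D)) (f'.asFiber y)) :
    letI := (f'.stalkMap y).hom.toAlgebra
    Function.Surjective (restrDual (T'.presheaf.stalk (f' y)) (Y.presheaf.stalk y) (D.presheaf.stalk y)) := by
  haveI : IsLocallyNoetherian Y := LocallyOfFiniteType.isLocallyNoetherian f'
  let t := f' y
  suffices main : ∀ z : f'.fiber t, RelCanon.SkAt 2 ((Scheme.Modules.pullback (f'.fiberι t)).obj (RefHull.dual D)) z →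
      letI := (f'.stalkMap (f'.fiberι t z)).hom.toAlgebra
      Function.Surjective (restrDual (T'.presheaf.stalk (f' (f'.fiberι t z))) (Y.presheaf.stalk (f'.fiberι t z))
        (D.presheaf.stalk (f'.fiberι t z))) by
    have h1 := main _ hsk
    rw [show f'.fiberι t (f'.asFiber y) = y from f'.fiberι_asFiber y] at h1
    exact h1
  intro z hz
  haveI : LocallyOfFiniteType (f'.fiberToSpecResidueField t) :=
    MorphismProperty.pullback_snd _ _ inferInstance
  haveI : IsLocallyNoetherian (f'.fiber t) := LocallyOfFiniteType.isLocallyNoetherian (f'.fiberToSpecResidueField t)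
  let ι := f'.fiberι t
  let A := T'.presheaf.stalk (f' (ι z))
  let B := Y.presheaf.stalk (ι z)
  let R := (f'.fiber t).presheaf.stalk z
  letI : Algebra A B := (f'.stalkMap (ι z)).hom.toAlgebra
  letI : Algebra B R := (ι.stalkMap z).hom.toAlgebra
  obtain ⟨hs, hk⟩ := Props12.stalkMap_fiberι f' t z
  let P := D.presheaf.stalk (ι z)
  haveI : Module.Finite B P := AssSch12.finite_stalk hD _
  let G := RefHull.dual D
  have hG : Coh.IsCoh G := RefHullLib.isCoh_dual hD (Coherent.isCoh_structureModule Y)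
  let N := (Scheme.Modules.pullback ι).obj G
  have hN : Coh.IsCoh N :=
    ⟨haveI := hG.1; EGA43.InjFibre.isQCoh_pullback ι G, Coherent.isFT_pullback_qcoh ι hG.1 hG.2⟩
  have hdepR : ∀ w : f'.fiber t, ι w ∉ g ⁻¹ᵁ Xo →
      (2 : ℕ∞) ≤ _root_.LocCoh.depth ((f'.fiber t).presheaf.stalk w) ((f'.fiber t).presheaf.stalk w) :=
    fun w hw => two_le_depth_fibre_baseChange g f f' h sq hS Xo hdim t w hw
  have h2N := two_le_depth_of_skAt hN z hz (ι ⁻¹ᵁ (g ⁻¹ᵁ Xo))
    (fun w _ hw => by
      let Rw := (f'.fiber t).presheaf.stalk w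
      exact le_trans (WithBot.coe_le_coe.2 (hdepR w hw))
        (le_trans (CAlgH3.depth_le_supportDim (R := Rw) (M := Rw)) (Module.supportDim_le_ringKrullDim Rw Rw)))
    (fun w _ hw => by
      obtain ⟨c⟩ := exists_stalk_equiv_of_invertibleAt (invertibleAt_pullback ι w (invertibleAt_dual hD _ (hDi _ hw)))
      exact c.toEquiv.nontrivial)
  let J := outIdeal (g ⁻¹ᵁ Xo) (ι z)
  have hpts : ∀ (q : Ideal R) (hq : q.IsPrime), J.map (algebraMap B R) ≤ q →
      ι (toPt z ⟨q, hq⟩) ∉ g ⁻¹ᵁ Xo := by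
    intro q hq hJ
    have h := (outIdeal_le_iff (g ⁻¹ᵁ Xo) _ (PrimeSpectrum.comap (ι.stalkMap z).hom ⟨q, hq⟩)).1
      (Ideal.map_le_iff_le_comap.1 hJ)
    rw [← apply_toPt ι z ⟨q, hq⟩] at h
    exact h
  let eR : (B ⧸ mB A B) ≃ₗ[B] R :=
    (Submodule.quotEquivOfEq _ _ hk.symm).trans
      { RingHom.quotientKerEquivOfSurjective (f := algebraMap B R) hs with
        map_smul' := fun c x => by
          obtain ⟨x, rfl⟩ := Ideal.Quotient.mk_surjective x
          show algebraMap B R (c * x) = c • algebraMap B R x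
          rw [map_mul, Algebra.smul_def] }
  let Ns := N.presheaf.stalk z
  haveI : Module.Finite R Ns := AssSch12.finite_stalk hN z
  letI : Module B Ns := Module.compHom _ (algebraMap B R)
  haveI : IsScalarTower B R Ns := IsScalarTower.of_algebraMap_smul fun _ _ => rfl
  let eP : Ns ≃ₗ[R] R ⊗[B] G.presheaf.stalk (ι z) := ((ModStalk.pullbackStalkIso ι z).app G).toLinearEquiv
  obtain ⟨eD⟩ := nonempty_dual_stalk_equiv hD (ι z)
  let eQ : ((P →ₗ[B] B) ⧸ mB A B • (⊤ : Submodule B (P →ₗ[B] B))) ≃ₗ[B] Ns :=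
    ((TensorProduct.quotTensorEquivQuotSMul (P →ₗ[B] B) (mB A B)).symm.trans
      (TensorProduct.congr eR eD.symm)).trans (eP.symm.restrictScalars B)
  refine surjective_restrDual_of_depth J P (fun q _ hJ => ?_) (fun q _ hJ _ => ?_) (fun q _ hJ _ => ?_)
  · refine free_localized_of_invertibleAt hD.1 _ ⟨q, ‹_›⟩ (hDi _ ?_)
    by_contra hx
    exact hJ ((outIdeal_le_iff (g ⁻¹ᵁ Xo) _ ⟨q, ‹_›⟩).2 hx)
  · refine le_locDepth_of_surjective hs J 2 R (B ⧸ mB A B) eR (fun q' hq' hJ' => ?_) q hJ
    rw [← CAlgH3.depth_congr (LinearEquiv.ofBijective (LocalizedModule.map q'.primeCompl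
      (SDiv28.unitStalkEquiv (X := f'.fiber t) z).symm.toLinearMap)
        ⟨LocalizedModule.map_injective _ _ (LinearEquiv.injective _),
          LocalizedModule.map_surjective _ _ (LinearEquiv.surjective _)⟩),
      depth_toPt (Coh.structureModule (f'.fiber t)) (Coherent.isCoh_structureModule _).1 z ⟨q', hq'⟩,
      ← CAlgH3.depth_congr (SDiv28.unitStalkEquiv (X := f'.fiber t) _)]
    exact hdepR _ (hpts q' hq' hJ')
  · refine le_locDepth_of_surjective hs J 2 Ns _ eQ (fun q' hq' hJ' => ?_) q hJ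
    rw [depth_toPt N hN.1 z ⟨q', hq'⟩]
    exact h2N _ (toPt_specializes z _) (hpts q' hq' hJ')

end Groth.Agent.DualLib.RelTop
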