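import Groth.Agent.DualLib.RelTop.DualDVR
import Groth.Agent.DualLib.RelTop.CokerFlatIff

/-!
# Relative `(S₂)` of a dual after base change is flatness of a fixed cokernel
-/

set_option autoImplicit false
set_option backward.isDefEq.respectTransparency false
set_option linter.style.haveILetI false
set_option linter.unusedSectionVars false
set_option maxHeartbeats 800000

universe u

open CategoryTheory CategoryTheory.Limits AlgebraicGeometry TopologicalSpace IsLocalRing TensorProduct

namespace Groth.Agent.DualLib.RelTop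

open Groth.Agent EGA43.DimFormula

variable {X Y T T' : Scheme.{u}} [IsLocallyNoetherian T] [IsLocallyNoetherian T'] (g : Y ⟶ X) (f : X ⟶ T)
  [LocallyOfFiniteType f] (f' : Y ⟶ T') [LocallyOfFiniteType f'] (h : T' ⟶ T) (sq : IsPullback g f' f h)

include sq

/-- Off the preimage the fibres of a base change have dimension two. -/
theorem two_le_dim_fibre_baseChange (hS : RelCanon.IsSkMor f 2) (Xo : X.Opens)
    (hdim : ∀ x : X, x ∉ Xo → (2 : WithBot ℕ∞) ≤ ringKrullDim ((f.fiber (f x)).presheaf.stalk (f.asFiber x)))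
    (x : Y) (hx : x ∉ g ⁻¹ᵁ Xo) :
    (2 : WithBot ℕ∞) ≤ ringKrullDim ((f'.fiber (f' x)).presheaf.stalk (f'.asFiber x)) := by
  haveI : LocallyOfFiniteType (f'.fiberToSpecResidueField (f' x)) :=
    MorphismProperty.pullback_snd _ _ inferInstance
  haveI : IsLocallyNoetherian (f'.fiber (f' x)) :=
    LocallyOfFiniteType.isLocallyNoetherian (f'.fiberToSpecResidueField (f' x))
  let R := (f'.fiber (f' x)).presheaf.stalk (f'.asFiber x)
  exact le_trans
    (WithBot.coe_le_coe.2 (two_le_depth_fibre_baseChange g f f' h sq hS Xo hdim (f' x) (f'.asFiber x)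
      (by rw [f'.fiberι_asFiber]; exact hx)))
    (le_trans (CAlgH3.depth_le_supportDim (R := R) (M := R)) (Module.supportDim_le_ringKrullDim R R))

/-- An `S₂`-morphism stays one after base change. -/
theorem isSkMor_baseChange (hS : RelCanon.IsSkMor f 2) : RelCanon.IsSkMor f' 2 := by
  haveI : Flat f := hS.1
  haveI : Flat f' := MorphismProperty.of_isPullback sq ‹Flat f›
  haveI : IsLocallyNoetherian X := LocallyOfFiniteType.isLocallyNoetherian f
  haveI : IsLocallyNoetherian Y := LocallyOfFiniteType.isLocallyNoetherian f'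
  have hskO : RelCanon.RelSk f 2 (Coh.structureModule X) := fun x =>
    ⟨(EGA43.FibDepth.isFlatOverAt_structureModule f x).2 (Flat.stalkMap f x),
      (EGA43.FibDepth.hasSk_congr
        ((DerSch.stalkFunctor _ (f.asFiber x)).mapIso (PicLoc.pullbackStructureIso (f.fiberι (f x)))).toLinearEquiv 2).2
        (hS.2.2 x)⟩
  have hall : ∀ x : X, x ∈ (⊤ : X.Opens) → RelCanon.InvertibleAt (Coh.structureModule X) x := fun x _ =>
    ⟨⊤, trivial, ⟨Scheme.Modules.restrictUnitIso _⟩⟩
  have h' := relSk_of_iso_pullback f g f' h sq (Coherent.isCoh_structureModule X) (PicLoc.pullbackStructureIso g) ⊤ hall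
    (fun t z hz => absurd trivial hz) hskO
  exact ⟨‹_›, ‹_›, fun y => (EGA43.FibDepth.hasSk_congr
    ((DerSch.stalkFunctor _ (f'.asFiber y)).mapIso (PicLoc.pullbackStructureIso (f'.fiberι (f' y)))).toLinearEquiv 2).1
    (h' y).2⟩

/-- **Relative `(S₂)` of the dual of a pullback is flatness of the pulled-back cokernel.** -/
theorem relSkAt_dual_iff_isFlatOverAt_sky (hS : RelCanon.IsSkMor f 2) (Xo : X.Opens)
    (hdim : ∀ x : X, x ∉ Xo → (2 : WithBot ℕ∞) ≤ ringKrullDim ((f.fiber (f x)).presheaf.stalk (f.asFiber x)))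
    {D : X.Modules} (hD : Coh.IsCoh D) (hDi : ∀ x : X, x ∈ Xo → RelCanon.InvertibleAt D x)
    (x : X) {n k : ℕ} (ρ : Fin k → (Fin n → X.presheaf.stalk x))
    (π : (Fin n → X.presheaf.stalk x) →ₗ[X.presheaf.stalk x] D.presheaf.stalk x) (hπ : Function.Surjective π)
    (hρ : Submodule.span (X.presheaf.stalk x) (Set.range ρ) = LinearMap.ker π) (y : Y) (hy : g y = x) :
    RelCanon.RelSkAt f' 2 (RefHull.dual ((Scheme.Modules.pullback g).obj D)) y ↔
      FlatMod.IsFlatOverAt f' ((Scheme.Modules.pullback g).obj ((ModStalk.sky x).obj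
        (ModuleCat.of (X.presheaf.stalk x)
          ((Fin k → X.presheaf.stalk x) ⧸ LinearMap.range (dualRel ρ (X.presheaf.stalk x)))))) y := by
  subst hy
  haveI : Flat f := hS.1
  haveI : Flat f' := MorphismProperty.of_isPullback sq ‹Flat f›
  haveI : IsLocallyNoetherian X := LocallyOfFiniteType.isLocallyNoetherian f
  haveI : IsLocallyNoetherian Y := LocallyOfFiniteType.isLocallyNoetherian f'
  let B := X.presheaf.stalk (g y)
  let O := Y.presheaf.stalk y
  let V := T'.presheaf.stalk (f' y)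
  letI : Algebra V O := (f'.stalkMap y).hom.toAlgebra
  haveI : Module.Flat V O := Flat.stalkMap f' y
  haveI : IsLocalHom (algebraMap V O) := inferInstanceAs (IsLocalHom (f'.stalkMap y).hom)
  letI : Algebra B O := (g.stalkMap y).hom.toAlgebra
  let P := D.presheaf.stalk (g y)
  let D' := (Scheme.Modules.pullback g).obj D
  have hD' : Coh.IsCoh D' :=
    ⟨haveI := hD.1; EGA43.InjFibre.isQCoh_pullback g D, Coherent.isFT_pullback_qcoh g hD.1 hD.2⟩
  have hD'i : ∀ z : Y, z ∈ g ⁻¹ᵁ Xo → RelCanon.InvertibleAt D' z := fun z hz =>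
    invertibleAt_pullback g z (hDi _ hz)
  haveI : Module.Finite O (D'.presheaf.stalk y) := AssSch12.finite_stalk hD' y
  let eD : D'.presheaf.stalk y ≃ₗ[O] O ⊗[B] P := ((ModStalk.pullbackStalkIso g y).app D).toLinearEquiv
  obtain ⟨π', hπ', hρ', ⟨eC⟩⟩ := exists_baseChange_pres O ρ π hπ hρ
  let ρ' : Fin k → Fin n → O := fun j i => algebraMap B O (ρ j i)
  let π'' : (Fin n → O) →ₗ[O] D'.presheaf.stalk y := eD.symm.toLinearMap ∘ₗ π'
  have hρ'' : Submodule.span O (Set.range ρ') = LinearMap.ker π'' := by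
    rw [LinearEquiv.ker_comp]
    exact hρ'
  have iff1 := flat_coker_iff_surjective_restrDual (A := V) ρ' π'' (eD.symm.surjective.comp hπ') hρ''
  let C := (Fin k → B) ⧸ LinearMap.range (dualRel ρ B)
  let F := (ModStalk.sky (g y)).obj (ModuleCat.of B C)
  let eF : F.presheaf.stalk (g y) ≃ₗ[B] C :=
    ((ModStalk.skyStalkIso (g y)).app (ModuleCat.of B C)).toLinearEquiv
  let F' := (Scheme.Modules.pullback g).obj F
  let eP0 : F'.presheaf.stalk y ≃ₗ[O] O ⊗[B] F.presheaf.stalk (g y) :=
    ((ModStalk.pullbackStalkIso g y).app F).toLinearEquiv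
  let eP : F'.presheaf.stalk y ≃ₗ[O] (Fin k → O) ⧸ LinearMap.range (dualRel ρ' O) :=
    (eP0.trans (AlgebraTensorModule.congr (LinearEquiv.refl O O) eF)).trans eC
  letI := FlatMod.moduleStalkOver f' F' y
  haveI : IsScalarTower V O (F'.presheaf.stalk y) := IsScalarTower.of_compHom _ _ _
  constructor
  · intro hsk
    haveI := iff1.2 (surjective_restrDual_baseChange g f f' h sq hS Xo hdim hD' hD'i y hsk.2)
    show Module.Flat V (F'.presheaf.stalk y)
    exact Module.Flat.of_linearEquiv (eP.restrictScalars V)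
  · intro hfl
    haveI : Module.Flat V (F'.presheaf.stalk y) := hfl
    have hsur := iff1.1 (Module.Flat.of_linearEquiv (eP.restrictScalars V).symm)
    have hS' := isSkMor_baseChange g f f' h sq hS
    have key : ∀ z : f'.fiber (f' y), f'.fiberι (f' y) z = y →
        FlatMod.IsFlatOverAt f' (RefHull.dual D') (f'.fiberι (f' y) z) ∧
          RelCanon.SkAt 2 ((Scheme.Modules.pullback (f'.fiberι (f' y))).obj (RefHull.dual D')) z := fun z hz => by
      have hz' : z = f'.asFiber y := (f'.fiberι _).isEmbedding.injective (hz.trans (f'.fiberι_asFiber y).symm)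
      have hzS : _root_.LocCoh.HasSk 2 ((f'.fiber (f' y)).presheaf.stalk z) ((f'.fiber (f' y)).presheaf.stalk z) := by
        rw [hz']
        exact (EGA43.FibDepth.hasSk_congr (EGA43.FibDepth.unitStalkEquiv (f'.asFiber y)) 2).2 (hS'.2.2 y)
      refine S19841.relSkAt_of_restrict_surjective f' hS' (f' y) z (g ⁻¹ᵁ Xo)
        (fun x _ hx => two_le_dim_fibre_baseChange g f f' h sq hS Xo hdim x hx) hzS D' hD' hD'i ?_
      rw [show f'.fiberι (f' y) z = y from hz]
      exact hsur
    obtain ⟨a, b⟩ := key _ (f'.fiberι_asFiber y)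
    exact ⟨(f'.fiberι_asFiber y) ▸ a, b⟩

end Groth.Agent.DualLib.RelTop
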