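import Groth.Agent.DualLib.RelTop.DualBC
import Groth.Agent.DualLib.RelTop.CokerFlat
import Groth.Agent.EGA43.DvrCrit.Main
import Groth.Agent.ModStalk.SkyStalk
import Groth.Agent.S19841

/-!
# Relative `(S₂)` of a dual over a reduced base is tested on discrete valuation rings
-/

set_option autoImplicit false
set_option backward.isDefEq.respectTransparency false
set_option linter.style.haveILetI false
set_option linter.unusedSectionVars false
set_option maxHeartbeats 800000

universe u

open CategoryTheory CategoryTheory.Limits AlgebraicGeometry TopologicalSpace IsLocalRing TensorProduct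

namespace Groth.Agent.DualLib.RelTop

open Groth.Agent EGA43.DimFormula

/-- Over a discrete valuation ring the pulled-back cokernel is flat where restriction of the dual is onto. -/
theorem isFlatOverAt_pullback_sky {X Y : Scheme.{u}} {V : Type u} [CommRing V] [IsDomain V] [IsDiscreteValuationRing V]
    (g : Y ⟶ X) (f' : Y ⟶ Spec (CommRingCat.of V)) [Flat f'] (w : Y) (hw : f' w = closedPoint V) (y : X) (hy : g w = y)
    {D : X.Modules} {n k : ℕ} (ρ : Fin k → (Fin n → X.presheaf.stalk y))
    (π : (Fin n → X.presheaf.stalk y) →ₗ[X.presheaf.stalk y] D.presheaf.stalk y) (hπ : Function.Surjective π)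
    (hρ : Submodule.span (X.presheaf.stalk y) (Set.range ρ) = LinearMap.ker π)
    (hsur : letI := (f'.stalkMap w).hom.toAlgebra
      Function.Surjective (restrDual ((Spec (CommRingCat.of V)).presheaf.stalk (f' w)) (Y.presheaf.stalk w)
        (((Scheme.Modules.pullback g).obj D).presheaf.stalk w))) :
    FlatMod.IsFlatOverAt f' ((Scheme.Modules.pullback g).obj ((ModStalk.sky y).obj
      (ModuleCat.of (X.presheaf.stalk y)
        ((Fin k → X.presheaf.stalk y) ⧸ LinearMap.range (dualRel ρ (X.presheaf.stalk y)))))) w := by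
  subst hy
  let B := X.presheaf.stalk (g w)
  let O := Y.presheaf.stalk w
  let V' := (Spec (CommRingCat.of V)).presheaf.stalk (f' w)
  let e : V ≃+* V' := RingEquiv.ofBijective _ (EGA43.FlatBC.toStalk_bijective V (f' w) (by rw [hw]; rfl))
  haveI : IsDomain V' := e.symm.toMulEquiv.isDomain
  haveI : IsDiscreteValuationRing V' := IsDiscreteValuationRing.RingEquivClass.isDiscreteValuationRing e
  letI : Algebra V' O := (f'.stalkMap w).hom.toAlgebra
  haveI : Module.Flat V' O := Flat.stalkMap f' w
  letI : Algebra B O := (g.stalkMap w).hom.toAlgebra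
  obtain ⟨s, hs⟩ := IsDiscreteValuationRing.exists_irreducible V'
  let t : O := algebraMap V' O s
  have ht : IsSMulRegular O t := by
    intro a b hab
    refine Module.Flat.isSMulRegular_of_nonZeroDivisors (R := V') (M := O) (mem_nonZeroDivisors_of_ne_zero hs.ne_zero) ?_
    show s • a = s • b
    rw [Algebra.smul_def, Algebra.smul_def]
    exact hab
  have hmB : mB V' O = Ideal.span {t} := by
    show (maximalIdeal V').map (algebraMap V' O) = _
    rw [hs.maximalIdeal_eq, Ideal.map_span, Set.image_singleton]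
  let P := D.presheaf.stalk (g w)
  let D' := (Scheme.Modules.pullback g).obj D
  let eD : D'.presheaf.stalk w ≃ₗ[O] O ⊗[B] P := ((ModStalk.pullbackStalkIso g w).app D).toLinearEquiv
  have hlift : ∀ φ : P →ₗ[B] O ⧸ Ideal.span {t}, ∃ h : P →ₗ[B] O,
      ∀ p, Ideal.Quotient.mk (Ideal.span {t}) (h p) = φ p := fun φ => by
    obtain ⟨h, hh⟩ := hsur ((Submodule.quotEquivOfEq _ _ hmB.symm).toLinearMap ∘ₗ
      ((LinearMap.liftBaseChange O φ) ∘ₗ eD.toLinearMap))
    refine ⟨{ toFun := fun p => h (eD.symm (1 ⊗ₜ p))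
              map_add' := fun p p' => by rw [TensorProduct.tmul_add, map_add, map_add]
              map_smul' := fun c p => by
                rw [TensorProduct.tmul_smul, ← algebraMap_smul O c, map_smul, map_smul, algebraMap_smul]
                rfl }, fun p => ?_⟩
    have h1 : restrDual V' O (D'.presheaf.stalk w) h (eD.symm (1 ⊗ₜ p)) =
        Submodule.quotEquivOfEq _ _ hmB.symm (φ p) := by
      rw [hh]
      show Submodule.quotEquivOfEq _ _ hmB.symm (LinearMap.liftBaseChange O φ (eD (eD.symm (1 ⊗ₜ p)))) = _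
      erw [eD.apply_symm_apply, LinearMap.liftBaseChange_tmul, one_smul]
    have h2 := congrArg (Submodule.quotEquivOfEq _ _ hmB) h1
    rw [show Submodule.quotEquivOfEq (mB V' O) (Ideal.span {t}) hmB ((Submodule.quotEquivOfEq _ _ hmB.symm) (φ p)) = φ p from by
      obtain ⟨a, ha⟩ := Submodule.Quotient.mk_surjective _ (φ p)
      rw [← ha]
      rfl] at h2
    exact h2
  let C := (Fin k → B) ⧸ LinearMap.range (dualRel ρ B)
  let F := (ModStalk.sky (g w)).obj (ModuleCat.of B C)
  let eF : F.presheaf.stalk (g w) ≃ₗ[B] C :=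
    ((ModStalk.skyStalkIso (g w)).app (ModuleCat.of B C)).toLinearEquiv
  let F' := (Scheme.Modules.pullback g).obj F
  let eP0 : F'.presheaf.stalk w ≃ₗ[O] O ⊗[B] F.presheaf.stalk (g w) :=
    ((ModStalk.pullbackStalkIso g w).app F).toLinearEquiv
  let eP : F'.presheaf.stalk w ≃ₗ[O] O ⊗[B] C :=
    eP0.trans (AlgebraTensorModule.congr (LinearEquiv.refl O O) eF)
  letI := FlatMod.moduleStalkOver f' F' w
  haveI : IsScalarTower V' O (F'.presheaf.stalk w) := IsScalarTower.of_compHom _ _ _
  refine flat_of_uniformizer hs fun m hm => eP.injective ?_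
  rw [map_zero]
  refine smul_injective_coker_of_lift ρ π hπ hρ O ht hlift (eP m) ?_
  rw [← map_smul, algebraMap_smul, hm, map_zero]

variable {X T : Scheme.{u}} [IsLocallyNoetherian T] (f : X ⟶ T) [LocallyOfFiniteType f]

/-- **Relative `(S₂)` of a dual over a reduced base** follows from relative `(S₂)` over discrete valuation rings. -/
theorem relSkAt_dual_of_dvr (hS : RelCanon.IsSkMor f 2) (Xo : X.Opens)
    (hdim : ∀ x : X, x ∉ Xo → (2 : WithBot ℕ∞) ≤ ringKrullDim ((f.fiber (f x)).presheaf.stalk (f.asFiber x)))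
    {D : X.Modules} (hD : Coh.IsCoh D) (hDi : ∀ x : X, x ∈ Xo → RelCanon.InvertibleAt D x) (y : X)
    [_root_.IsReduced (T.presheaf.stalk (f y))]
    (H : ∀ (V : Type u) [CommRing V] [IsDomain V] [IsDiscreteValuationRing V]
      (φ : (T.presheaf.stalk (f y) : Type u) →+* V) [IsLocalHom φ]
      (w : ↑(pullback f (EGA43.FlatBC.specTo f y φ))), pullback.fst f (EGA43.FlatBC.specTo f y φ) w = y →
      RelCanon.SkAt 2 ((Scheme.Modules.pullback ((pullback.snd f (EGA43.FlatBC.specTo f y φ)).fiberι
          (pullback.snd f (EGA43.FlatBC.specTo f y φ) w))).obj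
        (RefHull.dual ((Scheme.Modules.pullback (pullback.fst f (EGA43.FlatBC.specTo f y φ))).obj D)))
        ((pullback.snd f (EGA43.FlatBC.specTo f y φ)).asFiber w)) :
    RelCanon.RelSkAt f 2 (RefHull.dual D) y := by
  haveI : Flat f := hS.1
  haveI : IsLocallyNoetherian X := LocallyOfFiniteType.isLocallyNoetherian f
  let B := X.presheaf.stalk y
  let P := D.presheaf.stalk y
  haveI : Module.Finite B P := AssSch12.finite_stalk hD y
  obtain ⟨n, π, hπ⟩ := Module.Finite.exists_fin' B P
  obtain ⟨k, ρ, hρ⟩ := Submodule.fg_iff_exists_fin_generating_family.1 (IsNoetherian.noetherian (LinearMap.ker π))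
  let C := (Fin k → B) ⧸ LinearMap.range (dualRel ρ B)
  let F := (ModStalk.sky y).obj (ModuleCat.of B C)
  let eF : F.presheaf.stalk y ≃ₗ[B] C := ((ModStalk.skyStalkIso y).app (ModuleCat.of B C)).toLinearEquiv
  haveI : Module.Finite B (F.presheaf.stalk y) := Module.Finite.equiv eF.symm
  have hflat : FlatMod.IsFlatOverAt f F y := by
    refine EGA43.DvrCrit.isFlatOverAt_of_dvr f F y ?_
    intro V _ _ _ φ _ w h1 h2
    let g := pullback.fst f (EGA43.FlatBC.specTo f y φ)
    let f' := pullback.snd f (EGA43.FlatBC.specTo f y φ)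
    haveI : IsNoetherianRing (CommRingCat.of V) := inferInstanceAs (IsNoetherianRing V)
    haveI : LocallyOfFiniteType f' := MorphismProperty.pullback_snd _ _ ‹LocallyOfFiniteType f›
    haveI : Flat f' := MorphismProperty.pullback_snd _ _ ‹Flat f›
    haveI : IsLocallyNoetherian (pullback f (EGA43.FlatBC.specTo f y φ)) :=
      LocallyOfFiniteType.isLocallyNoetherian f'
    let D' := (Scheme.Modules.pullback g).obj D
    have hD' : Coh.IsCoh D' :=
      ⟨haveI := hD.1; EGA43.InjFibre.isQCoh_pullback g D, Coherent.isFT_pullback_qcoh g hD.1 hD.2⟩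
    exact isFlatOverAt_pullback_sky g f' w h2 y h1 ρ π hπ hρ
      (surjective_restrDual_baseChange g f f' (EGA43.FlatBC.specTo f y φ) (IsPullback.of_hasPullback _ _) hS Xo hdim
        hD' (fun x hx => invertibleAt_pullback g x (hDi _ hx)) w (H V φ w h1))
  suffices hsur : letI := (f.stalkMap y).hom.toAlgebra
      Function.Surjective (restrDual (T.presheaf.stalk (f y)) B P) by
    have key : ∀ z : f.fiber (f y), f.fiberι (f y) z = y →
        FlatMod.IsFlatOverAt f (RefHull.dual D) (f.fiberι (f y) z) ∧
          RelCanon.SkAt 2 ((Scheme.Modules.pullback (f.fiberι (f y))).obj (RefHull.dual D)) z := fun z hz => by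
      have hz' : z = f.asFiber y := (f.fiberι _).isEmbedding.injective (hz.trans (f.fiberι_asFiber y).symm)
      have hzS : _root_.LocCoh.HasSk 2 ((f.fiber (f y)).presheaf.stalk z) ((f.fiber (f y)).presheaf.stalk z) := by
        rw [hz']
        exact (EGA43.FibDepth.hasSk_congr (EGA43.FibDepth.unitStalkEquiv (f.asFiber y)) 2).2 (hS.2.2 y)
      refine S19841.relSkAt_of_restrict_surjective f hS (f y) z Xo (fun x _ hx => hdim x hx) hzS D hD hDi ?_
      rw [show f.fiberι (f y) z = y from hz]
      exact hsur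
    obtain ⟨a, b⟩ := key _ (f.fiberι_asFiber y)
    exact ⟨(f.fiberι_asFiber y) ▸ a, b⟩
  letI : Algebra (T.presheaf.stalk (f y)) B := (f.stalkMap y).hom.toAlgebra
  haveI : Module.Flat (T.presheaf.stalk (f y)) C := by
    letI := FlatMod.moduleStalkOver f F y
    haveI : IsScalarTower (T.presheaf.stalk (f y)) B (F.presheaf.stalk y) := IsScalarTower.of_compHom _ _ _
    haveI : Module.Flat (T.presheaf.stalk (f y)) (F.presheaf.stalk y) := hflat
    exact Module.Flat.of_linearEquiv (eF.restrictScalars (T.presheaf.stalk (f y))).symm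
  exact surjective_restrDual_of_flat_coker ρ π hπ hρ

end Groth.Agent.DualLib.RelTop
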