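import Groth.Agent.DualLib.RelTop.LevelSurj

/-!
# Restriction of duals to the closed fibre is onto where the dual has fibre depth two
-/

set_option autoImplicit false
set_option backward.isDefEq.respectTransparency false
set_option linter.style.haveILetI false
set_option linter.unusedSectionVars false

universe u

open IsLocalRing TensorProduct

namespace Groth.Agent.DualLib.RelTop

variable {A B : Type u} [CommRing A] [CommRing B] [IsNoetherianRing B] [Algebra A B]

variable [IsLocalRing A] (J : Ideal B) (D : Type u) [AddCommGroup D] [Module B D] [Module.Finite B D]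

/-- **Homomorphisms into the closed fibre lift to the stalk** whose homomorphism module has depth two modulo
the maximal ideal along the closed set. -/
theorem surjective_restrDual_of_depth (hfree : ∀ q : Ideal B, ∀ [q.IsPrime], ¬J ≤ q →
      Module.Free (Localization.AtPrime q) (LocalizedModule q.primeCompl D))
    (hR : ∀ p : Ideal B, ∀ [p.IsPrime], J ≤ p → mB A B ≤ p → (2 : ℕ∞) ≤ locDepth p (B ⧸ mB A B))
    (hP : ∀ p : Ideal B, ∀ [p.IsPrime], J ≤ p → mB A B ≤ p → (2 : ℕ∞) ≤ locDepth p
      ((D →ₗ[B] B) ⧸ (mB A B • (⊤ : Submodule B (D →ₗ[B] B))))) :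
    Function.Surjective (restrDual A B D) := by
  classical
  haveI := Module.finitePresentation_of_finite B D
  set I := mB A B with hIdef
  let L := D →ₗ[B] B
  let L₀ := D →ₗ[B] B ⧸ I
  let fl : B →ₗ[B] B ⧸ I :=
    Submodule.mkQ I
  let θ : L →ₗ[B] L₀ := LinearMap.llcomp B D (B) (B ⧸ I) fl
  have hθI : I • (⊤ : Submodule B L) ≤ LinearMap.ker θ := Submodule.smul_le.2 fun a ha h _ => by
    refine LinearMap.ext fun x => ?_
    show fl ((a • h) x) = 0
    rw [LinearMap.smul_apply, map_smul]
    obtain ⟨b, hb⟩ := Submodule.Quotient.mk_surjective _ (fl (h x))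
    rw [← hb, ← Submodule.Quotient.mk_smul, Submodule.Quotient.mk_eq_zero]
    exact I.mul_mem_right b ha
  let P := L ⧸ I • (⊤ : Submodule B L)
  let θ' : P →ₗ[B] L₀ := Submodule.liftQ _ θ hθI
  -- off the closed set some element outside the prime kills kernel and cokernel
  have hkill : ∀ q : Ideal B, ∀ [q.IsPrime], ¬J ≤ q → ∃ s : B, s ∉ q ∧
      (∀ x : P, θ' x = 0 → s • x = 0) ∧ ∀ h : L₀, s • h ∈ LinearMap.range θ' := by
    intro q _ hJ
    obtain ⟨s, r, u, v, hs, hvu⟩ := exists_split_of_free q D (hfree q hJ)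
    refine ⟨s, hs, fun x hx => ?_, fun h => ?_⟩
    · obtain ⟨h, rfl⟩ := Submodule.Quotient.mk_surjective _ x
      rw [← Submodule.Quotient.mk_smul, Submodule.Quotient.mk_eq_zero]
      have h1 : s • h = (h ∘ₗ v) ∘ₗ u := by
        rw [LinearMap.comp_assoc, hvu, LinearMap.comp_smul, LinearMap.comp_id]
      rw [h1]
      obtain ⟨b, hb⟩ : ∃ b : _ → B, ∀ j, b j = h (v (Pi.single j 1)) := ⟨fun j => h (v (Pi.single j 1)), fun _ => rfl⟩
      have hbI : ∀ j, b j ∈ I := fun j => by
        have h2 := LinearMap.congr_fun (show θ h = 0 from hx) (v (Pi.single j 1))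
        change fl (h (v (Pi.single j 1))) = 0 at h2
        rw [← hb j] at h2
        exact (Submodule.Quotient.mk_eq_zero _).1 h2
      have h3 : (h ∘ₗ v) ∘ₗ u = ∑ j, b j • ((LinearMap.toSpanSingleton B (B)
          1) ∘ₗ LinearMap.proj j ∘ₗ u) := by
        refine LinearMap.ext fun x => ?_
        simp only [LinearMap.comp_apply, LinearMap.sum_apply, LinearMap.smul_apply, LinearMap.proj_apply,
          LinearMap.toSpanSingleton_apply]
        conv_lhs => rw [pi_eq_sum_univ' (u x)]
        simp only [map_sum, map_smul, ← hb, ← Submodule.Quotient.mk_smul, smul_eq_mul, mul_one, one_mul, mul_comm]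
      rw [h3]
      exact Submodule.sum_mem _ fun j _ => Submodule.smul_mem_smul (hbI j) Submodule.mem_top
    · obtain ⟨w, hw⟩ := Module.projective_lifting_property fl (h ∘ₗ v) (Submodule.mkQ_surjective _)
      refine ⟨Submodule.Quotient.mk (w ∘ₗ u), ?_⟩
      show fl ∘ₗ (w ∘ₗ u) = s • h
      rw [← LinearMap.comp_assoc, hw, LinearMap.comp_assoc, hvu, LinearMap.comp_smul, LinearMap.comp_id]
  have hIP : ∀ a ∈ I, ∀ x : P, a • x = 0 := fun a ha x => by
    obtain ⟨h, rfl⟩ := Submodule.Quotient.mk_surjective _ x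
    rw [← Submodule.Quotient.mk_smul, Submodule.Quotient.mk_eq_zero]
    exact Submodule.smul_mem_smul ha Submodule.mem_top
  have hIL : ∀ a ∈ I, ∀ h : L₀, a • h = 0 := fun a ha h => LinearMap.ext fun x => by
    obtain ⟨b, hb⟩ := Submodule.Quotient.mk_surjective _ (h x)
    rw [LinearMap.smul_apply, ← hb, ← Submodule.Quotient.mk_smul, LinearMap.zero_apply, Submodule.Quotient.mk_eq_zero]
    exact I.mul_mem_right b ha
  -- injective
  have hinj : Function.Injective θ' := by
    by_contra hni
    rw [← LinearMap.ker_eq_bot] at hni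
    haveI : Nontrivial (LinearMap.ker θ') := Submodule.nontrivial_iff_ne_bot.2 hni
    obtain ⟨q, hq⟩ := associatedPrimes.nonempty B (LinearMap.ker θ')
    haveI : q.IsPrime := hq.1
    by_cases hqq : J ≤ q ∧ I ≤ q
    · have h0 := locDepth_eq_zero_of_assoc q (M := P)
        (associatedPrimes.subset_of_injective (f := (LinearMap.ker θ').subtype) Subtype.coe_injective hq)
      exact absurd ((hP q hqq.1 hqq.2).trans h0.le) (by decide)
    · have : ∃ s : B, s ∉ q ∧ ∀ x : LinearMap.ker θ', s • x = 0 := by
        rw [not_and_or] at hqq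
        rcases hqq with hJ | hI
        · obtain ⟨s, hs, hk, -⟩ := hkill q hJ
          exact ⟨s, hs, fun x => Subtype.ext (hk x.1 x.2)⟩
        · obtain ⟨a, ha, haq⟩ := SetLike.not_le_iff_exists.1 hI
          exact ⟨a, haq, fun x => Subtype.ext (hIP a ha x.1)⟩
      obtain ⟨s, hs, hsm⟩ := this
      exact hs (hq.annihilator_le (Submodule.mem_annihilator.2 fun m _ => hsm m))
  -- surjective
  have hsur : LinearMap.range θ' = ⊤ := by
    rw [← Submodule.Quotient.subsingleton_iff]
    refine subsingleton_of_smul_or_depth (B := B) fun q _ => ?_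
    by_cases hqq : J ≤ q ∧ I ≤ q
    · refine Or.inr (le_trans ?_ (locDepth_exact q θ' (LinearMap.range θ').mkQ hinj (Submodule.mkQ_surjective _)
        (LinearMap.exact_map_mkQ_range θ')).2)
      refine le_min ?_ ?_
      · refine le_trans ?_ (min_two_le_locDepth_hom q D (B ⧸ I))
        exact le_min (by decide) (le_trans (by decide) (hR q hqq.1 hqq.2))
      · exact le_trans (show (1 : ℕ∞) ≤ 2 - 1 by decide) (tsub_le_tsub_right (hP q hqq.1 hqq.2) 1)
    · left
      rw [not_and_or] at hqq
      rcases hqq with hJ | hI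
      · obtain ⟨s, hs, -, hr⟩ := hkill q hJ
        refine ⟨s, hs, fun x => ?_⟩
        obtain ⟨h, rfl⟩ := Submodule.Quotient.mk_surjective _ x
        rw [← Submodule.Quotient.mk_smul, Submodule.Quotient.mk_eq_zero]
        exact hr h
      · obtain ⟨a, ha, haq⟩ := SetLike.not_le_iff_exists.1 hI
        refine ⟨a, haq, fun x => ?_⟩
        obtain ⟨h, rfl⟩ := Submodule.Quotient.mk_surjective _ x
        rw [← Submodule.Quotient.mk_smul, hIL a ha, Submodule.Quotient.mk_zero]
  intro h
  obtain ⟨x, hx⟩ := LinearMap.range_eq_top.1 hsur h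
  obtain ⟨h', rfl⟩ := Submodule.Quotient.mk_surjective _ x
  exact ⟨h', hx⟩

end Groth.Agent.DualLib.RelTop
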