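import Groth.Agent.DualLib.RelTop.VirtTools
import Groth.Agent.DualLib.RelTop.CMIso
import Groth.Agent.DualLib.RelTop.SplitPoint
import Groth.Agent.Surf15.HomShIso
import Groth.Agent.FlatMor12.IsoLocusMod
import Groth.Agent.Coherent.CohOps
import Groth.Agent.CAlgH3.Depth

/-!
# Evaluation `L ⊗ Hom(L, ω) → ω` and depth lemmas for the dualizing sheaf
-/

set_option autoImplicit false
set_option backward.isDefEq.respectTransparency.types false
set_option backward.isDefEq.respectTransparency false
set_option linter.style.haveILetI false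
set_option linter.unusedSectionVars false

universe u

open CategoryTheory CategoryTheory.Limits AlgebraicGeometry IsLocalRing TopologicalSpace Opposite
open scoped TensorProduct

namespace Groth.Agent.DualLib.RelTop

open Groth.Agent

section Algebra

variable {B : Type u} [CommRing B] [IsNoetherianRing B] [IsLocalRing B]

/-- A module whose endomorphisms are the scalars has positive depth when the ring has. -/
theorem one_le_depth_of_end {M : Type u} [AddCommGroup M] [Module B M] [Module.Finite B M]
    (hend : Function.Bijective fun r : B => r • (LinearMap.id : M →ₗ[B] M))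
    (hB : (1 : ℕ∞) ≤ _root_.LocCoh.depth B B) : (1 : ℕ∞) ≤ _root_.LocCoh.depth B M := by
  rcases subsingleton_or_nontrivial M with hM | hM
  · rw [CAlgH3.depth_eq_top_of_subsingleton]; exact le_top
  by_contra hc
  rw [Order.one_le_iff_pos, pos_iff_ne_zero, not_not, CAlgH3.depth_eq_zero_iff] at hc
  obtain ⟨-, i, hi⟩ := (isAssociatedPrime_iff_exists_injective_linearMap (maximalIdeal B) M).1 hc
  let k := B ⧸ maximalIdeal B
  let Q := M ⧸ (maximalIdeal B • (⊤ : Submodule B M))
  haveI : Nontrivial Q := Submodule.Quotient.nontrivial_iff.2 CAlgH3.maximal_smul_top_ne_top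
  letI : Field k := Ideal.Quotient.field (maximalIdeal B)
  have htor : Module.IsTorsionBySet B Q (maximalIdeal B : Set B) := fun x r => by
    obtain ⟨x, rfl⟩ := Submodule.Quotient.mk_surjective _ x
    rw [← Submodule.Quotient.mk_smul, Submodule.Quotient.mk_eq_zero]
    exact Submodule.smul_mem_smul r.2 trivial
  letI : Module k Q := htor.module
  haveI : IsScalarTower B k Q := htor.isScalarTower
  obtain ⟨v, hv⟩ := exists_ne (0 : Q)
  obtain ⟨l, hl⟩ := Module.Projective.exists_dual_ne_zero k hv
  let g : M →ₗ[B] M := i ∘ₗ (l.restrictScalars B) ∘ₗ (maximalIdeal B • (⊤ : Submodule B M)).mkQ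
  obtain ⟨b, hb⟩ := hend.2 g
  have hb0 : b ≠ 0 := fun h => by
    obtain ⟨v, rfl⟩ := Submodule.Quotient.mk_surjective _ v
    refine hl ((map_eq_zero_iff i hi).1 ?_)
    have := LinearMap.congr_fun hb v
    rw [h] at this
    show g v = 0
    rw [← this]
    exact zero_smul B v
  have hmb : ∀ a ∈ maximalIdeal B, a * b = 0 := fun a ha => hend.1 (LinearMap.ext fun w => by
    show (a * b) • w = (0 : B) • w
    rw [zero_smul, mul_smul, show b • w = g w from LinearMap.congr_fun hb w]
    show a • i _ = 0
    rw [← map_smul]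
    obtain ⟨q, hq⟩ := Ideal.Quotient.mk_surjective (l ((maximalIdeal B • (⊤ : Submodule B M)).mkQ w))
    show i (a • l ((maximalIdeal B • (⊤ : Submodule B M)).mkQ w)) = 0
    rw [← hq, show a • Ideal.Quotient.mk (maximalIdeal B) q = Ideal.Quotient.mk (maximalIdeal B) (a * q) from rfl,
      Ideal.Quotient.eq_zero_iff_mem.2 (Ideal.mul_mem_right _ _ ha), map_zero])
  have : maximalIdeal B ∈ associatedPrimes B B := by
    refine isAssociatedPrime_iff.2 ⟨(maximalIdeal.isMaximal B).isPrime, b, le_antisymm (fun a ha => ?_) fun a ha => ?_⟩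
    · exact Submodule.mem_colon_singleton.2 ((Submodule.mem_bot B).2 (hmb a ha))
    · by_contra hna
      have h1 : a * b = 0 := (Submodule.mem_bot B).1 (Submodule.mem_colon_singleton.1 ha)
      exact hb0 ((IsLocalRing.notMem_maximalIdeal.1 hna).mul_right_eq_zero.1 h1)
  rw [CAlgH3.depth_eq_zero_iff.2 this] at hB
  exact absurd hB (by norm_num)

omit [IsNoetherianRing B] in
/-- A dual whose double dual is free of rank one is free of rank one. -/
theorem nonempty_dual_equiv_of_ddual {F : Type u} [AddCommGroup F] [Module B F]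
    (e : Module.Dual B (Module.Dual B (Module.Dual B F)) ≃ₗ[B] B) : Nonempty (Module.Dual B F ≃ₗ[B] B) := by
  let G := Module.Dual B F
  let s := Module.Dual.eval B G
  let r : Module.Dual B (Module.Dual B G) →ₗ[B] G := (Module.Dual.eval B F).dualMap
  have hrs : ∀ g, r (s g) = g := fun g => LinearMap.ext fun x => rfl
  let π : B →ₗ[B] B := e.toLinearMap ∘ₗ s ∘ₗ r ∘ₗ e.symm.toLinearMap
  have hπ : ∀ c, π c = e (s (r (e.symm c))) := fun c => rfl
  have hππ : π (π 1) = π 1 := by rw [hπ, hπ, e.symm_apply_apply, hrs]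
  have hlin : ∀ c, π c = c * π 1 := fun c => by
    rw [← smul_eq_mul, ← map_smul, smul_eq_mul, mul_one]
  have hr : Function.Surjective r := fun g => ⟨s g, hrs g⟩
  have hsinj : Function.Injective s := Function.LeftInverse.injective hrs
  rcases IsLocalRing.isUnit_or_isUnit_of_add_one (a := π 1) (b := 1 - π 1) (by ring) with hu | hu
  · have h1 : π 1 = 1 := hu.mul_left_cancel (by rw [mul_one, ← hlin, hππ])
    have hid : ∀ c, π c = c := fun c => by rw [hlin, h1, mul_one]
    refine ⟨(LinearEquiv.ofBijective s ⟨hsinj, fun v => ⟨r v, e.injective ?_⟩⟩).trans e⟩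
    have := hid (e v)
    rwa [hπ, e.symm_apply_apply] at this
  · have h0 : π 1 = 0 := by
      refine hu.mul_left_cancel ?_
      rw [mul_zero, sub_mul, one_mul, ← hlin, hππ, sub_self]
    exfalso
    have hG : ∀ g : G, g = 0 := fun g => hsinj (e.injective (by
      have h2 : π (e (s g)) = 0 := by rw [hlin, h0, mul_zero]
      rw [hπ, e.symm_apply_apply, hrs] at h2
      simpa using h2))
    have : e.symm 1 = 0 := LinearMap.ext fun f => by
      rw [show f = 0 from LinearMap.ext fun g => by rw [hG g, map_zero, map_zero], map_zero, map_zero]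
    exact one_ne_zero (α := B) (by rw [← e.apply_symm_apply 1, this, map_zero])

end Algebra

variable {X : Scheme.{u}}

/-- Evaluation `L ⊗ Hom(L, N) → N`. -/
noncomputable def evalHom (L N : X.Modules) : CohB1.tensorMod L (RefHull.homSh L N) ⟶ N :=
  (Surf15.evalBilin (F := L) (G := N)).desc

variable [IsLocallyNoetherian X]

/-- Evaluation is bijective where `Hom(L, N)` is invertible and some `L_x → N_x` is bijective. -/
theorem bijective_stalk_evalHom {L N : X.Modules} (hL : Coh.IsCoh L) (hN : Coh.IsCoh N) (x : X)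
    (φ : L.presheaf.stalk x ≃ₗ[X.presheaf.stalk x] N.presheaf.stalk x)
    (eM : (RefHull.homSh L N).presheaf.stalk x ≃ₗ[X.presheaf.stalk x] X.presheaf.stalk x) :
    Function.Bijective (RefHull.stalkMapₗ (evalHom L N) x) := by
  let O := X.presheaf.stalk x
  let M := RefHull.homSh L N
  obtain ⟨θ, hθ⟩ := (RefHullLib.evalStalk_bijective_of_isCoh (G := N) hL x).2 φ.toLinearMap
  obtain ⟨Ug, hxg, g, rfl⟩ := M.presheaf.exists_germ_eq θ
  rw [RefHull.evalStalk_germ] at hθ
  have hsurj : Function.Surjective (RefHull.stalkMapₗ (evalHom L N) x) := fun w => by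
    obtain ⟨Ua, hxa, a, ha⟩ := L.presheaf.exists_germ_eq (φ.symm w)
    let U := Ua ⊓ Ug
    have hx : x ∈ U := ⟨hxa, hxg⟩
    refine ⟨(CohB1.tensorMod L M).presheaf.germ U x hx
      (AmpleLib.tmul (L.presheaf.map (homOfLE (inf_le_left : U ≤ Ua)).op a)
        (M.presheaf.map (homOfLE (inf_le_right : U ≤ Ug)).op g)), ?_⟩
    rw [RefHull.stalkMapₗ_germ]
    show N.presheaf.germ U x hx ((Surf15.evalBilin (F := L) (G := N)).desc.app U _) = w
    rw [AmpleLib.Bilin.desc_tmul]
    show N.presheaf.germ U x hx (Surf15.evalSec _ _) = w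
    rw [Surf15.germ_evalSec, TopCat.Presheaf.germ_res_apply, ha]
    show g.1 ⟨x, hxg⟩ (φ.symm w) = w
    rw [hθ]
    exact φ.apply_symm_apply w
  haveI : Module.Finite O (N.presheaf.stalk x) := AssSch12.finite_stalk hN x
  let eL : (DerSch.stalkFunctor X x).obj M ≅ (DerSch.stalkFunctor X x).obj (Coh.structureModule X) :=
    LinearEquiv.toModuleIso (eM.trans (SDiv28.unitStalkEquiv (X := X) x))
  let e1 : (CohB1.tensorMod L M).presheaf.stalk x ≃ₗ[O] (CohB1.tensorMod L (Coh.structureModule X)).presheaf.stalk x :=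
    ((ModStalk.stalkTensorIso x L M) ≪≫ MonoidalCategory.tensorIso (Iso.refl _) eL ≪≫
      (ModStalk.stalkTensorIso x L (Coh.structureModule X)).symm).toLinearEquiv
  let e2 : (CohB1.tensorMod L (Coh.structureModule X)).presheaf.stalk x ≃ₗ[O] L.presheaf.stalk x :=
    ((DerSch.stalkFunctor X x).mapIso (AmpleLib.tensorComm _ _ ≪≫ AmpleLib.unitTensorIso L)).toLinearEquiv
  let e := e1.trans (e2.trans φ)
  refine ⟨?_, hsurj⟩
  have hinj := OrzechProperty.injective_of_surjective_endomorphism
    (RefHull.stalkMapₗ (evalHom L N) x ∘ₗ e.symm.toLinearMap) (hsurj.comp e.symm.surjective)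
  exact (Function.Injective.of_comp_iff' _ e.symm.bijective).1 hinj

/-- The locus where a map of coherent modules is bijective on stalks is open. -/
theorem isOpen_bijective_stalk {F G : X.Modules} (hF : Coh.IsCoh F) (hG : Coh.IsCoh G) (u : F ⟶ G) :
    IsOpen {x : X | Function.Bijective (RefHull.stalkMapₗ u x)} := by
  haveI := hF.1
  haveI := hG.1
  have hK := Coherent.isCoh_kernel u hF hG.1
  have hC := Coherent.isCoh_cokernel u hF.1 hG
  haveI := hK.1
  haveI := hC.1
  have h1 := (FlatMor12.IsoLocusMod.suppM_props (Coherent.isFP_of_isCoh hK)).1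
  have h2 := (FlatMor12.IsoLocusMod.suppM_props (Coherent.isFP_of_isCoh hC)).1
  convert (h1.union h2).isOpen_compl using 1
  ext x
  simp only [Set.mem_compl_iff, Set.mem_union, FlatMor12.IsoLocusMod.mem_suppM_kernel,
    FlatMor12.IsoLocusMod.mem_suppM_cokernel, not_or, not_not]
  exact Iff.rfl

section Field

/-- Over a field, Cohen–Macaulay points of the scheme are Cohen–Macaulay points of the structure map. -/
theorem isCMAt_field {K : Type u} [Field K] {Z : Scheme.{u}} (p : Z ⟶ Spec (CommRingCat.of K)) [Flat p] (z : Z)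
    (h : LocCoh.IsCohenMacaulayLocalRing (Z.presheaf.stalk z)) : MoreMor.IsCMAt p z := by
  refine (FlatMor12.isCMAt_iff p z).2 ⟨Flat.stalkMap p z, ?_⟩
  have hm : (maximalIdeal ((Spec (CommRingCat.of K)).presheaf.stalk (p z))).map (p.stalkMap z).hom = ⊥ := by
    let q : PrimeSpectrum K := p z
    letI : Algebra K ((Spec (CommRingCat.of K)).presheaf.stalk (p z)) := (StructureSheaf.toStalk K q).hom.toAlgebra
    haveI : IsLocalization.AtPrime ((Spec (CommRingCat.of K)).presheaf.stalk (p z)) q.asIdeal :=
      StructureSheaf.IsLocalization.to_stalk (CommRingCat.of K) q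
    rw [← IsLocalization.AtPrime.map_eq_maximalIdeal q.asIdeal ((Spec (CommRingCat.of K)).presheaf.stalk (p z)),
      show q.asIdeal = ⊥ from (Ideal.eq_bot_or_top q.asIdeal).resolve_right q.2.ne_top, Ideal.map_bot, Ideal.map_bot]
  exact CAlgH3.isCohenMacaulayLocalRing_of_ringEquiv ((RingEquiv.quotientBot _).symm.trans (Ideal.quotEquivOfEq hm.symm))

variable [∀ (U V : Scheme.{u}) (j : U ⟶ V) [IsOpenImmersion j], PreservesFiniteLimits (Scheme.Modules.restrictFunctor j)]

/-- The dualizing sheaf of an `(S₂)` proper scheme over a field satisfies `(S₂)`. -/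
theorem skAt_two_dualizing (K : Type u) [Field K] (Y : Scheme.{u}) [Y.Over (Spec (CommRingCat.of K))]
    [IsProper (Y ↘ Spec (CommRingCat.of K))] [Flat (Y ↘ Spec (CommRingCat.of K))] (d : ℕ)
    (hd : Cyc.HasRelDim (Y ↘ Spec (CommRingCat.of K)) d) (ω : Y.Modules) (hω : RelCanon.IsDualizingSheaf K Y d ω)
    (z : Y) (hS : _root_.LocCoh.HasSk 2 (Y.presheaf.stalk z) (Y.presheaf.stalk z)) :
    RelCanon.SkAt 2 ω z := by
  let p := Y ↘ Spec (CommRingCat.of K)
  haveI : IsLocallyNoetherian Y := LocallyOfFiniteType.isLocallyNoetherian p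
  obtain ⟨hωc, hω2⟩ := isCoh_and_two_le_depth (A := K) (Y := Y) d hd ω hω
  intro q hq
  let w := EGA43.DimFormula.toPt z ⟨q, hq⟩
  obtain ⟨φ, e, he⟩ := exists_semilinear_toPt ω hωc.1 z ⟨q, hq⟩
  have hdepth := depth_semilinear φ e he
  have hdim : ringKrullDim (Localization.AtPrime q) = ringKrullDim (Y.presheaf.stalk w) :=
    ringKrullDim_eq_of_ringEquiv φ
  have hdepB : _root_.LocCoh.depth (Localization.AtPrime q) (Localization.AtPrime q) =
      _root_.LocCoh.depth (Y.presheaf.stalk w) (Y.presheaf.stalk w) := CAlgH3.depth_ringEquiv φ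
  have hR := (CAlgH3.hasSk_self_iff 2).1 hS q
  rw [hdim, hdepB] at hR
  show min ((2 : ℕ) : WithBot ℕ∞) (Module.supportDim (Localization.AtPrime q)
    (LocalizedModule q.primeCompl (ω.presheaf.stalk z))) ≤ _
  rw [hdepth]
  refine le_trans (min_le_min le_rfl (Module.supportDim_le_ringKrullDim _ _)) ?_
  rw [hdim]
  by_cases h2 : (2 : WithBot ℕ∞) ≤ ringKrullDim (Y.presheaf.stalk w)
  · exact le_trans (min_le_left _ _) (WithBot.coe_le_coe.2
      (hω2 w (by rw [dim_fiber_over_field p w]; exact h2)))
  · by_cases h1 : (1 : WithBot ℕ∞) ≤ ringKrullDim (Y.presheaf.stalk w)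
    · have hd1 : ringKrullDim (Y.presheaf.stalk w) ≤
          ((_root_.LocCoh.depth (Y.presheaf.stalk w) (Y.presheaf.stalk w) : ℕ∞) : WithBot ℕ∞) :=
        (min_le_iff.1 hR).resolve_left fun h => h2 (le_trans h
          ((CAlgH3.depth_le_supportDim (R := Y.presheaf.stalk w) (M := Y.presheaf.stalk w)).trans
            (Module.supportDim_self_eq_ringKrullDim (R := Y.presheaf.stalk w)).le))
      have hcm : MoreMor.IsCMAt p w := isCMAt_field p w ⟨le_antisymm
        ((Module.supportDim_self_eq_ringKrullDim (R := Y.presheaf.stalk w)).le.trans hd1) CAlgH3.depth_le_supportDim⟩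
      haveI : Module.Finite (Y.presheaf.stalk w) (ω.presheaf.stalk w) := AssSch12.finite_stalk hωc w
      refine le_trans (min_le_right _ _) (le_trans ?_ (WithBot.coe_le_coe.2
        (one_le_depth_of_end (bijective_end_stalk K Y d hd ω hω w hcm) (WithBot.coe_le_coe.1 (h1.trans hd1)))))
      induction hk : ringKrullDim (Y.presheaf.stalk w) using WithBot.recBotCoe with
      | bot => exact bot_le
      | coe n =>
        rw [hk] at h2
        refine WithBot.coe_le_coe.2 (not_lt.1 fun hn => h2 (WithBot.coe_le_coe.2 ?_))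
        exact (Order.add_one_le_of_lt hn).trans' (by norm_num)
    · refine le_trans (min_le_right _ _) ?_
      induction hd : ringKrullDim (Y.presheaf.stalk w) using WithBot.recBotCoe with
      | bot => exact bot_le
      | coe n =>
        rw [hd] at h1
        rw [show n = 0 from by
          by_contra hn
          exact h1 (WithBot.coe_le_coe.2 (Order.one_le_iff_pos.2 (pos_iff_ne_zero.2 hn)))]
        exact WithBot.coe_le_coe.2 zero_le

end Field

end Groth.Agent.DualLib.RelTop
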