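import Groth.Agent.DualLib.RelTop.EndLocal
import Groth.Agent.QG15.DualExtend
import Groth.Agent.ZClosLib.Depth
import Groth.Agent.RefHullLib.Reflexive
import Groth.Agent.LocCoh.Gorenstein
import Groth.Agent.S4961

/-!
# Coherent modules of depth two extend; scalars into the endomorphism sheaf
-/

set_option autoImplicit false
set_option backward.isDefEq.respectTransparency.types false
set_option linter.style.haveILetI false

universe u

open CategoryTheory AlgebraicGeometry TopologicalSpace Opposite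

namespace Groth.Agent.DualLib.RelTop

open Groth.Agent.QG15

variable {X : Scheme.{u}}

/-- A coherent module of depth at least two off an open extends across it. -/
theorem extends_of_depth [IsLocallyNoetherian X] (M : X.Modules) (hM : Coh.IsCoh M) (U : X.Opens)
    (h : ∀ x : X, x ∉ U → (2 : ℕ∞) ≤ _root_.LocCoh.depth (X.presheaf.stalk x) (M.presheaf.stalk x)) :
    Extends M U := by
  let Z : Set X := (U : Set X)ᶜ
  have hZ : StableUnderSpecialization Z := U.isOpen.isClosed_compl.stableUnderSpecialization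
  haveI : Coh.IsQCoh M := hM.1
  have hpure : ∀ x, ZClosLib.PureAt Z M x := fun x =>
    (ZClosLib.pureAt_iff_depth hM hZ x).2 fun y _ hyZ => le_trans (by norm_num) (h y hyZ)
  have hext : ∀ x, ZClosLib.ExtAt Z M x := fun x =>
    ZClosLib.extAt_of_depth hM hZ (hpure x) fun y _ hyZ => h y hyZ
  intro V _
  let Fsh : TopCat.Sheaf Ab X := ⟨M.presheaf, M.isSheaf⟩
  have hres : ∀ (a : Γ(M, V)) (z : X) (hz : z ∈ V ⊓ U),
      M.presheaf.germ (V ⊓ U) z hz (M.presheaf.map (homOfLE (inf_le_left : V ⊓ U ≤ V)).op a) =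
        M.presheaf.germ V z hz.1 a := fun a z hz => TopCat.Presheaf.germ_res_apply _ _ _ _ _
  constructor
  · intro a b hab
    refine TopCat.Presheaf.section_ext Fsh _ _ _ fun x hx => ?_
    show M.presheaf.germ V x hx a = M.presheaf.germ V x hx b
    rw [← sub_eq_zero, ← map_sub]
    refine hpure x V (a - b) hx fun y hy hyZ => ?_
    have hyU : y ∈ U := Classical.not_not.1 hyZ
    rw [map_sub, sub_eq_zero, ← hres a y ⟨hy, hyU⟩, ← hres b y ⟨hy, hyU⟩]
    exact congrArg _ hab
  · intro s
    choose N f hxN hf using fun x : V => hext x.1 V (V ⊓ U) s x.2 inf_le_left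
      (fun y hy hy' hyU => hy' ⟨hy, hyU⟩)
    obtain ⟨t, ht⟩ := exists_section_of_germs M V (fun y => M.presheaf.germ (N y) y.1 (hxN y) (f y)) fun y =>
      ⟨N y ⊓ V, inf_le_right, ⟨hxN y, y.2⟩, M.presheaf.map (homOfLE (inf_le_left : N y ⊓ V ≤ N y)).op (f y),
        fun z hz => by
          rw [TopCat.Presheaf.germ_res_apply]
          let y' : V := ⟨z, hz.2⟩
          have key : M.presheaf.map (homOfLE (inf_le_left : N y ⊓ N y' ⊓ V ≤ N y ⊓ N y') ≫ homOfLE inf_le_left).op (f y) =
              M.presheaf.map (homOfLE (inf_le_left : N y ⊓ N y' ⊓ V ≤ N y ⊓ N y') ≫ homOfLE inf_le_right).op (f y') := by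
            refine TopCat.Presheaf.section_ext Fsh _ _ _ fun w hw => ?_
            show M.presheaf.germ _ w hw _ = M.presheaf.germ _ w hw _
            rw [← sub_eq_zero, ← map_sub]
            refine hpure w _ _ hw fun v hv hvZ => ?_
            have hvU : v ∈ U := Classical.not_not.1 hvZ
            rw [map_sub, sub_eq_zero, TopCat.Presheaf.germ_res_apply, TopCat.Presheaf.germ_res_apply,
              hf y v hv.1.1 ⟨hv.2, hvU⟩ hvZ, hf y' v hv.1.2 ⟨hv.2, hvU⟩ hvZ]
          have := congrArg (M.presheaf.germ _ z (show z ∈ N y ⊓ N y' ⊓ V from ⟨⟨hz.1, hxN y'⟩, hz.2⟩)) key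
          rwa [TopCat.Presheaf.germ_res_apply, TopCat.Presheaf.germ_res_apply] at this⟩
    refine ⟨t, TopCat.Presheaf.section_ext Fsh _ _ _ fun x hx => ?_⟩
    refine (hres t x hx).trans ((ht ⟨x, hx.1⟩).trans ?_)
    exact hf ⟨x, hx.1⟩ x (hxN _) hx (fun hc => hc hx.2)

/-- A morphism of modules that extend, bijective on the stalks over the open, is an isomorphism. -/
theorem isIso_of_extends {M N : X.Modules} (φ : M ⟶ N) {U : X.Opens} (hM : Extends M U) (hN : Extends N U)
    (h : ∀ y : X, y ∈ U → Function.Bijective (RefHull.stalkMapₗ φ y)) : IsIso φ := by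
  have hU : ∀ V : X.Opens, V ≤ U → Function.Bijective (φ.app V) := fun V hV =>
    TopCat.Presheaf.app_bijective_of_stalkFunctor_map_bijective
      (F := ⟨M.presheaf, M.isSheaf⟩) (G := ⟨N.presheaf, N.isSheaf⟩) ⟨φ.mapPresheaf⟩ V fun x hx => h x (hV hx)
  refine TwistLib.G.isIso_of_bijective_on_basis φ (fun B => IsAffineOpen B) (fun V y hy => ?_) fun B hB => ?_
  · obtain ⟨W, hW, hyW, hWV⟩ := exists_isAffineOpen_mem_and_subset (x := y) (U := V) hy
    exact ⟨W, hW, hyW, hWV⟩
  · have hc : ∀ m : Γ(M, B), N.presheaf.map (homOfLE (inf_le_left : B ⊓ U ≤ B)).op (φ.app B m) =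
        φ.app (B ⊓ U) (M.presheaf.map (homOfLE (inf_le_left : B ⊓ U ≤ B)).op m) := fun m =>
      (ConcreteCategory.congr_hom (φ.mapPresheaf.naturality (homOfLE (inf_le_left : B ⊓ U ≤ B)).op) m).symm
    refine ⟨fun a b hab => (hM B hB).1 ((hU _ inf_le_right).1 ((hc a).symm.trans
      ((congrArg _ hab).trans (hc b)))), fun n => ?_⟩
    obtain ⟨m', hm'⟩ := (hU (B ⊓ U) inf_le_right).2 (N.presheaf.map (homOfLE (inf_le_left : B ⊓ U ≤ B)).op n)
    obtain ⟨m, rfl⟩ := (hM B hB).2 m'
    exact ⟨m, (hN B hB).1 ((hc m).trans hm')⟩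

/-- Scalars as sections of the endomorphism sheaf. -/
noncomputable def scalFun (F : X.Modules) (U : X.Opens) : Γ(Coh.structureModule X, U) →+ Γ(RefHull.homSh F F, U) where
  toFun r := ⟨fun x => X.presheaf.germ U x.1 x.2 (show Γ(X, U) from r) • LinearMap.id, fun V i m x => by
    refine ⟨V, x.2, 𝟙 V, X.presheaf.map i.op (show Γ(X, U) from r) • m, fun y => ?_⟩
    rw [Mero.germ_smul, TopCat.Presheaf.germ_res_apply]
    rfl⟩
  map_zero' := Subtype.ext (funext fun x => by
    show X.presheaf.germ U x.1 x.2 0 • LinearMap.id = _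
    rw [map_zero, zero_smul]
    rfl)
  map_add' r s := Subtype.ext (funext fun x => by
    show X.presheaf.germ U x.1 x.2 ((show Γ(X, U) from r) + (show Γ(X, U) from s)) • LinearMap.id = _
    rw [map_add, add_smul]
    rfl)

/-- Scalars into the endomorphism sheaf. -/
noncomputable def scalMap (F : X.Modules) : Coh.structureModule X ⟶ RefHull.homSh F F :=
  ⟨PresheafOfModules.homMk
    { app := fun U => AddCommGrpCat.ofHom (scalFun F U.unop)
      naturality := fun {U V} i => by
        ext r
        refine Subtype.ext (funext fun x => ?_)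
        show X.presheaf.germ V.unop x.1 x.2 (X.presheaf.map i (show Γ(X, U.unop) from r)) • LinearMap.id = _
        rw [TopCat.Presheaf.germ_res_apply']
        rfl }
    (fun U r s => Subtype.ext <| funext fun x => by
      show X.presheaf.germ U.unop x.1 x.2 ((show Γ(X, U.unop) from r) * (show Γ(X, U.unop) from s)) • LinearMap.id =
        X.presheaf.germ U.unop x.1 x.2 (show Γ(X, U.unop) from r) •
          (X.presheaf.germ U.unop x.1 x.2 (show Γ(X, U.unop) from s) • LinearMap.id)
      rw [map_mul, mul_smul])⟩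

/-- Scalars are bijective on a stalk where the endomorphisms of the stalk are scalars. -/
theorem bijective_stalk_scalMap [IsLocallyNoetherian X] {F : X.Modules} (hF : Coh.IsCoh F) (x : X)
    (h : Function.Bijective fun r : X.presheaf.stalk x =>
      r • (LinearMap.id : F.presheaf.stalk x →ₗ[X.presheaf.stalk x] F.presheaf.stalk x)) :
    Function.Bijective (RefHull.stalkMapₗ (scalMap F) x) := by
  let u := SDiv28.unitStalkEquiv (X := X) x
  have key : (⇑(RefHull.evalStalk F F x) ∘ ⇑(RefHull.stalkMapₗ (scalMap F) x)) ∘ ⇑u =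
      fun r : X.presheaf.stalk x => r • (LinearMap.id : F.presheaf.stalk x →ₗ[X.presheaf.stalk x] F.presheaf.stalk x) := by
    funext r
    show RefHull.evalStalk F F x (RefHull.stalkMapₗ (scalMap F) x (r • AssSch12.unitOne x)) = _
    rw [map_smul, map_smul]
    refine congrArg (r • ·) ?_
    have h1 : ∀ (U : X.Opens) (hxU : x ∈ U) (s : Γ(Coh.structureModule X, U)),
        RefHull.evalStalk F F x (RefHull.stalkMapₗ (scalMap F) x ((Coh.structureModule X).presheaf.germ U x hxU s)) =
          X.presheaf.germ U x hxU (show Γ(X, U) from s) • LinearMap.id := fun U hxU s => by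
      rw [RefHull.stalkMapₗ_germ, RefHull.evalStalk_germ]
      rfl
    refine (h1 ⊤ trivial (1 : Γ(X, ⊤))).trans ?_
    show X.presheaf.germ ⊤ x trivial (1 : Γ(X, ⊤)) • LinearMap.id = _
    rw [map_one, one_smul]
  refine ((RefHullLib.evalStalk_bijective_of_isCoh hF x).of_comp_iff' _).1 ?_
  refine (Function.Bijective.of_comp_iff _ u.bijective).1 ?_
  rw [key]
  exact h

/-- Off the relative Cohen–Macaulay locus of an `S₂`-morphism the fibres have dimension at least two. -/
theorem two_le_dim_of_not_isCMAt {Y T : Scheme.{u}} (f : Y ⟶ T) [LocallyOfFiniteType f] [IsLocallyNoetherian T]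
    (hS : RelCanon.IsSkMor f 2) (y : Y) (hy : ¬ MoreMor.IsCMAt f y) :
    (2 : WithBot ℕ∞) ≤ ringKrullDim ((f.fiber (f y)).presheaf.stalk (f.asFiber y)) := by
  by_contra hlt
  apply hy
  haveI : Flat f := hS.1
  let R := (f.fiber (f y)).presheaf.stalk (f.asFiber y)
  have h1 : _root_.LocCoh.HasSk 2 R R :=
    (EGA43.FibDepth.hasSk_congr (EGA43.FibDepth.unitStalkEquiv (f.asFiber y)) 2).2 (hS.2.2 y)
  haveI : LocallyOfFiniteType (f.fiberToSpecResidueField (f y)) :=
    MorphismProperty.pullback_snd _ _ inferInstance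
  haveI : IsLocallyNoetherian (f.fiber (f y)) := LocallyOfFiniteType.isLocallyNoetherian (f.fiberToSpecResidueField (f y))
  have h2 := (CAlgH3.hasSk_self_iff 2).1 h1 (IsLocalRing.maximalIdeal R)
  let e : R ≃+* Localization.AtPrime (IsLocalRing.maximalIdeal R) :=
    (IsLocalization.atUnits R (IsLocalRing.maximalIdeal R).primeCompl (fun a ha =>
      IsLocalRing.notMem_maximalIdeal.1 ha)).toRingEquiv
  rw [← ringKrullDim_eq_of_ringEquiv e, ← CAlgH3.depth_ringEquiv e,
    min_eq_right (show ringKrullDim R ≤ ((2 : ℕ) : WithBot ℕ∞) by simpa using (not_le.1 hlt).le)] at h2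
  haveI hCM : _root_.LocCoh.IsCohenMacaulayLocalRing R := by
    refine (CAlgH3.isCohenMacaulayLocalRing_iff_depth R).2 (le_antisymm h2 ?_)
    rw [← Module.supportDim_self_eq_ringKrullDim]
    exact CAlgH3.depth_le_supportDim
  exact ⟨Flat.stalkMap f y, hCM⟩

end Groth.Agent.DualLib.RelTop
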