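import Groth.Agent.DCat.ClosedPush
import Groth.Agent.Dual6Lib.PerfShriek
import Groth.Agent.DCat.PullTensor
import Groth.Agent.DCat.TensorAssoc
import Groth.Agent.Coherent.RpushComp

/-!
# Tools for fibres: the counit along preimmersions, top cohomology of derived inverse images
-/

set_option autoImplicit false
set_option backward.isDefEq.respectTransparency false
set_option backward.defeqAttrib.useBackward true
set_option linter.style.haveILetI false

universe u

open CategoryTheory CategoryTheory.Limits AlgebraicGeometry Opposite TopologicalSpace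
open Groth.Agent.ModStalk Groth.Agent.Coherent Groth.Agent.PicLib Groth.Agent.AmpleLib
open scoped TensorProduct

namespace Groth.Agent.DualLib.RelTop

open Groth.Agent.DCat

variable {X Y : Scheme.{u}} (f : X ⟶ Y)

section Preimm

variable [IsPreimmersion f]

theorem exists_preimage (W : X.Opens) : ∃ W' : Y.Opens, f ⁻¹ᵁ W' = W := by
  obtain ⟨U', hU', e⟩ := f.isEmbedding.isInducing.isOpen_iff.1 W.2
  exact ⟨⟨U', hU'⟩, Opens.ext e⟩

theorem bijective_stalk_counit (M : X.Modules) (x : X) :
    Function.Bijective ((DerSch.stalkFunctor X x).map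
      ((Scheme.Modules.pullbackPushforwardAdjunction f).counit.app M)) := by
  let N := (Scheme.Modules.pushforward f).obj M
  have hval : ∀ (U : Y.Opens) (hx : f.base x ∈ U) (s : Γ(N, U)),
      (DerSch.stalkFunctor X x).map ((Scheme.Modules.pullbackPushforwardAdjunction f).counit.app M)
        (germP x (DCoh.toP.obj ((Scheme.Modules.pullback f).obj N)) (f ⁻¹ᵁ U) hx (pullSec f s)) =
      germP x (DCoh.toP.obj M) (f ⁻¹ᵁ U) hx (show Γ(M, f ⁻¹ᵁ U) from s) := fun U hx s => by
    refine (PullTensor.stalkMap_germP _ x _ hx _).trans (congrArg _ ?_)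
    exact ConcreteCategory.congr_hom (congrArg (fun φ => φ.app U)
      ((Scheme.Modules.pullbackPushforwardAdjunction f).right_triangle_components M)) s
  have hgen : ∀ e : (DerSch.stalkFunctor X x).obj ((Scheme.Modules.pullback f).obj N),
      ∃ (U : Y.Opens) (hx : f.base x ∈ U) (s : Γ(N, U)),
        e = germP x (DCoh.toP.obj ((Scheme.Modules.pullback f).obj N)) (f ⁻¹ᵁ U) hx (pullSec f s) := fun e => by
    obtain ⟨a, ha⟩ := ClosedPush.extend_unit_surjective (f.stalkMap x).hom (f.stalkMap_surjective x) _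
      ((pullbackStalkIso f x).hom.app N e)
    obtain ⟨U, hU, s, rfl⟩ := exists_germP_eq (DCoh.toP.obj N) a
    refine ⟨U, hU, s, (ConcreteCategory.bijective_of_isIso ((pullbackStalkIso f x).hom.app N)).1 ?_⟩
    exact ha.symm.trans (PullTensor.pullbackStalk_germ f x N U hU s).symm
  refine ⟨(injective_iff_map_eq_zero _).2 fun e he => ?_, fun m => ?_⟩
  · obtain ⟨U, hx, s, rfl⟩ := hgen e
    rw [hval] at he
    obtain ⟨W, hxW, i, i', hW⟩ := (germP_eq_iff (x := x) (DCoh.toP.obj M) (U := f ⁻¹ᵁ U) (V := f ⁻¹ᵁ U) hx hx _ 0)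
      (he.trans (germP_zero (DCoh.toP.obj M) _ hx).symm)
    obtain ⟨W', rfl⟩ := exists_preimage f W
    have hx' : f.base x ∈ U ⊓ W' := ⟨hx, hxW⟩
    have hzero : resM N (inf_le_left : U ⊓ W' ≤ U) s = 0 := by
      have hW0 : resM M i.le (show Γ(M, f ⁻¹ᵁ U) from s) = 0 := hW.trans (map_zero _)
      have := congrArg (resM M (show f ⁻¹ᵁ (U ⊓ W') ≤ f ⁻¹ᵁ W' from fun z hz => hz.2)) hW0
      rw [resM_resM, map_zero] at this
      exact this
    refine (germP_res (DCoh.toP.obj ((Scheme.Modules.pullback f).obj N))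
      (homOfLE (show f ⁻¹ᵁ (U ⊓ W') ≤ f ⁻¹ᵁ U from fun z hz => hz.1)) hx' (pullSec f s)).symm.trans ?_
    have hp : resM ((Scheme.Modules.pullback f).obj N)
        (show f ⁻¹ᵁ (U ⊓ W') ≤ f ⁻¹ᵁ U from fun z hz => hz.1) (pullSec f s) = 0 := by
      refine (resM_pullSec f (inf_le_left : U ⊓ W' ≤ U) s).trans ?_
      rw [hzero]
      exact map_zero _
    exact (congrArg _ hp).trans (germP_zero _ _ _)
  · obtain ⟨V, hxV, m', rfl⟩ := exists_germP_eq (DCoh.toP.obj M) m
    obtain ⟨U, rfl⟩ := exists_preimage f V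
    exact ⟨_, hval U hxV m'⟩

theorem isIso_counit (M : X.Modules) :
    IsIso ((Scheme.Modules.pullbackPushforwardAdjunction f).counit.app M) :=
  isIso_of_stalks _ fun x => (ConcreteCategory.isIso_iff_bijective _).2 (bijective_stalk_counit f M x)

end Preimm

section Top

open DerivedCategory

variable {A B : Type*} [Category A] [Category B] [Abelian A] [Abelian B] (F : A ⥤ B) [F.Additive] [PreservesFiniteColimits F]

/-- A right exact functor commutes with top cohomology. -/
theorem nonempty_homology_top (C : CochainComplex A ℤ) (b : ℤ) (h : ∀ n, b < n → IsZero (C.X n)) :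
    Nonempty (((F.mapHomologicalComplex (ComplexShape.up ℤ)).obj C).homology b ≅ F.obj (C.homology b)) := by
  let S := C.sc b
  let S' := ((F.mapHomologicalComplex (ComplexShape.up ℤ)).obj C).sc b
  have hg : S.g = 0 := (h _ (by rw [CochainComplex.next]; omega)).eq_of_tgt _ _
  have hg' : S'.g = 0 := (F.map_isZero (h _ (by rw [CochainComplex.next]; omega))).eq_of_tgt _ _
  haveI := ShortComplex.isIso_homologyι S hg
  haveI := ShortComplex.isIso_homologyι S' hg'
  let e : S.homology ≅ cokernel S.f :=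
    asIso S.homologyι ≪≫ S.opcyclesIsCokernel.coconePointUniqueUpToIso (colimit.isColimit (parallelPair S.f 0))
  let e' : S'.homology ≅ cokernel (F.map S.f) :=
    asIso S'.homologyι ≪≫ S'.opcyclesIsCokernel.coconePointUniqueUpToIso (colimit.isColimit (parallelPair S'.f 0))
  exact ⟨e' ≪≫ (PreservesCokernel.iso F S.f).symm ≪≫ F.mapIso e.symm⟩

end Top

section Lpull

attribute [local instance] HasDerivedCategory.standard

variable {X Y : Scheme.{u}}

/-- The top cohomology of a derived inverse image. -/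
theorem nonempty_HD_Lpull_top (g : X ⟶ Y) [DCoh.HasLpull g] (K : DCoh.D Y) (b : ℤ) [K.IsLE b] :
    Nonempty (DCoh.HD ((DCoh.Lpull g).obj K) b ≅ (Scheme.Modules.pullback g).obj (DCoh.HD K b)) := by
  obtain ⟨C, hC, ⟨eC⟩⟩ := DerivedCategory.exists_iso_Q_obj_of_isLE K b
  obtain ⟨N, q, hNk, -, hq, hN⟩ := exists_kflat_sheaf_le C b fun n hn => CochainComplex.isZero_of_isStrictlyLE C b n hn
  haveI := hq
  let eK : K ≅ DerivedCategory.Q.obj N := eC ≪≫ (asIso (DerivedCategory.Q.map q)).symm
  obtain ⟨t⟩ := nonempty_homology_top (Scheme.Modules.pullback g) N b hN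
  exact ⟨(DerivedCategory.homologyFunctor _ b).mapIso ((DCoh.Lpull g).mapIso eK ≪≫ PullPerf.lpullIso g hNk) ≪≫
    (DerivedCategory.homologyFunctorFactors _ b).app _ ≪≫ t ≪≫
    (Scheme.Modules.pullback g).mapIso ((DerivedCategory.homologyFunctorFactors _ b).app N).symm ≪≫
    (Scheme.Modules.pullback g).mapIso ((DerivedCategory.homologyFunctor _ b).mapIso eK.symm)⟩

end Lpull

end Groth.Agent.DualLib.RelTop
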