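import Groth.Agent.DualLib.RelTop.Main
import Groth.Agent.DualLib.RelTop.Tools
import Groth.Agent.AmpleLib.Relative
import Groth.Agent.DCat.PullComp
import Groth.Agent.Dual22Lib.PullTensorNat
import Groth.Agent.DQCoh.PscFinite
import Groth.Agent.Dual22Lib.AdjExists
import Groth.Agent.S3602
import Groth.Agent.S3637
import Groth.Agent.S3658

/-!
# The relative dualizing sheaf restricts to the dualizing sheaf of every fibre
-/

set_option autoImplicit false
set_option backward.isDefEq.respectTransparency false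
set_option backward.defeqAttrib.useBackward true
set_option linter.style.haveILetI false
set_option linter.unusedSectionVars false
set_option synthInstance.maxHeartbeats 200000
set_option maxHeartbeats 1000000

universe u

open CategoryTheory CategoryTheory.Limits CategoryTheory.Pretriangulated DerivedCategory AlgebraicGeometry
open Groth.Agent.DCat

attribute [local instance] HasDerivedCategory.standard
attribute [-instance] Int.instConditionallyCompleteLinearOrder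

namespace Groth.Agent.DualLib.RelTop

/-- Top cohomology of the second map of a triangle with first vertex below it. -/
theorem isIso_HD_mor₂ {C : Type*} [Category C] [Abelian C] [HasDerivedCategory C] (T : Triangle (DerivedCategory C))
    (hT : T ∈ distTriang _) (b : ℤ) [T.obj₁.IsLE (b - 1)] : IsIso ((homologyFunctor C b).map T.mor₂) := by
  haveI : Mono ((homologyFunctor C b).map T.mor₂) :=
    (HomologySequence.mono_homologyMap_mor₂_iff T hT b).2 ((isZero_of_isLE T.obj₁ (b - 1) b (by omega)).eq_of_src _ _)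
  haveI : Epi ((homologyFunctor C b).map T.mor₂) :=
    (HomologySequence.epi_homologyMap_mor₂_iff T hT b (b + 1) rfl).2
      ((isZero_of_isLE T.obj₁ (b - 1) (b + 1) (by omega)).eq_of_tgt _ _)
  exact isIso_of_mono_of_epi _

section

variable [∀ (U V : Scheme.{u}) (j : U ⟶ V) [IsOpenImmersion j], PreservesFiniteLimits (Scheme.Modules.restrictFunctor j)]

/-- Tensoring an object in degrees `≤ 0` with top cohomology `O` keeps the top cohomology. -/
theorem nonempty_top_tensor {X : Scheme.{u}} (N : CochainComplex X.Modules ℤ) (hNk : IsKFlatFor (shT X) N) (b : ℤ)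
    (hN : ∀ n, b < n → IsZero (N.X n)) [DCoh.HasLTensorCx N] (Z : DCoh.D X) [Z.IsLE 0]
    (hZ : Nonempty (DCoh.HD Z 0 ≅ Coh.structureModule X)) :
    Nonempty (DCoh.HD ((DCoh.LTensorCx N).obj Z) b ≅ DCoh.HD (DerivedCategory.Q.obj N) b) := by
  let t := DerivedCategory.TStructure.t (C := X.Modules)
  let B := (t.truncGE 0).obj Z
  haveI hB : B.IsGE 0 := t.isGE_truncGE_obj ..
  haveI hA : ((t.truncLT 0).obj Z).IsLE (-1) := t.isLE_truncLT_obj _ _ _ (by omega)
  have hT := t.triangleLTGE_distinguished 0 Z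
  haveI hBle : B.IsLE 0 := by
    haveI : (((t.truncLT 0).obj Z)⟦(1 : ℤ)⟧).IsLE (-2) := t.isLE_shift _ (-1) 1 (-2) (by omega)
    haveI : (((t.truncLT 0).obj Z)⟦(1 : ℤ)⟧).IsLE 0 := t.isLE_of_le _ (-2) 0 (by omega)
    exact t.isLE₂ _ (rot_of_distTriang _ hT) 0 ‹Z.IsLE 0› ‹(((t.truncLT 0).obj Z)⟦(1 : ℤ)⟧).IsLE 0›
  haveI : ((t.triangleLTGE 0).obj Z).obj₁.IsLE (0 - 1) := t.isLE_of_le ((t.truncLT 0).obj Z) (-1) _ (by omega)
  haveI := isIso_HD_mor₂ _ hT (0 : ℤ)
  let e0 : DCoh.HD B 0 ≅ Coh.structureModule X :=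
    (asIso ((homologyFunctor X.Modules 0).map ((t.triangleLTGE 0).obj Z).mor₂)).symm ≪≫ hZ.some
  obtain ⟨M, ⟨eM⟩⟩ := exists_iso_singleFunctor_obj_of_isGE_of_isLE B 0
  let eB : B ≅ (DQCoh.sec X).pt.obj ⊤ := eM ≪≫ (singleFunctor X.Modules 0).mapIso
    (((singleFunctorCompHomologyFunctorIso X.Modules 0).app M).symm ≪≫
      (homologyFunctor X.Modules 0).mapIso eM.symm ≪≫ e0 ≪≫ (DQCoh.topStructIso X).symm)
  obtain ⟨u⟩ := DQCoh.nonempty_unit_LTensor N
  obtain ⟨δ, hG⟩ := DQCoh.exists_triangle_LTensorCx N hNk hT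
  haveI : (Triangle.mk ((DCoh.LTensorCx N).map ((t.triangleLTGE 0).obj Z).mor₁)
      ((DCoh.LTensorCx N).map ((t.triangleLTGE 0).obj Z).mor₂) δ).obj₁.IsLE (b - 1) := by
    have h' := DQCoh.isLE_LTensor N hNk b hN ((t.truncLT 0).obj Z) (-1)
    exact t.isLE_of_le ((DCoh.LTensorCx N).obj ((t.truncLT 0).obj Z)) (-1 + b) (b - 1) (by omega)
  haveI : IsIso ((homologyFunctor X.Modules b).map ((DCoh.LTensorCx N).map ((t.triangleLTGE 0).obj Z).mor₂)) :=
    isIso_HD_mor₂ _ hG b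
  exact ⟨asIso ((homologyFunctor X.Modules b).map ((DCoh.LTensorCx N).map ((t.triangleLTGE 0).obj Z).mor₂)) ≪≫
    (homologyFunctor X.Modules b).mapIso ((DCoh.LTensorCx N).mapIso eB ≪≫ u)⟩

variable (A : Type u) [CommRing A] [IsNoetherianRing A] (Y : Scheme.{u}) [Y.Over (Spec (CommRingCat.of A))]
  [IsProper (Y ↘ Spec (CommRingCat.of A))] (d : ℕ)
  (hCM : ∀ y : Y, MoreMor.IsCMAt (Y ↘ Spec (CommRingCat.of A)) y) (hd : Cyc.HasRelDim (Y ↘ Spec (CommRingCat.of A)) d)
  [DCoh.HasRpush (Y ↘ Spec (CommRingCat.of A))] (h : DCoh.RpushPreservesQCoh (Y ↘ Spec (CommRingCat.of A)))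
  (a : DCoh.DQCoh (Spec (CommRingCat.of A)) ⥤ DCoh.DQCoh Y) (adj : DCoh.RpushQ (Y ↘ Spec (CommRingCat.of A)) h ⊣ a)
  (O : DCoh.DQCoh (Spec (CommRingCat.of A)))
  (hO : Nonempty (O.obj ≅ DCoh.inD (Spec (CommRingCat.of A)) (Coh.structureModule (Spec (CommRingCat.of A)))))

include hCM hd adj hO

/-- **The restriction to a fibre**, with its stalks. -/
theorem fibre_package (t : Spec (CommRingCat.of A)) :
    RelCanon.IsDualizingSheafFib (Y ↘ Spec (CommRingCat.of A)) d (DCoh.HD (a.obj O).obj (-(d : ℤ))) t ∧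
      ∀ z : (Y ↘ Spec (CommRingCat.of A)).fiber t,
        Nontrivial (((Scheme.Modules.pullback ((Y ↘ Spec (CommRingCat.of A)).fiberι t)).obj
          (DCoh.HD (a.obj O).obj (-(d : ℤ)))).presheaf.stalk z) ∧
        LocCoh.IsCohenMacaulayModule (((Y ↘ Spec (CommRingCat.of A)).fiber t).presheaf.stalk z)
          (((Scheme.Modules.pullback ((Y ↘ Spec (CommRingCat.of A)).fiberι t)).obj
            (DCoh.HD (a.obj O).obj (-(d : ℤ)))).presheaf.stalk z) := by
  let f := Y ↘ Spec (CommRingCat.of A)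
  let T := Spec (CommRingCat.of A)
  let k := T.residueField t
  let T' := Spec (CommRingCat.of k)
  let g : T' ⟶ T := T.fromSpecResidueField t
  let Y' := f.fiber t
  let ι : Y' ⟶ Y := f.fiberι t
  let f' : Y' ⟶ T' := f.fiberToSpecResidueField t
  have hsq : IsPullback ι f' f g := IsPullback.of_hasPullback _ _
  haveI : IsNoetherianRing (CommRingCat.of A) := ‹IsNoetherianRing A›
  haveI : IsNoetherian T := {}
  haveI : IsAffineHom g := inferInstance
  haveI : IsAffineHom ι := MorphismProperty.of_isPullback hsq.flip ‹IsAffineHom g›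
  haveI : IsProper f' := MorphismProperty.of_isPullback hsq ‹_›
  haveI : IsPreimmersion ι := inferInstanceAs (IsPreimmersion (f.fiberι t))
  letI : Y'.Over T' := ⟨f'⟩
  haveI : IsProper (Y' ↘ T') := ‹IsProper f'›
  haveI : IsNoetherianRing k := inferInstance
  haveI : CompactSpace Y := QuasiCompact.compactSpace_of_compactSpace f
  haveI : QuasiSeparatedSpace Y := quasiSeparatedSpace_of_quasiSeparated f
  haveI : CompactSpace Y' := QuasiCompact.compactSpace_of_compactSpace f'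
  haveI : QuasiSeparatedSpace Y' := quasiSeparatedSpace_of_quasiSeparated f'
  haveI : Flat f := Flat.of_stalkMap _ fun x => (hCM x).1
  haveI : LocallyOfFinitePresentation f := LocallyOfFinitePresentation.iff_locallyOfFiniteType.2 inferInstance
  haveI : ∀ (S : CommRingCat.{u}), PreservesFiniteLimits (tilde.functor S) :=
    Groth.Agent.AffSchLib.preservesFiniteLimits_tilde
  haveI := DCat.hasRpush f'
  haveI : DCoh.HasRpush (Y' ↘ T') := DCat.hasRpush _
  haveI := DCat.hasRpush g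
  haveI := DCat.hasRpush ι
  haveI := DCat.hasLpull f
  haveI := DCat.hasLpull f'
  haveI := DCat.hasLpull g
  haveI := DCat.hasLpull ι
  have hf' : DCoh.RpushPreservesQCoh f' := fun K hK => DQCoh.isQCohD_Rpush f' K hK
  have hg : DCoh.RpushPreservesQCoh g := fun K hK => DQCoh.isQCohD_Rpush g K hK
  have hι : DCoh.RpushPreservesQCoh ι := fun K hK => DQCoh.isQCohD_Rpush ι K hK
  haveI := Dual22Lib.AdjGeom.isLeftAdjoint_RpushQ f' hf'
  let a' := (DCoh.RpushQ f' hf').rightAdjoint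
  let adj' : DCoh.RpushQ f' hf' ⊣ a' := Adjunction.ofIsLeftAdjoint _
  haveI hOq : Coh.IsQCoh (Coh.structureModule T') :=
    Coherent.isQCoh_structureModule
  let O' : DCoh.DQCoh T' := ⟨DCoh.inD T' (Coh.structureModule T'), FlatBC14.isQCohD_inD _⟩
  -- duality on the fibre
  have hfib' : ∀ y, topologicalKrullDim ((Y' ↘ T').fiber y) ≤ (d : WithBot ℕ∞) := fun y =>
    (((Y' ↘ T').fiberι y).isEmbedding.isInducing.topologicalKrullDim_le).trans (fibre_dim_le f d hd t)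
  obtain ⟨hdual, -⟩ := isDualizingSheaf_HD (A := k) (X := Y') hfib' hf' a' adj' O' ⟨Iso.refl _⟩
  have hCMq : ∀ (y : Y) (q : T), f y = q → ∀ z : f.fiber q, f.fiberι q z = y →
      LocCoh.IsCohenMacaulayLocalRing ((f.fiber q).presheaf.stalk z) := by
    intro y q hq
    subst hq
    intro z hz
    obtain rfl : z = f.asFiber y := (f.fiberι _).isEmbedding.injective (hz.trans (f.fiberι_asFiber y).symm)
    exact (hCM y).2
  have hCM' : ∀ z : Y', LocCoh.IsCohenMacaulayLocalRing (Y'.presheaf.stalk z) := fun z => by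
    refine hCMq (ι z) t ?_ z rfl
    have : ι z ∈ Set.range (f.fiberι t) := ⟨z, rfl⟩
    rw [f.range_fiberι] at this
    exact this
  obtain ⟨hz', hcoh', hst'⟩ := Groth.Agent.S3637.result k Y' f' hCM' d (fun Z hZ => hd t Z hZ) hf' a' adj' O' ⟨Iso.refl _⟩
  let ωt := DCoh.HD (a'.obj O').obj (-(d : ℤ))
  haveI : Coh.IsQCoh ωt := hcoh'.1
  -- direct image of the fibre's complex
  haveI : (a'.obj O').obj.IsGE (-(d : ℤ)) := (isGE_iff _ _).2 fun i hi => hz' i (by omega)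
  haveI : (a'.obj O').obj.IsLE (-(d : ℤ)) := (isLE_iff _ _).2 fun i hi => hz' i (by omega)
  obtain ⟨F, ⟨eF⟩⟩ := exists_iso_singleFunctor_obj_of_isGE_of_isLE (a'.obj O').obj (-(d : ℤ))
  let eF0 : ωt ≅ F :=
    (homologyFunctor Y'.Modules _).mapIso eF ≪≫ (singleFunctorCompHomologyFunctorIso Y'.Modules _).app F
  haveI : Coh.IsQCoh F := Coherent.isQCoh_of_iso eF0 (h := hcoh'.1)
  let eFd : (a'.obj O').obj ≅ (DCoh.inD Y' F)⟦(d : ℤ)⟧ :=
    eF ≪≫ ((singleFunctors Y'.Modules).shiftIso (d : ℤ) (-(d : ℤ)) 0 (by omega)).symm.app F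
  obtain ⟨_, _⟩ := DCat.exists_commShift_Rpush ι
  obtain ⟨eP⟩ := DQCoh.nonempty_Rpush_inD ι F
  let ePush : (DCoh.Rpush ι).obj (a'.obj O').obj ≅
      (singleFunctor Y.Modules (-(d : ℤ))).obj ((Scheme.Modules.pushforward ι).obj F) :=
    (DCoh.Rpush ι).mapIso eFd ≪≫ ((DCoh.Rpush ι).commShiftIso (d : ℤ)).app _ ≪≫
      (shiftFunctor _ (d : ℤ)).mapIso eP ≪≫
      ((singleFunctors Y.Modules).shiftIso (d : ℤ) (-(d : ℤ)) 0 (by omega)).app _
  let eι : (Scheme.Modules.pushforward ι).obj ωt ≅ DCoh.HD ((DCoh.Rpush ι).obj (a'.obj O').obj) (-(d : ℤ)) :=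
    (Scheme.Modules.pushforward ι).mapIso eF0 ≪≫
      ((singleFunctorCompHomologyFunctorIso Y.Modules (-(d : ℤ))).app _).symm ≪≫
      (homologyFunctor Y.Modules _).mapIso ePush.symm
  -- base change
  obtain ⟨e, hξ⟩ := Groth.Agent.S3602.result Y T Y' T' f g f' ι hsq (Or.inl ‹_›) h hf' hg hι a a' adj adj'
  haveI := hξ O'
  let eξ : (DCoh.Rpush ι).obj (a'.obj O').obj ≅ (a.obj ((DCoh.RpushQ g hg).obj O')).obj :=
    (ObjectProperty.ι DCoh.IsQCohD).mapIso (asIso (Dual3.xi adj adj' e O'))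
  obtain ⟨eK⟩ := DQCoh.nonempty_Rpush_inD g (Coh.structureModule T')
  -- the relative complex
  obtain ⟨hz, -, -, -, -⟩ := cm_package A Y d hCM hd h a adj O hO
  haveI : (a.obj O).obj.IsLE (-(d : ℤ)) := (isLE_iff _ _).2 fun i hi => hz i (by omega)
  obtain ⟨C, hC, ⟨eC⟩⟩ := DerivedCategory.exists_iso_Q_obj_of_isLE (a.obj O).obj (-(d : ℤ))
  obtain ⟨N, q, hNk, -, hq, hN⟩ := exists_kflat_sheaf_le C (-(d : ℤ))
    fun n hn => CochainComplex.isZero_of_isStrictlyLE C _ n hn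
  haveI := hq
  let eN : DerivedCategory.Q.obj N ≅ (a.obj O).obj := asIso (DerivedCategory.Q.map q) ≪≫ eC.symm
  haveI := LTensorSheaf.hasLTensorCx N
  obtain ⟨eT⟩ := Groth.Agent.S3658.result Y T f h a adj O hO N ⟨eN⟩
  let K := ((DCoh.RpushQ g hg).obj O').obj
  let eK' : K ≅ DCoh.inD T ((Scheme.Modules.pushforward g).obj (Coh.structureModule T')) := eK
  haveI : K.IsLE 0 := by
    haveI : (DCoh.inD T ((Scheme.Modules.pushforward g).obj (Coh.structureModule T'))).IsLE 0 :=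
      (inferInstance : ((singleFunctor T.Modules 0).obj _).IsLE 0)
    exact DerivedCategory.TStructure.t.isLE_of_iso eK'.symm 0
  let W := (DCoh.LTensorCx N).obj ((DCoh.Lpull f).obj K)
  let eW : DCoh.HD ((DCoh.Rpush ι).obj (a'.obj O').obj) (-(d : ℤ)) ≅ DCoh.HD W (-(d : ℤ)) :=
    (homologyFunctor Y.Modules _).mapIso (eξ ≪≫ eT.app ((DCoh.RpushQ g hg).obj O'))
  haveI : ((DCoh.Lpull f).obj K).IsLE 0 := Dual6Lib.PerfShriek.isLE_Lpull f K 0
  haveI : W.IsLE (-(d : ℤ)) := by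
    have h' := DQCoh.isLE_LTensor N hNk _ hN ((DCoh.Lpull f).obj K) 0
    rwa [zero_add] at h'
  -- restrict to the fibre
  obtain ⟨eTop⟩ := nonempty_HD_Lpull_top ι W (-(d : ℤ))
  let N' := (Dual22Lib.PullTensorNat.pullC ι).obj N
  haveI := LTensorSheaf.hasLTensorCx N'
  obtain ⟨τ⟩ := Dual22Lib.PullTensorNat.nonempty_natIso ι hNk
  have hN' : ∀ n, -(d : ℤ) < n → IsZero (N'.X n) := fun n hn => (Scheme.Modules.pullback ι).map_isZero (hN n hn)
  have hNk' : IsKFlatFor (shT Y') N' := PullTot.isKFlatFor_pullback ι hNk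
  let Z := (DCoh.Lpull ι).obj ((DCoh.Lpull f).obj K)
  haveI : Z.IsLE 0 := Dual6Lib.PerfShriek.isLE_Lpull ι _ 0
  have hcomp : ∀ (m : Y' ⟶ T), ι ≫ f = m → Nonempty (Z ≅ (DCoh.Lpull f').obj ((DCoh.Lpull g).obj K)) := by
    intro m hm
    haveI := DCat.hasLpull m
    have key : ∀ (m₁ : Y' ⟶ T) [DCoh.HasLpull m₁], m₁ = m → Nonempty ((DCoh.Lpull m₁).obj K ≅ (DCoh.Lpull m).obj K) := by
      intro m₁ _ hh; subst hh; exact ⟨Iso.refl _⟩
    haveI := DCat.hasLpull (ι ≫ f)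
    haveI := DCat.hasLpull (f' ≫ g)
    obtain ⟨c₁⟩ := DCat.nonempty_LpullComp ι f
    obtain ⟨c₂⟩ := DCat.nonempty_LpullComp f' g
    obtain ⟨k₁⟩ := key (ι ≫ f) hm
    obtain ⟨k₂⟩ := key (f' ≫ g) (hsq.w.symm.trans hm)
    exact ⟨c₁.app K ≪≫ k₁ ≪≫ k₂.symm ≪≫ (c₂.app K).symm⟩
  obtain ⟨eZ⟩ := hcomp _ rfl
  haveI : ((DCoh.Lpull g).obj K).IsLE 0 := Dual6Lib.PerfShriek.isLE_Lpull g K 0
  obtain ⟨z₁⟩ := nonempty_HD_Lpull_top f' ((DCoh.Lpull g).obj K) 0
  obtain ⟨z₂⟩ := nonempty_HD_Lpull_top g K 0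
  haveI := isIso_counit g (Coh.structureModule T')
  obtain ⟨z₃⟩ := AmpleLib.exists_pullStructureIso (X := T') f'
  have hZ : Nonempty (DCoh.HD Z 0 ≅ Coh.structureModule Y') :=
    ⟨(homologyFunctor Y'.Modules 0).mapIso eZ ≪≫ z₁ ≪≫ (Scheme.Modules.pullback f').mapIso
      (z₂ ≪≫ (Scheme.Modules.pullback g).mapIso ((homologyFunctor T.Modules 0).mapIso eK' ≪≫
          (singleFunctorCompHomologyFunctorIso T.Modules 0).app _) ≪≫
        asIso ((Scheme.Modules.pullbackPushforwardAdjunction g).counit.app (Coh.structureModule T'))) ≪≫ z₃⟩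
  obtain ⟨eU⟩ := nonempty_top_tensor N' hNk' _ hN' Z hZ
  haveI : (DerivedCategory.Q.obj N).IsLE (-(d : ℤ)) := DerivedCategory.TStructure.t.isLE_of_iso eN.symm _
  obtain ⟨eV⟩ := nonempty_HD_Lpull_top ι (DerivedCategory.Q.obj N) (-(d : ℤ))
  haveI := isIso_counit ι ωt
  let Φ : ωt ≅ (Scheme.Modules.pullback ι).obj (DCoh.HD (a.obj O).obj (-(d : ℤ))) :=
    (asIso ((Scheme.Modules.pullbackPushforwardAdjunction ι).counit.app ωt)).symm ≪≫
      (Scheme.Modules.pullback ι).mapIso (eι ≪≫ eW) ≪≫ eTop.symm ≪≫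
      (homologyFunctor Y'.Modules _).mapIso (τ.app _) ≪≫ eU ≪≫
      (homologyFunctor Y'.Modules _).mapIso (PullPerf.lpullIso ι hNk).symm ≪≫ eV ≪≫
      (Scheme.Modules.pullback ι).mapIso ((homologyFunctor Y.Modules _).mapIso eN)
  refine ⟨?_, fun z => ?_⟩
  · exact isDualizingSheaf_of_iso hdual Φ
  · let φ := ((DerSch.stalkFunctor Y' z).mapIso Φ).toLinearEquiv
    exact ⟨@Equiv.nontrivial _ _ φ.symm.toEquiv (hst' z).1, (CAlgH3.isCohenMacaulayModule_congr φ).1 (hst' z).2⟩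

end

end Groth.Agent.DualLib.RelTop
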