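import Groth.Agent.EGA41Lib.FlatRegularSeq
import Groth.Agent.FlatMorSlice.Regular
import Mathlib.RingTheory.TensorProduct.Finite

/-!
# Flatness from flatness away from an element regular on the closed fibre
-/

set_option autoImplicit false
set_option backward.isDefEq.respectTransparency false

universe u

open TensorProduct Function IsLocalRing RingTheory.Sequence
open scoped Pointwise

namespace Groth.Agent.DualLib.RelTop

variable {A B : Type u} [CommRing A] [CommRing B] [Algebra A B] [IsLocalRing A]

/-- Multiplication injective modulo the maximal ideal of the base, in tensor form. -/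
theorem injective_lTensor_smul {M : Type u} [AddCommGroup M] [Module B M] [Module A M] [IsScalarTower A B M]
    {a : B} (h : ∀ x : M, a • x ∈ maximalIdeal A • (⊤ : Submodule A M) → x ∈ maximalIdeal A • (⊤ : Submodule A M)) :
    Injective (((LinearMap.lsmul B M a).restrictScalars A).lTensor (ResidueField A)) := by
  rw [injective_iff_map_eq_zero]
  intro z hz
  obtain ⟨x, rfl⟩ := TensorProduct.mk_surjective A M (ResidueField A) Ideal.Quotient.mk_surjective z
  have hk : ∀ v : M, (1 : ResidueField A) ⊗ₜ[A] v = 0 ↔ v ∈ maximalIdeal A • (⊤ : Submodule A M) := fun v => by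
    rw [← LinearMap.ker_tensorProductMk]
    rfl
  exact (hk x).2 (h x ((hk (a • x)).1 hz))

/-- An element regular on `M/mM` is regular on `M ⊗ N` for `N` killed by the maximal ideal. -/
theorem isSMulRegular_tensor_of_killed {M : Type u} [AddCommGroup M] [Module B M] [Module A M] [IsScalarTower A B M]
    {a : B} (h : ∀ x : M, a • x ∈ maximalIdeal A • (⊤ : Submodule A M) → x ∈ maximalIdeal A • (⊤ : Submodule A M))
    {N : Type u} [AddCommGroup N] [Module A N] (hN : ∀ r ∈ maximalIdeal A, ∀ y : N, r • y = 0) :
    IsSMulRegular (M ⊗[A] N) a := by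
  classical
  have tN : Module.IsTorsionBySet A N (maximalIdeal A : Set A) := fun y r => hN r r.2 y
  letI : Module (ResidueField A) N := tN.module
  haveI : IsScalarTower A (ResidueField A) N := tN.isScalarTower
  let b := Module.Free.chooseBasis (ResidueField A) N
  let e1 : M ⊗[A] N ≃ₗ[B] M ⊗[A] (_ →₀ ResidueField A) :=
    AlgebraTensorModule.congr (LinearEquiv.refl B M) (b.repr.restrictScalars A)
  let e := e1.trans (TensorProduct.finsuppRight A B M (ResidueField A) _)
  intro x y hxy
  apply e.injective
  have h1 := congrArg e hxy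
  simp only [map_smul] at h1
  ext i
  have h2 : a • e x i = a • e y i := by
    simpa only [Finsupp.smul_apply] using DFunLike.congr_fun h1 i
  have hinj := injective_lTensor_smul (A := A) h
  have hc : ∀ z : M ⊗[A] ResidueField A, ((LinearMap.lsmul B M a).restrictScalars A).lTensor (ResidueField A)
      (TensorProduct.comm A _ _ z) = TensorProduct.comm A _ _ (a • z) := fun z => by
    induction z with
    | zero => simp
    | tmul m k => rfl
    | add u v hu hv => simp only [map_add, smul_add, hu, hv]
  exact (TensorProduct.comm A M (ResidueField A)).injective (hinj (by rw [hc, hc, h2]))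

variable [IsNoetherianRing A] [IsNoetherianRing B] [IsLocalRing B] [IsLocalHom (algebraMap A B)]
  (M : Type u) [AddCommGroup M] [Module B M] [Module A M] [IsScalarTower A B M] [Module.Finite B M]

/-- A finite module flat away from `a` with `a` regular on the closed fibre is flat. -/
theorem flat_of_away {a : B}
    (haway : ∀ (q : Ideal B) [q.IsPrime], a ∉ q → Module.Flat A (LocalizedModule q.primeCompl M))
    (h : ∀ x : M, a • x ∈ maximalIdeal A • (⊤ : Submodule A M) → x ∈ maximalIdeal A • (⊤ : Submodule A M)) :
    Module.Flat A M := by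
  let m := maximalIdeal A
  let L := LocalizedModule (Submonoid.powers a) M
  haveI : Module.Flat A L := FlatMorSlice.flat_away_of_forall a haway
  let g : M →ₗ[B] L := LocalizedModule.mkLinearMap (Submonoid.powers a) M
  have hker : ∀ {P Q : Type u} [AddCommGroup P] [AddCommGroup Q] [Module A P] [Module A Q] (i : P →ₗ[A] Q),
      Injective i → IsSMulRegular (M ⊗[A] P) a → Injective (AlgebraTensorModule.lTensor B M i) := by
    intro P Q _ _ _ _ i hi hreg
    rw [injective_iff_map_eq_zero]
    intro x hx
    have h0 : i.lTensor L (g.restrictScalars A |>.rTensor P x) = 0 := by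
      rw [← LinearMap.comp_apply, LinearMap.lTensor_comp_rTensor, ← LinearMap.rTensor_comp_lTensor,
        LinearMap.comp_apply, show i.lTensor M x = 0 from hx, map_zero]
    have h1 : AlgebraTensorModule.rTensor A P g x = 0 :=
      (injective_iff_map_eq_zero _).1 (Module.Flat.lTensor_preserves_injective_linearMap i hi) _ h0
    obtain ⟨⟨_, k, rfl⟩, hk⟩ := (IsLocalizedModule.eq_zero_iff (Submonoid.powers a)
      (AlgebraTensorModule.rTensor A P g)).1 h1
    exact (hreg.pow k).right_eq_zero_of_smul hk
  have hall : ∀ (n : ℕ) (N : Type u) [AddCommGroup N] [Module A N], (∀ r ∈ m ^ n, ∀ y : N, r • y = 0) →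
      IsSMulRegular (M ⊗[A] N) a := by
    intro n
    induction n with
    | zero =>
      intro N _ _ hN
      haveI : Subsingleton N := ⟨fun y z => by
        rw [← one_smul A y, ← one_smul A z, hN 1 (by simp) y, hN 1 (by simp) z]⟩
      exact fun x y _ => Subsingleton.elim x y
    | succ n ih =>
      intro N _ _ hN
      let N' : Submodule A N := m ^ n • ⊤
      have hN' : ∀ r ∈ m, ∀ y : N', r • y = 0 := by
        rintro r hr ⟨y, hy⟩
        refine Subtype.ext ?_
        show r • y = 0
        refine Submodule.smul_induction_on (p := fun y => r • y = 0) hy (fun s hs z _ => ?_) fun u v hu hv => ?_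
        · rw [← mul_smul]
          exact hN _ (by rw [pow_succ']; exact Ideal.mul_mem_mul hr hs) z
        · rw [smul_add, hu, hv, add_zero]
      have r1 := isSMulRegular_tensor_of_killed (A := A) h hN'
      have r3 : IsSMulRegular (M ⊗[A] (N ⧸ N')) a := ih _ fun r hr y => by
        obtain ⟨y, rfl⟩ := Submodule.Quotient.mk_surjective _ y
        rw [← Submodule.Quotient.mk_smul, Submodule.Quotient.mk_eq_zero]
        exact Submodule.smul_mem_smul hr trivial
      have hinj := hker N'.subtype Subtype.val_injective r1
      refine isSMulRegular_iff_right_eq_zero_of_smul.2 fun z hz => ?_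
      have h0 : AlgebraTensorModule.lTensor B M N'.mkQ z = 0 :=
        r3.right_eq_zero_of_smul (by rw [← map_smul, hz, map_zero])
      obtain ⟨w, rfl⟩ := (lTensor_exact M (LinearMap.exact_subtype_mkQ N') (Submodule.mkQ_surjective _) z).1 h0
      have hw : a • w = 0 := hinj (by
        rw [map_smul, map_zero]
        exact hz)
      rw [r1.right_eq_zero_of_smul hw, map_zero]
  refine FlatCrit.flat_of_quotFlat_pow (S := B) m (EGA41Lib.map_le_jacobson_of_le m le_rfl) fun n P Q _ _ _ _ i hQ hi => ?_
  exact (LinearMap.lTensor_inj_iff_rTensor_inj M i).1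
    (hker i hi (hall n P fun r hr p => hi (by rw [map_smul, map_zero]; exact hQ r hr _)))

/-- A pair regular on the closed fibre of a flat module is regular. -/
theorem weaklyRegular_pair_of_fibre [Module.Flat A M] {a b : B}
    (ha : ∀ x : M, a • x ∈ maximalIdeal A • (⊤ : Submodule A M) → x ∈ maximalIdeal A • (⊤ : Submodule A M))
    (hb : ∀ x : M, b • x ∈ maximalIdeal A • (⊤ : Submodule A M) ⊔ (a • (⊤ : Submodule B M)).restrictScalars A →
      x ∈ maximalIdeal A • (⊤ : Submodule A M) ⊔ (a • (⊤ : Submodule B M)).restrictScalars A) :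
    IsWeaklyRegular M [a, b] := by
  have hjac := EGA41Lib.map_le_jacobson_of_le (A := A) (B := B) (maximalIdeal A) le_rfl
  let μ : M →ₗ[A] M := (LinearMap.lsmul B M a).restrictScalars A
  have h1 : Injective μ := FlatCrit.injective_of_injective_mod_max μ (injective_lTensor_smul ha) hjac
  have hfl := FlatCrit.flat_coker_of_injective_mod_max μ (injective_lTensor_smul ha) hjac
  have heq : LinearMap.range μ = (a • (⊤ : Submodule B M)).restrictScalars A := by
    ext x
    rw [Submodule.restrictScalars_mem, Submodule.mem_smul_pointwise_iff_exists]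
    exact ⟨fun ⟨y, hy⟩ => ⟨y, trivial, hy⟩, fun ⟨y, _, hy⟩ => ⟨y, hy⟩⟩
  haveI : Module.Flat A (QuotSMulTop a M) := Module.Flat.of_linearEquiv
    ((Submodule.quotEquivOfEq _ _ heq).trans (Submodule.Quotient.restrictScalarsEquiv A (a • (⊤ : Submodule B M)))).symm
  let q : M →ₗ[A] QuotSMulTop a M := (Submodule.mkQ (a • (⊤ : Submodule B M))).restrictScalars A
  have hmap : (maximalIdeal A • (⊤ : Submodule A M)).map q = maximalIdeal A • (⊤ : Submodule A (QuotSMulTop a M)) := by
    rw [Submodule.map_smul'', Submodule.map_top, LinearMap.range_eq_top.2 (show Surjective q from Submodule.mkQ_surjective _)]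
  have hkq : LinearMap.ker q = (a • (⊤ : Submodule B M)).restrictScalars A := by
    rw [LinearMap.ker_restrictScalars, Submodule.ker_mkQ]
  have hmem : ∀ x : M, q x ∈ maximalIdeal A • (⊤ : Submodule A (QuotSMulTop a M)) ↔
      x ∈ maximalIdeal A • (⊤ : Submodule A M) ⊔ (a • (⊤ : Submodule B M)).restrictScalars A := fun x => by
    rw [← hmap, ← Submodule.mem_comap, Submodule.comap_map_eq, hkq]
  have h2 : Injective ((LinearMap.lsmul B (QuotSMulTop a M) b).restrictScalars A) := by
    refine FlatCrit.injective_of_injective_mod_max _ (injective_lTensor_smul fun y hy => ?_) hjac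
    obtain ⟨x, rfl⟩ := Submodule.mkQ_surjective _ y
    exact (hmem x).2 (hb x ((hmem (b • x)).1 hy))
  exact IsWeaklyRegular.cons h1 ((isWeaklyRegular_cons_iff (QuotSMulTop a M) b []).2 ⟨h2, IsWeaklyRegular.nil B _⟩)

end Groth.Agent.DualLib.RelTop
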