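import Groth.Agent.CAlgH.FlatLocusH.Main
import Groth.Agent.CAlg15.DvrFlatAt
import Groth.Agent.FlatMorDevissage.LocalFP

/-!
# The flat locus ideal along a closed set of a finitely presented algebra
-/

set_option autoImplicit false
set_option linter.style.haveILetI false
set_option backward.isDefEq.respectTransparency false

universe u

open TensorProduct IsLocalRing Function

namespace Groth.Agent.DualLib.RelTop

open Groth.Agent

/-- The flat locus ideal only depends on the module over the base. -/
theorem flatIdeal_le_of_equiv {A M N : Type u} [CommRing A] [HenselianLocalRing A] [AddCommGroup M] [Module A M]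
    [AddCommGroup N] [Module A N] (e : M ≃ₗ[A] N) :
    CAlgH.FlatLocusH.flatIdeal A M ≤ CAlgH.FlatLocusH.flatIdeal A N :=
  sInf_le_sInf fun J hJ => ⟨hJ.1, haveI := hJ.2; Module.Flat.of_linearEquiv (e.baseChange A (A ⧸ J) M N)⟩

set_option maxHeartbeats 3200000 in
set_option synthInstance.maxHeartbeats 200000 in
/-- The flat locus ideal of a localised module, on the base changes of the algebra. -/
theorem flatAt_localized_iff (R C : Type u) [CommRing R] [CommRing C] [HenselianLocalRing R] [Algebra R C]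
    [Algebra.FiniteType R C] (n : Ideal C) [n.IsPrime] (hn : n.comap (algebraMap R C) = maximalIdeal R)
    (G : Type u) [AddCommGroup G] [Module C G] [Module R G] [IsScalarTower R C G] [Module.Finite C G]
    (R' : Type u) [CommRing R'] [IsLocalRing R'] [Algebra R R'] (hloc : IsLocalHom (algebraMap R R'))
    (C' : Type u) [CommRing C'] [Algebra C C'] [Algebra R' C'] [Algebra R C']
    [IsScalarTower R C C'] [IsScalarTower R R' C'] (hpush : Algebra.IsPushout R C R' C') :
    (∀ q' : PrimeSpectrum C', q'.asIdeal.comap (algebraMap C C') = n →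
        (maximalIdeal R').map (algebraMap R' C') ≤ q'.asIdeal →
        FlatCA.FlatAt R' q'.asIdeal (C' ⊗[C] G)) ↔
      (CAlgH.FlatLocusH.flatIdeal R (LocalizedModule n.primeCompl G)).map (algebraMap R R') = ⊥ := by
  let S := n.primeCompl
  let B := Localization.AtPrime n
  haveI : IsLocalHom (algebraMap R B) := ((IsLocalRing.local_hom_TFAE (algebraMap R B)).out 0 2 rfl rfl).2 (by
    rw [IsScalarTower.algebraMap_eq R C B, ← Ideal.map_map, ← Localization.AtPrime.map_eq_maximalIdeal]
    exact Ideal.map_mono (Ideal.map_le_iff_le_comap.2 hn.ge))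
  haveI : Algebra.EssFiniteType C B := Algebra.EssFiniteType.of_isLocalization B S
  haveI : Algebra.EssFiniteType R B := Algebra.EssFiniteType.comp R C B
  let GB := LocalizedModule S G
  haveI : Module.Finite B GB := Module.Finite.of_isLocalizedModule S (LocalizedModule.mkLinearMap S G)
  haveI := hloc
  haveI := hpush
  let T := Algebra.algebraMapSubmonoid C' S
  let B' := Localization T
  letI : Algebra B B' := (IsLocalization.map B' (algebraMap C C') (M := S) (T := T)
    (fun c hc => ⟨c, hc, rfl⟩)).toAlgebra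
  haveI : IsScalarTower C C' B' := inferInstance
  haveI : IsScalarTower C B B' := .of_algebraMap_eq fun c =>
    (IsLocalization.map_eq (T := T) (g := algebraMap C C') _ c).symm
  haveI : IsScalarTower R C B' := .of_algebraMap_eq fun r => by
    rw [IsScalarTower.algebraMap_apply C C' B', ← IsScalarTower.algebraMap_apply R C C', ← IsScalarTower.algebraMap_apply R C' B']
  haveI : IsScalarTower R B B' := .of_algebraMap_eq fun r => by
    rw [IsScalarTower.algebraMap_apply R C B, ← IsScalarTower.algebraMap_apply C B B', ← IsScalarTower.algebraMap_apply R C B']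
  haveI : IsScalarTower R' C' B' := inferInstance
  haveI : IsScalarTower R R' B' := .of_algebraMap_eq fun r => by
    rw [IsScalarTower.algebraMap_apply R' C' B', ← IsScalarTower.algebraMap_apply R R' C', ← IsScalarTower.algebraMap_apply R C' B']
  haveI : Algebra.IsPushout C B C' B' := (Algebra.isPushout_of_isLocalization S B C' B').symm
  haveI : Algebra.IsPushout R B R' B' := by
    refine Algebra.IsPushout.symm ?_
    haveI : Algebra.IsPushout R R' C C' := Algebra.IsPushout.symm hpush
    exact Algebra.IsPushout.symm ((Algebra.IsPushout.comp_iff R C R' C' (T := B) (T' := B')).2 inferInstance)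
  let M' := B' ⊗[B] GB
  let f : GB →ₗ[B] M' := TensorProduct.mk B B' GB 1
  have hf : IsBaseChange B' f := TensorProduct.isBaseChange B GB B'
  refine Iff.trans ?_ (CAlgH.FlatLocusH.flatAt_iff_map_flatIdeal_eq_bot (A := R) (B := B) (M := GB) f hf)
  -- the map from the global base change
  let g0 : G →ₗ[C] M' := (f.restrictScalars C).comp (LocalizedModule.mkLinearMap S G)
  have hg0 : IsBaseChange B' g0 :=
    (IsLocalizedModule.isBaseChange S B (LocalizedModule.mkLinearMap S G)).comp hf
  let h0 : C' ⊗[C] G →ₗ[C'] M' := LinearMap.liftBaseChange C' g0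
  have hh0 : IsBaseChange B' h0 := by
    refine IsBaseChange.of_comp (TensorProduct.isBaseChange C G C') ?_
    convert hg0 using 1
    exact LinearMap.ext fun x => by simp [h0]
  have key : ∀ (q : Ideal B') [q.IsPrime],
      FlatCA.FlatAt R' q M' ↔ FlatCA.FlatAt R' (q.under C') (C' ⊗[C] G) := by
    intro q _
    let W := Localization.AtPrime q
    haveI : IsLocalization.AtPrime W (q.under C') :=
      IsLocalization.isLocalization_isLocalization_atPrime_isLocalization T W q
    let g : C' ⊗[C] G →ₗ[C'] LocalizedModule q.primeCompl M' :=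
      ((LocalizedModule.mkLinearMap q.primeCompl M').restrictScalars C').comp h0
    haveI : IsLocalizedModule (q.under C').primeCompl g := by
      rw [isLocalizedModule_iff_isBaseChange (q.under C').primeCompl W]
      exact hh0.comp (IsLocalizedModule.isBaseChange q.primeCompl W (LocalizedModule.mkLinearMap q.primeCompl M'))
    let e := (IsLocalizedModule.iso (q.under C').primeCompl g).restrictScalars R'
    exact ⟨fun h => @Module.Flat.of_linearEquiv _ _ _ _ _ _ _ _ h e, fun h => @Module.Flat.of_linearEquiv _ _ _ _ _ _ _ _ h e.symm⟩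
  have hunit : ∀ (q : Ideal B') [q.IsPrime] (s : S), algebraMap C B' s ∉ q := fun q _ s h =>
    (inferInstance : q.IsPrime).ne_top (Ideal.eq_top_of_isUnit_mem _ h
      (IsLocalization.map_units B' (⟨algebraMap C C' s, s, s.2, rfl⟩ : T)))
  constructor
  · intro h q _ hq
    rw [key q]
    refine h ⟨q.under C', inferInstance⟩ ?_ ?_
    · refine le_antisymm (fun c hc => ?_) fun c hc => ?_
      · by_contra hcn
        exact hunit q ⟨c, hcn⟩ hc
      · show algebraMap C' B' (algebraMap C C' c) ∈ q
        rw [← IsScalarTower.algebraMap_apply C C' B', IsScalarTower.algebraMap_apply C B B']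
        refine hq (Ideal.mem_sup_right (Ideal.mem_map_of_mem _ ?_))
        rw [← Localization.AtPrime.map_eq_maximalIdeal]
        exact Ideal.mem_map_of_mem _ hc
    · rw [Ideal.map_le_iff_le_comap]
      intro r hr
      show algebraMap C' B' (algebraMap R' C' r) ∈ q
      exact hq (Ideal.mem_sup_left (Ideal.mem_map_of_mem _ hr))
  · intro h q' hq' hmax
    have hdisj : Disjoint (T : Set C') (q'.asIdeal : Set C') := Set.disjoint_left.2 fun x hx hxq => by
      obtain ⟨c, hc, rfl⟩ := hx
      exact hc (hq' ▸ hxq)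
    let q : Ideal B' := q'.asIdeal.map (algebraMap C' B')
    haveI : q.IsPrime := IsLocalization.isPrime_of_isPrime_disjoint T B' _ q'.2 hdisj
    have hqu : q.under C' = q'.asIdeal := IsLocalization.under_map_of_isPrime_disjoint T B' q'.2 hdisj
    have := (key q).1 (h q (sup_le ?_ ?_))
    · have aux : ∀ (P P' : Ideal C') [P.IsPrime] [P'.IsPrime], P = P' →
          FlatCA.FlatAt R' P (C' ⊗[C] G) → FlatCA.FlatAt R' P' (C' ⊗[C] G) := by
        rintro P P' _ _ rfl hP
        exact hP
      exact aux _ _ hqu this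
    · rw [IsScalarTower.algebraMap_eq R' C' B', ← Ideal.map_map]
      exact Ideal.map_mono hmax
    · rw [← Localization.AtPrime.map_eq_maximalIdeal, Ideal.map_map, ← IsScalarTower.algebraMap_eq,
        IsScalarTower.algebraMap_eq C C' B', ← Ideal.map_map]
      exact Ideal.map_mono (Ideal.map_le_iff_le_comap.2 hq'.ge)

attribute [local instance] Algebra.TensorProduct.rightAlgebra

set_option maxHeartbeats 800000 in
set_option synthInstance.maxHeartbeats 200000 in
/-- Along a closed set over the closed point, a finitely generated part of a common bound of the flat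
locus ideals is already a bound. -/
theorem exists_fg_flatIdeal_le {A S M : Type u} [CommRing A] [HenselianLocalRing A] [CommRing S] [Algebra A S]
    [Algebra.FinitePresentation A S] [AddCommGroup M] [Module S M] [Module A M] [IsScalarTower A S M]
    [Module.FinitePresentation S M] (J : Ideal S)
    (hJ : ∀ n : Ideal S, n.IsPrime → J ≤ n → n.comap (algebraMap A S) = maximalIdeal A)
    (I₀ : Ideal A) (hI₀ : I₀ ≤ maximalIdeal A)
    (h : ∀ (n : Ideal S) [n.IsPrime], J ≤ n →
      CAlgH.FlatLocusH.flatIdeal A (LocalizedModule n.primeCompl M) ≤ I₀) :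
    ∃ i : Ideal A, i.FG ∧ i ≤ I₀ ∧ ∀ (n : Ideal S) [n.IsPrime], J ≤ n →
      CAlgH.FlatLocusH.flatIdeal A (LocalizedModule n.primeCompl M) ≤ i := by
  let ι := {J : Ideal A // J.FG ∧ J ≤ I₀}
  let G : ι → Type u := fun i => A ⧸ i.1
  have hle : ∀ i : ι, i.1 ≤ maximalIdeal A := fun i => i.2.2.trans hI₀
  let R' := A ⧸ I₀
  let g : ∀ i j : ι, i ≤ j → G i →+* G j := fun i j h => Ideal.Quotient.factor h
  let _ : ∀ i, Algebra (G i) R' := fun i => (Ideal.Quotient.factor i.2.2).toAlgebra
  have : ∀ i, IsScalarTower A (G i) R' := fun i => .of_algebraMap_eq fun _ => rfl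
  have hcolim : FlatCA.IsDirectedColimitRing G g R' := by
    refine ⟨⟨fun i j => ⟨⟨i.1 ⊔ j.1, Submodule.FG.sup i.2.1 j.2.1, sup_le i.2.2 j.2.2⟩, (le_sup_left : i.1 ≤ i.1 ⊔ j.1), (le_sup_right : j.1 ≤ i.1 ⊔ j.1)⟩⟩,
      ⟨⟨⊥, Submodule.fg_bot, bot_le⟩⟩, fun i => ?_, fun i j k hij hjk => ?_, fun i j h => ?_, fun a => ?_,
      fun i x hx => ?_⟩
    · exact Ideal.Quotient.ringHom_ext (RingHom.ext fun _ => rfl)
    · exact Ideal.Quotient.ringHom_ext (RingHom.ext fun _ => rfl)
    · exact Ideal.Quotient.ringHom_ext (RingHom.ext fun _ => rfl)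
    · obtain ⟨a, rfl⟩ := Ideal.Quotient.mk_surjective a
      exact ⟨⟨⊥, Submodule.fg_bot, bot_le⟩, Ideal.Quotient.mk _ a, rfl⟩
    · obtain ⟨a, rfl⟩ := Ideal.Quotient.mk_surjective x
      have ha : a ∈ I₀ := Ideal.Quotient.eq_zero_iff_mem.1 hx
      refine ⟨⟨i.1 ⊔ Ideal.span {a}, Submodule.FG.sup i.2.1 (Submodule.fg_span_singleton a),
        sup_le i.2.2 ((Ideal.span_singleton_le_iff_mem _).2 ha)⟩, (le_sup_left : i.1 ≤ i.1 ⊔ Ideal.span {a}), ?_⟩
      exact Ideal.Quotient.eq_zero_iff_mem.2 (Ideal.mem_sup_right (Ideal.mem_span_singleton_self a))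
  let Il : ∀ i, Ideal (G i) := fun i => (maximalIdeal A).map (Ideal.Quotient.mk i.1)
  have hnt : ∀ J : Ideal A, J ≤ maximalIdeal A → Nontrivial (A ⧸ J) := fun J hJ =>
    Ideal.Quotient.nontrivial_iff.2 fun e => (maximalIdeal.isMaximal A).ne_top (top_le_iff.1 (e ▸ hJ))
  have := hnt I₀ hI₀
  have : IsLocalRing R' := .of_surjective' (Ideal.Quotient.mk I₀) Ideal.Quotient.mk_surjective
  have : IsLocalHom (algebraMap A R') := .of_surjective _ Ideal.Quotient.mk_surjective
  have hS : FlatCA.EssFinitePresentation A S :=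
    ⟨S, inferInstance, inferInstance, Algebra.id S, .of_algebraMap_eq fun _ => rfl, ⊥, inferInstance,
      IsLocalization.self fun x hx => by rw [Submonoid.mem_bot.1 hx]; exact isUnit_one⟩
  have hmR' : maximalIdeal R' ≤ ⨆ i, (Il i).map (algebraMap (G i) R') := by
    refine le_iSup_of_le (⟨⊥, Submodule.fg_bot, bot_le⟩ : ι) ?_
    rw [← IsLocalRing.map_maximalIdeal_of_surjective _ (Ideal.Quotient.mk_surjective (I := I₀)), Ideal.map_map]
    exact le_rfl
  haveI : IsScalarTower A S (R' ⊗[A] S) := inferInstance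
  haveI : IsScalarTower A R' (R' ⊗[A] S) := inferInstance
  haveI : Algebra.IsPushout A S R' (R' ⊗[A] S) := inferInstance
  let f₀ : M →ₗ[S] (R' ⊗[A] S) ⊗[S] M := TensorProduct.mk S (R' ⊗[A] S) M 1
  have hf₀ : IsBaseChange (R' ⊗[A] S) f₀ := TensorProduct.isBaseChange S M _
  have key := S6928.result hS (M := M) G g (fun i j h => RingHom.ext fun _ => rfl) R' hcolim Il
    (fun i j h => by rw [Ideal.map_map]; exact le_rfl) (S' := R' ⊗[A] S) (M' := (R' ⊗[A] S) ⊗[S] M)
  have hflat : ∀ (q' : Ideal (R' ⊗[A] S)) [q'.IsPrime],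
      (⨆ i, (Il i).map (algebraMap (G i) R')).map (algebraMap R' (R' ⊗[A] S)) ⊔
        J.map (algebraMap S (R' ⊗[A] S)) ≤ q' → FlatCA.FlatAt R' q' ((R' ⊗[A] S) ⊗[S] M) := by
    intro q' _ hq'
    let n := q'.comap (algebraMap S (R' ⊗[A] S))
    have hJn : J ≤ n := Ideal.map_le_iff_le_comap.1 (le_trans le_sup_right hq')
    refine (flatAt_localized_iff A S n (hJ n inferInstance hJn) M R' inferInstance (R' ⊗[A] S) inferInstance).2 ?_
      ⟨q', ‹_›⟩ rfl (le_trans (Ideal.map_mono hmR') (le_trans le_sup_left hq'))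
    rw [Ideal.map_eq_bot_iff_le_ker, Ideal.Quotient.algebraMap_eq, Ideal.mk_ker]
    exact h n hJn
  obtain ⟨i, hi⟩ := key f₀ hf₀ J hflat
  refine ⟨i.1, i.2.1, i.2.2, fun n _ hn => ?_⟩
  have := hnt i.1 (hle i)
  have : IsLocalRing (G i) := .of_surjective' (Ideal.Quotient.mk i.1) Ideal.Quotient.mk_surjective
  have : IsLocalHom (algebraMap A (G i)) := .of_surjective _ Ideal.Quotient.mk_surjective
  have hmG : Il i = maximalIdeal (G i) :=
    IsLocalRing.map_maximalIdeal_of_surjective _ Ideal.Quotient.mk_surjective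
  let fi : M →ₗ[S] (G i ⊗[A] S) ⊗[S] M := TensorProduct.mk S (G i ⊗[A] S) M 1
  have hfi : IsBaseChange (G i ⊗[A] S) fi := TensorProduct.isBaseChange S M _
  have hi' := hi (G i ⊗[A] S) ((G i ⊗[A] S) ⊗[S] M) fi
  have hfl : ∀ q' : PrimeSpectrum (G i ⊗[A] S), q'.asIdeal.comap (algebraMap S (G i ⊗[A] S)) = n →
      (maximalIdeal (G i)).map (algebraMap (G i) (G i ⊗[A] S)) ≤ q'.asIdeal →
      FlatCA.FlatAt (G i) q'.asIdeal ((G i ⊗[A] S) ⊗[S] M) := fun q' hq' hm => by
    refine hi' hfi q'.asIdeal (sup_le ?_ (Ideal.map_le_iff_le_comap.2 (hn.trans hq'.ge)))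
    rw [hmG]
    exact hm
  have h0 := (flatAt_localized_iff A S n (hJ n inferInstance hn) M (G i) inferInstance (G i ⊗[A] S) inferInstance).1 hfl
  intro a ha
  exact Ideal.Quotient.eq_zero_iff_mem.1 ((Submodule.eq_bot_iff _).1 h0 _ (Ideal.mem_map_of_mem _ ha))

end Groth.Agent.DualLib.RelTop
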