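import Groth.Agent.DualLib.RelTop.FibreOpen
import Groth.Agent.DualLib.RelTop.GorStalk
import Groth.Agent.DCat.TensorCongr
import Groth.Agent.DCat.RHomLeft
import Groth.Agent.Dual6Lib.BCShriekAffine
import Groth.Agent.ModStalk.Pullback

/-!
# The right adjoint of direct image near a Gorenstein point

Near a point of the relative Gorenstein locus the right adjoint of `Rf_*` is inverse image followed by a shift, so a
family of maps generating in cohomology gives generators of the bottom cohomology there.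
-/

set_option autoImplicit false
set_option backward.isDefEq.respectTransparency false
set_option backward.defeqAttrib.useBackward true
set_option linter.style.haveILetI false
set_option linter.unusedSectionVars false
set_option synthInstance.maxHeartbeats 200000
set_option maxHeartbeats 1000000

universe u

open CategoryTheory CategoryTheory.Limits CategoryTheory.Pretriangulated DerivedCategory AlgebraicGeometry
open Groth.Agent.DCat Groth.Agent.Dual6Lib.HomFlat

attribute [local instance] HasDerivedCategory.standard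
attribute [-instance] Int.instConditionallyCompleteLinearOrder

namespace Groth.Agent.DualLib.RelTop

variable [∀ (U V : Scheme.{u}) (j : U ⟶ V) [IsOpenImmersion j], PreservesFiniteLimits (Scheme.Modules.restrictFunctor j)]

section Gen

variable {X Z : Scheme.{u}} {C : Type*} [Category C]

open TensorProduct in
/-- Generation by the images of a family of maps descends and ascends along inverse image along a map whose stalk map
is bijective, and along natural isomorphisms. -/
theorem span_range_of_pullback {ι : Type u} (F : C ⥤ X.Modules) {W : Scheme.{u}} (G : C ⥤ Z.Modules) (j : W ⟶ X)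
    (h : W ⟶ Z) (e : F ⋙ Scheme.Modules.pullback j ≅ G ⋙ Scheme.Modules.pullback h) (w : W)
    (hj : Function.Bijective (j.stalkMap w).hom) {O K : C} (q : ι → (O ⟶ K))
    (hgen : Submodule.span (Z.presheaf.stalk (h w))
      (⋃ i, Set.range ((DerSch.stalkFunctor Z (h w)).map (G.map (q i))).hom) = ⊤) :
    Submodule.span (X.presheaf.stalk (j w))
      (⋃ i, Set.range ((DerSch.stalkFunctor X (j w)).map (F.map (q i))).hom) = ⊤ := by
  let S := W.presheaf.stalk w
  let R := X.presheaf.stalk (j w)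
  let P := Z.presheaf.stalk (h w)
  letI : Algebra R S := (j.stalkMap w).hom.toAlgebra
  letI : Algebra P S := (h.stalkMap w).hom.toAlgebra
  let T : C ⥤ ModuleCat.{u} S :=
    F ⋙ DerSch.stalkFunctor X (j w) ⋙ ModuleCat.extendScalars (j.stalkMap w).hom
  let T' : C ⥤ ModuleCat.{u} S :=
    G ⋙ DerSch.stalkFunctor Z (h w) ⋙ ModuleCat.extendScalars (h.stalkMap w).hom
  let Θ : T ≅ T' := (Functor.isoWhiskerLeft F (ModStalk.pullbackStalkIso j w).symm) ≪≫ (Functor.associator _ _ _).symm ≪≫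
    Functor.isoWhiskerRight e _ ≪≫ Functor.associator _ _ _ ≪≫ Functor.isoWhiskerLeft G (ModStalk.pullbackStalkIso h w)
  let M : C → ModuleCat.{u} P := fun A => (DerSch.stalkFunctor Z (h w)).obj (G.obj A)
  let N : C → ModuleCat.{u} R := fun A => (DerSch.stalkFunctor X (j w)).obj (F.obj A)
  have hT' : Submodule.span S (⋃ i, Set.range (T'.map (q i)).hom) = ⊤ := by
    refine eq_top_iff.2 fun z hz₀ => ?_
    clear hz₀
    change S ⊗[P] (M K) at z
    induction z using TensorProduct.induction_on with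
    | zero => exact Submodule.zero_mem _
    | add a b ha hb => exact Submodule.add_mem _ ha hb
    | tmul s m =>
      have hm : m ∈ Submodule.span P (⋃ i, Set.range ((DerSch.stalkFunctor Z (h w)).map (G.map (q i))).hom) := by
        rw [hgen]; trivial
      revert s
      induction hm using Submodule.span_induction with
      | mem m hm =>
        intro s
        obtain ⟨i, n, rfl⟩ := Set.mem_iUnion.1 hm
        exact Submodule.subset_span (Set.mem_iUnion.2 ⟨i, (s ⊗ₜ[P] n : S ⊗[P] (M O)), rfl⟩)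
      | zero => intro s; rw [TensorProduct.tmul_zero]; exact Submodule.zero_mem _
      | add a b _ _ ha hb => intro s; rw [TensorProduct.tmul_add]; exact Submodule.add_mem _ (ha s) (hb s)
      | smul p a _ ha =>
        intro s
        rw [← TensorProduct.smul_tmul]
        exact ha _
  have hT : Submodule.span S (⋃ i, Set.range (T.map (q i)).hom) = ⊤ := by
    refine eq_top_iff.2 fun z _ => ?_
    have hz : (Θ.app K).toLinearEquiv z ∈ Submodule.span S (⋃ i, Set.range (T'.map (q i)).hom) := by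
      rw [hT']; trivial
    have hz' : z ∈ (Submodule.span S (⋃ i, Set.range (T'.map (q i)).hom)).map
        (Θ.app K).toLinearEquiv.symm.toLinearMap := ⟨_, hz, (Θ.app K).toLinearEquiv.symm_apply_apply z⟩
    rw [Submodule.map_span] at hz'
    refine Submodule.span_mono ?_ hz'
    rintro _ ⟨_, hx, rfl⟩
    obtain ⟨i, n, rfl⟩ := Set.mem_iUnion.1 hx
    exact Set.mem_iUnion.2 ⟨i, (Θ.app O).toLinearEquiv.symm n,
      (ConcreteCategory.congr_hom (Θ.inv.naturality (q i)) n).symm⟩
  refine eq_top_iff.2 fun m _ => ?_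
  let ε : ∀ A : C, N A →ₗ[R] S ⊗[R] N A := fun A => TensorProduct.mk R S (N A) 1
  have hε : ∀ A : C, Function.Bijective (ε A) := fun A => by
    let eRS : R ≃ₗ[R] S := LinearEquiv.ofBijective (Algebra.linearMap R S) hj
    let c := (TensorProduct.lid R (N A)).symm.trans (TensorProduct.congr eRS (LinearEquiv.refl R (N A)))
    have hc : ε A = c.toLinearMap := LinearMap.ext fun n => by
      show (1 : S) ⊗ₜ[R] n = algebraMap R S 1 ⊗ₜ[R] n
      rw [map_one]
    rw [hc]
    exact c.bijective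
  suffices key : ∀ z : S ⊗[R] N K, z ∈ Submodule.span S (⋃ i, Set.range (T.map (q i)).hom) →
      ∃ m ∈ Submodule.span R (⋃ i, Set.range ((DerSch.stalkFunctor X (j w)).map (F.map (q i))).hom), ε K m = z by
    obtain ⟨m', hm', he⟩ := key (ε K m) (by rw [hT]; trivial)
    rwa [← (hε K).1 he]
  intro z hz
  induction hz using Submodule.span_induction with
  | mem z hz =>
    obtain ⟨i, n, rfl⟩ := Set.mem_iUnion.1 hz
    obtain ⟨n', rfl⟩ := (hε O).2 n
    exact ⟨_, Submodule.subset_span (Set.mem_iUnion.2 ⟨i, n', rfl⟩), rfl⟩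
  | zero => exact ⟨0, Submodule.zero_mem _, map_zero _⟩
  | add a b _ _ ha hb =>
    obtain ⟨a', ha', rfl⟩ := ha
    obtain ⟨b', hb', rfl⟩ := hb
    exact ⟨a' + b', Submodule.add_mem _ ha' hb', map_add _ _ _⟩
  | smul s a _ ha =>
    obtain ⟨a', ha', rfl⟩ := ha
    obtain ⟨r, rfl⟩ := hj.2 s
    refine ⟨r • a', Submodule.smul_mem _ r ha', ?_⟩
    rw [map_smul]
    exact (algebraMap_smul S r _).symm

end Gen

variable (A : Type u) [CommRing A] [IsNoetherianRing A] (Y : Scheme.{u}) [Y.Over (Spec (CommRingCat.of A))]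
  [IsProper (Y ↘ Spec (CommRingCat.of A))] [Flat (Y ↘ Spec (CommRingCat.of A))] (d : ℕ)
  (hd : Cyc.HasRelDim (Y ↘ Spec (CommRingCat.of A)) d)
  [DCoh.HasRpush (Y ↘ Spec (CommRingCat.of A))] (hf : DCoh.RpushPreservesQCoh (Y ↘ Spec (CommRingCat.of A)))
  (a : DCoh.DQCoh (Spec (CommRingCat.of A)) ⥤ DCoh.DQCoh Y) (adj : DCoh.RpushQ (Y ↘ Spec (CommRingCat.of A)) hf ⊣ a)
  (O : DCoh.DQCoh (Spec (CommRingCat.of A)))
  (hO : Nonempty (O.obj ≅ DCoh.inD (Spec (CommRingCat.of A)) (Coh.structureModule (Spec (CommRingCat.of A)))))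

include hd adj hO

/-- Near a Gorenstein point the adjoint of the structure sheaf is the structure sheaf, shifted. -/
theorem exists_gor_chart (y : Y) (hy : y ∈ RelCanon.gorLocus (Y ↘ Spec (CommRingCat.of A))) :
    ∃ (V : Scheme.{u}) (j : V ⟶ Y) (_ : IsOpenImmersion j) (w : V), j w = y ∧
      Nonempty ((DCoh.restrictD j).obj (a.obj O).obj ≅ (DCoh.inD V (Coh.structureModule V))⟦(d : ℤ)⟧) := by
  let f := Y ↘ Spec (CommRingCat.of A)
  haveI : IsNoetherianRing (CommRingCat.of A) := ‹IsNoetherianRing A›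
  haveI : IsNoetherian (Spec (CommRingCat.of A)) := {}
  haveI : Dual3.IsSepFT f := ⟨inferInstance, inferInstance, inferInstance⟩
  haveI : Dual3.IsSepFT (𝟙 (Spec (CommRingCat.of A))) := ⟨inferInstance, inferInstance, inferInstance⟩
  haveI : CompactSpace Y := QuasiCompact.compactSpace_of_compactSpace f
  haveI : QuasiSeparatedSpace Y := quasiSeparatedSpace_of_quasiSeparated f
  haveI : ∀ (S : CommRingCat.{u}), PreservesFiniteLimits (tilde.functor S) :=
    Groth.Agent.AffSchLib.preservesFiniteLimits_tilde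
  let c : DEt.Compactification f :=
    { Xbar := Y, j := 𝟙 Y, fbar := f, isOpenImmersion := inferInstance, isProper := ‹_›, fac := Category.id_comp f }
  haveI : DCoh.HasRpush c.fbar := ‹DCoh.HasRpush f›
  haveI : IsOpenImmersion c.j := c.isOpenImmersion
  let G := (Dual3.shriekC c a).obj O
  obtain ⟨eG⟩ : Nonempty (G ≅ (a.obj O).obj) := DCat.PCTriangle.rd_id (a.obj O).obj
  have hgor := Groth.Agent.S3616.result (Spec (CommRingCat.of A)) Y (Spec (CommRingCat.of A)) f (𝟙 _) f
    (Category.comp_id _) c hf a adj O hO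
  have hcm : MoreMor.IsCMAt f y := ⟨hy.1, by
    haveI := hy.2
    exact LocCoh.isCohenMacaulayLocalRing_of_gorenstein⟩
  obtain ⟨C⟩ := ShriekLocal.nonempty_chart c hf a adj O hO y
  have hnt : Nontrivial ((DCoh.HD G (-(d : ℤ))).presheaf.stalk y) := by
    have := (Dual22Lib.nontrivial_stalk_iff C.jX C.iso C.pt (-(d : ℤ))).2
      (ShriekCM.support_of_cm C d (ShriekCM.fibreDimAt_eq_of_components f d hd y) hcm).2
    rwa [C.hpt] at this
  obtain ⟨U, hxU, hU⟩ := (hgor.1 y).1 hy
  obtain ⟨V, n, hxV, ⟨eV⟩⟩ := hU ⟨y, hxU⟩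
  let l : (V : Scheme.{u}) ⟶ Y := V.ι ≫ U.ι
  obtain ⟨cV⟩ := DCat.PerfLocal.rd_comp V.ι U.ι G
  let O' := Coh.structureModule (V : Scheme.{u})
  let e : ∀ i : ℤ, (DCoh.HD G i).restrict l ≅ DCoh.HD ((DCoh.inD (V : Scheme.{u}) O')⟦n⟧) i := fun i =>
    (DCat.SuppOpen.hdMapIso (Scheme.Modules.restrictFunctor l) G i).symm ≪≫
      (homologyFunctor _ i).mapIso (cV ≪≫ eV)
  let s : ∀ i : ℤ, DCoh.HD ((DCoh.inD (V : Scheme.{u}) O')⟦n⟧) i ≅ DCoh.HD (DCoh.inD (V : Scheme.{u}) O') (n + i) :=
    fun i => ((homologyFunctor (V : Scheme.{u}).Modules 0).shiftIso n i (n + i) rfl).app _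
  have hn : n + (-(d : ℤ)) = 0 := by
    by_contra hn
    haveI : (DCoh.inD (V : Scheme.{u}) O').IsGE 0 :=
      (inferInstance : ((singleFunctor (V : Scheme.{u}).Modules 0).obj O').IsGE 0)
    haveI : (DCoh.inD (V : Scheme.{u}) O').IsLE 0 :=
      (inferInstance : ((singleFunctor (V : Scheme.{u}).Modules 0).obj O').IsLE 0)
    have h0 : IsZero (DCoh.HD (DCoh.inD (V : Scheme.{u}) O') (n + (-(d : ℤ)))) := by
      rcases lt_or_gt_of_ne hn with h | h
      · exact isZero_of_isGE _ 0 _ h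
      · exact isZero_of_isLE _ 0 _ h
    have h1 := DCat.SuppOpen.subsingleton_of_isZero_stalkFunctor _ _ ((DerSch.stalkFunctor (V : Scheme.{u})
      (show (V : Scheme.{u}) from ⟨⟨y, hxU⟩, hxV⟩)).map_isZero (h0.of_iso (e _ ≪≫ s _)))
    exact not_nontrivial_iff_subsingleton.2 (DCat.SuppOpen.subsingleton_stalk_of_restrict l _ _ h1) hnt
  have hnd : n = (d : ℤ) := by omega
  subst hnd
  exact ⟨V, l, inferInstance, ⟨⟨y, hxU⟩, hxV⟩, rfl, ⟨(DCoh.restrictD l).mapIso eG.symm ≪≫ cV ≪≫ eV⟩⟩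

/-- **Generators near a Gorenstein point.** -/
theorem span_range_of_gor (y : Y) (hy : y ∈ RelCanon.gorLocus (Y ↘ Spec (CommRingCat.of A))) {ι : Type u}
    (K : DCoh.DQCoh (Spec (CommRingCat.of A))) (q : ι → (O ⟶ K))
    (hgen : Submodule.span ((Spec (CommRingCat.of A)).presheaf.stalk ((Y ↘ Spec (CommRingCat.of A)) y))
      (⋃ i, Set.range ((DerSch.stalkFunctor _ ((Y ↘ Spec (CommRingCat.of A)) y)).map
        ((homologyFunctor _ 0).map (q i).hom)).hom) = ⊤) :
    Submodule.span (Y.presheaf.stalk y)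
      (⋃ i, Set.range ((DerSch.stalkFunctor Y y).map
        ((homologyFunctor _ (-(d : ℤ))).map (a.map (q i)).hom)).hom) = ⊤ := by
  let f := Y ↘ Spec (CommRingCat.of A)
  let T := Spec (CommRingCat.of A)
  obtain ⟨V, j, _, w, rfl, ⟨eV⟩⟩ := exists_gor_chart A Y d hd hf a adj O hO y hy
  haveI : IsNoetherianRing (CommRingCat.of A) := ‹IsNoetherianRing A›
  haveI : IsNoetherian T := {}
  haveI : CompactSpace Y := QuasiCompact.compactSpace_of_compactSpace f
  haveI : QuasiSeparatedSpace Y := quasiSeparatedSpace_of_quasiSeparated f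
  haveI : LocallyOfFinitePresentation f := LocallyOfFinitePresentation.iff_locallyOfFiniteType.2 inferInstance
  let h : V ⟶ T := j ≫ f
  haveI : Flat h := inferInstance
  haveI := DCat.hasLpull f
  haveI := DCat.hasLpull j
  haveI := DCat.hasLpull h
  obtain ⟨N, hNk, ⟨eN⟩⟩ := DCat.PullPerf.exists_kflat_rep (a.obj O).obj
  haveI := LTensorSheaf.hasLTensorCx N
  obtain ⟨eT⟩ := Groth.Agent.S3658.result Y T f hf a adj O hO N ⟨eN⟩
  let NU := (Dual22Lib.PullTensorNat.pullC j).obj N
  have hNUk : IsKFlatFor (shT V) NU := PullTot.isKFlatFor_pullback j hNk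
  haveI := LTensorSheaf.hasLTensorCx NU
  obtain ⟨r⟩ := DQCoh.nonempty_Lpull_restrict j (a.obj O).obj
  let eNU : DerivedCategory.Q.obj NU ≅ (DCoh.restrictD j).obj (a.obj O).obj :=
    (PullPerf.lpullIso j hNk).symm ≪≫ (DCoh.Lpull j).mapIso eN ≪≫ r
  let E : CochainComplex V.Modules ℤ := (HomologicalComplex.single V.Modules (ComplexShape.up ℤ) 0).obj (Coh.structureModule V)
  haveI := LTensorSheaf.hasLTensorCx E
  haveI := LTensorSheaf.hasLTensorCx (E⟦(d : ℤ)⟧)
  let eE : DerivedCategory.Q.obj NU ≅ DerivedCategory.Q.obj (E⟦(d : ℤ)⟧) :=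
    eNU ≪≫ eV ≪≫ (shiftFunctor _ (d : ℤ)).mapIso ((DerivedCategory.singleFunctorIsoCompQ V.Modules 0).app _) ≪≫
      ((DerivedCategory.Q.commShiftIso (d : ℤ)).app E).symm
  obtain ⟨n₁⟩ := TensorCongr.nonempty_congr eE
  obtain ⟨n₂⟩ := RHomLeft.nonempty_LTensor_shift E (RHomLeft.isKFlatFor_structure V) (d : ℤ)
  obtain ⟨n₃⟩ := RHomLeft.nonempty_LTensor_structure (X := V)
  obtain ⟨τ⟩ := Dual22Lib.PullTensorNat.nonempty_natIso j hNk
  obtain ⟨cc⟩ := DCat.nonempty_LpullComp j f
  obtain ⟨αj⟩ := Dual6Lib.BCShriekAffine.nonempty_Lpull_Gd j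
  obtain ⟨αh⟩ := Dual6Lib.BCShriekAffine.nonempty_Lpull_Gd h
  let ιT := ObjectProperty.ι (DCoh.IsQCohD (X := T))
  let ιY := ObjectProperty.ι (DCoh.IsQCohD (X := Y))
  let sh : DCoh.LTensorCx NU ≅ shiftFunctor (DCoh.D V) (d : ℤ) :=
    n₁ ≪≫ n₂ ≪≫ Functor.isoWhiskerRight n₃ _ ≪≫ Functor.leftUnitor _
  let e₁ : a ⋙ ιY ⋙ Gd j ≅ ιT ⋙ Gd h ⋙ shiftFunctor (DCoh.D V) (d : ℤ) :=
    Functor.isoWhiskerLeft a (Functor.isoWhiskerLeft ιY αj.symm) ≪≫ (Functor.associator _ _ _).symm ≪≫
      Functor.isoWhiskerRight eT _ ≪≫ Functor.associator _ _ _ ≪≫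
      Functor.isoWhiskerLeft ιT (Functor.associator _ _ _ ≪≫ Functor.isoWhiskerLeft (DCoh.Lpull f) τ ≪≫
        (Functor.associator _ _ _).symm ≪≫ Functor.isoWhiskerRight (cc ≪≫ αh) _ ≪≫
        Functor.isoWhiskerLeft _ sh)
  let F := a ⋙ ιY ⋙ homologyFunctor Y.Modules (-(d : ℤ))
  let G := ιT ⋙ homologyFunctor T.Modules 0
  let e₂ : F ⋙ Scheme.Modules.pullback j ≅ G ⋙ Scheme.Modules.pullback h :=
    Functor.associator _ _ _ ≪≫ Functor.isoWhiskerLeft a (Functor.associator _ _ _ ≪≫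
      Functor.isoWhiskerLeft ιY (sigma j (-(d : ℤ))).symm ≪≫ (Functor.associator _ _ _).symm) ≪≫
      (Functor.associator _ _ _).symm ≪≫ Functor.isoWhiskerRight e₁ _ ≪≫ Functor.associator _ _ _ ≪≫
      Functor.isoWhiskerLeft ιT (Functor.associator _ _ _ ≪≫
        Functor.isoWhiskerLeft (Gd h) ((homologyFunctor V.Modules 0).shiftIso (d : ℤ) (-(d : ℤ)) 0 (by omega)) ≪≫
        sigma h 0) ≪≫ (Functor.associator _ _ _).symm
  have hw : h w = f (j w) := rfl
  exact span_range_of_pullback F G j h e₂ w (ConcreteCategory.bijective_of_isIso (j.stalkMap w)) q hgen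

end Groth.Agent.DualLib.RelTop
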