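import Groth.Agent.RefHullLib.Reflexive
import Groth.Agent.RefHullLib.Restrict
import Groth.Agent.QG15.DualExtend

/-!
# Spreading a section on a stalk of a short exact sequence of modules
-/

set_option autoImplicit false
set_option backward.isDefEq.respectTransparency.types false
set_option backward.isDefEq.respectTransparency false
set_option linter.style.haveILetI false

universe u

open CategoryTheory AlgebraicGeometry TopologicalSpace Opposite

namespace Groth.Agent.DualLib.RelTop

open Groth.Agent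

variable {X W : Scheme.{u}} (j : W ⟶ X) [IsOpenImmersion j] {F G : X.Modules}

/-- A section of the sheaf of homomorphisms gives a morphism of the restrictions. -/
theorem exists_restrict_hom (U : X.Opens) (g : Γ(RefHull.homSh F G, U)) (hU : ∀ w : W, j w ∈ U) :
    ∃ σ : F.restrict j ⟶ G.restrict j, ∀ (O : W.Opens) (m : Γ(F, j ''ᵁ O)) (y : X) (hy : y ∈ j ''ᵁ O) (hyU : y ∈ U),
      G.presheaf.germ (j ''ᵁ O) y hy ((G.restrictAppIso j O).hom (σ.app O ((F.restrictAppIso j O).inv m))) =
        g.1 ⟨y, hyU⟩ (F.presheaf.germ (j ''ᵁ O) y hy m) := by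
  have hle : ∀ O : W.Opens, j ''ᵁ O ≤ U := by
    rintro O _ ⟨w, -, rfl⟩
    exact hU w
  have hsec : ∀ (O : W.Opens) (m : Γ(F, j ''ᵁ O)), ∃ n : Γ(G, j ''ᵁ O), ∀ (y : X) (hy : y ∈ j ''ᵁ O),
      G.presheaf.germ (j ''ᵁ O) y hy n = g.1 ⟨y, hle O hy⟩ (F.presheaf.germ (j ''ᵁ O) y hy m) := fun O m => by
    obtain ⟨n, hn⟩ := QG15.exists_section_of_germs G (j ''ᵁ O)
      (fun y => g.1 ⟨y.1, hle O y.2⟩ (F.presheaf.germ (j ''ᵁ O) y.1 y.2 m)) fun y => by
        obtain ⟨W', hy', i', n, hn⟩ := RefHull.isLocSect_of_mem g (j ''ᵁ O) (homOfLE (hle O)) m y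
        exact ⟨W', i'.le, hy', n, fun z hz => (hn ⟨z, hz⟩).symm⟩
    exact ⟨n, fun y hy => hn ⟨y, hy⟩⟩
  choose f hf using hsec
  have hext : ∀ {O : X.Opens} {a b : Γ(G, O)},
      (∀ (y : X) (hy : y ∈ O), G.presheaf.germ O y hy a = G.presheaf.germ O y hy b) → a = b :=
    fun h => TopCat.Presheaf.section_ext ⟨G.presheaf, G.isSheaf⟩ _ _ _ h
  let ψ : (F.restrict j).presheaf ⟶ (G.restrict j).presheaf :=
    { app := fun O => AddCommGrpCat.ofHom (AddMonoidHom.mk'
        (fun s => (G.restrictAppIso j O.unop).inv (f O.unop ((F.restrictAppIso j O.unop).hom s))) fun a b => by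
          refine (congrArg (G.restrictAppIso j O.unop).inv (hext fun y hy => ?_)).trans (map_add _ _ _)
          rw [map_add, map_add, hf, hf, hf, map_add, map_add])
      naturality := fun O O' i => by
        ext s
        show f O'.unop (F.presheaf.map (j.opensFunctor.map i.unop).op s) =
          G.presheaf.map (j.opensFunctor.map i.unop).op (f O.unop s)
        refine hext fun y hy => ?_
        rw [hf, TopCat.Presheaf.germ_res_apply, TopCat.Presheaf.germ_res_apply, hf] }
  refine ⟨⟨PresheafOfModules.homMk ψ fun O r s => ?_⟩, fun O m y hy hyU => ?_⟩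
  · show (G.restrictAppIso j O.unop).inv (f O.unop ((F.restrictAppIso j O.unop).hom
        ((show Γ(W, O.unop) from r) • (show Γ(F.restrict j, O.unop) from s)))) =
      (show Γ(W, O.unop) from r) • (G.restrictAppIso j O.unop).inv (f O.unop ((F.restrictAppIso j O.unop).hom s))
    rw [Scheme.Modules.smul_restrictAppIso_hom_apply]
    refine (congrArg (G.restrictAppIso j O.unop).inv (hext fun y hy => ?_)).trans (rfl :
      (G.restrictAppIso j O.unop).inv ((j.appIso O.unop).inv (show Γ(W, O.unop) from r) •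
        f O.unop ((F.restrictAppIso j O.unop).hom s)) = _)
    rw [hf, Mero.germ_smul, Mero.germ_smul, hf, map_smul]
  · exact hf O m y hy

end Groth.Agent.DualLib.RelTop
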