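import Groth.Agent.S0321
import Groth.Agent.CAlgH3.Depth
import Groth.Agent.CAlgMisc2.HomDepth
import Mathlib.RingTheory.Filtration
import Mathlib.RingTheory.Flat.Basic
import Mathlib.RingTheory.Ideal.AssociatedPrime.Localization
import Mathlib.Algebra.Module.LocalizedModule.Exact
import Mathlib.Algebra.Module.FinitePresentation
import Mathlib.LinearAlgebra.Projection
import Mathlib.RingTheory.TensorProduct.IsBaseChangePi

/-!
# Lifting of duals from the closed fibre under depth three

For a flat algebra `B` over a local ring `(A, m)`, a finite module `D` locally free off `V(J)` and such that, along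
`V(J)`, the closed fibre has depth two and `Hom(D, B/mB)` depth three, restriction `Hom(D, B) → Hom(D, B/mB)` is
surjective with kernel `m Hom(D, B)`.
-/

set_option autoImplicit false
set_option backward.isDefEq.respectTransparency false
set_option linter.style.haveILetI false
set_option linter.unusedSectionVars false

universe u

open IsLocalRing TensorProduct

namespace Groth.Agent.DualLib.RelTop

open Groth.Agent

section Depth

variable {B : Type u} [CommRing B] [IsNoetherianRing B] (p : Ideal B) [p.IsPrime]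

/-- The depth of the localization at a prime. -/
noncomputable abbrev locDepth (M : Type u) [AddCommGroup M] [Module B M] : ℕ∞ :=
  _root_.LocCoh.depth (Localization.AtPrime p) (LocalizedModule p.primeCompl M)

theorem locDepth_exact {M' M M'' : Type u} [AddCommGroup M'] [Module B M'] [Module.Finite B M']
    [AddCommGroup M] [Module B M] [Module.Finite B M] [AddCommGroup M''] [Module B M''] [Module.Finite B M'']
    (f : M' →ₗ[B] M) (g : M →ₗ[B] M'') (hf : Function.Injective f) (hg : Function.Surjective g)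
    (hfg : Function.Exact f g) :
    min (locDepth p M') (locDepth p M'') ≤ locDepth p M ∧
      min (locDepth p M) (locDepth p M' - 1) ≤ locDepth p M'' :=
  let h := Groth.Agent.S0321.result (Localization.AtPrime p) (maximalIdeal _) _ _ _
    (LocalizedModule.map p.primeCompl f) (LocalizedModule.map p.primeCompl g)
    (LocalizedModule.map_injective _ f hf) (LocalizedModule.map_surjective _ g hg)
    (LocalizedModule.map_exact _ f g hfg)
  ⟨h.1, h.2.1⟩

theorem locDepth_congr {M N : Type u} [AddCommGroup M] [Module B M] [AddCommGroup N] [Module B N] (e : M ≃ₗ[B] N) :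
    locDepth p M = locDepth p N :=
  CAlgH3.depth_congr (LinearEquiv.ofBijective (LocalizedModule.map p.primeCompl e.toLinearMap)
    ⟨LocalizedModule.map_injective _ _ e.injective, LocalizedModule.map_surjective _ _ e.surjective⟩)

theorem locDepth_of_subsingleton {M : Type u} [AddCommGroup M] [Module B M] [Module.Finite B M] [Subsingleton M] :
    locDepth p M = ⊤ := by
  haveI : Subsingleton (LocalizedModule p.primeCompl M) :=
    ⟨fun a b => by
      induction a using LocalizedModule.induction_on with | _ x s =>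
      induction b using LocalizedModule.induction_on with | _ y t =>
      exact LocalizedModule.mk_eq.2 ⟨1, Subsingleton.elim _ _⟩⟩
  exact CAlgH3.depth_eq_top_of_subsingleton

theorem le_locDepth_pi {M : Type u} [AddCommGroup M] [Module B M] [Module.Finite B M] (k : ℕ∞)
    (h : k ≤ locDepth p M) : ∀ n : ℕ, k ≤ locDepth p (Fin n → M)
  | 0 => by rw [locDepth_of_subsingleton]; exact le_top
  | n + 1 => by
    refine le_trans (le_min h (le_locDepth_pi k h n)) (locDepth_exact p
      (LinearMap.single B (fun _ : Fin (n + 1) => M) 0) (LinearMap.funLeft B M Fin.succ)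
      (fun x y h => by simpa using congrFun h 0) (fun v => ⟨Fin.cons 0 v, funext fun i => by simp⟩) fun v => ?_).1
    constructor
    · intro hv
      refine ⟨v 0, funext fun i => ?_⟩
      cases i using Fin.cases with
      | zero => simp
      | succ i =>
        have := congrFun hv i
        simp only [LinearMap.funLeft_apply, Pi.zero_apply] at this
        simp [this, Fin.succ_ne_zero]
    · rintro ⟨x, rfl⟩
      funext i
      simp [LinearMap.funLeft_apply, Fin.succ_ne_zero]

theorem min_two_le_locDepth_hom (M N : Type u) [AddCommGroup M] [Module B M] [Module.Finite B M] [AddCommGroup N]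
    [Module B N] [Module.Finite B N] : min 2 (locDepth p N) ≤ locDepth p (M →ₗ[B] N) := by
  have := Module.finitePresentation_of_finite B M
  rw [show locDepth p (M →ₗ[B] N) = _ from CAlgH3.depth_congr
    ((Module.FinitePresentation.linearEquivMapExtendScalars (M := M) (N := N) p.primeCompl).extendScalarsOfIsLocalization
      p.primeCompl (Localization.AtPrime p))]
  exact CAlgMisc2.min_two_depth_le_depth_hom _ _

omit [IsNoetherianRing B] in
/-- Near a prime where a finitely presented module is free, a multiple of the identity factors through a free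
module. -/
theorem exists_split_of_free (D : Type u) [AddCommGroup D] [Module B D] [Module.FinitePresentation B D]
    (hfree : Module.Free (Localization.AtPrime p) (LocalizedModule p.primeCompl D)) :
    ∃ (s : B) (r : ℕ) (u : D →ₗ[B] Fin r → B) (v : (Fin r → B) →ₗ[B] D), s ∉ p ∧ v ∘ₗ u = s • LinearMap.id := by
  let S := p.primeCompl
  let L := LocalizedModule S D
  let Bp := Localization.AtPrime p
  let g := LocalizedModule.mkLinearMap S D
  haveI : Module.Finite Bp L := Module.Finite.of_isLocalizedModule S g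
  let b := Module.finBasis Bp L
  let r := Module.finrank Bp L
  choose ds hds using fun i : Fin r => IsLocalizedModule.surj S g (b i)
  let v : (Fin r → B) →ₗ[B] D := Fintype.linearCombination B fun i => (ds i).1
  let gr : (Fin r → B) →ₗ[B] Fin r → Bp := LinearMap.pi fun i => (Algebra.linearMap B Bp) ∘ₗ LinearMap.proj i
  haveI : IsLocalizedModule S gr := IsLocalizedModule.pi S fun _ => Algebra.linearMap B Bp
  -- coordinates with respect to the basis `g (ds i).1`
  let un : ∀ i, Bp := fun i => IsLocalization.mk' Bp 1 (ds i).2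
  let cL : L →ₗ[B] Fin r → Bp := LinearMap.pi fun i =>
    ((LinearMap.mul Bp Bp (un i)) ∘ₗ (b.coord i)).restrictScalars B
  obtain ⟨u, s, hu⟩ := Module.FinitePresentation.exists_lift_of_isLocalizedModule S gr (cL ∘ₗ g)
  have hkey : g ∘ₗ (v ∘ₗ u) = g ∘ₗ ((s : B) • LinearMap.id) := by
    refine LinearMap.ext fun x => ?_
    have hx : ∀ i, algebraMap B Bp (u x i) = (s : B) • (un i * b.coord i (g x)) := fun i => by
      have := congrFun (LinearMap.congr_fun hu x) i
      simpa [gr, cL, Submonoid.smul_def] using this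
    show g (v (u x)) = g ((s : B) • x)
    rw [map_smul, show v (u x) = ∑ i, u x i • (ds i).1 from rfl, map_sum]
    conv_rhs => rw [← b.sum_repr (g x), Finset.smul_sum]
    refine Finset.sum_congr rfl fun i _ => ?_
    rw [map_smul, ← hds i, ← algebraMap_smul Bp (u x i), hx i, Submonoid.smul_def,
      ← algebraMap_smul Bp ((ds i).2 : B), smul_smul, ← smul_assoc]
    congr 1
    rw [Algebra.smul_def, Algebra.smul_def, Module.Basis.coord_apply]
    have h1 : un i * algebraMap B Bp ((ds i).2 : B) = 1 := by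
      show IsLocalization.mk' Bp 1 (ds i).2 * _ = 1
      rw [IsLocalization.mk'_spec, map_one]
    linear_combination (algebraMap B Bp (s : B) * b.repr (g x) i) * h1
  obtain ⟨t, ht⟩ := Module.Finite.exists_smul_of_comp_eq_of_isLocalizedModule S g _ _ hkey
  refine ⟨(t : B) * s, r, u, (t : B) • v, ?_, ?_⟩
  · exact fun hc => ((inferInstance : p.IsPrime).mem_or_mem hc).elim t.2 s.2
  · rw [LinearMap.smul_comp, ← smul_smul]
    exact ht

end Depth

variable {A B : Type u} [CommRing A] [IsLocalRing A] [IsNoetherianRing A] [CommRing B] [IsNoetherianRing B]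
  [Algebra A B] [Module.Flat A B]

variable (A B) in
/-- The extension of the maximal ideal. -/
abbrev mB : Ideal B := (maximalIdeal A).map (algebraMap A B)

/-- A layer `mʲ/mʲ⁺¹` is free over the closed fibre. -/
theorem exists_layer (j : ℕ) :
    ∃ (n : ℕ) (a : Fin n → A), (∀ i, algebraMap A B (a i) ∈ (mB A B) ^ j) ∧
      (∀ x ∈ (mB A B) ^ j, ∃ b : Fin n → B, x - ∑ i, algebraMap A B (a i) * b i ∈ (mB A B) ^ (j + 1)) ∧
      (∀ b : Fin n → B, ∑ i, algebraMap A B (a i) * b i ∈ (mB A B) ^ (j + 1) → ∀ i, b i ∈ (mB A B)) := by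
  classical
  let m := maximalIdeal A
  have hpow : ∀ k, (mB A B) ^ k = (m ^ k).map (algebraMap A B) := fun k => (Ideal.map_pow _ _ _).symm
  have hex : ∃ n : ℕ, ∃ a : Fin n → A, Ideal.span (Set.range a) ⊔ m ^ (j + 1) = m ^ j := by
    obtain ⟨n, a, ha⟩ := Submodule.fg_iff_exists_fin_generating_family.1 ((m ^ j).fg_of_isNoetherianRing)
    exact ⟨n, a, by rw [Ideal.span, ha, sup_eq_left]; exact Ideal.pow_le_pow_right j.le_succ⟩
  obtain ⟨a, ha⟩ := Nat.find_spec hex
  refine ⟨Nat.find hex, a, fun i => ?_, fun x hx => ?_, ?_⟩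
  · rw [hpow]
    exact Ideal.mem_map_of_mem _ (ha.le (Submodule.mem_sup_left (Ideal.subset_span ⟨i, rfl⟩)))
  · rw [hpow, ← ha, Ideal.map_sup, Ideal.map_span, ← hpow] at hx
    obtain ⟨y, hy, z, hz, rfl⟩ := Submodule.mem_sup.1 hx
    rw [← Set.range_comp, Ideal.mem_span_range_iff_exists_fun] at hy
    obtain ⟨b, rfl⟩ := hy
    refine ⟨b, ?_⟩
    convert hz using 1
    simp [mul_comm]
  -- independence over `A`
  let g : (Fin (Nat.find hex) → A) →ₗ[A] A ⧸ (m ^ (j + 1)) :=
    (m ^ (j + 1)).mkQ ∘ₗ Fintype.linearCombination A a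
  have hind : ∀ c : Fin (Nat.find hex) → A, g c = 0 → ∀ i, c i ∈ m := by
    intro c hc k
    by_contra hk
    have hu : IsUnit (c k) := IsLocalRing.notMem_maximalIdeal.1 hk
    have hc' : ∑ i, c i * a i ∈ m ^ (j + 1) := by
      have := (Submodule.Quotient.mk_eq_zero _).1 hc
      simpa [Fintype.linearCombination_apply] using this
    obtain ⟨n', hn'⟩ : ∃ n', Nat.find hex = n' + 1 := ⟨Nat.find hex - 1, by have := k.isLt; omega⟩
    refine Nat.find_min hex (m := n') (by omega) ?_
    let k' : Fin (n' + 1) := Fin.cast hn' k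
    refine ⟨fun i => a (Fin.cast hn'.symm (k'.succAbove i)), le_antisymm ?_ (ha.ge.trans ?_)⟩
    · refine le_trans ?_ ha.le
      exact sup_le_sup_right (Ideal.span_mono (by rintro _ ⟨i, rfl⟩; exact ⟨_, rfl⟩)) _
    refine sup_le (Ideal.span_le.2 ?_) le_sup_right
    rintro _ ⟨i, rfl⟩
    have hne : ∀ i', i' ≠ k → a i' ∈ Ideal.span (Set.range fun l => a (Fin.cast hn'.symm (k'.succAbove l))) := by
      intro i' hi'
      obtain ⟨l, hl⟩ := Fin.exists_succAbove_eq (x := Fin.cast hn' i') (y := k')
        fun h => hi' (Fin.ext (by simpa [k', Fin.ext_iff] using h))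
      exact Ideal.subset_span ⟨l, by simp [hl]⟩
    by_cases hi : i = k
    · subst hi
      obtain ⟨w, hw⟩ := hu.exists_left_inv
      have : a i = w * ∑ l, c l * a l - w * ∑ l ∈ Finset.univ.erase i, c l * a l := by
        rw [← mul_sub, ← Finset.sum_erase_add _ _ (Finset.mem_univ i), add_sub_cancel_left, ← mul_assoc, hw, one_mul]
      rw [SetLike.mem_coe, this]
      exact sub_mem (Submodule.mem_sup_right (Ideal.mul_mem_left _ _ hc'))
        (Submodule.mem_sup_left (Ideal.mul_mem_left _ _ (Submodule.sum_mem _ fun l hl =>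
          Ideal.mul_mem_left _ _ (hne l (Finset.ne_of_mem_erase hl)))))
    · exact Submodule.mem_sup_left (hne i hi)
  intro b hb
  let K := LinearMap.ker g
  have hex2 := Module.Flat.lTensor_exact B (LinearMap.exact_subtype_ker_map g)
  let z : B ⊗[A] (Fin (Nat.find hex) → A) := ∑ i, b i ⊗ₜ[A] Pi.single i 1
  have hz : g.lTensor B z = 0 := by
    have h1 : ∀ i, g (Pi.single i 1) = a i • (Submodule.Quotient.mk (1 : A) : A ⧸ (m ^ (j + 1))) := fun i => by
      show Submodule.Quotient.mk (Fintype.linearCombination A a (Pi.single i 1)) = _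
      rw [← Submodule.Quotient.mk_smul, Fintype.linearCombination_apply_single, one_smul, smul_eq_mul, mul_one]
    have h2 : g.lTensor B z = (∑ i, algebraMap A B (a i) * b i) ⊗ₜ[A] (Submodule.Quotient.mk (1 : A) : A ⧸ (m ^ (j + 1))) := by
      simp only [z, map_sum, LinearMap.lTensor_tmul, h1, TensorProduct.sum_tmul]
      exact Finset.sum_congr rfl fun i _ => by rw [← Algebra.smul_def, TensorProduct.smul_tmul]
    rw [h2]
    rw [hpow, Ideal.map] at hb
    revert hb
    generalize ∑ i, algebraMap A B (a i) * b i = x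
    intro hb
    induction hb using Submodule.span_induction with
    | mem x hx =>
      obtain ⟨y, hy, rfl⟩ := hx
      rw [Algebra.algebraMap_eq_smul_one, TensorProduct.smul_tmul, ← Submodule.Quotient.mk_smul, smul_eq_mul, mul_one,
        (Submodule.Quotient.mk_eq_zero _).2 hy, TensorProduct.tmul_zero]
    | zero => simp
    | add x y _ _ hx hy => rw [TensorProduct.add_tmul, hx, hy, add_zero]
    | smul c x _ hx =>
      exact (show (c • x) ⊗ₜ[A] (Submodule.Quotient.mk (1 : A) : A ⧸ (m ^ (j + 1))) =
        c • (x ⊗ₜ[A] (Submodule.Quotient.mk (1 : A) : A ⧸ (m ^ (j + 1)))) from rfl).trans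
          ((congrArg (c • ·) hx).trans (smul_zero c))
  obtain ⟨w, hw⟩ := (hex2 z).1 hz
  intro i
  have hb' : b i = TensorProduct.rid A B ((LinearMap.proj i : (Fin (Nat.find hex) → A) →ₗ[A] A).lTensor B z) := by
    simp [z, map_sum, Pi.single_apply, apply_ite (fun r : A => r • (_ : B))]
  rw [hb', ← hw]
  clear hw hb'
  induction w using TensorProduct.induction_on with
  | zero => simp
  | add x y hx hy => rw [map_add, map_add, map_add]; exact add_mem hx hy
  | tmul x v =>
    simp only [LinearMap.lTensor_tmul, TensorProduct.rid_tmul, Algebra.smul_def]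
    exact Ideal.mul_mem_right _ _ (Ideal.mem_map_of_mem _ (hind v.1 v.2 i))

/-- The quotient maps between the infinitesimal neighbourhoods. -/
noncomputable abbrev step (j : ℕ) : (B ⧸ (mB A B) ^ (j + 1)) →ₗ[B] B ⧸ (mB A B) ^ j :=
  Submodule.factor (Ideal.pow_le_pow_right j.le_succ)

/-- The layer `mʲ/mʲ⁺¹` as the kernel of a quotient map. -/
theorem exists_layer_map (j : ℕ) :
    ∃ (n : ℕ) (a : Fin n → A) (μ : (Fin n → B ⧸ (mB A B)) →ₗ[B] B ⧸ (mB A B) ^ (j + 1)),
      (∀ i, algebraMap A B (a i) ∈ (mB A B) ^ j) ∧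
      (∀ b : Fin n → B, μ (fun i => Submodule.Quotient.mk (b i)) =
        Submodule.Quotient.mk (∑ i, algebraMap A B (a i) * b i)) ∧
      Function.Injective μ ∧ Function.Exact μ (step (A := A) (B := B) j) := by
  obtain ⟨n, a, ha, hgen, hind⟩ := exists_layer (A := A) (B := B) j
  have hle : ∀ i, (mB A B) ≤ Submodule.comap (LinearMap.mul B B (algebraMap A B (a i))) ((mB A B) ^ (j + 1)) :=
    fun i x hx => by
      rw [Submodule.mem_comap, LinearMap.mul_apply', pow_succ]
      exact Ideal.mul_mem_mul (ha i) hx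
  let μ : (Fin n → B ⧸ (mB A B)) →ₗ[B] B ⧸ (mB A B) ^ (j + 1) :=
    ∑ i, (Submodule.mapQ _ _ (LinearMap.mul B B (algebraMap A B (a i))) (hle i)) ∘ₗ LinearMap.proj i
  have hμ : ∀ b : Fin n → B, μ (fun i => Submodule.Quotient.mk (b i)) =
      Submodule.Quotient.mk (∑ i, algebraMap A B (a i) * b i) := fun b => by
    rw [LinearMap.sum_apply, ← Submodule.mkQ_apply, map_sum]
    exact Finset.sum_congr rfl fun i _ => rfl
  have hrep : ∀ v : Fin n → B ⧸ (mB A B), ∃ b : Fin n → B, v = fun i => Submodule.Quotient.mk (b i) := fun v => by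
    choose b hb using fun i => Submodule.Quotient.mk_surjective _ (v i)
    exact ⟨b, funext fun i => (hb i).symm⟩
  refine ⟨n, a, μ, ha, hμ, ?_, ?_⟩
  · rw [injective_iff_map_eq_zero]
    intro v hv
    obtain ⟨b, rfl⟩ := hrep v
    rw [hμ, Submodule.Quotient.mk_eq_zero] at hv
    exact funext fun i => (Submodule.Quotient.mk_eq_zero _).2 (hind b hv i)
  · intro x
    obtain ⟨x, rfl⟩ := Submodule.Quotient.mk_surjective _ x
    constructor
    · intro hx
      rw [show step j (Submodule.Quotient.mk x) = Submodule.Quotient.mk x from rfl, Submodule.Quotient.mk_eq_zero] at hx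
      obtain ⟨b, hb⟩ := hgen x hx
      exact ⟨_, (hμ b).trans ((Submodule.Quotient.eq _).2 (by simpa using neg_mem hb))⟩
    · rintro ⟨v, hv⟩
      obtain ⟨b, rfl⟩ := hrep v
      rw [hμ] at hv
      rw [← hv, show step j (Submodule.Quotient.mk (∑ i, algebraMap A B (a i) * b i)) =
        Submodule.Quotient.mk (∑ i, algebraMap A B (a i) * b i) from rfl, Submodule.Quotient.mk_eq_zero]
      exact Submodule.sum_mem _ fun i _ => Ideal.mul_mem_right _ _ (ha i)

variable (J : Ideal B) (D : Type u) [AddCommGroup D] [Module B D] [Module.Finite B D]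

/-- Depth two of the infinitesimal neighbourhoods. -/
theorem two_le_locDepth_quot (hR : ∀ p : Ideal B, ∀ [p.IsPrime], J ≤ p → (mB A B) ≤ p → (2 : ℕ∞) ≤ locDepth p (B ⧸ (mB A B)))
    (p : Ideal B) [p.IsPrime] (hJ : J ≤ p) (hm : (mB A B) ≤ p) : ∀ j : ℕ, (2 : ℕ∞) ≤ locDepth p (B ⧸ (mB A B) ^ j)
  | 0 => by
    haveI : Subsingleton (B ⧸ (mB A B) ^ 0) := Ideal.Quotient.subsingleton_iff.2 (by simp [Ideal.one_eq_top])
    rw [locDepth_of_subsingleton]; exact le_top
  | j + 1 => by
    obtain ⟨n, a, μ, -, -, hinj, hex⟩ := exists_layer_map (A := A) (B := B) j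
    exact le_trans (le_min (le_locDepth_pi p 2 (hR p hJ hm) n) (two_le_locDepth_quot hR p hJ hm j))
      (locDepth_exact p μ _ hinj (Submodule.factor_surjective _) hex).1

/-- Maps into a neighbourhood lift to the next one. -/
theorem exists_lift_step (hfree : ∀ q : Ideal B, ∀ [q.IsPrime], ¬J ≤ q →
      Module.Free (Localization.AtPrime q) (LocalizedModule q.primeCompl D))
    (hR : ∀ p : Ideal B, ∀ [p.IsPrime], J ≤ p → (mB A B) ≤ p → (2 : ℕ∞) ≤ locDepth p (B ⧸ (mB A B)))
    (hL : ∀ p : Ideal B, ∀ [p.IsPrime], J ≤ p → (mB A B) ≤ p → (3 : ℕ∞) ≤ locDepth p (D →ₗ[B] B ⧸ (mB A B)))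
    (j : ℕ) (h : D →ₗ[B] B ⧸ (mB A B) ^ j) : ∃ h', step j ∘ₗ h' = h := by
  obtain ⟨n, a, μ, -, -, hinj, hex⟩ := exists_layer_map (A := A) (B := B) j
  haveI := Module.finitePresentation_of_finite B D
  let T : (D →ₗ[B] B ⧸ (mB A B) ^ (j + 1)) →ₗ[B] (D →ₗ[B] B ⧸ (mB A B) ^ j) := LinearMap.llcomp B D _ _ (step j)
  let S : (Fin n → (D →ₗ[B] B ⧸ (mB A B))) →ₗ[B] (D →ₗ[B] B ⧸ (mB A B) ^ (j + 1)) :=
    { toFun := fun g => μ ∘ₗ LinearMap.pi g
      map_add' := fun g g' => LinearMap.ext fun x => by
        show μ (fun i => (g i + g' i) x) = μ (fun i => g i x) + μ (fun i => g' i x)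
        rw [← map_add]; rfl
      map_smul' := fun c g => LinearMap.ext fun x => by
        show μ (fun i => (c • g i) x) = c • μ (fun i => g i x)
        rw [← map_smul]; rfl }
  let C := (D →ₗ[B] B ⧸ (mB A B) ^ j) ⧸ LinearMap.range T
  suffices hC : Subsingleton C by
    obtain ⟨h', hh'⟩ := (Submodule.Quotient.mk_eq_zero (LinearMap.range T) (x := h)).1 (Subsingleton.elim _ _)
    exact ⟨h', hh'⟩
  by_contra hC
  haveI : Nontrivial C := not_subsingleton_iff_nontrivial.1 hC
  obtain ⟨p, hp⟩ := associatedPrimes.nonempty B C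
  haveI : p.IsPrime := IsAssociatedPrime.isPrime hp
  have hann : Module.annihilator B C ≤ p := le_of_eq_of_le Submodule.annihilator_top.symm (IsAssociatedPrime.annihilator_le hp)
  have hm : (mB A B) ≤ p := by
    rcases Nat.eq_zero_or_pos j with rfl | hj
    · exfalso
      haveI : Subsingleton (B ⧸ (mB A B) ^ 0) := Ideal.Quotient.subsingleton_iff.2 (by simp [Ideal.one_eq_top])
      exact hC ⟨fun x y => by
        obtain ⟨x, rfl⟩ := Submodule.Quotient.mk_surjective _ x
        obtain ⟨y, rfl⟩ := Submodule.Quotient.mk_surjective _ y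
        exact congrArg _ (Subsingleton.elim x y)⟩
    · refine fun x hx => Ideal.IsPrime.mem_of_pow_mem ‹_› j (hann (Module.mem_annihilator.2 fun c => ?_))
      obtain ⟨g, rfl⟩ := Submodule.Quotient.mk_surjective _ c
      rw [← Submodule.Quotient.mk_smul, show x ^ j • g = 0 from LinearMap.ext fun d => ?_, Submodule.Quotient.mk_zero]
      obtain ⟨y, hy⟩ := Submodule.Quotient.mk_surjective _ (g d)
      rw [LinearMap.smul_apply, ← hy, ← Submodule.Quotient.mk_smul, LinearMap.zero_apply, Submodule.Quotient.mk_eq_zero]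
      exact Ideal.mul_mem_right _ _ (Ideal.pow_mem_pow hx j)
  have hJ : J ≤ p := by
    by_contra hJ
    obtain ⟨s, r, u, v, hs, huv⟩ := exists_split_of_free p D (hfree p hJ)
    refine hs (hann (Module.mem_annihilator.2 fun c => ?_))
    obtain ⟨g, rfl⟩ := Submodule.Quotient.mk_surjective _ c
    obtain ⟨l, hl⟩ := Module.projective_lifting_property (step (A := A) (B := B) j) (g ∘ₗ v) (Submodule.factor_surjective _)
    rw [← Submodule.Quotient.mk_smul, Submodule.Quotient.mk_eq_zero]
    exact ⟨l ∘ₗ u, show step j ∘ₗ (l ∘ₗ u) = s • g by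
      rw [← LinearMap.comp_assoc, hl, LinearMap.comp_assoc, huv, LinearMap.comp_smul, LinearMap.comp_id]⟩
  have hSinj : Function.Injective S := fun g g' h =>
    funext fun i => LinearMap.ext fun x => congrFun (hinj (LinearMap.congr_fun h x)) i
  have hST : Function.Exact S T.rangeRestrict := fun g => by
    constructor
    · intro hg
      have hg0 : ∀ x, step j (g x) = 0 := fun x => LinearMap.congr_fun (congrArg Subtype.val hg) x
      choose v hv using fun x => (hex (g x)).1 (hg0 x)
      let w : D →ₗ[B] Fin n → B ⧸ (mB A B) :=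
        { toFun := v
          map_add' := fun x y => hinj (by rw [map_add, hv, hv, hv, map_add])
          map_smul' := fun c x => hinj (by rw [map_smul, hv, hv, map_smul, RingHom.id_apply]) }
      exact ⟨fun i : Fin n => (LinearMap.proj i : (Fin n → B ⧸ (mB A B)) →ₗ[B] B ⧸ (mB A B)) ∘ₗ w, LinearMap.ext fun x => hv x⟩
    · rintro ⟨v, rfl⟩
      exact Subtype.ext (LinearMap.ext fun x => (hex _).2 ⟨_, rfl⟩)
  have hI : (2 : ℕ∞) ≤ locDepth p (LinearMap.range T) := by
    refine le_trans (le_min ?_ ?_) (locDepth_exact p S T.rangeRestrict hSinj T.surjective_rangeRestrict hST).2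
    · exact le_trans (le_min le_rfl (two_le_locDepth_quot J hR p hJ hm (j + 1))) (min_two_le_locDepth_hom p D _)
    · exact le_trans (show (2 : ℕ∞) ≤ 3 - 1 by decide) (tsub_le_tsub_right (le_locDepth_pi p 3 (hL p hJ hm) n) 1)
  have hC1 : (1 : ℕ∞) ≤ locDepth p C := by
    refine le_trans (le_min ?_ ?_) (locDepth_exact (M' := LinearMap.range T) (M := D →ₗ[B] B ⧸ (mB A B) ^ j) (M'' := C) p
      (LinearMap.range T).subtype (LinearMap.range T).mkQ
      (Submodule.injective_subtype _) (Submodule.mkQ_surjective _) (LinearMap.exact_subtype_mkQ (LinearMap.range T))).2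
    · exact le_trans (le_trans (by norm_num) (le_min le_rfl (two_le_locDepth_quot J hR p hJ hm j))) (min_two_le_locDepth_hom p D _)
    · exact le_trans (show (1 : ℕ∞) ≤ 2 - 1 by decide) (tsub_le_tsub_right hI 1)
  haveI : Nontrivial (LocalizedModule p.primeCompl C) := by
    have h2 : (⟨p, ‹_›⟩ : PrimeSpectrum B) ∈ Module.support B C := Module.mem_support_iff_of_finite.2 hann
    exact Module.mem_support_iff.1 h2
  have h0 : _root_.LocCoh.depth (Localization.AtPrime p) (LocalizedModule p.primeCompl C) = 0 :=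
    CAlgH3.depth_eq_zero_iff.2 (Module.associatedPrimes.mem_associatedPrimes_atPrime_of_mem_associatedPrimes hp)
  simp [locDepth, h0] at hC1

/-- Artin–Rees: deep elements of a submodule lie in the ideal times it. -/
theorem exists_pow_inf_le {P : Type u} [AddCommGroup P] [Module B P] [Module.Finite B P] (I : Ideal B)
    (N : Submodule B P) : ∃ k : ℕ, I ^ k • ⊤ ⊓ N ≤ I • N := by
  obtain ⟨k, hk⟩ := I.exists_pow_inf_eq_pow_smul N
  refine ⟨k + 1, ?_⟩
  rw [hk (k + 1) k.le_succ, Nat.add_sub_cancel_left, pow_one]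
  exact Submodule.smul_mono le_rfl inf_le_right

omit [IsNoetherianRing B] in
theorem mem_smul_top_pi {b : ℕ} (I : Ideal B) (v : Fin b → B) (h : ∀ i, v i ∈ I) :
    v ∈ I • (⊤ : Submodule B (Fin b → B)) := by
  classical
  rw [pi_eq_sum_univ' v]
  exact Submodule.sum_mem _ fun i _ => Submodule.smul_mem_smul (h i) trivial

variable (A B) in
/-- Composition with the projection to the closed fibre. -/
noncomputable abbrev restrDual : (D →ₗ[B] B) →ₗ[B] (D →ₗ[B] B ⧸ (mB A B)) :=
  LinearMap.compRight B (Submodule.mkQ (mB A B))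

omit [Module.Flat A B] in
/-- A map into the closed fibre lifting to every neighbourhood lifts to the stalk. -/
theorem exists_lift_of_chain (h : D →ₗ[B] B ⧸ (mB A B))
    (hlift : ∀ k : ℕ, ∃ hk : D →ₗ[B] B ⧸ (mB A B) ^ (k + 1),
      Submodule.factor ((Ideal.pow_le_pow_right (Nat.le_add_left 1 k)).trans (pow_one (mB A B)).le) ∘ₗ hk = h) :
    ∃ g : D →ₗ[B] B, (mB A B).mkQ ∘ₗ g = h := by
  classical
  revert h hlift
  set I := (mB A B) with hIdef
  intro h hlift
  haveI := Module.finitePresentation_of_finite B D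
  obtain ⟨na, v, hv⟩ := Module.Finite.exists_fin' B D
  obtain ⟨nb, u, hu⟩ := Submodule.fg_iff_exists_fin_generating_family.1 (IsNoetherian.noetherian (LinearMap.ker v))
  have hp1 : I ^ (0 + 1) = I := pow_one I
  let r : (Fin na → B) →ₗ[B] (Fin nb → B) :=
    LinearMap.pi fun i => Fintype.linearCombination B (u i)
  obtain ⟨k, hk⟩ := exists_pow_inf_le I (LinearMap.range r)
  obtain ⟨hh, hhh⟩ := hlift k
  choose w hw using fun i => Submodule.Quotient.mk_surjective _ (hh (v (Pi.single i 1)))
  have hwv : ∀ c : Fin na → B, (Submodule.Quotient.mk (∑ i, c i * w i) : B ⧸ I ^ (k + 1)) = hh (v c) := by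
    intro c
    conv_rhs => rw [pi_eq_sum_univ' c]
    simp only [map_sum, map_smul, ← hw, ← Submodule.mkQ_apply, ← smul_eq_mul]
  have hrw : r w ∈ I ^ k • (⊤ : Submodule B (Fin nb → B)) := mem_smul_top_pi _ _ fun i =>
    Ideal.pow_le_pow_right k.le_succ ((Submodule.Quotient.mk_eq_zero _).1 (by
      have : v (u i) = 0 := LinearMap.mem_ker.1 (hu.le (Submodule.subset_span ⟨i, rfl⟩))
      have h3 : r w i = ∑ l, u i l * w l := by
        simp [r, Fintype.linearCombination_apply, mul_comm]
      rw [h3, hwv, this, map_zero]))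
  have := hk ⟨hrw, w, rfl⟩
  rw [LinearMap.range_eq_map, ← Submodule.map_smul''] at this
  obtain ⟨w', hw', hrw'⟩ := this
  have hw'I : ∀ i, w' i ∈ I := fun i => by
    refine Submodule.smul_induction_on hw' (fun c hc x _ => ?_) fun x y hx hy => ?_
    · exact Ideal.mul_mem_right _ _ hc
    · exact Ideal.add_mem _ hx hy
  let ψ : (Fin na → B) →ₗ[B] B := Fintype.linearCombination B (w - w')
  have hψ : ∀ c, ψ c = ∑ i, c i * (w i - w' i) := fun c => by simp [ψ, Fintype.linearCombination_apply]
  have hker : LinearMap.ker v ≤ LinearMap.ker ψ := by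
    rw [← hu, Submodule.span_le]
    rintro _ ⟨i, rfl⟩
    have h4 : r (w - w') i = 0 := by rw [map_sub, hrw', sub_self]; rfl
    rw [SetLike.mem_coe, LinearMap.mem_ker, hψ, ← h4]
    simp [r, Fintype.linearCombination_apply, mul_comm]
  refine ⟨(LinearMap.ker v).liftQ ψ hker ∘ₗ (v.quotKerEquivOfSurjective hv).symm.toLinearMap, ?_⟩
  refine LinearMap.ext fun x => ?_
  obtain ⟨c, rfl⟩ := hv x
  have h5 : (v.quotKerEquivOfSurjective hv).symm (v c) = Submodule.Quotient.mk c :=
    (LinearEquiv.symm_apply_eq _).2 rfl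
  rw [LinearMap.comp_apply, LinearMap.comp_apply, LinearEquiv.coe_coe, h5, Submodule.liftQ_apply, hψ, ← hhh,
    LinearMap.comp_apply, ← hwv]
  show Submodule.Quotient.mk _ = Submodule.Quotient.mk _
  rw [Submodule.Quotient.eq, LinearMap.id_apply, ← Finset.sum_sub_distrib]
  exact Submodule.sum_mem _ fun i _ => by
    rw [show c i * (w i - w' i) - c i * w i = -(c i * w' i) by ring]
    exact neg_mem (Ideal.mul_mem_left _ _ (hw'I i))

/-- If restriction to the closed fibre is surjective, its kernel is `m Hom(D, B)`. -/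
theorem ker_restrDual (hsurj : Function.Surjective (restrDual A B D)) :
    LinearMap.ker (restrDual A B D) = (mB A B) • ⊤ := by
  classical
  set I := (mB A B) with hIdef
  haveI := Module.finitePresentation_of_finite B D
  obtain ⟨na, v, hv⟩ := Module.Finite.exists_fin' B D
  obtain ⟨nb, u, hu⟩ := Submodule.fg_iff_exists_fin_generating_family.1 (IsNoetherian.noetherian (LinearMap.ker v))
  have hp1 : I ^ (0 + 1) = I := pow_one I
  refine le_antisymm (fun g hg => ?_) ?_
  · have hg1 : ∀ x, g x ∈ I := fun x => (Submodule.Quotient.mk_eq_zero _).1 (LinearMap.congr_fun hg x)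
    let ι : (D →ₗ[B] B) →ₗ[B] (Fin na → B) := LinearMap.pi fun i => LinearMap.applyₗ (v (Pi.single i 1))
    have hι : Function.Injective ι := fun g g' h => LinearMap.ext fun x => by
      obtain ⟨c, rfl⟩ := hv x
      rw [pi_eq_sum_univ' c]
      simp only [map_sum, map_smul]
      exact Finset.sum_congr rfl fun i _ => congrArg _ (congrFun h i)
    obtain ⟨k, hk⟩ := exists_pow_inf_le I (LinearMap.range ι)
    have hdec : ∀ k : ℕ, ∃ g', g - g' ∈ I • (⊤ : Submodule B (D →ₗ[B] B)) ∧ ∀ x, g' x ∈ I ^ (k + 1) := by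
      intro k
      induction k with
      | zero => exact ⟨g, by simp, fun x => by rw [hp1]; exact hg1 x⟩
      | succ k ih =>
        obtain ⟨g', hg', hgk⟩ := ih
        obtain ⟨n, a, μ, ha, hμ, hinj, hex⟩ := exists_layer_map (A := A) (B := B) (k + 1)
        choose x hx using fun z => (hex (Submodule.Quotient.mk (g' z))).1
          ((Submodule.Quotient.mk_eq_zero _).2 (hgk z))
        let xl : D →ₗ[B] Fin n → B ⧸ I :=
          { toFun := x
            map_add' := fun y y' => hinj (by rw [map_add, hx, hx, hx, map_add, Submodule.Quotient.mk_add])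
            map_smul' := fun c y => hinj (by rw [map_smul, hx, hx, map_smul, RingHom.id_apply, Submodule.Quotient.mk_smul]) }
        choose gi hgi using fun i => hsurj (LinearMap.proj i ∘ₗ xl)
        let s : D →ₗ[B] B := ∑ i, algebraMap A B (a i) • gi i
        refine ⟨g' - s, ?_, fun z => ?_⟩
        · rw [show g - (g' - s) = (g - g') + s by abel]
          exact add_mem hg' (Submodule.sum_mem _ fun i _ => Submodule.smul_mem_smul
            (Ideal.pow_le_self k.succ_ne_zero (ha i)) trivial)
        · refine (Submodule.Quotient.eq _).1 ?_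
          rw [← hx z, show s z = ∑ i, algebraMap A B (a i) * gi i z by simp [s, Algebra.smul_def], ← hμ]
          exact congrArg μ (funext fun i => (LinearMap.congr_fun (hgi i) z).symm)
    obtain ⟨g', hg', hgk⟩ := hdec k
    have hm := hk ⟨mem_smul_top_pi (I ^ k) (ι g') fun i => Ideal.pow_le_pow_right k.le_succ (hgk _), g', rfl⟩
    rw [LinearMap.range_eq_map, ← Submodule.map_smul''] at hm
    obtain ⟨g'', hg'', he⟩ := hm
    rw [← sub_add_cancel g g']
    exact add_mem hg' (hι he ▸ hg'')
  · refine Submodule.smul_le.2 fun c hc g _ => LinearMap.ext fun x => ?_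
    exact (Submodule.Quotient.mk_eq_zero _).2 (Ideal.mul_mem_right _ _ hc)


/-- **Kollár's criterion.** Restriction of duals to the closed fibre is surjective with kernel `m Hom(D, B)`. -/
theorem lift_crit (hfree : ∀ q : Ideal B, ∀ [q.IsPrime], ¬J ≤ q →
      Module.Free (Localization.AtPrime q) (LocalizedModule q.primeCompl D))
    (hR : ∀ p : Ideal B, ∀ [p.IsPrime], J ≤ p → (mB A B) ≤ p → (2 : ℕ∞) ≤ locDepth p (B ⧸ (mB A B)))
    (hL : ∀ p : Ideal B, ∀ [p.IsPrime], J ≤ p → (mB A B) ≤ p → (3 : ℕ∞) ≤ locDepth p (D →ₗ[B] B ⧸ (mB A B))) :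
    Function.Surjective (restrDual A B D) ∧
      LinearMap.ker (restrDual A B D) = (mB A B) • ⊤ := by
  set I := (mB A B) with hIdef
  have hsurj : Function.Surjective (restrDual A B D) := fun h => by
    refine exists_lift_of_chain D h ?_
    have hp1 : I ^ (0 + 1) = I := pow_one I
    intro k
    induction k with
    | zero =>
      refine ⟨Submodule.factor hp1.ge ∘ₗ h, LinearMap.ext fun x => ?_⟩
      obtain ⟨y, hy⟩ := Submodule.Quotient.mk_surjective _ (h x)
      rw [LinearMap.comp_apply, LinearMap.comp_apply, ← hy]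
      rfl
    | succ k ih =>
      obtain ⟨hk, hk'⟩ := ih
      obtain ⟨h', hh'⟩ := exists_lift_step J D hfree hR hL (k + 1) hk
      refine ⟨h', LinearMap.ext fun x => ?_⟩
      obtain ⟨y, hy⟩ := Submodule.Quotient.mk_surjective _ (h' x)
      have h1 := LinearMap.congr_fun hh' x
      have h2 := LinearMap.congr_fun hk' x
      simp only [LinearMap.comp_apply, ← hy] at h1 h2 ⊢
      rw [← h2, ← h1]
      rfl
  exact ⟨hsurj, ker_restrDual D hsurj⟩

end Groth.Agent.DualLib.RelTop
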