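import Groth.Agent.DualLib.RelTop.LiftFibre
import Groth.Agent.DualLib.RelTop.QGorLocal

/-!
# Reflexive powers under depth three on the fibre
-/

set_option autoImplicit false
set_option backward.isDefEq.respectTransparency false
set_option linter.style.haveILetI false
set_option linter.unusedSectionVars false

universe u

open CategoryTheory CategoryTheory.Limits AlgebraicGeometry TopologicalSpace IsLocalRing TensorProduct

namespace Groth.Agent.DualLib.RelTop

open Groth.Agent EGA43.DimFormula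

variable {X : Scheme.{u}} [IsLocallyNoetherian X]

/-- `(S_k)` at a point gives depth `k` at generizations of dimension at least `k`, when the support contains an open
containing every point of dimension less than `k`. -/
theorem le_depth_of_skAt {k : ℕ} (hk : 0 < k) {F : X.Modules} (hF : Coh.IsCoh F) (z : X) (h : RelCanon.SkAt k F z)
    (U : X.Opens) (hdim : ∀ w : X, w ⤳ z → w ∉ U → (k : WithBot ℕ∞) ≤ ringKrullDim (X.presheaf.stalk w))
    (hne : ∀ v : X, v ⤳ z → v ∈ U → Nontrivial (F.presheaf.stalk v)) :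
    ∀ w : X, w ⤳ z → w ∉ U → (k : ℕ∞) ≤ _root_.LocCoh.depth (X.presheaf.stalk w) (F.presheaf.stalk w) := by
  intro w hwz hwU
  obtain ⟨p, rfl⟩ := exists_toPt hwz
  rw [← depth_toPt F hF.1 z p]
  let R := X.presheaf.stalk z
  let N := F.presheaf.stalk z
  haveI : Module.Finite R N := AssSch12.finite_stalk hF z
  let Rp := Localization.AtPrime p.asIdeal
  let Np := LocalizedModule p.asIdeal.primeCompl N
  have hdimloc : ∀ q : PrimeSpectrum R, ringKrullDim (X.presheaf.stalk (toPt z q)) = ringKrullDim (Localization.AtPrime q.asIdeal) := fun q => by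
    letI := (X.presheaf.stalkSpecializes (toPt_specializes z q)).hom.toAlgebra
    haveI : IsLocalization.AtPrime (X.presheaf.stalk (toPt z q)) q.asIdeal := (stalk_loc F hF.1 z q).1
    exact ringKrullDim_eq_of_ringEquiv (IsLocalization.algEquiv q.asIdeal.primeCompl _ _).toRingEquiv
  have hsupp : Module.support Rp Np = Set.univ := by
    refine Set.eq_univ_of_forall fun P => ?_
    let Q : Ideal R := P.asIdeal.comap (algebraMap R Rp)
    have hQp : Q ≤ p.asIdeal := by
      rw [← IsLocalization.AtPrime.under_maximalIdeal Rp p.asIdeal]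
      exact Ideal.comap_mono (le_maximalIdeal P.isPrime.ne_top)
    obtain ⟨Q₀, hQ₀, hQ₀Q⟩ := Ideal.exists_minimalPrimes_le (I := (⊥ : Ideal R)) (J := Q) bot_le
    haveI := hQ₀.1.1
    let q₀ : PrimeSpectrum R := ⟨Q₀, hQ₀.1.1⟩
    have hv : toPt z q₀ ∈ U := by
      by_contra hv
      have h2 := hdim _ (toPt_specializes z q₀) hv
      rw [hdimloc, IsLocalization.AtPrime.ringKrullDim_eq_height Q₀ (Localization.AtPrime Q₀),
        Ideal.height_eq_zero_iff.2 hQ₀] at h2
      have : k ≤ 0 := by exact_mod_cast h2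
      omega
    haveI := hne _ (toPt_specializes z q₀) hv
    haveI : Nontrivial (LocalizedModule Q₀.primeCompl N) := by
      letI := (X.presheaf.stalkSpecializes (toPt_specializes z q₀)).hom.toAlgebra
      letI := Module.compHom (F.presheaf.stalk (toPt z q₀)) (X.presheaf.stalkSpecializes (toPt_specializes z q₀)).hom
      obtain ⟨-, ρ, hρ⟩ := stalk_loc F hF.1 z q₀
      haveI := hρ
      exact (IsLocalizedModule.iso Q₀.primeCompl ρ).toEquiv.nontrivial
    obtain ⟨n, hn⟩ := (Module.mem_support_iff_exists_annihilator (p := q₀)).1 (Module.mem_support_iff.2 ‹_›)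
    refine Module.mem_support_iff_exists_annihilator.2 ⟨LocalizedModule.mkLinearMap p.asIdeal.primeCompl N n, fun r hr => ?_⟩
    obtain ⟨⟨a, s⟩, rfl⟩ := IsLocalization.mk'_surjective p.asIdeal.primeCompl r
    rw [Submodule.mem_annihilator_span_singleton] at hr
    have ha : algebraMap R Rp a • LocalizedModule.mkLinearMap p.asIdeal.primeCompl N n = 0 := by
      rw [← IsLocalization.mk'_spec Rp a s, mul_comm, mul_smul, hr, smul_zero]
    rw [algebraMap_smul, ← map_smul] at ha
    obtain ⟨v, hv'⟩ := (IsLocalizedModule.eq_zero_iff p.asIdeal.primeCompl _).1 ha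
    rw [Submonoid.smul_def, smul_smul] at hv'
    have hvQ : (v : R) ∉ Q₀ := fun hc => v.2 (hQp (hQ₀Q hc))
    have haQ : a ∈ Q₀ := (hQ₀.1.1.mem_or_mem (hn (Submodule.mem_annihilator_span_singleton _ _ |>.2 hv'))).resolve_left hvQ
    exact IsLocalization.mk'_mem_iff.2 (hQ₀Q haQ)
  have hsd : Module.supportDim Rp Np = ringKrullDim Rp := by
    rw [Module.supportDim, hsupp]
    exact Order.krullDim_eq_of_orderIso OrderIso.Set.univ
  have := h p.asIdeal
  rw [hsd, ← hdimloc, min_eq_left (hdim _ hwz hwU)] at this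
  exact WithBot.coe_le_coe.1 this

/-- `(S_k)` is monotone in `k`. -/
theorem skAt_mono {k l : ℕ} (hkl : k ≤ l) {F : X.Modules} {z : X} (h : RelCanon.SkAt l F z) : RelCanon.SkAt k F z :=
  fun p _ => le_trans (min_le_min_right _ (by exact_mod_cast hkl)) (h p)

/-- The dual of a module invertible on an open is invertible there. -/
theorem invertibleAt_dual {L : X.Modules} (hL : Coh.IsCoh L) (x : X) (h : RelCanon.InvertibleAt L x) :
    RelCanon.InvertibleAt (RefHull.dual L) x := by
  haveI : Module.Finite (X.presheaf.stalk x) (L.presheaf.stalk x) := AssSch12.finite_stalk hL x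
  obtain ⟨a⟩ := nonempty_dual_stalk_equiv hL x
  obtain ⟨b⟩ := exists_stalk_equiv_of_invertibleAt h
  exact invertibleAt_of_stalk_equiv (RefHullLib.isCoh_dual hL (Coherent.isCoh_structureModule X)) x
    (a.trans ((LinearEquiv.arrowCongr b (LinearEquiv.refl _ _)).trans (LinearMap.ringLmapEquivSelf _ _ _)))

variable {T : Scheme.{u}} (f : X ⟶ T) [IsLocallyNoetherian T] [LocallyOfFiniteType f]

/-- A pullback of a module invertible on an open is invertible on the preimage. -/
theorem invertibleAt_pullback {Y : Scheme.{u}} (g : Y ⟶ X) {L : X.Modules} (v : Y)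
    (h : RelCanon.InvertibleAt L (g v)) : RelCanon.InvertibleAt ((Scheme.Modules.pullback g).obj L) v := by
  obtain ⟨W, hW, ⟨eW⟩⟩ := h
  obtain ⟨eW'⟩ := nonempty_pull_restrict g W (M := L) (N := Coh.structureModule X)
    (eW ≪≫ (Scheme.Modules.restrictUnitIso W.ι).symm)
  exact ⟨g ⁻¹ᵁ W, hW, ⟨eW' ≪≫ (Scheme.Modules.restrictFunctor (g ⁻¹ᵁ W).ι).mapIso
    (PicLoc.pullbackStructureIso g) ≪≫ Scheme.Modules.restrictUnitIso _⟩⟩

/-- Double duals of powers agree with those of the restriction on the open where the module is invertible. -/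
theorem nonempty_pull_ddual_pow {Y : Scheme.{u}} [IsLocallyNoetherian Y] (g : Y ⟶ X) (Yo : X.Opens) {L : X.Modules}
    (hL : Coh.IsCoh L) (hLi : ∀ x : X, x ∈ Yo → RelCanon.InvertibleAt L x) {Lt : Y.Modules} (hLt : Coh.IsCoh Lt)
    (eL : ((Scheme.Modules.pullback g).obj L).restrict (g ⁻¹ᵁ Yo).ι ≅ Lt.restrict (g ⁻¹ᵁ Yo).ι) (n : ℕ) :
    Nonempty (((Scheme.Modules.pullback g).obj (RefHull.ddual (CohB1.tensorPow L n))).restrict (g ⁻¹ᵁ Yo).ι ≅
      (RefHull.ddual (CohB1.tensorPow Lt n)).restrict (g ⁻¹ᵁ Yo).ι) ∧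
      ∀ v : Y, v ∈ g ⁻¹ᵁ Yo → RelCanon.InvertibleAt (RefHull.ddual (CohB1.tensorPow Lt n)) v := by
  let U' := g ⁻¹ᵁ Yo
  have hT := isCoh_tensorPow hL n
  have hT' := isCoh_tensorPow hLt n
  have hTi := invertibleAt_tensorPow Yo L hLi n
  obtain ⟨eD⟩ := nonempty_restrict_ddual Yo hT hTi
  obtain ⟨e1⟩ := nonempty_pull_restrict g Yo eD.symm
  obtain ⟨e2⟩ := nonempty_pull_tensorPow g L n
  obtain ⟨e3⟩ := nonempty_restrict_tensorPow U' ((Scheme.Modules.pullback g).obj L) n
  obtain ⟨e4⟩ := nonempty_tensorPow_iso eL n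
  obtain ⟨e5⟩ := nonempty_restrict_tensorPow U' Lt n
  have hT'i : ∀ v : Y, v ∈ U' → RelCanon.InvertibleAt (CohB1.tensorPow Lt n) v :=
    invertibleAt_tensorPow U' Lt (fun v hv =>
      invertibleAt_of_restrict_iso U' eL.symm v hv (invertibleAt_pullback g v (hLi _ hv))) n
  obtain ⟨e6⟩ := nonempty_restrict_ddual U' hT' hT'i
  exact ⟨⟨e1 ≪≫ (Scheme.Modules.restrictFunctor U'.ι).mapIso e2 ≪≫ e3 ≪≫ e4 ≪≫ e5.symm ≪≫ e6⟩,
    fun v hv => invertibleAt_of_restrict_iso U' e6.symm v hv (hT'i v hv)⟩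

/-- **Reflexive powers restrict to the fibre under depth three.** -/
theorem flat_and_stalk_equiv_pow (hS : RelCanon.IsSkMor f 2) (t : T) (z : f.fiber t) (Yo : X.Opens)
    (hdim : ∀ x : X, f x = t → x ∉ Yo →
      (2 : WithBot ℕ∞) ≤ ringKrullDim ((f.fiber (f x)).presheaf.stalk (f.asFiber x)))
    (hdim3 : ∀ w : f.fiber t, w ⤳ z → f.fiberι t w ∉ Yo →
      (3 : WithBot ℕ∞) ≤ ringKrullDim ((f.fiber t).presheaf.stalk w))
    (L : X.Modules) (hL : Coh.IsCoh L) (hLi : ∀ x : X, x ∈ Yo → RelCanon.InvertibleAt L x)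
    (Lt : (f.fiber t).Modules) (hLt : Coh.IsCoh Lt)
    (eL : ((Scheme.Modules.pullback (f.fiberι t)).obj L).restrict (f.fiberι t ⁻¹ᵁ Yo).ι ≅
      Lt.restrict (f.fiberι t ⁻¹ᵁ Yo).ι) (n : ℕ)
    (h3 : RelCanon.SkAt 3 (RefHull.ddual (CohB1.tensorPow Lt n)) z) :
    FlatMod.IsFlatOverAt f (RefHull.ddual (CohB1.tensorPow L n)) (f.fiberι t z) ∧
      Nonempty (((Scheme.Modules.pullback (f.fiberι t)).obj (RefHull.ddual (CohB1.tensorPow L n))).presheaf.stalk z
        ≃ₗ[(f.fiber t).presheaf.stalk z] (RefHull.ddual (CohB1.tensorPow Lt n)).presheaf.stalk z) := by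
  haveI : LocallyOfFiniteType (f.fiberToSpecResidueField t) :=
    MorphismProperty.pullback_snd _ _ inferInstance
  haveI : IsLocallyNoetherian (f.fiber t) := LocallyOfFiniteType.isLocallyNoetherian (f.fiberToSpecResidueField t)
  obtain ⟨⟨φ⟩, hi⟩ := nonempty_pull_ddual_pow (f.fiberι t) Yo hL hLi hLt eL n
  have hT := isCoh_tensorPow hL n
  have hG' : Coh.IsCoh (RefHull.ddual (CohB1.tensorPow Lt n)) := isCoh_refPowNat hLt n
  refine flat_and_stalk_equiv_of_depth_three f hS t z Yo hdim (RefHull.dual (CohB1.tensorPow L n))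
    (RefHullLib.isCoh_dual hT (Coherent.isCoh_structureModule X))
    (fun x hx => invertibleAt_dual hT x (invertibleAt_tensorPow Yo L hLi n x hx)) _ hG' φ fun w hw hwo =>
    le_depth_of_skAt (k := 3) (by norm_num) hG' z h3 (f.fiberι t ⁻¹ᵁ Yo) (fun v hv hvo => hdim3 v hv hvo)
      (fun v _ hv => by
        obtain ⟨a⟩ := exists_stalk_equiv_of_invertibleAt (hi v hv)
        exact a.toEquiv.nontrivial) w hw hwo

end Groth.Agent.DualLib.RelTop
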