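import Groth.Agent.DualLib.RelTop.LiftCrit
import Groth.Agent.CAlgH.DepthCriterion
import Mathlib.LinearAlgebra.Multilinear.Basic

/-!
# Lifting roots

A map of a generically rank one module to the closed fibre whose power lifts, lifts when the exponent is invertible.
-/

set_option autoImplicit false
set_option backward.isDefEq.respectTransparency false
set_option linter.style.haveILetI false
set_option linter.unusedSectionVars false

universe u

open IsLocalRing
open scoped Pointwise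

namespace Groth.Agent.DualLib.RelTop

open Groth.Agent

variable {A B : Type u} [CommRing A] [IsLocalRing A] [IsNoetherianRing A] [CommRing B] [IsNoetherianRing B]
  [Algebra A B] [Module.Flat A B] (J : Ideal B)
  (hR : ∀ p : Ideal B, ∀ [p.IsPrime], J ≤ p → (mB A B) ≤ p → (2 : ℕ∞) ≤ locDepth p (B ⧸ (mB A B)))

include hR in
/-- Membership in a power of the fibre ideal is checked off `V(J)`. -/
theorem mem_pow_of_forall_local (j : ℕ) (x : B)
    (h : ∀ p : Ideal B, ∀ [p.IsPrime], ¬J ≤ p → mB A B ≤ p → ∃ s ∉ p, s * x ∈ (mB A B) ^ j) :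
    x ∈ (mB A B) ^ j := by
  rcases Nat.eq_zero_or_pos j with rfl | hj
  · simp [Ideal.one_eq_top]
  by_contra hx
  let x' : B ⧸ (mB A B) ^ j := Submodule.Quotient.mk x
  let N := Submodule.span B {x'}
  have hx' : x' ∈ N := Submodule.mem_span_singleton_self _
  haveI : Nontrivial N := ⟨⟨x', hx'⟩, 0, fun h0 =>
    hx ((Submodule.Quotient.mk_eq_zero _).1 (congrArg Subtype.val h0))⟩
  obtain ⟨p, hp⟩ := associatedPrimes.nonempty B N
  haveI : p.IsPrime := IsAssociatedPrime.isPrime hp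
  have hann : Module.annihilator B N ≤ p :=
    le_of_eq_of_le Submodule.annihilator_top.symm (IsAssociatedPrime.annihilator_le hp)
  have hkill : ∀ a : B, a * x ∈ (mB A B) ^ j → a ∈ p := fun a ha => hann (by
    show a ∈ N.annihilator
    rw [Submodule.mem_annihilator_span_singleton, show a • x' = Submodule.Quotient.mk (a * x) from rfl]
    exact (Submodule.Quotient.mk_eq_zero _).2 ha)
  have hm : mB A B ≤ p := fun a ha => Ideal.IsPrime.mem_of_pow_mem ‹_› j
    (hkill _ (Ideal.mul_mem_right _ _ (Ideal.pow_mem_pow ha j)))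
  by_cases hJ : J ≤ p
  · have hd := two_le_locDepth_quot J hR p hJ hm j
    have hassM : p ∈ associatedPrimes B (B ⧸ (mB A B) ^ j) :=
      associatedPrimes.subset_of_injective (f := N.subtype) Subtype.val_injective hp
    have hloc := Module.associatedPrimes.mem_associatedPrimes_atPrime_of_mem_associatedPrimes hassM
    haveI : Nontrivial (LocalizedModule p.primeCompl (B ⧸ (mB A B) ^ j)) := by
      by_contra hn
      rw [not_nontrivial_iff_subsingleton] at hn
      rw [associatedPrimes.eq_empty_of_subsingleton] at hloc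
      exact hloc
    have h0 : locDepth p (B ⧸ (mB A B) ^ j) = 0 := CAlgH3.depth_eq_zero_iff.2 hloc
    rw [h0] at hd
    simp at hd
  · obtain ⟨s, hs, hsx⟩ := h p hJ hm
    exact hs (hkill s hsx)

include hR in
/-- Gluing on the neighbourhood of order `j` off `V(J)`. -/
theorem exists_glue (j : ℕ) {n : ℕ} (f X : Fin n → B) (N : ℕ) (hj : 1 ≤ j)
    (hf : ∀ p : Ideal B, ∀ [p.IsPrime], ¬J ≤ p → mB A B ≤ p → ∃ i, f i ∉ p)
    (hX : ∀ i l, f l ^ N * X i - f i ^ N * X l ∈ (mB A B) ^ j) :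
    ∃ q : B, ∀ i, f i ^ N * q - X i ∈ (mB A B) ^ j := by
  let I := (mB A B) ^ j
  let J'' := Ideal.span (Set.range fun i => f i ^ N) ⊔ I
  let M := B ⧸ I
  have hdep : ∀ p : Ideal B, ∀ [p.IsPrime], J'' ≤ p → (2 : ℕ∞) ≤ locDepth p M := by
    intro p hp hle
    have hm : mB A B ≤ p := fun a ha => hp.mem_of_pow_mem j (hle (Submodule.mem_sup_right (Ideal.pow_mem_pow ha j)))
    refine two_le_locDepth_quot J hR p ?_ hm j
    by_contra hJ
    obtain ⟨i, hi⟩ := hf p hJ hm
    exact hi (hp.mem_of_pow_mem N (hle (Submodule.mem_sup_left (Ideal.subset_span ⟨i, rfl⟩))))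
  obtain ⟨fs, hlen, hmem, hw⟩ := (CAlgH.DepthCriterion.depth_ge_iff M J'' 2).1 hdep
  obtain ⟨a, b, rfl⟩ := List.length_eq_two.1 hlen
  rw [RingTheory.Sequence.isWeaklyRegular_cons_iff, RingTheory.Sequence.isWeaklyRegular_cons_iff] at hw
  obtain ⟨hra, hrb, -⟩ := hw
  have hlin : ∀ c ∈ J'', ∃ x : B, ∀ l, f l ^ N * x - c * X l ∈ I := by
    intro c hc
    obtain ⟨y, hy, z, hz, rfl⟩ := Submodule.mem_sup.1 hc
    obtain ⟨t, rfl⟩ := Ideal.mem_span_range_iff_exists_fun.1 hy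
    refine ⟨∑ i, t i * X i, fun l => ?_⟩
    rw [show f l ^ N * ∑ i, t i * X i - (∑ i, t i * f i ^ N + z) * X l =
      (∑ i, t i * (f l ^ N * X i - f i ^ N * X l)) - z * X l by
        rw [add_mul, Finset.mul_sum, Finset.sum_mul, ← sub_sub, ← Finset.sum_sub_distrib]
        refine congrArg (· - _) (Finset.sum_congr rfl fun i _ => ?_)
        ring]
    exact sub_mem (Submodule.sum_mem _ fun i _ => Ideal.mul_mem_left _ _ (hX i l)) (Ideal.mul_mem_right _ _ hz)
  obtain ⟨xa, hxa⟩ := hlin a (hmem a (by simp))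
  obtain ⟨xb, hxb⟩ := hlin b (hmem b (by simp))
  have h1 : b * xa - a * xb ∈ I := mem_pow_of_forall_local J hR j _ fun p hp hJ hm => by
    obtain ⟨l, hl⟩ := hf p hJ hm
    refine ⟨f l ^ N, fun h => hl (hp.mem_of_pow_mem N h), ?_⟩
    rw [show f l ^ N * (b * xa - a * xb) = b * (f l ^ N * xa - a * X l) - a * (f l ^ N * xb - b * X l) by ring]
    exact sub_mem (Ideal.mul_mem_left _ _ (hxa l)) (Ideal.mul_mem_left _ _ (hxb l))
  have h2 : (Submodule.Quotient.mk xa : M) ∈ a • (⊤ : Submodule B M) := by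
    rw [← Submodule.Quotient.mk_eq_zero]
    refine hrb.right_eq_zero_of_smul ?_
    rw [← Submodule.Quotient.mk_smul, Submodule.Quotient.mk_eq_zero, Submodule.mem_smul_pointwise_iff_exists]
    exact ⟨Submodule.Quotient.mk xb, trivial, ((Submodule.Quotient.eq _).2 h1).symm⟩
  obtain ⟨q', -, hq⟩ := (Submodule.mem_smul_pointwise_iff_exists _ _ _).1 h2
  obtain ⟨q, rfl⟩ := Submodule.Quotient.mk_surjective _ q'
  refine ⟨q, fun i => (Submodule.Quotient.mk_eq_zero _).1 (hra.right_eq_zero_of_smul ?_)⟩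
  rw [← Submodule.Quotient.mk_smul, Submodule.Quotient.mk_eq_zero, smul_eq_mul]
  have hq' : a * q - xa ∈ I := (Submodule.Quotient.eq _).1 hq
  rw [show a * (f i ^ N * q - X i) = f i ^ N * (a * q - xa) + (f i ^ N * xa - a * X i) by ring]
  exact add_mem (Ideal.mul_mem_left _ _ hq') (hxa i)

omit [IsNoetherianRing B] [Module.Flat A B] in
/-- The first order expansion. -/
theorem add_pow_sq_zero {S : Type u} [CommRing S] (a z : S) (hz : z * z = 0) :
    ∀ n : ℕ, (a + z) ^ (n + 1) = a ^ (n + 1) + ((n + 1 : ℕ) : S) * a ^ n * z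
  | 0 => by simp
  | n + 1 => by
    rw [pow_succ, add_pow_sq_zero a z hz n]
    push_cast
    linear_combination ((n + 1 : S) * a ^ n) * hz

variable {D : Type u} [AddCommGroup D] [Module B D] [Module.Finite B D] {k : ℕ}
  (hgen1 : ∀ q : Ideal B, ∀ [q.IsPrime], ¬J ≤ q → mB A B ≤ q → ∃ e : D, ∀ d : D, ∃ s ∉ q, ∃ c : B, s • d = c • e)
  (ε : MultilinearMap B (fun _ : Fin (k + 1) => D) B)

omit [Module.Flat A B] in
include hgen1 in
/-- The local picture at a prime off `V(J)`. -/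
theorem exists_local (j l : ℕ) (hl : 1 ≤ l) (p : Ideal B) [p.IsPrime] (hJ : ¬J ≤ p) (hI : mB A B ≤ p)
    (h : D →ₗ[B] B ⧸ (mB A B) ^ j) (y : D → B) (hy : ∀ d, Submodule.Quotient.mk (y d) = h d)
    (hu : ∃ d, y d ∉ p) (hj : 1 ≤ j) :
    ∃ (S : Type u) (_ : CommRing S) (φ : B →+* S) (c ζ : D → S) (η E : S),
      (∀ x, φ x = 0 → ∃ s ∉ p, s * x ∈ (mB A B) ^ l) ∧
      (∀ x, x ∈ (mB A B) ^ l → φ x = 0) ∧
      (∀ x, φ x ∈ ((mB A B) ^ j).map φ → ∃ s ∉ p, s * x ∈ (mB A B) ^ j ⊔ (mB A B) ^ l) ∧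
      (∀ x, IsUnit (φ x) ↔ x ∉ p) ∧
      (∀ v, φ (ε v) = (∏ i, c (v i)) * E) ∧
      (∀ d, φ (y d) = c d * η + ζ d ∧ ζ d ∈ ((mB A B) ^ j).map φ) ∧
      (∃ e : D, η = φ (y e) ∧ E = φ (ε fun _ => e)) ∧ IsUnit η := by
  classical
  let I := (mB A B) ^ l
  have hIp : I ≤ p := (Ideal.pow_le_self (by omega)).trans hI
  let p' : Ideal (B ⧸ I) := p.map (Ideal.Quotient.mk I)
  haveI : p'.IsPrime := Ideal.map_isPrime_of_surjective Ideal.Quotient.mk_surjective (by rw [Ideal.mk_ker]; exact hIp)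
  have hp' : ∀ x, Ideal.Quotient.mk I x ∈ p' ↔ x ∈ p := fun x => by
    rw [← Ideal.mem_comap, Ideal.comap_map_of_surjective _ Ideal.Quotient.mk_surjective, ← RingHom.ker_eq_comap_bot,
      Ideal.mk_ker, sup_eq_left.2 hIp]
  let S := Localization.AtPrime p'
  let φ : B →+* S := (algebraMap (B ⧸ I) S).comp (Ideal.Quotient.mk I)
  have hU : ∀ x, x ∉ p → IsUnit (φ x) := fun x hx =>
    IsLocalization.map_units (M := p'.primeCompl) S ⟨_, fun hc => hx ((hp' x).1 hc)⟩
  obtain ⟨e, he⟩ := hgen1 p hJ hI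
  choose s hs c hc using he
  let cS : D → S := fun d => φ (c d) * ↑(hU _ (hs d)).unit⁻¹
  have hcS : ∀ d, φ (s d) * cS d = φ (c d) := fun d => by
    show φ (s d) * (φ (c d) * _) = _
    rw [mul_left_comm, IsUnit.mul_val_inv, mul_one]
  let ζ : D → S := fun d => φ (y d) - cS d * φ (y e)
  have hζ : ∀ d, ζ d ∈ ((mB A B) ^ j).map φ := fun d => by
    have hm : s d * y d - c d * y e ∈ (mB A B) ^ j := by
      rw [← Submodule.Quotient.eq, ← smul_eq_mul (s d), ← smul_eq_mul (c d), Submodule.Quotient.mk_smul,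
        Submodule.Quotient.mk_smul, hy, hy, ← map_smul, ← map_smul, hc]
    have : φ (s d) * ζ d = φ (s d * y d - c d * y e) := by
      simp only [ζ, map_sub, map_mul, mul_sub, ← mul_assoc, hcS]
    exact (Ideal.unit_mul_mem_iff_mem _ (hU _ (hs d))).1 (this ▸ Ideal.mem_map_of_mem φ hm)
  refine ⟨S, inferInstance, φ, cS, ζ, φ (y e), φ (ε fun _ => e), ?_, fun x hx => ?_, ?_, fun x => ⟨fun hx hxp => (IsLocalization.AtPrime.to_map_mem_maximal_iff S p' _).2 ((hp' x).2 hxp) hx, hU x⟩, ?_,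
    fun d => ⟨by simp [ζ], hζ d⟩, ⟨e, rfl, rfl⟩, ?_⟩
  · intro x hx
    obtain ⟨⟨m, hm⟩, hmx⟩ := (IsLocalization.map_eq_zero_iff p'.primeCompl S _).1 hx
    obtain ⟨t, rfl⟩ := Ideal.Quotient.mk_surjective m
    exact ⟨t, fun ht => hm ((hp' t).2 ht), Ideal.Quotient.eq_zero_iff_mem.1 ((map_mul _ _ _).trans hmx)⟩
  · show algebraMap _ S (Ideal.Quotient.mk I x) = 0
    rw [Ideal.Quotient.eq_zero_iff_mem.2 hx, map_zero]
  · intro x hx
    rw [← Ideal.map_map] at hx
    obtain ⟨⟨⟨a, ha⟩, ⟨m, hm⟩⟩, ham⟩ := (IsLocalization.mem_map_algebraMap_iff p'.primeCompl S).1 hx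
    obtain ⟨t, rfl⟩ := Ideal.Quotient.mk_surjective m
    rw [show φ x = algebraMap _ S (Ideal.Quotient.mk I x) from rfl, ← map_mul, IsLocalization.eq_iff_exists p'.primeCompl] at ham
    obtain ⟨⟨m', hm'⟩, hmm⟩ := ham
    obtain ⟨t', rfl⟩ := Ideal.Quotient.mk_surjective m'
    refine ⟨t' * t, fun h => ((inferInstance : p.IsPrime).mem_or_mem h).elim (fun h' => hm' ((hp' _).2 h'))
      (fun h' => hm ((hp' _).2 h')), ?_⟩
    obtain ⟨a', ha', rfl⟩ := (Ideal.mem_map_iff_of_surjective _ Ideal.Quotient.mk_surjective).1 ha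
    have h0 : t' * t * x - t' * a' ∈ I := by
      rw [← Ideal.Quotient.eq, map_mul, map_mul, map_mul, mul_assoc, ← hmm]
      ring
    rw [← sub_add_cancel (t' * t * x) (t' * a')]
    exact add_mem (Submodule.mem_sup_right h0) (Submodule.mem_sup_left (Ideal.mul_mem_left _ _ ha'))
  · intro v
    have h1 := congrArg φ (congrArg ε (funext fun i => hc (v i)))
    rw [MultilinearMap.map_smul_univ, MultilinearMap.map_smul_univ, smul_eq_mul, smul_eq_mul, map_mul, map_mul,
      map_prod, map_prod, ← Finset.prod_congr rfl (fun i _ => hcS (v i)), Finset.prod_mul_distrib, mul_assoc] at h1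
    refine (IsUnit.mul_right_inj ?_).1 h1
    exact IsUnit.prod_iff.2 fun i _ => hU _ (hs _)
  · obtain ⟨d, hd⟩ := hu
    have h1 : IsUnit (cS d * φ (y e)) := by
      have hn : IsNilpotent (ζ d) := by
        refine ⟨l, ?_⟩
        have h2 : ζ d ^ l ∈ ((mB A B) ^ l).map φ := by
          rw [Ideal.map_pow]
          refine Ideal.pow_mem_pow ?_ l
          exact Ideal.map_mono (Ideal.pow_le_self (by omega)) (hζ d)
        have h3 : ((mB A B) ^ l).map φ = ⊥ := (Ideal.map_eq_bot_iff_le_ker _).2 fun x hx => by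
          show algebraMap _ S (Ideal.Quotient.mk I x) = 0
          rw [Ideal.Quotient.eq_zero_iff_mem.2 hx, map_zero]
        rwa [h3, Ideal.mem_bot] at h2
      have := hn.neg.isUnit_add_left_of_commute (hU _ hd) (Commute.all _ _)
      rwa [show φ (y d) + -ζ d = cS d * φ (y e) by simp [ζ]] at this
    exact isUnit_of_mul_isUnit_right h1

include hR hgen1 in
/-- A power is normalised by a scalar. -/
theorem exists_normalise (h : D →ₗ[B] B ⧸ (mB A B) ^ 1) (y : D → B) (hy : ∀ d, Submodule.Quotient.mk (y d) = h d)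
    (hu : ∀ p : Ideal B, ∀ [p.IsPrime], ¬J ≤ p → mB A B ≤ p → ∃ d, y d ∉ p)
    (hε : ∀ p : Ideal B, ∀ [p.IsPrime], ¬J ≤ p → mB A B ≤ p → ∃ v, ε v ∉ p) :
    ∃ μ : B, ∀ v, μ * ε v - ∏ i, y (v i) ∈ (mB A B) ^ 1 := by
  classical
  obtain ⟨n, gens, hgens⟩ := Submodule.fg_iff_exists_fin_generating_family.1 (Module.finite_def.1 ‹Module.Finite B D›)
  have key : ∀ (p : Ideal B) [p.IsPrime], ¬J ≤ p → mB A B ≤ p → ∃ (S : Type u) (_ : CommRing S) (φ : B →+* S)
      (c : D → S) (η E : S), (∀ x, φ x = 0 → ∃ s ∉ p, s * x ∈ (mB A B) ^ 1) ∧ (∀ x, IsUnit (φ x) ↔ x ∉ p) ∧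
      (∀ v, φ (ε v) = (∏ i, c (v i)) * E) ∧ (∀ d, φ (y d) = c d * η) ∧ (∀ x, x ∈ (mB A B) ^ 1 → φ x = 0) := by
    intro p hp hJ hm
    obtain ⟨S, _, φ, c, ζ, η, E, h1, h2, -, h3, h4, h5, -, -⟩ :=
      exists_local J hgen1 ε 1 1 le_rfl p hJ hm h y hy (hu p hJ hm) le_rfl
    refine ⟨S, inferInstance, φ, c, η, E, h1, h3, h4, fun d => ?_, h2⟩
    obtain ⟨hd, hz⟩ := h5 d
    rw [(Ideal.map_eq_bot_iff_le_ker φ).2 fun x hx => h2 x hx, Ideal.mem_bot] at hz
    rw [hd, hz, add_zero]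
  let g := fun i => ε fun _ => gens i
  let X := fun i => y (gens i) ^ (k + 1)
  have hg : ∀ p : Ideal B, ∀ [p.IsPrime], ¬J ≤ p → mB A B ≤ p → ∃ i, g i ∉ p := by
    intro p hp hJ hm
    obtain ⟨d, hd⟩ := hu p hJ hm
    obtain ⟨S, _, φ, c, η, E, h1, hU, hv, hd', hz⟩ := key p hJ hm
    obtain ⟨i, hi⟩ : ∃ i, y (gens i) ∉ p := by
      by_contra hall
      push Not at hall
      have hle : Submodule.span B (Set.range gens) ≤
          LinearMap.ker ((Submodule.factor ((pow_one (mB A B)).le.trans hm)) ∘ₗ h) := by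
        rw [Submodule.span_le]
        rintro _ ⟨i, rfl⟩
        rw [SetLike.mem_coe, LinearMap.mem_ker, LinearMap.comp_apply, ← hy]
        exact (Submodule.Quotient.mk_eq_zero _).2 (hall i)
      have := hle (hgens.ge (Submodule.mem_top (x := d)))
      rw [LinearMap.mem_ker, LinearMap.comp_apply, ← hy] at this
      exact hd ((Submodule.Quotient.mk_eq_zero _).1 this)
    refine ⟨i, fun hgi => ?_⟩
    obtain ⟨v, hv'⟩ := hε p hJ hm
    have hci : IsUnit (c (gens i)) := isUnit_of_mul_isUnit_left (hd' (gens i) ▸ (hU _).2 hi)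
    have hE : IsUnit E := isUnit_of_mul_isUnit_right (hv v ▸ (hU _).2 hv')
    have hgu : IsUnit (φ (g i)) := by
      rw [hv, Finset.prod_const, Finset.card_fin]
      exact (hci.pow _).mul hE
    exact (hU _).1 hgu hgi
  obtain ⟨μ, hμ⟩ := exists_glue J hR 1 g X 1 le_rfl hg fun i l => mem_pow_of_forall_local J hR 1 _ fun p hp hJ hm => by
    obtain ⟨S, _, φ, c, η, E, h1, hU, hv, hd', hz⟩ := key p hJ hm
    refine h1 _ ?_
    simp only [g, X, map_sub, map_mul, map_pow, pow_one, hv, hd', Finset.prod_const, Finset.card_fin]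
    ring
  refine ⟨μ, fun v => mem_pow_of_forall_local J hR 1 _ fun p hp hJ hm => ?_⟩
  obtain ⟨i, hi⟩ := hg p hJ hm
  obtain ⟨S, _, φ, c, η, E, h1, hU, hv, hd', hz⟩ := key p hJ hm
  refine h1 _ ?_
  have hgu : IsUnit (φ (g i)) := (hU _).2 hi
  have h := hz _ (hμ i)
  simp only [g, X, map_sub, map_mul, map_pow, pow_one, hv, hd', Finset.prod_const, Finset.card_fin] at h hgu
  simp only [map_sub, map_mul, map_prod, hv, hd', Finset.prod_mul_distrib, Finset.prod_const, Finset.card_fin]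
  refine (IsUnit.mul_right_eq_zero hgu).1 ?_
  linear_combination (∏ i, c (v i)) * E * h

omit [Module.Flat A B] in
/-- Products over first order perturbations. -/
theorem prod_perturb {S : Type u} [CommRing S] {ι : Type*} [Fintype ι] (c : ι → S) (a : S) :
    ∏ i, c i * a = (∏ i, c i) * a ^ Fintype.card ι := by
  rw [Finset.prod_mul_distrib, Finset.prod_const, Finset.card_univ]

include hR hgen1 in
/-- A root lifts one step. -/
theorem exists_root_step (hk : IsUnit (((k + 1 : ℕ)) : A)) (j : ℕ) (hj : 1 ≤ j) (h : D →ₗ[B] B ⧸ (mB A B) ^ j)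
    (y : D → B) (hy : ∀ d, Submodule.Quotient.mk (y d) = h d)
    (hu : ∀ p : Ideal B, ∀ [p.IsPrime], ¬J ≤ p → mB A B ≤ p → ∃ d, y d ∉ p)
    (hpow : ∀ v, ε v - ∏ i, y (v i) ∈ (mB A B) ^ j) :
    ∃ (h' : D →ₗ[B] B ⧸ (mB A B) ^ (j + 1)) (y' : D → B), (∀ d, Submodule.Quotient.mk (y' d) = h' d) ∧
      (∀ d, y' d - y d ∈ (mB A B) ^ j) ∧ (∀ v, ε v - ∏ i, y' (v i) ∈ (mB A B) ^ (j + 1)) := by
  classical
  obtain ⟨n, gens, hgens⟩ := Submodule.fg_iff_exists_fin_generating_family.1 (Module.finite_def.1 ‹Module.Finite B D›)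
  obtain ⟨νA, hνA⟩ := hk.exists_left_inv
  let ν : B := algebraMap A B νA
  have hν : ν * ((k : B) + 1) = 1 := by
    have h0 := congrArg (algebraMap A B) hνA
    rw [map_mul, map_natCast, map_one, Nat.cast_add, Nat.cast_one] at h0
    exact h0
  let N := 2 * k + 1
  let f : Fin n → B := fun i => y (gens i)
  let L : Fin n → D →ₗ[B] B := fun i => ε.toLinearMap (fun _ => gens i) 0
  let cst : Fin n → B := fun i =>
    ν * ((2 * k + 1 : B) * f i ^ (k + 1) - (k : B) * ε fun _ => gens i)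
  let X : D → Fin n → B := fun d i => cst i * L i d
  have hf : ∀ p : Ideal B, ∀ [p.IsPrime], ¬J ≤ p → mB A B ≤ p → ∃ i, f i ∉ p := by
    intro p hp hJ hm
    obtain ⟨d, hd⟩ := hu p hJ hm
    by_contra hall
    push Not at hall
    have hle : Submodule.span B (Set.range gens) ≤
        LinearMap.ker ((Submodule.factor ((Ideal.pow_le_self (by omega : j ≠ 0)).trans hm)) ∘ₗ h) := by
      rw [Submodule.span_le]
      rintro _ ⟨i, rfl⟩
      rw [SetLike.mem_coe, LinearMap.mem_ker, LinearMap.comp_apply, ← hy]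
      exact (Submodule.Quotient.mk_eq_zero _).2 (hall i)
    have := hle (hgens.ge (Submodule.mem_top (x := d)))
    rw [LinearMap.mem_ker, LinearMap.comp_apply, ← hy] at this
    exact hd ((Submodule.Quotient.mk_eq_zero _).1 this)
  -- the local solution
  have key : ∀ (p : Ideal B) [p.IsPrime], ¬J ≤ p → mB A B ≤ p →
      ∃ (S : Type u) (_ : CommRing S) (φ : B →+* S) (Ψ : D → S),
        (∀ x, φ x = 0 → ∃ s ∉ p, s * x ∈ (mB A B) ^ (j + 1)) ∧
        (∀ x, x ∈ (mB A B) ^ (j + 1) → φ x = 0) ∧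
        (∀ x, φ x ∈ ((mB A B) ^ j).map φ → ∃ s ∉ p, s * x ∈ (mB A B) ^ j ⊔ (mB A B) ^ (j + 1)) ∧
        (∀ x, IsUnit (φ x) ↔ x ∉ p) ∧
        (∀ d i, φ (X d i) = φ (f i) ^ N * Ψ d) ∧
        (∀ d, φ (y d) - Ψ d ∈ ((mB A B) ^ j).map φ) ∧
        (∀ v, φ (ε v) = ∏ i, Ψ (v i)) := by
    intro p hp hJ hm
    obtain ⟨S, _, φ, c, ζ, η, E, h1, h2, h2', hU, hv, hd, ⟨e, heη, heE⟩, hη⟩ :=
      exists_local J hgen1 ε j (j + 1) (by omega) p hJ hm h y hy (hu p hJ hm) hj
    obtain ⟨w, hw⟩ := (hη.pow k).exists_left_inv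
    let K := ((mB A B) ^ j).map φ
    have hKK : ∀ a ∈ K, ∀ b ∈ K, a * b = 0 := by
      intro a ha b hb
      have : a * b ∈ ((mB A B) ^ j * (mB A B) ^ j).map φ := by
        rw [Ideal.map_mul]; exact Ideal.mul_mem_mul ha hb
      rw [← pow_add, (Ideal.map_eq_bot_iff_le_ker φ).2 fun x hx =>
        h2 x (Ideal.pow_le_pow_right (show j + 1 ≤ j + j by omega) hx), Ideal.mem_bot] at this
      exact this
    let ξ := E - η ^ (k + 1)
    have hξ : ξ ∈ K := by
      have := Ideal.mem_map_of_mem φ (hpow fun _ => e)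
      rwa [map_sub, map_prod, Finset.prod_const, Finset.card_fin, ← heη, ← heE] at this
    have hξξ := hKK ξ hξ ξ hξ
    have hν' : φ ν * ((k : S) + 1) = 1 := by
      have := congrArg φ hν
      rwa [map_mul, map_add, map_natCast, map_one] at this
    refine ⟨S, inferInstance, φ, fun d => c d * (η + φ ν * ξ * w), h1, h2, h2', hU, fun d i => ?_, fun d => ?_, fun v => ?_⟩
    · obtain ⟨hyi, hζi⟩ := hd (gens i)
      have hzz := hKK _ hζi _ hζi
      have hzx := hKK ξ hξ _ hζi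
      have hL : φ (L i d) = c d * c (gens i) ^ k * E := by
        show φ (ε (Function.update (fun _ => gens i) 0 d)) = _
        rw [hv, Fin.prod_univ_succ, Function.update_self]
        congr 1
        congr 1
        rw [Finset.prod_congr rfl fun l _ => by rw [Function.update_of_ne (Fin.succ_ne_zero l)], Finset.prod_const,
          Finset.card_fin]
      have hg : φ (ε fun _ => gens i) = c (gens i) ^ (k + 1) * E := by
        rw [hv, Finset.prod_const, Finset.card_fin]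
      have hfk : φ (f i) ^ (k + 1) =
          c (gens i) ^ (k + 1) * η ^ (k + 1) + ((k : S) + 1) * (c (gens i) ^ k * η ^ k) * ζ (gens i) := by
        rw [show φ (f i) = c (gens i) * η + ζ (gens i) from hyi, add_pow_sq_zero _ _ hzz k, mul_pow, mul_pow]
        push_cast
        ring
      have hfN : φ (f i) ^ N = c (gens i) ^ (2 * k + 1) * η ^ (2 * k + 1) +
          (2 * (k : S) + 1) * (c (gens i) ^ (2 * k) * η ^ (2 * k)) * ζ (gens i) := by
        rw [show φ (f i) = c (gens i) * η + ζ (gens i) from hyi, add_pow_sq_zero _ _ hzz (2 * k), mul_pow, mul_pow]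
        push_cast
        ring
      have hE : E = η ^ (k + 1) + ξ := by simp [ξ]
      show φ (cst i * L i d) = _
      simp only [cst, map_mul, map_sub, map_add, map_pow, map_natCast, map_one, map_ofNat, hL, hg, hfk, hfN, hE]
      simp only [pow_succ, two_mul, pow_add]
      linear_combination (c d * c (gens i) * (c (gens i) ^ k) ^ 2 * η ^ 2 * (η ^ k) ^ 2 +
          (2 * (k : S) + 1) * c d * (c (gens i) ^ k) ^ 2 * (η ^ k) ^ 2 * η * ζ (gens i)) * hν' +
        (-c d * φ ν * c (gens i) * (c (gens i) ^ k) ^ 2 * η ^ k * η * ξ) * hw +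
        (c d * φ ν * (2 * (k : S) + 1) * (c (gens i) ^ k) ^ 2 * η ^ k * ((k : S) + 1 - w * η ^ k)) * hzx +
        (-c d * φ ν * (k : S) * c (gens i) * (c (gens i) ^ k) ^ 2) * hξξ
    · obtain ⟨hyd, hζd⟩ := hd d
      rw [hyd, show c d * η + ζ d - c d * (η + φ ν * ξ * w) = ζ d - c d * φ ν * w * ξ by ring]
      exact sub_mem hζd (Ideal.mul_mem_left _ _ hξ)
    · rw [hv, prod_perturb, Fintype.card_fin, add_pow_sq_zero η (φ ν * ξ * w) (by linear_combination (φ ν * w) ^ 2 * hξξ) k,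
        show E = η ^ (k + 1) + ξ by simp [ξ]]
      push_cast
      linear_combination (-(∏ i, c (v i)) * ξ * w * η ^ k) * hν' + (-(∏ i, c (v i)) * ξ) * hw
  choose q hq using fun d => exists_glue J hR (j + 1) f (X d) N (by omega) hf fun i l =>
    mem_pow_of_forall_local J hR (j + 1) _ fun p hp hJ hm => by
      obtain ⟨S, _, φ, Ψ, h1, -, -, -, hX, -, -⟩ := key p hJ hm
      refine h1 _ ?_
      rw [map_sub, show φ (f l ^ N * X d i) = φ (f l) ^ N * φ (X d i) by rw [map_mul, map_pow],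
        show φ (f i ^ N * X d l) = φ (f i) ^ N * φ (X d l) by rw [map_mul, map_pow], hX, hX]
      ring
  have huniq : ∀ z, (∀ i, f i ^ N * z ∈ (mB A B) ^ (j + 1)) → z ∈ (mB A B) ^ (j + 1) := fun z hz =>
    mem_pow_of_forall_local J hR (j + 1) z fun p hp hJ hm => by
      obtain ⟨i, hi⟩ := hf p hJ hm
      exact ⟨f i ^ N, fun hh => hi (hp.mem_of_pow_mem N hh), hz i⟩
  have hXadd : ∀ d d' i, X (d + d') i = X d i + X d' i := fun d d' i => by simp only [X, map_add, mul_add]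
  have hXsmul : ∀ (c : B) d i, X (c • d) i = c * X d i := fun c d i => by
    simp only [X, map_smul, smul_eq_mul]; ring
  let h' : D →ₗ[B] B ⧸ (mB A B) ^ (j + 1) :=
    { toFun := fun d => Submodule.Quotient.mk (q d)
      map_add' := fun d d' => by
        rw [← Submodule.Quotient.mk_add, Submodule.Quotient.eq]
        refine huniq _ fun i => ?_
        rw [show f i ^ N * (q (d + d') - (q d + q d')) = (f i ^ N * q (d + d') - X (d + d') i) -
          (f i ^ N * q d - X d i) - (f i ^ N * q d' - X d' i) by rw [hXadd]; ring]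
        exact sub_mem (sub_mem (hq _ i) (hq _ i)) (hq _ i)
      map_smul' := fun c d => by
        rw [RingHom.id_apply, ← Submodule.Quotient.mk_smul, smul_eq_mul, Submodule.Quotient.eq]
        refine huniq _ fun i => ?_
        rw [show f i ^ N * (q (c • d) - c * q d) = (f i ^ N * q (c • d) - X (c • d) i) -
          c * (f i ^ N * q d - X d i) by rw [hXsmul]; ring]
        exact sub_mem (hq _ i) (Ideal.mul_mem_left _ _ (hq _ i)) }
  have hloc : ∀ (p : Ideal B) [p.IsPrime], ¬J ≤ p → mB A B ≤ p →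
      ∃ (S : Type u) (_ : CommRing S) (φ : B →+* S),
        (∀ x, φ x = 0 → ∃ s ∉ p, s * x ∈ (mB A B) ^ (j + 1)) ∧
        (∀ x, φ x ∈ ((mB A B) ^ j).map φ → ∃ s ∉ p, s * x ∈ (mB A B) ^ j ⊔ (mB A B) ^ (j + 1)) ∧
        (∀ d, φ (y d) - φ (q d) ∈ ((mB A B) ^ j).map φ) ∧ (∀ v, φ (ε v) = ∏ i, φ (q (v i))) := by
    intro p hp hJ hm
    obtain ⟨S, _, φ, Ψ, h1, h2, h2', hU, hX, hyΨ, hεΨ⟩ := key p hJ hm
    obtain ⟨i, hi⟩ := hf p hJ hm
    have hqΨ : ∀ d, φ (q d) = Ψ d := fun d => by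
      have := h2 _ (hq d i)
      rw [map_sub, map_mul, map_pow, hX, sub_eq_zero] at this
      exact (((hU _).2 hi).pow N).mul_left_cancel this
    exact ⟨S, inferInstance, φ, h1, h2', fun d => hqΨ d ▸ hyΨ d, fun v => by simp only [hqΨ, hεΨ]⟩
  refine ⟨h', q, fun d => rfl, fun d => ?_, fun v => ?_⟩
  · refine mem_pow_of_forall_local J hR j _ fun p hp hJ hm => ?_
    obtain ⟨S, _, φ, -, h2', hyq, -⟩ := hloc p hJ hm
    obtain ⟨s, hs, hsx⟩ := h2' (q d - y d) (by rw [map_sub, ← neg_sub]; exact neg_mem (hyq d))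
    obtain ⟨a, ha, b, hb, e⟩ := Submodule.mem_sup.1 hsx
    exact ⟨s, hs, e ▸ add_mem ha (Ideal.pow_le_pow_right j.le_succ hb)⟩
  · refine mem_pow_of_forall_local J hR (j + 1) _ fun p hp hJ hm => ?_
    obtain ⟨S, _, φ, h1, -, -, hεq⟩ := hloc p hJ hm
    exact h1 _ (by rw [map_sub, map_prod, hεq, sub_self])

include hR hgen1 in
/-- **Roots lift.** If `h` generates the maps to the closed fibre and a power of it comes from a map on the stalk,
restriction of the dual to the closed fibre is surjective with kernel `m Hom(D, B)`. -/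
theorem root_crit (hk : IsUnit (((k + 1 : ℕ)) : A)) (h : D →ₗ[B] B ⧸ (mB A B))
    (hgen : ∀ g : D →ₗ[B] B ⧸ (mB A B), ∃ c : B, g = c • h)
    (hu : ∀ p : Ideal B, ∀ [p.IsPrime], ¬J ≤ p → mB A B ≤ p → ∃ d x, Submodule.Quotient.mk x = h d ∧ x ∉ p)
    (hε : ∀ p : Ideal B, ∀ [p.IsPrime], ¬J ≤ p → mB A B ≤ p → ∃ v, ε v ∉ p) :
    Function.Surjective (restrDual A B D) ∧ LinearMap.ker (restrDual A B D) = (mB A B) • ⊤ := by
  have hp1 : (mB A B) ^ (0 + 1) = mB A B := pow_one _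
  let h1 : D →ₗ[B] B ⧸ (mB A B) ^ 1 := Submodule.factor hp1.ge ∘ₗ h
  choose y1 hy1 using fun d => Submodule.Quotient.mk_surjective _ (h1 d)
  have hy0 : ∀ d, Submodule.Quotient.mk (y1 d) = h d := fun d => by
    obtain ⟨x, hx⟩ := Submodule.Quotient.mk_surjective _ (h d)
    have h0 : h1 d = Submodule.Quotient.mk x := by show Submodule.factor hp1.ge (h d) = _; rw [← hx]; rfl
    rw [← hx, Submodule.Quotient.eq]
    exact hp1.le ((Submodule.Quotient.eq _).1 ((hy1 d).trans h0))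
  have hu1 : ∀ p : Ideal B, ∀ [p.IsPrime], ¬J ≤ p → mB A B ≤ p → ∃ d, y1 d ∉ p := by
    intro p hp hJ hm
    obtain ⟨d, x, hx, hxp⟩ := hu p hJ hm
    refine ⟨d, fun hc => hxp ?_⟩
    have := hm ((Submodule.Quotient.eq _).1 (hx.trans (hy0 d).symm))
    simpa using add_mem this hc
  obtain ⟨μ, hμ⟩ := exists_normalise J hR hgen1 ε h1 y1 hy1 hu1 hε
  have hchain : ∀ j : ℕ, ∃ (hj : D →ₗ[B] B ⧸ (mB A B) ^ (j + 1)) (y : D → B), (∀ d, Submodule.Quotient.mk (y d) = hj d) ∧
      (∀ d, y d - y1 d ∈ mB A B) ∧ (∀ v, (μ • ε) v - ∏ i, y (v i) ∈ (mB A B) ^ (j + 1)) := by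
    intro j
    induction j with
    | zero => exact ⟨h1, y1, hy1, fun d => by simp, hμ⟩
    | succ j ih =>
      obtain ⟨hj, y, hy, hy', hp⟩ := ih
      obtain ⟨h', y', e1, e2, e3⟩ := exists_root_step J hR hgen1 (μ • ε) hk (j + 1) (by omega) hj y hy
        (fun p hp' hJ hm => by
          obtain ⟨d, hd⟩ := hu1 p hJ hm
          exact ⟨d, fun hc => hd (by simpa using sub_mem hc (hm (hy' d)))⟩) hp
      exact ⟨h', y', e1, fun d => by
        simpa using add_mem (Ideal.pow_le_self j.succ_ne_zero (e2 d)) (hy' d), e3⟩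
  have hlift : ∀ j : ℕ, ∃ hk : D →ₗ[B] B ⧸ (mB A B) ^ (j + 1),
      Submodule.factor ((Ideal.pow_le_pow_right (Nat.le_add_left 1 j)).trans (pow_one (mB A B)).le) ∘ₗ hk = h := by
    intro j
    obtain ⟨hj, y, hy, hy', -⟩ := hchain j
    refine ⟨hj, LinearMap.ext fun d => ?_⟩
    rw [LinearMap.comp_apply, ← hy, ← hy0]
    exact (Submodule.Quotient.eq _).2 (hy' d)
  obtain ⟨g0, hg0⟩ := exists_lift_of_chain D h hlift
  have hsurj : Function.Surjective (restrDual A B D) := fun g => by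
    obtain ⟨c, rfl⟩ := hgen g
    exact ⟨c • g0, (map_smul (restrDual A B D) c g0).trans (congrArg (c • ·) hg0)⟩
  exact ⟨hsurj, ker_restrDual D hsurj⟩

end Groth.Agent.DualLib.RelTop
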