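import Groth.Agent.DualLib.RelTop.Serre
import Groth.Agent.DualLib.ShriekGor
import Groth.Agent.DualLib.ShriekFlatSheaf
import Groth.Agent.DualLib.RelDualizingModule
import Groth.Prelude.Def_Cyc
import Groth.Agent.S3614
import Groth.Agent.S3616
import Groth.Agent.DCat.PCTriangle

/-!
# The relative dualizing sheaf of a Cohen–Macaulay morphism
-/

set_option autoImplicit false
set_option backward.isDefEq.respectTransparency false
set_option backward.defeqAttrib.useBackward true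
set_option linter.style.haveILetI false
set_option linter.unusedSectionVars false
set_option synthInstance.maxHeartbeats 100000

universe u

open CategoryTheory CategoryTheory.Limits DerivedCategory AlgebraicGeometry

attribute [local instance] HasDerivedCategory.standard
attribute [-instance] Int.instConditionallyCompleteLinearOrder

namespace Groth.Agent.DualLib.RelTop

open Groth.Agent.Dual22Lib

section

variable [∀ (U V : Scheme.{u}) (j : U ⟶ V) [IsOpenImmersion j], PreservesFiniteLimits (Scheme.Modules.restrictFunctor j)]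

/-- An open immersion along which a module is the structure sheaf gives a point of invertibility. -/
theorem invertibleAt_of_immersion {X U : Scheme.{u}} (l : U ⟶ X) [IsOpenImmersion l] {F : X.Modules}
    (e : F.restrict l ≅ Coh.structureModule U) (u : U) : RelCanon.InvertibleAt F (l u) := by
  let k := l.isoOpensRange
  have hk : k.inv ≫ l = l.opensRange.ι := l.isoOpensRange_inv_comp
  exact ⟨l.opensRange, ⟨u, rfl⟩, ⟨((Scheme.Modules.restrictFunctorCongr hk).app F).symm ≪≫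
    (Scheme.Modules.restrictFunctorComp k.inv l).app F ≪≫
    (Scheme.Modules.restrictFunctor k.inv).mapIso e ≪≫ Scheme.Modules.restrictUnitIso k.inv⟩⟩

/-- For a complex with one cohomology sheaf, of full support, invertibility near a point is that of the sheaf. -/
theorem invertibleD_iff {X : Scheme.{u}} (G : DCoh.D X) (m : ℤ) (hz : ∀ i : ℤ, i ≠ m → IsZero (DCoh.HD G i))
    (x : X) (hx : Nontrivial ((DCoh.HD G m).presheaf.stalk x)) :
    (∃ U : X.Opens, x ∈ U ∧ Dual3.IsInvertibleD ((DCoh.restrictD U.ι).obj G)) ↔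
      RelCanon.InvertibleAt (DCoh.HD G m) x := by
  constructor
  · rintro ⟨U, hxU, hU⟩
    obtain ⟨V, n, hxV, ⟨eV⟩⟩ := hU ⟨x, hxU⟩
    let l : (V : Scheme.{u}) ⟶ X := V.ι ≫ U.ι
    obtain ⟨cV⟩ := DCat.PerfLocal.rd_comp V.ι U.ι G
    let O' := Coh.structureModule (V : Scheme.{u})
    let e : ∀ i : ℤ, (DCoh.HD G i).restrict l ≅ DCoh.HD ((DCoh.inD (V : Scheme.{u}) O')⟦n⟧) i := fun i =>
      (DCat.SuppOpen.hdMapIso (Scheme.Modules.restrictFunctor l) G i).symm ≪≫
        (homologyFunctor _ i).mapIso (cV ≪≫ eV)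
    let s : ∀ i : ℤ, DCoh.HD ((DCoh.inD (V : Scheme.{u}) O')⟦n⟧) i ≅ DCoh.HD (DCoh.inD (V : Scheme.{u}) O') (n + i) :=
      fun i => ((homologyFunctor (V : Scheme.{u}).Modules 0).shiftIso n i (n + i) rfl).app _
    have hn : n + m = 0 := by
      by_contra hn
      haveI : (DCoh.inD (V : Scheme.{u}) O').IsGE 0 :=
        (inferInstance : ((singleFunctor (V : Scheme.{u}).Modules 0).obj O').IsGE 0)
      haveI : (DCoh.inD (V : Scheme.{u}) O').IsLE 0 :=
        (inferInstance : ((singleFunctor (V : Scheme.{u}).Modules 0).obj O').IsLE 0)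
      have h0 : IsZero (DCoh.HD (DCoh.inD (V : Scheme.{u}) O') (n + m)) := by
        rcases lt_or_gt_of_ne hn with h | h
        · exact isZero_of_isGE _ 0 _ h
        · exact isZero_of_isLE _ 0 _ h
      have h1 := DCat.SuppOpen.subsingleton_of_isZero_stalkFunctor _ _ ((DerSch.stalkFunctor (V : Scheme.{u}) (show (V : Scheme.{u}) from ⟨⟨x, hxU⟩, hxV⟩)).map_isZero
        (h0.of_iso (e m ≪≫ s m)))
      exact not_nontrivial_iff_subsingleton.2 (DCat.SuppOpen.subsingleton_stalk_of_restrict l _ _ h1) hx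
    exact invertibleAt_of_immersion l (e m ≪≫ s m ≪≫ eqToIso (congrArg (fun i : ℤ => DCoh.HD (DCoh.inD (V : Scheme.{u}) O') i) hn) ≪≫
      (singleFunctorCompHomologyFunctorIso (V : Scheme.{u}).Modules 0).app O') ⟨⟨x, hxU⟩, hxV⟩
  · rintro ⟨U, hxU, ⟨eU⟩⟩
    haveI : G.IsGE m := (isGE_iff _ _).2 fun i hi => hz i (by omega)
    haveI : G.IsLE m := (isLE_iff _ _).2 fun i hi => hz i (by omega)
    obtain ⟨F, ⟨eF⟩⟩ := exists_iso_singleFunctor_obj_of_isGE_of_isLE G m
    let eF0 : DCoh.HD G m ≅ F :=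
      (homologyFunctor X.Modules m).mapIso eF ≪≫ (singleFunctorCompHomologyFunctorIso X.Modules m).app F
    let eG : G ≅ (DCoh.inD X F)⟦-m⟧ :=
      eF ≪≫ ((singleFunctors X.Modules).shiftIso (-m) m 0 (by omega)).symm.app F
    let eU' : (DCoh.restrictD U.ι).obj G ≅
        (DCoh.inD (U : Scheme.{u}) (Coh.structureModule (U : Scheme.{u})))⟦-m⟧ :=
      (DCoh.restrictD U.ι).mapIso eG ≪≫ ((DCoh.restrictD U.ι).commShiftIso (-m)).app _ ≪≫
        (shiftFunctor _ (-m)).mapIso (((Scheme.Modules.restrictFunctor U.ι).mapDerivedCategorySingleFunctor 0).app F ≪≫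
          (singleFunctor _ 0).mapIso ((Scheme.Modules.restrictFunctor U.ι).mapIso eF0.symm ≪≫ eU))
    exact ⟨U, hxU, fun z => ⟨⊤, -m, trivial, ⟨(DCoh.restrictD _).mapIso eU' ≪≫ restrictShiftIso _ _⟩⟩⟩

/-- The fibre dimension bound of a morphism of pure relative dimension. -/
theorem fibre_dim_le {X Y : Scheme.{u}} (f : X ⟶ Y) (d : ℕ) (hd : Cyc.HasRelDim f d) (y : Y) :
    topologicalKrullDim ↥(f.fiber y) ≤ (d : WithBot ℕ∞) :=
  RelMod.dim_le_of_components (n := d) rfl (hd y)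

variable (A : Type u) [CommRing A] [IsNoetherianRing A] (Y : Scheme.{u}) [Y.Over (Spec (CommRingCat.of A))]
  [IsProper (Y ↘ Spec (CommRingCat.of A))] (d : ℕ)
  (hCM : ∀ y : Y, MoreMor.IsCMAt (Y ↘ Spec (CommRingCat.of A)) y) (hd : Cyc.HasRelDim (Y ↘ Spec (CommRingCat.of A)) d)
  [DCoh.HasRpush (Y ↘ Spec (CommRingCat.of A))] (h : DCoh.RpushPreservesQCoh (Y ↘ Spec (CommRingCat.of A)))
  (a : DCoh.DQCoh (Spec (CommRingCat.of A)) ⥤ DCoh.DQCoh Y) (adj : DCoh.RpushQ (Y ↘ Spec (CommRingCat.of A)) h ⊣ a)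
  (O : DCoh.DQCoh (Spec (CommRingCat.of A)))
  (hO : Nonempty (O.obj ≅ DCoh.inD (Spec (CommRingCat.of A)) (Coh.structureModule (Spec (CommRingCat.of A)))))

include hCM hd adj hO

/-- Concentration, flatness, full support and the Gorenstein locus of the relative dualizing complex. -/
theorem cm_package :
    (∀ i : ℤ, i ≠ -(d : ℤ) → IsZero (DCoh.HD (a.obj O).obj i)) ∧
      Coh.IsCoh (DCoh.HD (a.obj O).obj (-(d : ℤ))) ∧
      FlatMod.IsFlatOver (Y ↘ Spec (CommRingCat.of A)) (DCoh.HD (a.obj O).obj (-(d : ℤ))) ∧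
      (∀ y : Y, Nontrivial ((DCoh.HD (a.obj O).obj (-(d : ℤ))).presheaf.stalk y)) ∧
      ∀ y : Y, y ∈ RelCanon.gorLocus (Y ↘ Spec (CommRingCat.of A)) ↔
        RelCanon.InvertibleAt (DCoh.HD (a.obj O).obj (-(d : ℤ))) y := by
  let f := Y ↘ Spec (CommRingCat.of A)
  haveI : IsNoetherianRing (CommRingCat.of A) := ‹IsNoetherianRing A›
  haveI : IsNoetherian (Spec (CommRingCat.of A)) := {}
  haveI : Dual3.IsSepFT f := ⟨inferInstance, inferInstance, inferInstance⟩
  haveI : Dual3.IsSepFT (𝟙 (Spec (CommRingCat.of A))) := ⟨inferInstance, inferInstance, inferInstance⟩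
  haveI : Flat f := Flat.of_stalkMap _ fun x => (hCM x).1
  haveI : ∀ (S : CommRingCat.{u}), PreservesFiniteLimits (tilde.functor S) :=
    Groth.Agent.AffSchLib.preservesFiniteLimits_tilde
  let c : DEt.Compactification f :=
    { Xbar := Y, j := 𝟙 Y, fbar := f, isOpenImmersion := inferInstance, isProper := ‹_›, fac := Category.id_comp f }
  haveI : DCoh.HasRpush c.fbar := ‹DCoh.HasRpush f›
  haveI : IsOpenImmersion c.j := c.isOpenImmersion
  let G := (Dual3.shriekC c a).obj O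
  obtain ⟨eG⟩ : Nonempty (G ≅ (a.obj O).obj) := DCat.PCTriangle.rd_id (a.obj O).obj
  let eH : ∀ i : ℤ, DCoh.HD G i ≅ DCoh.HD (a.obj O).obj i := fun i => (homologyFunctor _ i).mapIso eG
  obtain ⟨hz, hcoh, hfl⟩ := Groth.Agent.S3614.result (Spec (CommRingCat.of A)) Y (Spec (CommRingCat.of A)) f (𝟙 _)
    f (Category.comp_id _) hCM d hd c h a adj O hO
  have hdx := ShriekCM.fibreDimAt_eq_of_components f d hd
  have hsupp : ∀ y : Y, Nontrivial ((DCoh.HD G (-(d : ℤ))).presheaf.stalk y) := fun y => by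
    obtain ⟨C⟩ := ShriekLocal.nonempty_chart c h a adj O hO y
    have := (nontrivial_stalk_iff C.jX C.iso C.pt (-(d : ℤ))).2 (ShriekCM.support_of_cm C d (hdx y) (hCM y)).2
    rwa [C.hpt] at this
  have hgor := (Groth.Agent.S3616.result (Spec (CommRingCat.of A)) Y (Spec (CommRingCat.of A)) f (𝟙 _) f
    (Category.comp_id _) c h a adj O hO).1
  have hst : ∀ {M N : Y.Modules}, (M ≅ N) → ∀ y : Y, Nontrivial (M.presheaf.stalk y) → Nontrivial (N.presheaf.stalk y) :=
    fun {M N} e y hy => by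
      haveI : Nontrivial ((DerSch.stalkFunctor Y y).obj M) := hy
      exact ((DerSch.stalkFunctor Y y).mapIso e).toLinearEquiv.symm.toEquiv.nontrivial
  refine ⟨fun i hi => (hz i hi).of_iso (eH i).symm, DQCoh.CohExt.isCoh_of_iso (eH _) hcoh,
    fun y => EGA43.DvrCrit.isFlatOverAt_of_iso _ (eH _) y (hfl y), fun y => hst (eH _) y (hsupp y), fun y => ?_⟩
  refine ((hgor y).trans (invertibleD_iff G _ hz y (hsupp y))).trans ?_
  exact ⟨fun ⟨U, hU, ⟨e⟩⟩ => ⟨U, hU, ⟨(Scheme.Modules.restrictFunctor U.ι).mapIso (eH _).symm ≪≫ e⟩⟩,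
    fun ⟨U, hU, ⟨e⟩⟩ => ⟨U, hU, ⟨(Scheme.Modules.restrictFunctor U.ι).mapIso (eH _) ≪≫ e⟩⟩⟩

end

end Groth.Agent.DualLib.RelTop
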