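import Groth.Agent.DualLib.RelTop.EvalTwist
import Groth.Agent.SerreDual.ExtShTensor
import Groth.Agent.DualLib.RelTop.FibreExists

/-!
# Twists by the sheaf of maps to the dualizing sheaf
-/

set_option autoImplicit false
set_option backward.isDefEq.respectTransparency.types false
set_option backward.isDefEq.respectTransparency false
set_option linter.style.haveILetI false
set_option linter.unusedSectionVars false

universe u

open CategoryTheory CategoryTheory.Limits AlgebraicGeometry IsLocalRing TopologicalSpace Opposite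
open scoped TensorProduct

namespace Groth.Agent.DualLib.RelTop

open Groth.Agent Coherent

variable {X : Scheme.{u}}

/-- Internal Homs out of isomorphic modules. -/
theorem nonempty_internalHom_congr {E E' : X.Modules} (g : E ≅ E') (N : X.Modules) :
    Nonempty ((internalHomFunctor E).obj N ≅ (internalHomFunctor E').obj N) :=
  ⟨(((tensorHomAdj E).ofNatIsoLeft ((DCoh.tensorBi (X := X)).mapIso g)).rightAdjointUniq (tensorHomAdj E')).app N⟩

/-- `P` has trivial dual when `F ⊗ P ≅ G`, `F` and `G` having the same maps to `N` and `Hom(F,N)` being trivial. -/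
theorem nonempty_dual_of_tensor {F P N : X.Modules} (ψ : CohB1.tensorMod F P ≅ F)
    (e : RefHull.homSh F N ≅ Coh.structureModule X) :
    Nonempty (RefHull.dual P ≅ Coh.structureModule X) := by
  obtain ⟨h1⟩ := nonempty_internalHom_congr (AmpleLib.tensorComm P F ≪≫ ψ) N
  obtain ⟨h2⟩ := SerreDual.nonempty_internalHom_tensor P F
  obtain ⟨h3⟩ := Surf15.nonempty_homSh_iso F N
  obtain ⟨h4⟩ := Surf15.nonempty_homSh_iso P (Coh.structureModule X)
  let e' : (internalHomFunctor F).obj N ≅ Coh.structureModule X := h3.symm ≪≫ e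
  exact ⟨h4 ≪≫ (internalHomFunctor P).mapIso e'.symm ≪≫ (h2.app N).symm ≪≫ h1 ≪≫ e'⟩

/-- `P` has trivial dual when the duals of `F` and `F ⊗ P` are trivial. -/
theorem nonempty_dual_of_dual_tensor {F P G : X.Modules} (ψ : CohB1.tensorMod F P ≅ G)
    (eF : RefHull.dual F ≅ Coh.structureModule X) (eG : RefHull.dual G ≅ Coh.structureModule X) :
    Nonempty (RefHull.dual P ≅ Coh.structureModule X) := by
  obtain ⟨h1⟩ := nonempty_internalHom_congr (AmpleLib.tensorComm P F ≪≫ ψ) (Coh.structureModule X)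
  obtain ⟨h2⟩ := SerreDual.nonempty_internalHom_tensor P F
  obtain ⟨h3⟩ := Surf15.nonempty_homSh_iso F (Coh.structureModule X)
  obtain ⟨h4⟩ := Surf15.nonempty_homSh_iso P (Coh.structureModule X)
  obtain ⟨h5⟩ := Surf15.nonempty_homSh_iso G (Coh.structureModule X)
  exact ⟨h4 ≪≫ (internalHomFunctor P).mapIso (h3.symm ≪≫ eF).symm ≪≫ (h2.app _).symm ≪≫ h1 ≪≫ h5.symm ≪≫ eG⟩

/-- Powers of a tensor product. -/
theorem nonempty_tensorPow_tensor (L M : X.Modules) : ∀ n : ℕ,
    Nonempty (CohB1.tensorPow (CohB1.tensorMod L M) n ≅ CohB1.tensorMod (CohB1.tensorPow L n) (CohB1.tensorPow M n))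
  | 0 => ⟨(AmpleLib.unitTensorIso _).symm⟩
  | n + 1 => by
    obtain ⟨e⟩ := nonempty_tensorPow_tensor L M n
    let a := CohB1.tensorPow L n
    let b := CohB1.tensorPow M n
    exact ⟨AmpleLib.tensorIso e (Iso.refl _) ≪≫
      DCat.TensorAssoc.assocIso a b (CohB1.tensorMod L M) ≪≫
      AmpleLib.tensorIso (Iso.refl a) ((DCat.TensorAssoc.assocIso b L M).symm ≪≫
        AmpleLib.tensorIso (AmpleLib.tensorComm b L) (Iso.refl M) ≪≫ DCat.TensorAssoc.assocIso L b M) ≪≫
      (DCat.TensorAssoc.assocIso a L (CohB1.tensorMod b M)).symm⟩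

/-- If `Mⁿ` has trivial dual then the `n`-th power of the dual of `M` is trivial. -/
theorem nonempty_dual_pow_unit {M : X.Modules} (hM : PicF.IsInvertible M) (hD : PicF.IsInvertible (RefHull.dual M))
    (n : ℕ) (e : RefHull.dual (CohB1.tensorPow M n) ≅ Coh.structureModule X) :
    Nonempty (CohB1.tensorPow (RefHull.dual M) n ≅ Coh.structureModule X) := by
  refine (PicLib.PicM.of_eq_one_iff (AmpleLib.isInvertible_tensorPow hD n)).1 ?_
  have h1 : PicLib.PicM.of hM * PicLib.PicM.of hD = 1 :=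
    (PicLib.PicM.of_mul hM hD).trans ((PicLib.PicM.of_eq_one_iff _).2 (VarietyLib.isInverseOf_dual hM))
  have h2 := congrArg (fun a => a ^ n) h1
  simp only [mul_pow, one_pow] at h2
  rwa [← PicLib.PicM.of_tensorPow hM, (PicLib.PicM.of_eq_one_iff _).2
    (nonempty_iso_unit_of_dual (AmpleLib.isInvertible_tensorPow hM n) e), one_mul,
    ← PicLib.PicM.of_tensorPow hD] at h2

variable [IsLocallyNoetherian X]

/-- A trivial double dual gives a trivial dual. -/
theorem nonempty_dual_of_ddual_restrict {F : X.Modules} (hF : Coh.IsCoh F) (W : X.Opens)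
    (e : (RefHull.ddual F).restrict W.ι ≅ Coh.structureModule (W : Scheme.{u})) :
    Nonempty ((RefHull.dual F).restrict W.ι ≅ Coh.structureModule (W : Scheme.{u})) := by
  have hO := Coherent.isCoh_structureModule X
  have hd := RefHullLib.isCoh_dual hF hO
  have hdd := RefHullLib.isCoh_dual hd hO
  have hinv : ∀ x : X, x ∈ W → RelCanon.InvertibleAt (RefHull.dual F) x := by
    intro x hx
    obtain ⟨a⟩ := exists_stalk_equiv_of_invertibleAt (invertibleAt_dual hdd x ⟨W, hx, ⟨e⟩⟩)
    obtain ⟨a3⟩ := nonempty_dual_stalk_equiv hdd x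
    obtain ⟨a2⟩ := nonempty_dual_stalk_equiv hd x
    obtain ⟨a1⟩ := nonempty_dual_stalk_equiv hF x
    let b : Module.Dual (X.presheaf.stalk x) (Module.Dual (X.presheaf.stalk x) (Module.Dual (X.presheaf.stalk x)
        (F.presheaf.stalk x))) ≃ₗ[X.presheaf.stalk x] X.presheaf.stalk x :=
      ((LinearEquiv.arrowCongr (a2.trans (LinearEquiv.arrowCongr a1 (LinearEquiv.refl _ _))).symm
        (LinearEquiv.refl _ _)).trans a3.symm).trans a
    obtain ⟨c⟩ := nonempty_dual_equiv_of_ddual b
    exact invertibleAt_of_stalk_equiv hd x (a1.trans c)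
  obtain ⟨d⟩ := nonempty_dual_restrict W (RefHull.dual F)
  exact nonempty_iso_unit_of_dual (isInvertible_restrict W hinv) (d.symm ≪≫ e)

/-- A map bijective on an open and with depth off it is bijective at the point. -/
theorem bijective_stalk_of_depth {P Q : X.Modules} (hP : Coh.IsCoh P) (hQ : Coh.IsCoh Q) (u : P ⟶ Q) (y : X)
    (U : X.Opens) (hU : ∀ x : X, x ⤳ y → x ∈ U → Function.Bijective (RefHull.stalkMapₗ u x))
    (hP2 : ∀ x : X, x ⤳ y → x ∉ U → (2 : ℕ∞) ≤ _root_.LocCoh.depth (X.presheaf.stalk x) (P.presheaf.stalk x))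
    (hQ1 : ∀ x : X, x ⤳ y → x ∉ U → (1 : ℕ∞) ≤ _root_.LocCoh.depth (X.presheaf.stalk x) (Q.presheaf.stalk x)) :
    Function.Bijective (RefHull.stalkMapₗ u y) := by
  let B := X.presheaf.stalk y
  let φ := RefHull.stalkMapₗ u y
  haveI : Module.Finite B (P.presheaf.stalk y) := AssSch12.finite_stalk hP y
  haveI : Module.Finite B (Q.presheaf.stalk y) := AssSch12.finite_stalk hQ y
  have hK : Subsingleton (LinearMap.ker φ) := subsingleton_of_local fun p _ => by
    let q : PrimeSpectrum B := ⟨p, inferInstance⟩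
    by_cases hx : EGA43.DimFormula.toPt y q ∈ U
    · refine Or.inl fun v => ?_
      let h := EGA43.DimFormula.toPt_specializes y q
      letI := (X.presheaf.stalkSpecializes h).hom.toAlgebra
      letI := Module.compHom (P.presheaf.stalk (EGA43.DimFormula.toPt y q)) (X.presheaf.stalkSpecializes h).hom
      obtain ⟨U₀, hy₀, s, hs⟩ := P.presheaf.exists_germ_eq v.1
      have h0 : Q.presheaf.germ U₀ y hy₀ (u.app U₀ s) = 0 := by
        rw [← RefHull.stalkMapₗ_germ, hs]; exact v.2
      obtain ⟨W, hyW, i, i', hW⟩ := Q.presheaf.germ_eq y hy₀ hy₀ (u.app U₀ s) 0 (h0.trans (map_zero _).symm)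
      obtain ⟨_, ⟨A, hA, rfl⟩, hyA, hAW⟩ :=
        X.isBasis_affineOpens.exists_subset_of_mem_open hyW W.isOpen
      have hxA : EGA43.DimFormula.toPt y q ∈ A := h.mem_open A.isOpen hyA
      let s' := P.presheaf.map (homOfLE (show A ≤ U₀ from fun a ha => i.le (hAW ha))).op s
      have hs0 : P.presheaf.germ A (EGA43.DimFormula.toPt y q) hxA s' = 0 := by
        refine (hU _ h hx).1 ?_
        rw [map_zero]
        have h2 := congrArg (Q.presheaf.germ W (EGA43.DimFormula.toPt y q) (hAW hxA)) hW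
        rw [TopCat.Presheaf.germ_res_apply, map_zero, map_zero] at h2
        rw [show P.presheaf.germ A (EGA43.DimFormula.toPt y q) hxA s' =
          P.presheaf.germ U₀ (EGA43.DimFormula.toPt y q) (i.le (hAW hxA)) s from
          TopCat.Presheaf.germ_res_apply P.presheaf _ _ _ s, RefHull.stalkMapₗ_germ]
        exact h2
      haveI := hP.1
      obtain ⟨g, hg, hgs⟩ := QCohLoc.exists_smul_eq_zero_of_germ P hA hxA s' hs0
      refine ⟨X.presheaf.germ A y hyA g, ?_, Subtype.ext ?_⟩
      · intro hq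
        have hq' : X.presheaf.germ A y hyA g ∈ q.asIdeal := hq
        rw [← comap_eq_of_toPt q, Ideal.mem_comap] at hq'
        refine (IsLocalRing.mem_maximalIdeal _).1 hq' ?_
        rw [TopCat.Presheaf.germ_stalkSpecializes_apply X.presheaf hyA h g]
        exact (X.mem_basicOpen g _ hxA).1 hg
      · show X.presheaf.germ A y hyA g • v.1 = 0
        rw [← hs, ← TopCat.Presheaf.germ_res_apply P.presheaf (homOfLE (show A ≤ U₀ from fun a ha => i.le (hAW ha))) y hyA s,
          ← QCohLoc.germ_smul']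
        exact (congrArg (P.presheaf.germ A y hyA) hgs).trans (map_zero _)
    · refine Or.inr (le_trans ?_ (le_of_eq_of_le (rfl : locDepth p (LinearMap.ker φ) = _) le_rfl))
      by_contra hlt
      rw [Order.one_le_iff_pos, pos_iff_ne_zero, not_not] at hlt
      haveI : Nontrivial (LocalizedModule p.primeCompl (LinearMap.ker φ)) := by
        by_contra hn
        haveI := not_nontrivial_iff_subsingleton.1 hn
        rw [show locDepth p (LinearMap.ker φ) = ⊤ from CAlgH3.depth_eq_top_of_subsingleton] at hlt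
        simp at hlt
      have hm := associatedPrimes.subset_of_injective
        (f := LocalizedModule.map p.primeCompl (LinearMap.ker φ).subtype)
        (LocalizedModule.map_injective _ _ Subtype.val_injective) (CAlgH3.depth_eq_zero_iff.1 hlt)
      haveI : Nontrivial (LocalizedModule p.primeCompl (P.presheaf.stalk y)) := by
        by_contra hn
        haveI := not_nontrivial_iff_subsingleton.1 hn
        rw [associatedPrimes.eq_empty_of_subsingleton] at hm
        exact Set.notMem_empty _ hm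
      have h2 := hP2 _ (EGA43.DimFormula.toPt_specializes y q) hx
      rw [← depth_toPt P hP.1 y q, show _root_.LocCoh.depth (Localization.AtPrime q.asIdeal)
        (LocalizedModule q.asIdeal.primeCompl (P.presheaf.stalk y)) = 0 from CAlgH3.depth_eq_zero_iff.2 hm] at h2
      simp at h2
  have hinj : Function.Injective φ := LinearMap.ker_eq_bot.1 (Submodule.subsingleton_iff_eq_bot.1 hK)
  have hC : Subsingleton (Q.presheaf.stalk y ⧸ LinearMap.range φ) := subsingleton_of_local fun p _ => by
    let q : PrimeSpectrum B := ⟨p, inferInstance⟩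
    by_cases hx : EGA43.DimFormula.toPt y q ∈ U
    · refine Or.inl fun c => ?_
      obtain ⟨v, rfl⟩ := Submodule.Quotient.mk_surjective _ c
      obtain ⟨s, hs, t, ht⟩ := exists_smul_mem_range hP.1 hQ.1 u q
        (hU _ (EGA43.DimFormula.toPt_specializes y q) hx).2 v
      exact ⟨s, hs, by rw [← Submodule.Quotient.mk_smul, Submodule.Quotient.mk_eq_zero]; exact ⟨t, ht⟩⟩
    · refine Or.inr (le_trans (le_min ?_ ?_) (locDepth_exact p φ (LinearMap.range φ).mkQ hinj
        (Submodule.mkQ_surjective _) (LinearMap.exact_iff.2 (Submodule.ker_mkQ _))).2)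
      · exact (hQ1 _ (EGA43.DimFormula.toPt_specializes y q) hx).trans (depth_toPt Q hQ.1 y q).ge
      · exact le_trans (show (1 : ℕ∞) ≤ 2 - 1 by decide) (tsub_le_tsub_right
          ((hP2 _ (EGA43.DimFormula.toPt_specializes y q) hx).trans (depth_toPt P hP.1 y q).ge) 1)
  exact ⟨hinj, fun v => LinearMap.mem_range.1
    ((Submodule.Quotient.mk_eq_zero (LinearMap.range φ) (x := v)).1 (Subsingleton.elim _ _))⟩

section Depth

variable [∀ (U V : Scheme.{u}) (j : U ⟶ V) [IsOpenImmersion j], PreservesFiniteLimits (Scheme.Modules.restrictFunctor j)]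
variable (A : Type u) [CommRing A] [IsNoetherianRing A] (Y : Scheme.{u}) [Y.Over (Spec (CommRingCat.of A))]
  [IsProper (Y ↘ Spec (CommRingCat.of A))] [Flat (Y ↘ Spec (CommRingCat.of A))] (d : ℕ)
  (hd : Cyc.HasRelDim (Y ↘ Spec (CommRingCat.of A)) d) (hS : RelCanon.IsSkMor (Y ↘ Spec (CommRingCat.of A)) 2)

include hd hS

/-- The dualizing sheaf has depth two where the structure sheaf has. -/
theorem two_le_depth_omega (ω : Y.Modules) (hω : RelCanon.IsDualizingSheaf A Y d ω) (x : Y)
    (hx : (2 : ℕ∞) ≤ _root_.LocCoh.depth (Y.presheaf.stalk x) (Y.presheaf.stalk x)) :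
    (2 : ℕ∞) ≤ _root_.LocCoh.depth (Y.presheaf.stalk x) (ω.presheaf.stalk x) := by
  let f := Y ↘ Spec (CommRingCat.of A)
  let T := Spec (CommRingCat.of A)
  haveI : IsNoetherianRing (CommRingCat.of A) := ‹IsNoetherianRing A›
  haveI : IsLocallyNoetherian Y := LocallyOfFiniteType.isLocallyNoetherian f
  haveI : LocallyOfFinitePresentation f := LocallyOfFinitePresentation.iff_locallyOfFiniteType.2 inferInstance
  obtain ⟨hωc, hω2⟩ := isCoh_and_two_le_depth (A := A) (Y := Y) d hd ω hω
  by_cases h2 : (2 : WithBot ℕ∞) ≤ ringKrullDim ((f.fiber (f x)).presheaf.stalk (f.asFiber x))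
  · exact hω2 x h2
  have hcm : MoreMor.IsCMAt f x := by
    by_contra hn
    exact h2 (two_le_dim_of_not_isCMAt f hS x hn)
  let t := f x
  let k := T.residueField t
  let Y' := f.fiber t
  let ι := f.fiberι t
  let w := f.asFiber x
  haveI : IsProper (f.fiberToSpecResidueField t) := MorphismProperty.pullback_snd _ _ ‹IsProper f›
  haveI : Flat (f.fiberToSpecResidueField t) := MorphismProperty.pullback_snd _ _ ‹Flat f›
  haveI : IsLocallyNoetherian Y' := LocallyOfFiniteType.isLocallyNoetherian (f.fiberToSpecResidueField t)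
  letI : Y'.Over (Spec (CommRingCat.of k)) := ⟨f.fiberToSpecResidueField t⟩
  haveI : IsProper (Y' ↘ Spec (CommRingCat.of k)) := ‹IsProper (f.fiberToSpecResidueField t)›
  haveI : Flat (Y' ↘ Spec (CommRingCat.of k)) := ‹Flat (f.fiberToSpecResidueField t)›
  obtain ⟨Lt, hLt⟩ := exists_fibre_dualizing A Y d hd t
  obtain ⟨eC⟩ := nonempty_fibre_iso_on_cm A Y d hd ω hω ⟨_, (Groth.Agent.S1341.result f).1⟩ (fun v hv => hv) t Lt hLt
  have hxw : ι w = x := f.fiberι_asFiber x
  suffices h : (2 : ℕ∞) ≤ _root_.LocCoh.depth (Y.presheaf.stalk (ι w)) (ω.presheaf.stalk (ι w)) from hxw ▸ h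
  have hx' : (2 : ℕ∞) ≤ _root_.LocCoh.depth (Y.presheaf.stalk (ι w)) (Y.presheaf.stalk (ι w)) := hxw.symm ▸ hx
  have hωf := isFlatOverAt_of_cm A Y d hd ω hω (ι w) (hxw.symm ▸ hcm)
  let A' := T.presheaf.stalk (f (ι w))
  let B := Y.presheaf.stalk (ι w)
  let R := Y'.presheaf.stalk w
  let N := ω.presheaf.stalk (ι w)
  letI : Algebra A' B := (f.stalkMap (ι w)).hom.toAlgebra
  haveI : IsLocalHom (algebraMap A' B) := inferInstanceAs (IsLocalHom (f.stalkMap (ι w)).hom)
  haveI : Module.Flat A' B := Flat.stalkMap f (ι w)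
  letI := FlatMod.moduleStalkOver f ω (ι w)
  haveI : IsScalarTower A' B N := IsScalarTower.of_compHom _ _ _
  haveI : Module.Flat A' N := hωf
  haveI : Module.Finite B N := AssSch12.finite_stalk hωc _
  letI : Algebra B R := (ι.stalkMap w).hom.toAlgebra
  obtain ⟨hs, hker⟩ := Props12.stalkMap_fiberι f t w
  have quot : ∀ (M : Type u) [AddCommGroup M] [Module B M] [Module.Finite B M] [Module A' M] [IsScalarTower A' B M],
      _root_.LocCoh.depth B (M ⧸ ((maximalIdeal A').map (algebraMap A' B) • (⊤ : Submodule B M))) =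
        _root_.LocCoh.depth R (R ⊗[B] M) := fun M _ _ _ _ _ => by
    rw [CAlgH3.depth_of_surjective (R := B) (S := R) hs (R ⊗[B] M)]
    let π : M →ₗ[B] R ⊗[B] M := TensorProduct.mk B R M 1
    have hπ : LinearMap.ker π = (maximalIdeal A').map (algebraMap A' B) • (⊤ : Submodule B M) :=
      Submodule.ext fun v => mk_one_eq_zero_iff (A := A') hs hker v
    exact CAlgH3.depth_congr ((Submodule.quotEquivOfEq _ _ hπ.symm).trans
      (π.quotKerEquivOfSurjective (TensorProduct.mk_surjective B M R hs)))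
  have dN := CommAlg6.depth_tensor_eq (A := A') (B := B) (N := N) A'
  have dB := CommAlg6.depth_tensor_eq (A := A') (B := B) (N := B) A'
  rw [CAlgH3.depth_congr (TensorProduct.AlgebraTensorModule.rid A' B N), quot] at dN
  rw [CAlgH3.depth_congr (TensorProduct.AlgebraTensorModule.rid A' B B), quot,
    CAlgH3.depth_congr (TensorProduct.AlgebraTensorModule.rid B R R)] at dB
  rw [dN]
  refine le_trans (dB ▸ hx') (add_le_add le_rfl ?_)
  -- depth of the fibre
  have hR2 : (((_root_.LocCoh.depth R R : ℕ∞)) : WithBot ℕ∞) ≤ ringKrullDim R :=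
    CAlgH3.depth_le_supportDim.trans (Module.supportDim_self_eq_ringKrullDim (R := R)).le
  have hR1 : _root_.LocCoh.depth R R ≤ 1 := by
    by_contra hc
    refine h2 (le_trans (WithBot.coe_le_coe.2 (show (2 : ℕ∞) ≤ _root_.LocCoh.depth R R from ?_)) hR2)
    exact (show (1 : ℕ∞) + 1 = 2 by norm_num) ▸ Order.add_one_le_of_lt (not_le.1 hc)
  rcases eq_or_ne (_root_.LocCoh.depth R R) 0 with h0 | h0
  · rw [h0]; exact zero_le
  refine le_trans hR1 ?_
  have hpc : ∀ M : Y.Modules, Coh.IsCoh M → Coh.IsCoh ((Scheme.Modules.pullback ι).obj M) := fun M hM =>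
    ⟨haveI := hM.1; EGA43.InjFibre.isQCoh_pullback ι M, Coherent.isFT_pullback_qcoh ι hM.1 hM.2⟩
  have hLtc := isCoh_fibre_dualizing Y d hd t Lt hLt
  obtain ⟨eS⟩ := nonempty_stalk_equiv_of_mem hLtc (hpc ω hωc) _ eC w
    (show MoreMor.IsCMAt f (ι w) from hxw.symm ▸ hcm)
  let eW : ((Scheme.Modules.pullback ι).obj ω).presheaf.stalk w ≃ₗ[R] R ⊗[B] N :=
    ((ModStalk.pullbackStalkIso ι w).app ω).toLinearEquiv
  rw [← CAlgH3.depth_congr (eS.trans eW)]
  haveI : Module.Finite R (Lt.presheaf.stalk w) := AssSch12.finite_stalk hLtc w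
  exact one_le_depth_of_end (bijective_end_stalk k Y' d (hasRelDim_fibre Y d hd t) Lt hLt w
    (isCMAt_field _ w hcm.2)) (Order.one_le_iff_pos.2 (pos_iff_ne_zero.2 h0))

end Depth

end Groth.Agent.DualLib.RelTop
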