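import Groth.Agent.DualLib.RelTop.QGorLocal
import Groth.Agent.DualLib.RelTop.TwistTools

/-!
# Periodicity of the reflexive powers near a point where one of them is invertible
-/

set_option autoImplicit false
set_option backward.isDefEq.respectTransparency false
set_option linter.style.haveILetI false
set_option linter.unusedSectionVars false

universe u

open CategoryTheory CategoryTheory.Limits AlgebraicGeometry TopologicalSpace

namespace Groth.Agent.DualLib.RelTop

open Groth.Agent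

variable {X : Scheme.{u}} [IsLocallyNoetherian X]

/-- The residue of an integer exponent modulo `r`, as a natural number. -/
theorem exists_period {M : Type u} [CommMonoid M] (a b : M) (hab : a * b = 1) (r : ℕ) (hr : 0 < r)
    (har : a ^ r = 1) : ∀ m : ℤ, ∃ c : ℕ, c < r ∧
      (∀ n : ℕ, m = Int.ofNat n → a ^ n = a ^ c) ∧ (∀ n : ℕ, m = Int.negSucc n → b ^ (n + 1) = a ^ c) := by
  have hb : b = a ^ (r - 1) :=
    calc b = b * a ^ r := by rw [har, mul_one]
      _ = b * (a * a ^ (r - 1)) := by rw [← pow_succ', Nat.sub_add_cancel hr]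
      _ = a ^ (r - 1) := by rw [← mul_assoc, mul_comm b a, hab, one_mul]
  rintro (n | n)
  · refine ⟨n % r, Nat.mod_lt _ hr, fun n' hn => ?_, fun n' hn => by simp at hn⟩
    obtain rfl : n = n' := by simpa using hn
    exact pow_eq_pow_mod n har
  · refine ⟨((r - 1) * (n + 1)) % r, Nat.mod_lt _ hr, fun n' hn => by simp at hn, fun n' hn => ?_⟩
    obtain rfl : n = n' := by simpa using hn
    rw [hb, ← pow_mul]
    exact pow_eq_pow_mod _ har

/-- **Periodicity**: near a point where `ω^{[r]}` is invertible every reflexive power has the stalks of one of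
exponent below `r`. -/
theorem exists_stalk_equiv_refPow_lt {ω : X.Modules} (hω : Coh.IsCoh ω) (Yo : X.Opens)
    (hinv : ∀ x : X, x ∈ Yo → RelCanon.InvertibleAt ω x)
    (hO : ∀ x : X, x ∉ Yo → (2 : ℕ∞) ≤ _root_.LocCoh.depth (X.presheaf.stalk x) (X.presheaf.stalk x))
    (r : ℕ) (hr : 0 < r) (V : X.Opens)
    (eV : (RelCanon.refPowZ ω r).restrict V.ι ≅ Coh.structureModule (V : Scheme.{u})) (m : ℤ) :
    ∃ c : ℕ, c < r ∧ ∀ z : X, z ∈ V → Nonempty ((RelCanon.refPowZ ω c).presheaf.stalk z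
      ≃ₗ[X.presheaf.stalk z] (RelCanon.refPowZ ω m).presheaf.stalk z) := by
  let W : X.Opens := Yo ⊓ V
  have hO1 := Coherent.isCoh_structureModule X
  have hdω := RefHullLib.isCoh_dual hω hO1
  have hdinv : ∀ x : X, x ∈ W → RelCanon.InvertibleAt (RefHull.dual ω) x := fun x hx =>
    invertibleAt_dual hω x (hinv x hx.1)
  have hW : ∀ x : X, x ∈ W → RelCanon.InvertibleAt ω x := fun x hx => hinv x hx.1
  let L := ω.restrict W.ι
  let D := (RefHull.dual ω).restrict W.ι
  have hL : PicF.IsInvertible L := isInvertible_restrict W hW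
  have hD : PicF.IsInvertible D := isInvertible_restrict W hdinv
  obtain ⟨eDL⟩ := nonempty_dual_restrict W ω
  have hab : PicLib.PicM.of hL * PicLib.PicM.of hD = 1 := by
    refine (PicLib.PicM.of_mul hL hD).trans ((PicLib.PicM.of_eq_one_iff _).2 ?_)
    obtain ⟨i⟩ := VarietyLib.isInverseOf_dual hL
    exact ⟨AmpleLib.tensorIso (Iso.refl _) eDL ≪≫ i⟩
  have htriv : ∀ (L₀ : X.Modules), Coh.IsCoh L₀ → (∀ x : X, x ∈ W → RelCanon.InvertibleAt L₀ x) → ∀ c : ℕ,
      Nonempty ((RefHull.ddual (CohB1.tensorPow L₀ c)).restrict W.ι ≅ CohB1.tensorPow (L₀.restrict W.ι) c) := by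
    intro L₀ h0 h0i c
    obtain ⟨e1⟩ := nonempty_restrict_ddual W (isCoh_tensorPow h0 c) (invertibleAt_tensorPow W L₀ h0i c)
    obtain ⟨e2⟩ := nonempty_restrict_tensorPow W L₀ c
    exact ⟨e1.symm ≪≫ e2⟩
  have hpow : ∀ n : ℕ, PicLib.PicM.of hL ^ n = PicLib.PicM.of (AmpleLib.isInvertible_tensorPow hL n) := fun n =>
    (PicLib.PicM.of_tensorPow hL n).symm
  have har : PicLib.PicM.of hL ^ r = 1 := by
    rw [hpow]
    refine (PicLib.PicM.of_eq_one_iff _).2 ?_
    obtain ⟨e⟩ := htriv ω hω hW r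
    exact ⟨e.symm ≪≫ (Scheme.Modules.restrictFunctorCongr (X.homOfLE_ι (inf_le_right : W ≤ V)).symm).app _ ≪≫
      (Scheme.Modules.restrictFunctorComp (X.homOfLE (inf_le_right : W ≤ V)) V.ι).app _ ≪≫
      (Scheme.Modules.restrictFunctor (X.homOfLE (inf_le_right : W ≤ V))).mapIso eV ≪≫
      Scheme.Modules.restrictUnitIso _⟩
  obtain ⟨c, hc, h1, h2⟩ := exists_period _ _ hab r hr har m
  refine ⟨c, hc, fun z hz => ?_⟩
  obtain ⟨ec⟩ := htriv ω hω hW c
  have key : ∀ (L₀ : X.Modules), Coh.IsCoh L₀ → ∀ n : ℕ,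
      Nonempty ((RefHull.ddual (CohB1.tensorPow L₀ n)).restrict W.ι ≅ CohB1.tensorPow L c) →
      Nonempty ((RelCanon.refPowZ ω c).presheaf.stalk z ≃ₗ[X.presheaf.stalk z]
        (RefHull.ddual (CohB1.tensorPow L₀ n)).presheaf.stalk z) := by
    intro L₀ h0 n he
    obtain ⟨e⟩ := he
    have hdep : ∀ (E : X.Modules), Coh.IsCoh E → ∀ v : X, v ⤳ z → v ∉ W →
        (2 : ℕ∞) ≤ _root_.LocCoh.depth (X.presheaf.stalk v) ((RefHull.dual E).presheaf.stalk v) := fun E hE v hv hvW =>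
      two_le_depth_dual hE v (hO v fun hvo => hvW ⟨hvo, hv.mem_open V.isOpen hz⟩)
    exact nonempty_stalk_equiv_of_restrict (isCoh_refPowNat hω c) (isCoh_refPowNat h0 n) W (ec ≪≫ e.symm) z
      (hdep _ (RefHullLib.isCoh_dual (isCoh_tensorPow hω c) hO1))
      (hdep _ (RefHullLib.isCoh_dual (isCoh_tensorPow h0 n) hO1))
  rcases m with n | n
  · refine key ω hω n ?_
    obtain ⟨e⟩ := htriv ω hω hW n
    obtain ⟨i⟩ := (PicLib.PicM.of_eq_iff (AmpleLib.isInvertible_tensorPow hL n) (AmpleLib.isInvertible_tensorPow hL c)).1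
      (by rw [← hpow, ← hpow]; exact h1 n rfl)
    exact ⟨e ≪≫ i⟩
  · refine key (RefHull.dual ω) hdω (n + 1) ?_
    obtain ⟨e⟩ := htriv (RefHull.dual ω) hdω hdinv (n + 1)
    obtain ⟨i⟩ := (PicLib.PicM.of_eq_iff (AmpleLib.isInvertible_tensorPow hD (n + 1)) (AmpleLib.isInvertible_tensorPow hL c)).1
      (by rw [PicLib.PicM.of_tensorPow, ← hpow]; exact h2 n rfl)
    exact ⟨e ≪≫ i⟩

end Groth.Agent.DualLib.RelTop
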