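import Groth.Agent.DualLib.RelTop.FlatAway
import Groth.Agent.DualLib.RelTop.StalkLoc
import Groth.Agent.CAlgH.DepthCriterion
import Groth.Agent.Props12.Stalks
import Groth.Agent.ModStalk.Pullback
import Groth.Agent.AssSch12.Primary
import Groth.Agent.FlatMor12.CMMor
import Mathlib.AlgebraicGeometry.Morphisms.FiniteType

/-!
# Flatness and depth from the fibre along a closed set

A coherent module flat on an open whose restriction to a fibre has depth at least two off the open is flat at that
fibre and has depth at least two off the open near it.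
-/

set_option autoImplicit false
set_option backward.isDefEq.respectTransparency false
set_option linter.style.haveILetI false
set_option linter.unusedSectionVars false

universe u

open CategoryTheory CategoryTheory.Limits AlgebraicGeometry TopologicalSpace IsLocalRing TensorProduct
open scoped Pointwise

namespace Groth.Agent.DualLib.RelTop

open Groth.Agent EGA43.DimFormula

variable {X T : Scheme.{u}} (f : X ⟶ T) [IsLocallyNoetherian T] [LocallyOfFiniteType f]

/-- The ideal of the complement of an open in a stalk. -/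
noncomputable def outIdeal (Yo : X.Opens) (y : X) : Ideal (X.presheaf.stalk y) :=
  PrimeSpectrum.vanishingIdeal ((toPt y) ⁻¹' ((Yo : Set X)ᶜ))

omit [IsLocallyNoetherian T] [LocallyOfFiniteType f] in
theorem outIdeal_le_iff (Yo : X.Opens) (y : X) (q : PrimeSpectrum (X.presheaf.stalk y)) :
    outIdeal Yo y ≤ q.asIdeal ↔ toPt y q ∉ Yo := by
  have hc : IsClosed ((toPt y) ⁻¹' ((Yo : Set X)ᶜ)) :=
    Yo.isOpen.isClosed_compl.preimage (X.fromSpecStalk y).continuous
  have h := PrimeSpectrum.zeroLocus_vanishingIdeal_eq_closure ((toPt y) ⁻¹' ((Yo : Set X)ᶜ))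
  rw [hc.closure_eq] at h
  exact (Set.ext_iff.1 h q)

/-- **Flatness and depth two along a closed set, from the fibre.** -/
theorem flat_and_depth (F : X.Modules) (hF : Coh.IsCoh F) (t : T) (z : f.fiber t) (Yo : X.Opens)
    (hflat : ∀ x : X, x ⤳ f.fiberι t z → x ∈ Yo → FlatMod.IsFlatOverAt f F x)
    (hdep : ∀ p : PrimeSpectrum ((f.fiber t).presheaf.stalk z), f.fiberι t (toPt z p) ∉ Yo →
      (2 : ℕ∞) ≤ _root_.LocCoh.depth (Localization.AtPrime p.asIdeal)
        (LocalizedModule p.asIdeal.primeCompl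
          (((Scheme.Modules.pullback (f.fiberι t)).obj F).presheaf.stalk z))) :
    FlatMod.IsFlatOverAt f F (f.fiberι t z) ∧
      ∀ x : X, x ⤳ f.fiberι t z → x ∉ Yo →
        (2 : ℕ∞) ≤ _root_.LocCoh.depth (X.presheaf.stalk x) (F.presheaf.stalk x) := by
  haveI : IsLocallyNoetherian X := LocallyOfFiniteType.isLocallyNoetherian f
  haveI : LocallyOfFiniteType (f.fiberToSpecResidueField t) :=
    MorphismProperty.pullback_snd _ _ inferInstance
  haveI : IsLocallyNoetherian (f.fiber t) := LocallyOfFiniteType.isLocallyNoetherian (f.fiberToSpecResidueField t)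
  let ι := f.fiberι t
  let y := ι z
  let A := T.presheaf.stalk (f y)
  let B := X.presheaf.stalk y
  let R := (f.fiber t).presheaf.stalk z
  let M := F.presheaf.stalk y
  let N := ((Scheme.Modules.pullback ι).obj F).presheaf.stalk z
  haveI : Module.Finite B M := AssSch12.finite_stalk hF y
  letI : Algebra A B := (f.stalkMap y).hom.toAlgebra
  haveI : IsLocalHom (algebraMap A B) := inferInstanceAs (IsLocalHom (f.stalkMap y).hom)
  letI := FlatMod.moduleStalkOver f F y
  haveI : IsScalarTower A B M := IsScalarTower.of_compHom _ _ _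
  letI : Algebra B R := (ι.stalkMap z).hom.toAlgebra
  obtain ⟨hsurj, hker⟩ := Props12.stalkMap_fiberι f t z
  let e : N ≃ₗ[R] R ⊗[B] M := ((ModStalk.pullbackStalkIso ι z).app F).toLinearEquiv
  haveI : Module.Finite R N := Module.Finite.equiv e.symm
  -- a regular pair on the fibre inside the ideal of the complement
  let J := outIdeal Yo y
  have hpts : ∀ (p : Ideal R) [p.IsPrime], J.map (algebraMap B R) ≤ p →
      (2 : ℕ∞) ≤ _root_.LocCoh.depth (Localization.AtPrime p) (LocalizedModule p.primeCompl N) := by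
    intro p hp hJp
    refine hdep ⟨p, hp⟩ ?_
    have h := (outIdeal_le_iff Yo y (PrimeSpectrum.comap (ι.stalkMap z).hom ⟨p, hp⟩)).1 (Ideal.map_le_iff_le_comap.1 hJp)
    rwa [← apply_toPt ι z ⟨p, hp⟩] at h
  obtain ⟨fs, hlen, hmem, hw⟩ := (CAlgH.DepthCriterion.depth_ge_iff N (J.map (algebraMap B R)) 2).1 hpts
  obtain ⟨a', b', rfl⟩ := List.length_eq_two.1 hlen
  obtain ⟨a, haJ, rfl⟩ := (Ideal.mem_map_iff_of_surjective (algebraMap B R) hsurj).1 (hmem a' (by simp))
  obtain ⟨b, hbJ, rfl⟩ := (Ideal.mem_map_iff_of_surjective (algebraMap B R) hsurj).1 (hmem b' (by simp))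
  rw [e.isWeaklyRegular_congr, RingTheory.Sequence.isWeaklyRegular_cons_iff,
    RingTheory.Sequence.isWeaklyRegular_cons_iff] at hw
  obtain ⟨hra, hrb, -⟩ := hw
  -- the kernel of `M → R ⊗ M`
  let j : M → R ⊗[B] M := fun v => (1 : R) ⊗ₜ[B] v
  have hj : ∀ (c : B) (v : M), j (c • v) = algebraMap B R c • j v := fun c v => by
    show (1 : R) ⊗ₜ[B] (c • v) = algebraMap B R c • ((1 : R) ⊗ₜ[B] v)
    rw [TensorProduct.tmul_smul, algebraMap_smul]
  have hjsurj : Function.Surjective j := TensorProduct.mk_surjective B M R hsurj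
  have hk : ∀ v : M, j v = 0 ↔ v ∈ maximalIdeal A • (⊤ : Submodule A M) := fun v => by
    let I : Ideal B := RingHom.ker (algebraMap B R)
    let e2 : (B ⧸ I) ≃ₗ[B] R :=
      { RingHom.quotientKerEquivOfSurjective (f := algebraMap B R) hsurj with
        map_smul' := fun c x => by
          obtain ⟨x, rfl⟩ := Ideal.Quotient.mk_surjective x
          show algebraMap B R (c * x) = c • algebraMap B R x
          rw [map_mul, Algebra.smul_def] }
    have h1 : (TensorProduct.congr e2 (LinearEquiv.refl B M)) ((1 : B ⧸ I) ⊗ₜ[B] v) = j v := by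
      show algebraMap B R 1 ⊗ₜ[B] v = j v
      rw [map_one]
    rw [← h1, LinearEquiv.map_eq_zero_iff, ← LinearEquiv.map_eq_zero_iff (TensorProduct.quotTensorEquivQuotSMul M I),
      show (TensorProduct.quotTensorEquivQuotSMul M I) ((1 : B ⧸ I) ⊗ₜ[B] v) = Submodule.Quotient.mk v from by
        rw [show (1 : B ⧸ I) = Ideal.Quotient.mk I 1 from rfl]
        exact (TensorProduct.quotTensorEquivQuotSMul_mk_tmul I 1 v).trans (congrArg _ (one_smul B v)),
      Submodule.Quotient.mk_eq_zero,
      show I = (maximalIdeal A).map (algebraMap A B) from hker, ← Submodule.restrictScalars_mem A,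
      Ideal.smul_restrictScalars, Submodule.restrictScalars_top]
  have P1 : ∀ v : M, a • v ∈ maximalIdeal A • (⊤ : Submodule A M) → v ∈ maximalIdeal A • (⊤ : Submodule A M) :=
    fun v hv => (hk v).1 (hra.right_eq_zero_of_smul ((hj a v).symm.trans ((hk _).2 hv)))
  have hq : ∀ v : M, v ∈ maximalIdeal A • (⊤ : Submodule A M) ⊔ (a • (⊤ : Submodule B M)).restrictScalars A ↔
      j v ∈ algebraMap B R a • (⊤ : Submodule R (R ⊗[B] M)) := by
    intro v
    rw [Submodule.mem_smul_pointwise_iff_exists]
    constructor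
    · intro hv
      obtain ⟨u, hu, w, hw, rfl⟩ := Submodule.mem_sup.1 hv
      rw [Submodule.restrictScalars_mem, Submodule.mem_smul_pointwise_iff_exists] at hw
      obtain ⟨w', -, rfl⟩ := hw
      refine ⟨j w', trivial, ?_⟩
      show algebraMap B R a • j w' = (1 : R) ⊗ₜ[B] (u + a • w')
      rw [TensorProduct.tmul_add, show (1 : R) ⊗ₜ[B] u = 0 from (hk u).2 hu, zero_add, ← hj a w']
    · rintro ⟨s, -, hs⟩
      obtain ⟨w', rfl⟩ := hjsurj s
      have h0 : j (v - a • w') = 0 := by
        show (1 : R) ⊗ₜ[B] (v - a • w') = 0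
        rw [TensorProduct.tmul_sub, sub_eq_zero]
        exact hs.symm.trans (hj a w').symm
      refine Submodule.mem_sup.2 ⟨v - a • w', (hk _).1 h0, a • w', ?_, sub_add_cancel _ _⟩
      exact Submodule.smul_mem_pointwise_smul _ _ _ trivial
  have P2 : ∀ v : M, b • v ∈ maximalIdeal A • (⊤ : Submodule A M) ⊔ (a • (⊤ : Submodule B M)).restrictScalars A →
      v ∈ maximalIdeal A • (⊤ : Submodule A M) ⊔ (a • (⊤ : Submodule B M)).restrictScalars A := by
    intro v hv
    rw [hq] at hv ⊢
    rw [← Submodule.Quotient.mk_eq_zero] at hv ⊢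
    refine hrb.right_eq_zero_of_smul ?_
    rw [← Submodule.Quotient.mk_smul, ← hj]
    exact hv
  -- flatness
  have haway : ∀ (q : Ideal B) [q.IsPrime], a ∉ q → Module.Flat A (LocalizedModule q.primeCompl M) := by
    intro q hq haq
    have hnot : toPt y ⟨q, hq⟩ ∈ Yo := by
      by_contra hc
      exact haq ((outIdeal_le_iff Yo y ⟨q, hq⟩).2 hc haJ)
    exact flat_toPt f F hF.1 y ⟨q, hq⟩ (hflat _ (toPt_specializes y _) hnot)
  haveI hM : Module.Flat A M := flat_of_away M haway P1
  refine ⟨hM, fun x hx hxo => ?_⟩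
  obtain ⟨q, rfl⟩ := exists_toPt hx
  rw [← depth_toPt F hF.1 y q]
  have hJq := (outIdeal_le_iff Yo y q).2 hxo
  refine CAlgH.DepthCriterion.depth_of_exists_weaklyRegular (fs := [a, b]) J ?_
    (weaklyRegular_pair_of_fibre M P1 P2) q.asIdeal hJq
  intro c hc
  rcases List.mem_pair.1 hc with rfl | rfl
  · exact haJ
  · exact hbJ

end Groth.Agent.DualLib.RelTop
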