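import Groth.Agent.DualLib.RelTop.LiftPow
import Groth.Agent.DualLib.RelTop.LiftRoot
import Groth.Agent.ModStalk.Tensor

/-!
# Duals with an invertible fibre and an invertible power

If some power prime to the residue characteristic of a module is invertible and its dual is invertible on the fibre,
the dual is invertible.
-/

set_option autoImplicit false
set_option backward.isDefEq.respectTransparency false
set_option linter.style.haveILetI false
set_option linter.unusedSectionVars false

universe u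

open CategoryTheory CategoryTheory.Limits AlgebraicGeometry TopologicalSpace IsLocalRing
open scoped TensorProduct

namespace Groth.Agent.DualLib.RelTop

open Groth.Agent EGA43.DimFormula

variable {X : Scheme.{u}}

/-- Stalks of tensor powers are spanned by multilinear products. -/
theorem exists_power_multilinear (L : X.Modules) (x : X) :
    ∀ n : ℕ, ∃ μ : MultilinearMap (X.presheaf.stalk x) (fun _ : Fin n => L.presheaf.stalk x)
        ((CohB1.tensorPow L n).presheaf.stalk x),
      Submodule.span (X.presheaf.stalk x) (Set.range μ) = ⊤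
  | 0 => by
    let e := SDiv28.unitStalkEquiv (X := X) x
    refine ⟨MultilinearMap.constOfIsEmpty _ _ (e (1 : X.presheaf.stalk x)), eq_top_iff.2 fun v _ => ?_⟩
    rw [← e.apply_symm_apply v, ← mul_one (e.symm v), ← smul_eq_mul, map_smul]
    exact Submodule.smul_mem _ _ (Submodule.subset_span ⟨fun i => i.elim0, rfl⟩)
  | n + 1 => by
    obtain ⟨μ, hμ⟩ := exists_power_multilinear L x n
    let R := X.presheaf.stalk x
    let e : (CohB1.tensorPow L (n + 1)).presheaf.stalk x ≃ₗ[R]
        (CohB1.tensorPow L n).presheaf.stalk x ⊗[R] L.presheaf.stalk x :=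
      (ModStalk.stalkTensorIso x (CohB1.tensorPow L n) L).toLinearEquiv
    let bil : (CohB1.tensorPow L n).presheaf.stalk x →ₗ[R] L.presheaf.stalk x →ₗ[R]
        (CohB1.tensorPow L (n + 1)).presheaf.stalk x :=
      (TensorProduct.mk R _ _).compr₂ e.symm.toLinearMap
    refine ⟨MultilinearMap.uncurryRight (M := fun _ : Fin (n + 1) => L.presheaf.stalk x) (bil.compMultilinearMap μ),
      eq_top_iff.2 fun v _ => ?_⟩
    rw [← e.symm_apply_apply v]
    induction e v using TensorProduct.induction_on with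
    | zero => rw [map_zero]; exact zero_mem _
    | add a b ha hb => rw [map_add]; exact add_mem ha hb
    | tmul a b =>
      have ha : a ∈ Submodule.span R (Set.range μ) := hμ ▸ trivial
      induction ha using Submodule.span_induction with
      | mem a ha =>
        obtain ⟨w, rfl⟩ := ha
        refine Submodule.subset_span ⟨Fin.snoc w b, ?_⟩
        rw [MultilinearMap.uncurryRight_apply, Fin.init_snoc, Fin.snoc_last]
        rfl
      | zero => rw [TensorProduct.zero_tmul, map_zero]; exact zero_mem _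
      | add a a' _ _ ha ha' => rw [TensorProduct.add_tmul, map_add]; exact add_mem ha ha'
      | smul c a _ ha => rw [← TensorProduct.smul_tmul', map_smul]; exact Submodule.smul_mem _ _ ha

variable [IsLocallyNoetherian X]

/-- A morphism bijective on an open hits a multiple, not vanishing at the point, of every germ at a specialization. -/
theorem exists_smul_mem_range {T P : X.Modules} (hT : Coh.IsQCoh T) (hP : Coh.IsQCoh P) (φ : T ⟶ P) {y : X}
    (q : PrimeSpectrum (X.presheaf.stalk y)) (hb : Function.Surjective (RefHull.stalkMapₗ φ (toPt y q)))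
    (v : P.presheaf.stalk y) : ∃ s ∉ q.asIdeal, ∃ t, RefHull.stalkMapₗ φ y t = s • v := by
  haveI := hT
  haveI := hP
  let x := toPt y q
  let hxy := toPt_specializes y q
  obtain ⟨_, ⟨U, hU, rfl⟩, hyU, -⟩ :=
    X.isBasis_affineOpens.exists_subset_of_mem_open (Set.mem_univ y) isOpen_univ
  have hxU : x ∈ U := hxy.mem_open U.isOpen hyU
  have hnot : ∀ g : Γ(X, U), x ∈ X.basicOpen g → X.presheaf.germ U y hyU g ∉ q.asIdeal := by
    intro g hg hq
    rw [← comap_eq_of_toPt q, Ideal.mem_comap] at hq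
    refine (IsLocalRing.mem_maximalIdeal _).1 hq ?_
    rw [TopCat.Presheaf.germ_stalkSpecializes_apply X.presheaf hyU hxy g]
    exact (X.mem_basicOpen g x hxU).1 hg
  -- bring the germ to a section
  obtain ⟨a, n, ha, han⟩ := QCohLoc.exists_smul_stalk_eq_germ P hU hyU v
  obtain ⟨tx, htx⟩ := hb (P.presheaf.germ U x hxU n)
  obtain ⟨f, m, hf, hm⟩ := QCohLoc.exists_smul_stalk_eq_germ T hU hxU tx
  have h0 : P.presheaf.germ U x hxU (φ.app U m - f • n) = 0 := by
    rw [map_sub, ← RefHull.stalkMapₗ_germ, ← hm, map_smul, QCohLoc.germ_smul', htx, sub_self]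
  obtain ⟨g, hg, hgm⟩ := QCohLoc.exists_smul_eq_zero_of_germ P hU hxU _ h0
  refine ⟨X.presheaf.germ U y hyU (g * f * a), hnot _ ?_, T.presheaf.germ U y hyU (g • m), ?_⟩
  · rw [Scheme.basicOpen_mul, Scheme.basicOpen_mul]
    exact ⟨⟨hg, hf⟩, hxy.mem_open (X.basicOpen a).isOpen ha⟩
  · rw [RefHull.stalkMapₗ_germ, map_mul, mul_smul, han, ← QCohLoc.germ_smul']
    refine congrArg (P.presheaf.germ U y hyU) ?_
    rw [Scheme.Modules.Hom.app_smul, mul_smul]
    rw [smul_sub, sub_eq_zero] at hgm
    exact hgm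

variable {T : Scheme.{u}} (f : X ⟶ T) [IsLocallyNoetherian T] [LocallyOfFiniteType f]

/-- **A dual with invertible fibre and invertible power prime to the residue characteristic is invertible.** -/
theorem invertibleAt_dual_of_root (hS : RelCanon.IsSkMor f 2) (t : T) (z : f.fiber t) (Yo : X.Opens)
    (hdim : ∀ x : X, f x = t → x ∉ Yo →
      (2 : WithBot ℕ∞) ≤ ringKrullDim ((f.fiber (f x)).presheaf.stalk (f.asFiber x)))
    (D : X.Modules) (hD : Coh.IsCoh D) (hDi : ∀ x : X, x ∈ Yo → RelCanon.InvertibleAt D x)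
    (hfib : RelCanon.InvertibleAt (RefHull.dual ((Scheme.Modules.pullback (f.fiberι t)).obj D)) z)
    (k : ℕ) (hk : ((k + 1 : ℕ) : T.residueField t) ≠ 0)
    (hP : RelCanon.InvertibleAt (RefHull.ddual (CohB1.tensorPow D (k + 1))) (f.fiberι t z)) :
    RelCanon.InvertibleAt (RefHull.dual D) (f.fiberι t z) := by
  classical
  haveI : Flat f := hS.1
  haveI : LocallyOfFiniteType (f.fiberToSpecResidueField t) :=
    MorphismProperty.pullback_snd _ _ inferInstance
  haveI : IsLocallyNoetherian (f.fiber t) := LocallyOfFiniteType.isLocallyNoetherian (f.fiberToSpecResidueField t)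
  let ι := f.fiberι t
  let y := ι z
  let A := T.presheaf.stalk (f y)
  let B := X.presheaf.stalk y
  let R := (f.fiber t).presheaf.stalk z
  letI : Algebra A B := (f.stalkMap y).hom.toAlgebra
  haveI : Module.Flat A B := Flat.stalkMap f y
  haveI : IsLocalHom (algebraMap A B) := inferInstanceAs (IsLocalHom (f.stalkMap y).hom)
  letI : Algebra B R := (ι.stalkMap z).hom.toAlgebra
  obtain ⟨hs, hker'⟩ := Props12.stalkMap_fiberι f t z
  let J := outIdeal Yo y
  let I := mB A B
  let e2 : (B ⧸ I) ≃ₗ[B] R :=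
    (Submodule.quotEquivOfEq _ _ hker'.symm).trans
      { RingHom.quotientKerEquivOfSurjective (f := algebraMap B R) hs with
        map_smul' := fun c x => by
          obtain ⟨x, rfl⟩ := Ideal.Quotient.mk_surjective x
          show algebraMap B R (c * x) = c • algebraMap B R x
          rw [map_mul, Algebra.smul_def] }
  -- depth two of the fibre
  have hR : ∀ p : Ideal B, ∀ [p.IsPrime], J ≤ p → I ≤ p → (2 : ℕ∞) ≤ locDepth p (B ⧸ I) := by
    intro p hp hJ _
    refine le_locDepth_of_surjective hs J 2 R (B ⧸ I) e2 (fun p' hp' hJ' => ?_) p hJ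
    have hwo := (outIdeal_le_iff Yo y (PrimeSpectrum.comap (ι.stalkMap z).hom ⟨p', hp'⟩)).1
      (Ideal.map_le_iff_le_comap.1 hJ')
    rw [← apply_toPt ι z ⟨p', hp'⟩] at hwo
    rw [← CAlgH3.depth_congr (LinearEquiv.ofBijective (LocalizedModule.map p'.primeCompl
      (SDiv28.unitStalkEquiv (X := f.fiber t) z).symm.toLinearMap)
        ⟨LocalizedModule.map_injective _ _ (LinearEquiv.injective _),
          LocalizedModule.map_surjective _ _ (LinearEquiv.surjective _)⟩),
      depth_toPt (Coh.structureModule (f.fiber t)) (Coherent.isCoh_structureModule _).1 z ⟨p', hp'⟩,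
      ← CAlgH3.depth_congr (SDiv28.unitStalkEquiv (X := f.fiber t) _)]
    exact two_le_depth_fibre f hS t _ fun v hv => hdim v
      (by rw [← hv]; exact EGA43.Chevalley.apply_fiberι f t _) (by rwa [← hv])
  let P := D.presheaf.stalk y
  haveI : Module.Finite B P := AssSch12.finite_stalk hD y
  haveI := Module.finitePresentation_of_finite B P
  have hgen1 : ∀ q : Ideal B, ∀ [q.IsPrime], ¬J ≤ q → I ≤ q → ∃ e : P, ∀ d : P, ∃ s ∉ q, ∃ c : B, s • d = c • e := by
    intro q hq hJ _
    have hx : toPt y ⟨q, hq⟩ ∈ Yo := not_not.1 fun hc => hJ ((outIdeal_le_iff Yo y ⟨q, hq⟩).2 hc)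
    letI := (X.presheaf.stalkSpecializes (toPt_specializes y ⟨q, hq⟩)).hom.toAlgebra
    letI := Module.compHom (D.presheaf.stalk (toPt y ⟨q, hq⟩)) (X.presheaf.stalkSpecializes (toPt_specializes y ⟨q, hq⟩)).hom
    haveI : IsScalarTower B (X.presheaf.stalk (toPt y ⟨q, hq⟩)) (D.presheaf.stalk (toPt y ⟨q, hq⟩)) :=
      IsScalarTower.of_algebraMap_smul fun _ _ => rfl
    obtain ⟨hl, ρ, hρ⟩ := stalk_loc D hD.1 y ⟨q, hq⟩
    haveI : IsLocalization.AtPrime (X.presheaf.stalk (toPt y ⟨q, hq⟩)) q := hl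
    haveI := hρ
    obtain ⟨ε⟩ := exists_stalk_equiv_of_invertibleAt (hDi _ hx)
    obtain ⟨⟨e, s0⟩, he⟩ := IsLocalizedModule.surj q.primeCompl ρ (ε.symm 1)
    refine ⟨e, fun d => ?_⟩
    obtain ⟨⟨c, s⟩, hc⟩ := IsLocalization.surj q.primeCompl (ε (ρ d))
    have h1 : ρ (((s : B) * (s0 : B)) • d) = ρ (c • e) := by
      apply ε.injective
      have hεe : ε (ρ e) = algebraMap B _ (s0 : B) := by
        rw [show ρ e = (s0 : B) • ε.symm 1 from he.symm, ← algebraMap_smul (X.presheaf.stalk (toPt y ⟨q, hq⟩)), map_smul,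
          ε.apply_symm_apply, smul_eq_mul, mul_one]
      rw [map_smul ρ, map_smul ρ, ← algebraMap_smul (X.presheaf.stalk (toPt y ⟨q, hq⟩)) ((s : B) * (s0 : B)),
        ← algebraMap_smul (X.presheaf.stalk (toPt y ⟨q, hq⟩)) c, map_smul, map_smul, hεe, smul_eq_mul, smul_eq_mul,
        map_mul, ← hc]
      ring
    obtain ⟨u, hu⟩ := IsLocalizedModule.exists_of_eq (S := q.primeCompl) h1
    refine ⟨(u : B) * ((s : B) * s0), fun h => ?_, (u : B) * c, ?_⟩
    · rcases hq.mem_or_mem h with h | h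
      · exact u.2 h
      · exact (hq.mem_or_mem h).elim s.2 s0.2
    · rw [mul_smul, mul_smul (u : B) c]; exact hu
  -- the generator on the fibre
  let D' := (Scheme.Modules.pullback ι).obj D
  have hD' : Coh.IsCoh D' :=
    ⟨haveI := hD.1; EGA43.InjFibre.isQCoh_pullback ι D, Coherent.isFT_pullback_qcoh ι hD.1 hD.2⟩
  obtain ⟨eH⟩ := nonempty_dual_stalk_equiv hD' z
  obtain ⟨eG⟩ := exists_stalk_equiv_of_invertibleAt hfib
  let eP : D'.presheaf.stalk z ≃ₗ[R] R ⊗[B] P := ((ModStalk.pullbackStalkIso ι z).app D).toLinearEquiv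
  let L : (R ⊗[B] P →ₗ[R] R) ≃ₗ[R] R :=
    ((LinearEquiv.arrowCongr eP.symm (LinearEquiv.refl R R)).trans eH.symm).trans eG
  let L1 : (P →ₗ[B] B ⧸ I) ≃ₗ[B] R :=
    ((LinearEquiv.arrowCongr (LinearEquiv.refl B P) e2).trans
      ((LinearMap.liftBaseChangeEquiv R).restrictScalars B)).trans (L.restrictScalars B)
  let h0 := L1.symm 1
  have hgen : ∀ g : P →ₗ[B] B ⧸ I, ∃ c : B, g = c • h0 := fun g => by
    obtain ⟨c, hc⟩ := hs (L1 g)
    refine ⟨c, L1.injective ?_⟩
    rw [map_smul, L1.apply_symm_apply, ← hc, Algebra.smul_def, mul_one]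
    rfl
  have hu : ∀ p : Ideal B, ∀ [p.IsPrime], ¬J ≤ p → I ≤ p → ∃ d x, Submodule.Quotient.mk x = h0 d ∧ x ∉ p := by
    intro p hp hJ hI
    by_contra hall
    push Not at hall
    obtain ⟨s, r, u, v, hsp, huv⟩ := exists_split_of_free p P (free_localized_of_invertibleAt hD.1 y ⟨p, hp⟩
      (hDi _ (not_not.1 fun hc => hJ ((outIdeal_le_iff Yo y ⟨p, hp⟩).2 hc))))
    have hup : ∀ d i, u d i ∈ p := fun d i => by
      obtain ⟨c, hc⟩ := hgen (I.mkQ ∘ₗ LinearMap.proj i ∘ₗ u)
      obtain ⟨x, hx⟩ := Submodule.Quotient.mk_surjective _ (h0 d)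
      have h1 : Submodule.Quotient.mk (u d i) = (Submodule.Quotient.mk (c * x) : B ⧸ I) := by
        rw [← smul_eq_mul, Submodule.Quotient.mk_smul, hx]
        exact LinearMap.congr_fun hc d
      have h2 := hI ((Submodule.Quotient.eq _).1 h1)
      simpa using add_mem h2 (Ideal.mul_mem_left _ c (hall d x hx))
    -- the free localization would be killed modulo the prime
    have hsub : ∀ d : P, s • d ∈ p • (⊤ : Submodule B P) := fun d => by
      have : v (u d) = s • d := LinearMap.congr_fun huv d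
      rw [← this, pi_eq_sum_univ' (u d), map_sum]
      exact Submodule.sum_mem _ fun i _ => by rw [map_smul]; exact Submodule.smul_mem_smul (hup d i) trivial
    obtain ⟨ε⟩ := exists_stalk_equiv_of_invertibleAt
      (hDi _ (not_not.1 fun hc => hJ ((outIdeal_le_iff Yo y ⟨p, hp⟩).2 hc)))
    letI := (X.presheaf.stalkSpecializes (toPt_specializes y ⟨p, hp⟩)).hom.toAlgebra
    letI := Module.compHom (D.presheaf.stalk (toPt y ⟨p, hp⟩)) (X.presheaf.stalkSpecializes (toPt_specializes y ⟨p, hp⟩)).hom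
    haveI : IsScalarTower B (X.presheaf.stalk (toPt y ⟨p, hp⟩)) (D.presheaf.stalk (toPt y ⟨p, hp⟩)) :=
      IsScalarTower.of_algebraMap_smul fun _ _ => rfl
    obtain ⟨hl, ρ, hρ⟩ := stalk_loc D hD.1 y ⟨p, hp⟩
    haveI : IsLocalization.AtPrime (X.presheaf.stalk (toPt y ⟨p, hp⟩)) p := hl
    haveI := hρ
    let m := maximalIdeal (X.presheaf.stalk (toPt y ⟨p, hp⟩))
    have hρm : ∀ d ∈ p • (⊤ : Submodule B P), ε (ρ d) ∈ m := by
      intro d hd
      refine Submodule.smul_induction_on hd (fun a ha d _ => ?_) fun a b ha hb => ?_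
      · rw [map_smul, ← algebraMap_smul (X.presheaf.stalk (toPt y ⟨p, hp⟩)), map_smul, smul_eq_mul]
        exact Ideal.mul_mem_right _ _ ((IsLocalization.AtPrime.to_map_mem_maximal_iff _ p a).2 ha)
      · rw [map_add, map_add]; exact add_mem ha hb
    obtain ⟨⟨e, s0⟩, he⟩ := IsLocalizedModule.surj p.primeCompl ρ (ε.symm 1)
    have h3 := hρm _ (hsub e)
    rw [map_smul, show ρ e = (s0 : B) • ε.symm 1 from he.symm, smul_smul,
      ← algebraMap_smul (X.presheaf.stalk (toPt y ⟨p, hp⟩)), map_smul, ε.apply_symm_apply, smul_eq_mul, mul_one,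
      IsLocalization.AtPrime.to_map_mem_maximal_iff _ p] at h3
    exact (hp.mem_or_mem h3).elim hsp s0.2
  -- the power
  let Tp := CohB1.tensorPow D (k + 1)
  have hTp := isCoh_tensorPow hD (k + 1)
  have hTd : Coh.IsCoh (RefHull.ddual Tp) := isCoh_refPowNat hD (k + 1)
  obtain ⟨μ, hμ⟩ := exists_power_multilinear D y (k + 1)
  obtain ⟨eb⟩ := exists_stalk_equiv_of_invertibleAt hP
  let π : Tp.presheaf.stalk y →ₗ[B] B := eb.toLinearMap ∘ₗ RefHull.stalkMapₗ (RefHull.bidualMap Tp) y
  let ε := π.compMultilinearMap μ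
  have hε : ∀ p : Ideal B, ∀ [p.IsPrime], ¬J ≤ p → I ≤ p → ∃ v, ε v ∉ p := by
    intro p hp hJ _
    have hx : toPt y ⟨p, hp⟩ ∈ Yo := not_not.1 fun hc => hJ ((outIdeal_le_iff Yo y ⟨p, hp⟩).2 hc)
    have hb := ((RefHullLib.bijective_stalk_bidualMap_iff hTp _).2
      (isReflexiveAt_of_invertibleAt (invertibleAt_tensorPow Yo D hDi (k + 1) _ hx))).2
    obtain ⟨s, hsp, t', ht⟩ := exists_smul_mem_range hTp.1 hTd.1 (RefHull.bidualMap Tp) ⟨p, hp⟩ hb (eb.symm 1)
    by_contra hall
    push Not at hall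
    have hall' : ∀ w, π w ∈ p := fun w => by
      have hw : w ∈ Submodule.span B (Set.range μ) := hμ ▸ trivial
      induction hw using Submodule.span_induction with
      | mem a ha => obtain ⟨v, rfl⟩ := ha; exact hall v
      | zero => rw [map_zero]; exact zero_mem _
      | add a b _ _ ha hb => rw [map_add]; exact add_mem ha hb
      | smul c a _ ha => rw [map_smul]; exact Ideal.mul_mem_left _ _ ha
    have h1 : π t' = s := by
      show eb (RefHull.stalkMapₗ (RefHull.bidualMap Tp) y t') = s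
      rw [ht, map_smul, eb.apply_symm_apply, smul_eq_mul, mul_one]
    exact hsp (h1 ▸ hall' t')
  have hkA : IsUnit (((k + 1 : ℕ)) : A) := by
    rw [← IsLocalRing.notMem_maximalIdeal]
    intro hmem
    have key : ∀ t' : T, f y = t' → ((k + 1 : ℕ) : T.residueField t') ≠ 0 → False := by
      intro t' ht' hne
      subst ht'
      refine hne ?_
      change ((k + 1 : ℕ) : IsLocalRing.ResidueField A) = 0
      rw [← map_natCast (IsLocalRing.residue A)]
      exact (IsLocalRing.residue_eq_zero_iff _).2 hmem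
    exact key t (EGA43.Chevalley.apply_fiberι f t z) hk
  obtain ⟨hsur, hker⟩ := root_crit J hR hgen1 ε hkA h0 hgen hu hε
  -- conclude
  let G := P →ₗ[B] B
  let eq1 : R ⊗[B] G ≃ₗ[B] R :=
    (((TensorProduct.congr e2.symm (LinearEquiv.refl B G)).trans
      (TensorProduct.quotTensorEquivQuotSMul G I)).trans
      (Submodule.quotEquivOfEq _ _ hker.symm)).trans
      (((restrDual A B P).quotKerEquivOfSurjective hsur).trans L1)
  let eR : R ⊗[B] G ≃ₗ[R] R := eq1.extendScalarsOfSurjective hs
  have hG : Coh.IsCoh (RefHull.dual D) := RefHullLib.isCoh_dual hD (Coherent.isCoh_structureModule X)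
  obtain ⟨eD⟩ := nonempty_dual_stalk_equiv hD y
  let M := (RefHull.dual D).presheaf.stalk y
  let eM : R ⊗[B] M ≃ₗ[R] R := (TensorProduct.AlgebraTensorModule.congr (LinearEquiv.refl R R) eD).trans eR
  have hflat := (flat_and_depth f (RefHull.dual D) hG t z Yo (fun x _ hx => ?_) fun p hp => ?_).1
  · letI := FlatMod.moduleStalkOver f (RefHull.dual D) y
    haveI : IsScalarTower A B M := IsScalarTower.of_compHom _ _ _
    haveI : Module.Flat A M := hflat
    haveI : Module.Finite B M := AssSch12.finite_stalk hG y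
    obtain ⟨b⟩ := nonempty_equiv_of_fibre (A := A) (R := R) hs hker' M eM
    exact invertibleAt_of_stalk_equiv hG y b
  · obtain ⟨a⟩ := exists_stalk_equiv_of_invertibleAt (invertibleAt_dual hD x (hDi x hx))
    letI := (f.stalkMap x).hom.toAlgebra
    letI := FlatMod.moduleStalkOver f (RefHull.dual D) x
    haveI : IsScalarTower (T.presheaf.stalk (f x)) (X.presheaf.stalk x) ((RefHull.dual D).presheaf.stalk x) :=
      IsScalarTower.of_compHom _ _ _
    haveI : Module.Flat (T.presheaf.stalk (f x)) (X.presheaf.stalk x) := Flat.stalkMap f x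
    exact Module.Flat.of_linearEquiv (a.restrictScalars (T.presheaf.stalk (f x)))
  · let ep : ((Scheme.Modules.pullback ι).obj (RefHull.dual D)).presheaf.stalk z ≃ₗ[R] R ⊗[B] M :=
      ((ModStalk.pullbackStalkIso ι z).app (RefHull.dual D)).toLinearEquiv
    let eS := (ep.trans eM).trans (SDiv28.unitStalkEquiv (X := f.fiber t) z)
    rw [CAlgH3.depth_congr (LinearEquiv.ofBijective (LocalizedModule.map p.asIdeal.primeCompl eS.toLinearMap)
      ⟨LocalizedModule.map_injective _ _ (LinearEquiv.injective _),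
        LocalizedModule.map_surjective _ _ (LinearEquiv.surjective _)⟩),
      depth_toPt (Coh.structureModule (f.fiber t)) (Coherent.isCoh_structureModule _).1 z p,
      ← CAlgH3.depth_congr (SDiv28.unitStalkEquiv (X := f.fiber t) _)]
    exact two_le_depth_fibre f hS t _ fun v hv => hdim v
      (by rw [← hv]; exact EGA43.Chevalley.apply_fiberι f t _) (by rwa [← hv])

/-- Invertibility passes between duals agreeing on an open off which the local rings have depth two. -/
theorem invertibleAt_dual_transfer {X : Scheme.{u}} [IsLocallyNoetherian X] {D₁ D₂ : X.Modules} (h₁ : Coh.IsCoh D₁)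
    (h₂ : Coh.IsCoh D₂) (W : X.Opens) (e : (RefHull.dual D₁).restrict W.ι ≅ (RefHull.dual D₂).restrict W.ι) (x : X)
    (hdep : ∀ v : X, v ⤳ x → v ∉ W → (2 : ℕ∞) ≤ _root_.LocCoh.depth (X.presheaf.stalk v) (X.presheaf.stalk v))
    (h : RelCanon.InvertibleAt (RefHull.dual D₁) x) : RelCanon.InvertibleAt (RefHull.dual D₂) x := by
  have c₁ := RefHullLib.isCoh_dual h₁ (Coherent.isCoh_structureModule X)
  have c₂ := RefHullLib.isCoh_dual h₂ (Coherent.isCoh_structureModule X)
  obtain ⟨a⟩ := nonempty_stalk_equiv_of_restrict c₁ c₂ W e x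
    (fun v hv hvW => two_le_depth_dual h₁ v (hdep v hv hvW)) (fun v hv hvW => two_le_depth_dual h₂ v (hdep v hv hvW))
  obtain ⟨b⟩ := exists_stalk_equiv_of_invertibleAt h
  exact invertibleAt_of_stalk_equiv c₂ x (a.symm.trans b)

/-- Powers of powers on an open where the module is invertible. -/
theorem nonempty_powPow_on {X : Scheme.{u}} [IsLocallyNoetherian X] (W : X.Opens) (L : X.Modules)
    (hL : ∀ x : X, x ∈ W → RelCanon.InvertibleAt L x) (a b : ℕ) :
    Nonempty ((CohB1.tensorPow (CohB1.tensorPow L a) b).restrict W.ι ≅ (CohB1.tensorPow L (a * b)).restrict W.ι) := by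
  obtain ⟨e1⟩ := nonempty_restrict_tensorPow W (CohB1.tensorPow L a) b
  obtain ⟨e2⟩ := nonempty_restrict_tensorPow W L a
  obtain ⟨e3⟩ := nonempty_tensorPow_iso e2 b
  obtain ⟨e4, -⟩ := AmpleLib.exists_powPowIso (isInvertible_restrict W hL) a b
  obtain ⟨e5⟩ := nonempty_restrict_tensorPow W L (a * b)
  exact ⟨e1 ≪≫ e3 ≪≫ e4 ≪≫ e5.symm⟩

/-- Double duals agree on an open where the modules are invertible and agree. -/
theorem nonempty_ddual_on {X : Scheme.{u}} [IsLocallyNoetherian X] (W : X.Opens) {T₁ T₂ : X.Modules}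
    (h₁ : Coh.IsCoh T₁) (h₂ : Coh.IsCoh T₂) (i₁ : ∀ x : X, x ∈ W → RelCanon.InvertibleAt T₁ x)
    (e : T₁.restrict W.ι ≅ T₂.restrict W.ι) :
    Nonempty ((RefHull.ddual T₁).restrict W.ι ≅ (RefHull.ddual T₂).restrict W.ι) := by
  obtain ⟨a⟩ := nonempty_restrict_ddual W h₁ i₁
  obtain ⟨b⟩ := nonempty_restrict_ddual W h₂ fun x hx => invertibleAt_of_restrict_iso W e.symm x hx (i₁ x hx)
  exact ⟨a.symm ≪≫ e ≪≫ b⟩

/-- **A root of an invertible power which is invertible on the fibre is invertible**, for exponents prime to the residue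
characteristic. -/
theorem invertibleAt_refPow_of_power (hS : RelCanon.IsSkMor f 2) (t : T) (z : f.fiber t) (Yo : X.Opens)
    (hdim : ∀ x : X, f x = t → x ∉ Yo →
      (2 : WithBot ℕ∞) ≤ ringKrullDim ((f.fiber (f x)).presheaf.stalk (f.asFiber x)))
    (L : X.Modules) (hL : Coh.IsCoh L) (hLi : ∀ x : X, x ∈ Yo → RelCanon.InvertibleAt L x)
    (Lt : (f.fiber t).Modules) (hLt : Coh.IsCoh Lt)
    (eL : ((Scheme.Modules.pullback (f.fiberι t)).obj L).restrict (f.fiberι t ⁻¹ᵁ Yo).ι ≅
      Lt.restrict (f.fiberι t ⁻¹ᵁ Yo).ι) (r k : ℕ) (hk : ((k + 1 : ℕ) : T.residueField t) ≠ 0)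
    (hrt : RelCanon.InvertibleAt (RelCanon.refPowZ Lt r) z)
    (hm : RelCanon.InvertibleAt (RelCanon.refPowZ L (r * (k + 1) : ℕ)) (f.fiberι t z)) :
    RelCanon.InvertibleAt (RelCanon.refPowZ L r) (f.fiberι t z) := by
  haveI : LocallyOfFiniteType (f.fiberToSpecResidueField t) :=
    MorphismProperty.pullback_snd _ _ inferInstance
  haveI : IsLocallyNoetherian (f.fiber t) := LocallyOfFiniteType.isLocallyNoetherian (f.fiberToSpecResidueField t)
  let ι := f.fiberι t
  let U' := ι ⁻¹ᵁ Yo
  let D := CohB1.tensorPow L r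
  have hD : Coh.IsCoh D := isCoh_tensorPow hL r
  have hDi := invertibleAt_tensorPow Yo L hLi r
  have hdep := two_le_depth_total f hS t z Yo hdim
  -- the power
  have hP : RelCanon.InvertibleAt (RefHull.ddual (CohB1.tensorPow D (k + 1))) (ι z) := by
    obtain ⟨e⟩ := nonempty_powPow_on Yo L hLi r (k + 1)
    obtain ⟨e'⟩ := nonempty_ddual_on Yo (isCoh_tensorPow hD (k + 1)) (isCoh_tensorPow hL (r * (k + 1)))
      (invertibleAt_tensorPow Yo D hDi (k + 1)) e
    exact invertibleAt_dual_transfer (RefHullLib.isCoh_dual (isCoh_tensorPow hL (r * (k + 1))) (Coherent.isCoh_structureModule X))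
      (RefHullLib.isCoh_dual (isCoh_tensorPow hD (k + 1)) (Coherent.isCoh_structureModule X)) Yo e'.symm _ hdep hm
  -- the fibre
  have hfib : RelCanon.InvertibleAt (RefHull.dual ((Scheme.Modules.pullback ι).obj D)) z := by
    let T' := CohB1.tensorPow Lt r
    have hT' : Coh.IsCoh T' := isCoh_tensorPow hLt r
    have hLti : ∀ v : f.fiber t, v ∈ U' → RelCanon.InvertibleAt Lt v := fun v hv =>
      invertibleAt_of_restrict_iso U' eL.symm v hv (invertibleAt_pullback ι v (hLi _ hv))
    have hT'i := invertibleAt_tensorPow U' Lt hLti r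
    have hD' : Coh.IsCoh ((Scheme.Modules.pullback ι).obj D) :=
      ⟨haveI := hD.1; EGA43.InjFibre.isQCoh_pullback ι D, Coherent.isFT_pullback_qcoh ι hD.1 hD.2⟩
    obtain ⟨a⟩ := nonempty_restrict_ddual U' hT' hT'i
    obtain ⟨b⟩ := nonempty_pull_tensorPow ι L r
    obtain ⟨c⟩ := nonempty_restrict_tensorPow U' ((Scheme.Modules.pullback ι).obj L) r
    obtain ⟨c'⟩ := nonempty_restrict_tensorPow U' Lt r
    obtain ⟨eLr⟩ := nonempty_tensorPow_iso eL r
    let e : ((Scheme.Modules.pullback ι).obj D).restrict U'.ι ≅ (RefHull.ddual T').restrict U'.ι :=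
      (Scheme.Modules.restrictFunctor U'.ι).mapIso b ≪≫ c ≪≫ eLr ≪≫ c'.symm ≪≫ a
    obtain ⟨d1⟩ := nonempty_dual_restrict U' ((Scheme.Modules.pullback ι).obj D)
    obtain ⟨d2⟩ := nonempty_dual_restrict U' (RefHull.ddual T')
    obtain ⟨d3⟩ := nonempty_dual_iso e
    exact invertibleAt_dual_transfer (isCoh_refPowNat hLt r) hD' U' (d2 ≪≫ d3.symm ≪≫ d1.symm) z
      (fun v _ hv => two_le_depth_fibre f hS t v fun x hx => hdim x
        (by rw [← hx]; exact EGA43.Chevalley.apply_fiberι f t v) (by rwa [← hx]))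
      (invertibleAt_dual (isCoh_refPowNat hLt r) z hrt)
  exact invertibleAt_dual (RefHullLib.isCoh_dual hD (Coherent.isCoh_structureModule X)) _
    (invertibleAt_dual_of_root f hS t z Yo hdim D hD hDi hfib k hk hP)

end Groth.Agent.DualLib.RelTop
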