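import Groth.Agent.DualLib.RelTop.ArbPow
import Groth.Agent.CommAlg6.SupportDimSurj
import Groth.Agent.Dual22Lib.GorMor

/-!
# `(S_k)` of modules ascends along extensions of the base field
-/

set_option autoImplicit false
set_option backward.isDefEq.respectTransparency false
set_option linter.style.haveILetI false
set_option linter.unusedSectionVars false
set_option maxHeartbeats 800000

universe u

open CategoryTheory CategoryTheory.Limits AlgebraicGeometry TopologicalSpace IsLocalRing TensorProduct

namespace Groth.Agent.DualLib.RelTop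

open Groth.Agent EGA43.DimFormula

section Points

variable {X : Scheme.{u}} [IsLocallyNoetherian X]

/-- Dimension of the support at a generization. -/
theorem supportDim_toPt (F : X.Modules) (hF : Coh.IsCoh F) (y : X) (q : PrimeSpectrum (X.presheaf.stalk y)) :
    Module.supportDim (Localization.AtPrime q.asIdeal) (LocalizedModule q.asIdeal.primeCompl (F.presheaf.stalk y)) =
      Module.supportDim (X.presheaf.stalk (toPt y q)) (F.presheaf.stalk (toPt y q)) := by
  let h := toPt_specializes y q
  letI := (X.presheaf.stalkSpecializes h).hom.toAlgebra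
  letI := Module.compHom (F.presheaf.stalk (toPt y q)) (X.presheaf.stalkSpecializes h).hom
  haveI : IsScalarTower (X.presheaf.stalk y) (X.presheaf.stalk (toPt y q)) (F.presheaf.stalk (toPt y q)) :=
    IsScalarTower.of_algebraMap_smul fun _ _ => rfl
  obtain ⟨hl, ρ, hρ⟩ := stalk_loc F hF.1 y q
  haveI : IsLocalization.AtPrime (X.presheaf.stalk (toPt y q)) q.asIdeal := hl
  haveI := hρ
  haveI : Module.Finite (X.presheaf.stalk (toPt y q)) (F.presheaf.stalk (toPt y q)) := AssSch12.finite_stalk hF _
  let B := Localization.AtPrime q.asIdeal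
  let e := IsLocalization.algEquiv q.asIdeal.primeCompl B (X.presheaf.stalk (toPt y q))
  let _ : Algebra B (X.presheaf.stalk (toPt y q)) := e.toRingEquiv.toRingHom.toAlgebra
  let _ : Module B (F.presheaf.stalk (toPt y q)) := Module.compHom (F.presheaf.stalk (toPt y q)) e.toRingEquiv.toRingHom
  haveI : IsScalarTower B (X.presheaf.stalk (toPt y q)) (F.presheaf.stalk (toPt y q)) :=
    IsScalarTower.of_algebraMap_smul fun _ _ => rfl
  haveI : IsScalarTower (X.presheaf.stalk y) B (F.presheaf.stalk (toPt y q)) :=
    IsScalarTower.of_algebraMap_smul fun r m => by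
      show e (algebraMap (X.presheaf.stalk y) B r) • m = r • m
      rw [e.commutes]
      rfl
  refine (Module.supportDim_eq_of_equiv ((IsLocalizedModule.iso q.asIdeal.primeCompl ρ).extendScalarsOfIsLocalization
    q.asIdeal.primeCompl B)).trans ?_
  exact (CommAlg6.supportDim_of_surjective (R := B) (S := X.presheaf.stalk (toPt y q)) e.surjective _).symm

/-- `(S_k)` at a point gives the inequality at each generization. -/
theorem min_le_depth_of_skAt {k : ℕ} {F : X.Modules} (hF : Coh.IsCoh F) {z : X} (h : RelCanon.SkAt k F z) (w : X)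
    (hw : w ⤳ z) :
    min (k : WithBot ℕ∞) (Module.supportDim (X.presheaf.stalk w) (F.presheaf.stalk w)) ≤
      ((_root_.LocCoh.depth (X.presheaf.stalk w) (F.presheaf.stalk w) : ℕ∞) : WithBot ℕ∞) := by
  obtain ⟨q, rfl⟩ := exists_toPt hw
  have h1 := h q.asIdeal
  rwa [supportDim_toPt F hF z q, depth_toPt F hF.1 z q] at h1

/-- `(S_k)` at a point from the inequality at each generization. -/
theorem skAt_of_points {k : ℕ} {F : X.Modules} (hF : Coh.IsCoh F) (z : X)
    (h : ∀ w : X, w ⤳ z → min (k : WithBot ℕ∞) (Module.supportDim (X.presheaf.stalk w) (F.presheaf.stalk w)) ≤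
      ((_root_.LocCoh.depth (X.presheaf.stalk w) (F.presheaf.stalk w) : ℕ∞) : WithBot ℕ∞)) :
    RelCanon.SkAt k F z := by
  intro p hp
  have h1 := h _ (toPt_specializes z ⟨p, hp⟩)
  rwa [← supportDim_toPt F hF z ⟨p, hp⟩, ← depth_toPt F hF.1 z ⟨p, hp⟩] at h1

end Points

section Field

variable {k k' : Type u} [Field k] [Field k'] [Algebra k k'] {X X' : Scheme.{u}} (q : X' ⟶ X)
  (f : X ⟶ Spec (CommRingCat.of k)) [LocallyOfFiniteType f] (f' : X' ⟶ Spec (CommRingCat.of k'))
  (hsq : IsPullback q f' f (Spec.map (CommRingCat.ofHom (algebraMap k k'))))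

include hsq

/-- The fibres of an extension of the base field are Gorenstein, hence Cohen–Macaulay. -/
theorem gor_closedFibre (v : X') : _root_.LocCoh.IsGorensteinLocalRing
    (X'.presheaf.stalk v ⧸ (maximalIdeal (X.presheaf.stalk (q v))).map (q.stalkMap v).hom) := by
  obtain ⟨e⟩ := CAlgH.CIScheme.fiberStalk_equiv q v
  refine (DualLib.GorFlat.gor_congr e).2 ?_
  let x := q v
  let φ : CommRingCat.of k ⟶ X.residueField x := Spec.preimage (X.fromSpecResidueField x ≫ f)
  letI : Algebra k (X.residueField x) := φ.hom.toAlgebra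
  haveI : Algebra.EssFiniteType k (X.residueField x) := Dual22Lib.GorMor.essFiniteType_residueField f x
  have hφ : Spec.map (CommRingCat.ofHom (algebraMap k (X.residueField x))) = X.fromSpecResidueField x ≫ f :=
    Spec.map_preimage _
  have hF : IsPullback (q.fiberι x ≫ f') (q.fiberToSpecResidueField x)
      (Spec.map (CommRingCat.ofHom (algebraMap k k'))) (Spec.map (CommRingCat.ofHom (algebraMap k (X.residueField x)))) := by
    rw [hφ]
    exact (IsPullback.of_hasPullback q (X.fromSpecResidueField x)).paste_horiz hsq.flip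
  let e' : q.fiber x ≅ Spec (CommRingCat.of ((X.residueField x) ⊗[k] k')) :=
    hF.flip.isoPullback ≪≫ pullbackSpecIso k (X.residueField x) k'
  refine (AlgSpLib.gor_stalk_of_iso e' (q.asFiber v)).2 ?_
  let p := PrimeSpectrum.asIdeal (R := (X.residueField x) ⊗[k] k') (e'.hom (q.asFiber v))
  exact (DualLib.GorFlat.gor_congr (IsLocalization.algEquiv p.primeCompl
    ((Spec.structureSheaf ((X.residueField x) ⊗[k] k')).presheaf.stalk (e'.hom (q.asFiber v))) _).toRingEquiv).2
    ((DualLib.GorRing.gorensteinRing_congr (Algebra.TensorProduct.comm k k' (X.residueField x)).toRingEquiv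
      (DualLib.GorRing.gorensteinRing_field_tensor_fg k')).isGorensteinLocalRing_localization p)

/-- **`(S_k)` ascends along extensions of the base field.** -/
theorem skAt_pullback_field {n : ℕ} {N : X.Modules} (hN : Coh.IsCoh N) (v : X') (h : RelCanon.SkAt n N (q v)) :
    RelCanon.SkAt n ((Scheme.Modules.pullback q).obj N) v := by
  haveI : IsLocallyNoetherian X := LocallyOfFiniteType.isLocallyNoetherian f
  haveI : LocallyOfFiniteType f' := MorphismProperty.of_isPullback hsq ‹_›
  haveI : IsLocallyNoetherian X' := LocallyOfFiniteType.isLocallyNoetherian f'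
  haveI : Flat (Spec.map (CommRingCat.ofHom (algebraMap k k'))) := by
    rw [Flat.SpecMap_iff]
    exact RingHom.flat_algebraMap_iff.2 inferInstance
  haveI : Flat q := MorphismProperty.of_isPullback hsq.flip ‹_›
  have hP : Coh.IsCoh ((Scheme.Modules.pullback q).obj N) :=
    ⟨haveI := hN.1; EGA43.InjFibre.isQCoh_pullback q N, Coherent.isFT_pullback_qcoh q hN.1 hN.2⟩
  refine skAt_of_points hP v fun w hw => ?_
  have h1 := min_le_depth_of_skAt hN h (q w) (hw.map q.continuous)
  let R := X.presheaf.stalk (q w)
  let S := X'.presheaf.stalk w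
  let M := N.presheaf.stalk (q w)
  letI : Algebra R S := (q.stalkMap w).hom.toAlgebra
  haveI : Module.Flat R S := Flat.stalkMap q w
  haveI : IsLocalHom (algebraMap R S) := inferInstanceAs (IsLocalHom (q.stalkMap w).hom)
  haveI : Module.Finite R M := AssSch12.finite_stalk hN (q w)
  let e : ((Scheme.Modules.pullback q).obj N).presheaf.stalk w ≃ₗ[S] S ⊗[R] M :=
    ((ModStalk.pullbackStalkIso q w).app N).toLinearEquiv
  rw [Module.supportDim_eq_of_equiv e, CAlgH3.depth_congr e, CommAlg6.depth_tensor_eq (A := R) (B := S) S M]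
  rcases subsingleton_or_nontrivial M with hM | hM
  · rw [(Module.supportDim_eq_bot_iff_subsingleton (R := S) (M := S ⊗[R] M)).2 inferInstance]
    simp
  let I := (maximalIdeal R).map (algebraMap R S)
  let eI : (S ⧸ (I • (⊤ : Submodule S S))) ≃ₗ[S] S ⧸ I :=
    Submodule.quotEquivOfEq _ _ (by rw [smul_eq_mul, Ideal.mul_top])
  haveI hg := gor_closedFibre q f f' hsq w
  haveI hcm : _root_.LocCoh.IsCohenMacaulayLocalRing (S ⧸ I) := Groth.Agent.LocCoh.isCohenMacaulayLocalRing_of_gorenstein
  have hF := hcm.supportDim_eq_depth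
  haveI : Nontrivial (S ⧸ I) := inferInstance
  rw [CommAlg6.supportDim_tensor_eq (A := R) (B := S) S M, Module.supportDim_eq_of_equiv eI,
    CAlgH3.depth_congr eI, ← CommAlg6.supportDim_of_surjective (R := S) (S := S ⧸ I) Ideal.Quotient.mk_surjective,
    ← CAlgH3.depth_of_surjective (R := S) (S := S ⧸ I) Ideal.Quotient.mk_surjective, hF]
  obtain ⟨a, ha⟩ : ∃ a : ℕ∞, Module.supportDim R M = a :=
    ⟨_, (WithBot.coe_unbot _ (Module.supportDim_ne_bot_of_nontrivial (R := R) (M := M))).symm⟩
  exact CommAlg6.sk_add (b := _root_.LocCoh.depth (S ⧸ I) (S ⧸ I)) ha rfl rfl h1 (min_le_right _ _)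

end Field

end Groth.Agent.DualLib.RelTop
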