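import Groth.Agent.DualLib.RelTop.CokerFlatIff
import Groth.Agent.EGA43.DvrCrit.Main
import Groth.Agent.Desc19b.FlatOverBC
import Mathlib.AlgebraicGeometry.Pullbacks
import Groth.Prelude.Def_FlatCA

/-!
# Flatness over both closed points, on the tensor product of the local rings
-/

set_option autoImplicit false
set_option backward.isDefEq.respectTransparency false
set_option linter.style.haveILetI false
set_option linter.unusedSectionVars false
set_option maxHeartbeats 1000000

universe u

open CategoryTheory CategoryTheory.Limits AlgebraicGeometry IsLocalRing TensorProduct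

namespace Groth.Agent.DualLib.RelTop

open Groth.Agent

/-- The stalk of a pullback in terms of a named point and its ring map. -/
theorem exists_stalk_pullback {X Y : Scheme.{u}} (g : X ⟶ Y) (z : X) (x : Y) (hx : g z = x) :
    ∃ β : (Y.presheaf.stalk x : Type u) →+* X.presheaf.stalk z, IsLocalHom β ∧
      Spec.map (CommRingCat.ofHom β) ≫ Y.fromSpecStalk x = X.fromSpecStalk z ≫ g ∧
      ∀ F : Y.Modules, letI := β.toAlgebra
        Nonempty (((Scheme.Modules.pullback g).obj F).presheaf.stalk z ≃ₗ[X.presheaf.stalk z]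
          X.presheaf.stalk z ⊗[Y.presheaf.stalk x] F.presheaf.stalk x) := by
  subst hx
  exact ⟨(g.stalkMap z).hom, inferInstanceAs (IsLocalHom (g.stalkMap z).hom),
    Scheme.SpecMap_stalkMap_fromSpecStalk g,
    fun F => ⟨((ModStalk.pullbackStalkIso g z).app F).toLinearEquiv⟩⟩

variable {A : Type u} [CommRing A] {Y : Scheme.{u}} (f : Y ⟶ Spec (CommRingCat.of A)) (y : Y)

/-- The ring map from the base to a local ring. -/
noncomputable def baseHom : A →+* Y.presheaf.stalk y := (Spec.preimage (Y.fromSpecStalk y ≫ f)).hom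

theorem specMap_baseHom : Spec.map (CommRingCat.ofHom (baseHom f y)) = Y.fromSpecStalk y ≫ f :=
  Spec.map_preimage _

theorem isLocalHom_baseHom [IsLocalRing A] (hy : f y = closedPoint A) : IsLocalHom (baseHom f y) := by
  refine ((local_hom_TFAE (baseHom f y)).out 0 4 rfl rfl).2 ?_
  have h : Spec.map (CommRingCat.ofHom (baseHom f y)) (closedPoint (Y.presheaf.stalk y)) = closedPoint A := by
    rw [specMap_baseHom, Scheme.Hom.comp_apply]
    exact (congrArg f Scheme.fromSpecStalk_closedPoint).trans hy
  exact congrArg PrimeSpectrum.asIdeal h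

variable {B : Type u} [CommRing B] [IsLocalRing B] [Algebra A B] {Y' : Scheme.{u}} (f' : Y' ⟶ Spec (CommRingCat.of B))
  (p : Y' ⟶ Y) (hp : IsPullback p f' f (Spec.map (CommRingCat.ofHom (algebraMap A B))))
  [Algebra A (Y.presheaf.stalk y)] (hα : algebraMap A (Y.presheaf.stalk y) = baseHom f y)

include hp hα

/-- **Flatness at the points over `y` and the closed point, on `B ⊗ O_y`.** -/
theorem flat_pullback_iff_flatAt_tensor (F : Y.Modules) (C : Type u) [AddCommGroup C] [Module (Y.presheaf.stalk y) C]
    (eF : F.presheaf.stalk y ≃ₗ[Y.presheaf.stalk y] C) :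
    letI : Algebra (Y.presheaf.stalk y) (B ⊗[A] Y.presheaf.stalk y) := Algebra.TensorProduct.rightAlgebra
    (∀ y' : Y', p y' = y → f' y' = closedPoint B → FlatMod.IsFlatOverAt f' ((Scheme.Modules.pullback p).obj F) y') ↔
    ∀ (q : Ideal (B ⊗[A] Y.presheaf.stalk y)) [q.IsPrime],
      (maximalIdeal B).map (algebraMap B (B ⊗[A] Y.presheaf.stalk y)) ⊔
        (maximalIdeal (Y.presheaf.stalk y)).map (algebraMap (Y.presheaf.stalk y) (B ⊗[A] Y.presheaf.stalk y)) ≤ q →
      FlatCA.FlatAt B q ((B ⊗[A] Y.presheaf.stalk y) ⊗[Y.presheaf.stalk y] C) := by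
  let O := Y.presheaf.stalk y
  letI : Algebra O (B ⊗[A] O) := Algebra.TensorProduct.rightAlgebra
  let W := B ⊗[A] O
  let inl : CommRingCat.of B ⟶ CommRingCat.of W := CommRingCat.ofHom (algebraMap B W)
  let inr : CommRingCat.of O ⟶ CommRingCat.of W := CommRingCat.ofHom (algebraMap O W)
  have hsq0 : IsPullback (Spec.map inr) (Spec.map inl) (Spec.map (CommRingCat.ofHom (algebraMap A O)))
      (Spec.map (CommRingCat.ofHom (algebraMap A B))) :=
    (isPullback_SpecMap_of_isPushout _ _ _ _ (CommRingCat.isPushout_tensorProduct A B O)).flip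
  have hw : (Spec.map inr ≫ Y.fromSpecStalk y) ≫ f = Spec.map inl ≫ Spec.map (CommRingCat.ofHom (algebraMap A B)) := by
    rw [Category.assoc, ← specMap_baseHom, ← hα]
    exact hsq0.w
  have hcp : Y.fromSpecStalk y (closedPoint O) = y := Scheme.fromSpecStalk_closedPoint
  let j : Spec (CommRingCat.of W) ⟶ Y' := hp.lift (Spec.map inr ≫ Y.fromSpecStalk y) (Spec.map inl) hw
  have hj1 : j ≫ p = Spec.map inr ≫ Y.fromSpecStalk y := hp.lift_fst _ _ _
  have hj2 : j ≫ f' = Spec.map inl := hp.lift_snd _ _ _
  have hjsq : IsPullback j (Spec.map inr) p (Y.fromSpecStalk y) := by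
    refine IsPullback.of_right ?_ hj1 hp.flip
    rw [hj2, ← specMap_baseHom, ← hα]
    exact hsq0.flip
  haveI : Flat j := MorphismProperty.of_isPullback hjsq.flip (Props12.flat_fromSpecStalk y)
  -- the flatness at a point of `Spec W` over both closed points
  have key : ∀ z : Spec (CommRingCat.of W), Spec.map inr z = closedPoint O →
      (FlatMod.IsFlatOverAt f' ((Scheme.Modules.pullback p).obj F) (j z) ↔
        FlatCA.FlatAt B z.asIdeal (W ⊗[O] C)) := by
    intro z hzO
    let S := (Spec (CommRingCat.of W)).presheaf.stalk z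
    have hgz : (Spec.map inr ≫ Y.fromSpecStalk y) z = y := by
      rw [Scheme.Hom.comp_apply, hzO]
      exact hcp
    obtain ⟨β, -, hβ, hG⟩ := exists_stalk_pullback (Spec.map inr ≫ Y.fromSpecStalk y) z y hgz
    have hβ' : β = ((StructureSheaf.toStalk (CommRingCat.of W) z).hom.comp (algebraMap O W)) := by
      have h1 : Spec.map (CommRingCat.ofHom β) =
          Spec.map (inr ≫ StructureSheaf.toStalk (CommRingCat.of W) z) := by
        rw [← cancel_mono (Y.fromSpecStalk y), hβ, Spec.fromSpecStalk_eq', Spec.map_comp, Category.assoc]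
      exact congrArg CommRingCat.Hom.hom (Spec.map_injective h1)
    subst hβ'
    letI : Algebra W S := (StructureSheaf.toStalk (CommRingCat.of W) z).hom.toAlgebra
    haveI : IsLocalization.AtPrime S z.asIdeal := StructureSheaf.IsLocalization.to_stalk (CommRingCat.of W) z
    letI : Algebra O S := ((StructureSheaf.toStalk (CommRingCat.of W) z).hom.comp (algebraMap O W)).toAlgebra
    haveI : IsScalarTower O W S := IsScalarTower.of_algebraMap_eq' rfl
    letI : Algebra B S := ((StructureSheaf.toStalk (CommRingCat.of W) z).hom.comp (algebraMap B W)).toAlgebra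
    haveI : IsScalarTower B W S := IsScalarTower.of_algebraMap_eq' rfl
    obtain ⟨eG⟩ := hG F
    let G := (Scheme.Modules.pullback (Spec.map inr ≫ Y.fromSpecStalk y)).obj F
    let eS : G.presheaf.stalk z ≃ₗ[S] S ⊗[O] C := eG.trans (AlgebraTensorModule.congr (LinearEquiv.refl S S) eF)
    haveI : IsLocalizedModule z.asIdeal.primeCompl (TensorProduct.mk W S (W ⊗[O] C) 1) :=
      (isLocalizedModule_iff_isBaseChange z.asIdeal.primeCompl S _).2 (TensorProduct.isBaseChange W (W ⊗[O] C) S)
    let eL : LocalizedModule z.asIdeal.primeCompl (W ⊗[O] C) ≃ₗ[W] S ⊗[O] C :=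
      (IsLocalizedModule.iso z.asIdeal.primeCompl (TensorProduct.mk W S (W ⊗[O] C) 1)).trans
        ((AlgebraTensorModule.cancelBaseChange O W S S C).restrictScalars W)
    rw [Props12.isFlatOverAt_pullback_iff j f' _ z (Flat.stalkMap j z)]
    refine Iff.trans ?_ (show Module.Flat B (S ⊗[O] C) ↔ Module.Flat B (LocalizedModule z.asIdeal.primeCompl (W ⊗[O] C)) from
      ⟨fun _ => Module.Flat.of_linearEquiv (eL.restrictScalars B),
        fun _ => Module.Flat.of_linearEquiv (eL.restrictScalars B).symm⟩)
    have step : ∀ (g : Spec (CommRingCat.of W) ⟶ Spec (CommRingCat.of B)) (G' : (Spec (CommRingCat.of W)).Modules),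
        g = Spec.map inl → (G' ≅ G) → (FlatMod.IsFlatOverAt g G' z ↔ Module.Flat B (S ⊗[O] C)) := by
      rintro g G' rfl i
      let w := Spec.map inl z
      let V := (Spec (CommRingCat.of B)).presheaf.stalk w
      let q : PrimeSpectrum B := w
      letI : Algebra B V := (StructureSheaf.toStalk B q).hom.toAlgebra
      haveI : IsLocalization.AtPrime V q.asIdeal := StructureSheaf.IsLocalization.to_stalk (CommRingCat.of B) q
      letI : Algebra V S := ((Spec.map inl).stalkMap z).hom.toAlgebra
      haveI : IsScalarTower B V S := IsScalarTower.of_algebraMap_eq' (by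
        have := congrArg CommRingCat.Hom.hom (stalkMap_toStalk inl z)
        exact this.symm)
      let e : G'.presheaf.stalk z ≃ₗ[S] S ⊗[O] C :=
        ((DerSch.stalkFunctor _ z).mapIso i).toLinearEquiv.trans eS
      letI := FlatMod.moduleStalkOver (Spec.map inl) G' z
      haveI : IsScalarTower V S (G'.presheaf.stalk z) := IsScalarTower.of_compHom _ _ _
      haveI : IsScalarTower B V (S ⊗[O] C) := inferInstance
      rw [← Module.flat_iff_of_isLocalization (R := B) V q.asIdeal.primeCompl]
      exact ⟨fun h => haveI : Module.Flat V (G'.presheaf.stalk z) := h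
          Module.Flat.of_linearEquiv (e.restrictScalars V).symm,
        fun _ => Module.Flat.of_linearEquiv (e.restrictScalars V)⟩
    exact step _ _ hj2 ((Scheme.Modules.pullbackComp j p).app F ≪≫ (Scheme.Modules.pullbackCongr hj1).app F)
  have hcl : ∀ z : Spec (CommRingCat.of W), (maximalIdeal O).map (algebraMap O W) ≤ z.asIdeal →
      Spec.map inr z = closedPoint O := fun z hz =>
    PrimeSpectrum.ext (le_antisymm (le_maximalIdeal (Ideal.IsPrime.comap _).ne_top) (Ideal.map_le_iff_le_comap.1 hz))
  constructor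
  · intro H q _ hq
    let z : Spec (CommRingCat.of W) := ⟨q, ‹_›⟩
    refine (key z (hcl z (le_trans le_sup_right hq))).1 (H _ ?_ ?_)
    · rw [← Scheme.Hom.comp_apply, hj1, Scheme.Hom.comp_apply, hcl z (le_trans le_sup_right hq)]
      exact hcp
    · rw [← Scheme.Hom.comp_apply, hj2]
      exact PrimeSpectrum.ext (le_antisymm (le_maximalIdeal (Ideal.IsPrime.comap _).ne_top)
        (Ideal.map_le_iff_le_comap.1 (le_trans le_sup_left hq)))
  · intro H y' hy hy'
    obtain ⟨z, hz1, hz2⟩ := Scheme.exists_preimage_of_isPullback hjsq y' (closedPoint O)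
      (hy.trans hcp.symm)
    subst hz1
    refine (key z hz2).2 (H z.asIdeal (sup_le (Ideal.map_le_iff_le_comap.2 ?_) (Ideal.map_le_iff_le_comap.2 ?_)))
    · have h : Spec.map inl z = closedPoint B := by rw [← hj2, Scheme.Hom.comp_apply, hy']
      exact (congrArg PrimeSpectrum.asIdeal h).ge
    · exact (congrArg PrimeSpectrum.asIdeal hz2).ge

end Groth.Agent.DualLib.RelTop
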