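import Groth.Agent.DualLib.RelTop.GorChart

/-!
# Generation of top cohomology of a derived tensor product by the images of generators
-/

set_option autoImplicit false
set_option backward.isDefEq.respectTransparency false
set_option backward.defeqAttrib.useBackward true
set_option linter.style.haveILetI false
set_option linter.unusedSectionVars false
set_option synthInstance.maxHeartbeats 200000
set_option maxHeartbeats 1000000

universe u

open CategoryTheory CategoryTheory.Limits AlgebraicGeometry
open Groth.Agent.DCat Groth.Agent.Dual6Lib.HomFlat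
open scoped TensorProduct

attribute [local instance] HasDerivedCategory.standard
attribute [-instance] Int.instConditionallyCompleteLinearOrder

namespace Groth.Agent.DualLib.RelTop

/-- Generation passes to the target of a surjection commuting with the maps. -/
theorem span_range_of_square {R : Type u} [CommRing R] {ι : Type*} {P P' Q Q' : ModuleCat.{u} R} (σ : ι → (P ⟶ Q))
    (σ' : ι → (P' ⟶ Q')) (a : P' ⟶ P) (b : Q' ⟶ Q) [Epi b] (h : ∀ i, σ' i ≫ b = a ≫ σ i)
    (hgen : Submodule.span R (⋃ i, Set.range (σ' i).hom) = ⊤) :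
    Submodule.span R (⋃ i, Set.range (σ i).hom) = ⊤ := by
  refine top_le_iff.1 ?_
  rw [← LinearMap.range_eq_top.2 ((ModuleCat.epi_iff_surjective b).1 ‹_›), ← Submodule.map_top, ← hgen,
    Submodule.map_span]
  refine Submodule.span_mono ?_
  rintro _ ⟨_, hy, rfl⟩
  obtain ⟨i, n, rfl⟩ := Set.mem_iUnion.1 hy
  exact Set.mem_iUnion.2 ⟨i, a n, (ConcreteCategory.congr_hom (h i) n).symm⟩

variable {X : Scheme.{u}}

/-- Generation passes to inverse images. -/
theorem span_range_pullback {W : Scheme.{u}} (h : W ⟶ X) (w : W) {ι : Type*} {P Q : X.Modules} (σ : ι → (P ⟶ Q))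
    (hgen : Submodule.span (X.presheaf.stalk (h w))
      (⋃ i, Set.range ((DerSch.stalkFunctor X (h w)).map (σ i)).hom) = ⊤) :
    Submodule.span (W.presheaf.stalk w)
      (⋃ i, Set.range ((DerSch.stalkFunctor W w).map ((Scheme.Modules.pullback h).map (σ i))).hom) = ⊤ := by
  let R := X.presheaf.stalk (h w)
  let S := W.presheaf.stalk w
  letI : Algebra R S := (h.stalkMap w).hom.toAlgebra
  let E := ModuleCat.extendScalars (h.stalkMap w).hom
  let St := DerSch.stalkFunctor X (h w)
  let θ := ModStalk.pullbackStalkIso h w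
  refine span_range_of_square _ (fun i => E.map (St.map (σ i))) (θ.inv.app P) (θ.inv.app Q)
    (fun i => θ.inv.naturality (σ i)) ?_
  let M : ModuleCat.{u} R := St.obj Q
  refine eq_top_iff.2 fun z hz₀ => ?_
  clear hz₀
  change S ⊗[R] M at z
  induction z using TensorProduct.induction_on with
  | zero => exact Submodule.zero_mem _
  | add a b ha hb => exact Submodule.add_mem _ ha hb
  | tmul s m =>
    have hm : m ∈ Submodule.span R (⋃ i, Set.range (St.map (σ i)).hom) := by
      rw [hgen]; trivial
    revert s
    induction hm using Submodule.span_induction with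
    | mem m hm =>
      intro s
      obtain ⟨i, n, rfl⟩ := Set.mem_iUnion.1 hm
      exact Submodule.subset_span (Set.mem_iUnion.2 ⟨i, (s ⊗ₜ[R] (show (St.obj P : Type u) from n)), rfl⟩)
    | zero => intro s; rw [TensorProduct.tmul_zero]; exact Submodule.zero_mem _
    | add a b _ _ ha hb => intro s; rw [TensorProduct.tmul_add]; exact Submodule.add_mem _ (ha s) (hb s)
    | smul p a _ ha => intro s; rw [← TensorProduct.smul_tmul]; exact ha _

open MonoidalCategory in
/-- Generation passes to tensor products. -/
theorem span_range_tensor (x : X) {ι : Type*} {P Q : X.Modules} (σ : ι → (P ⟶ Q)) (M : X.Modules)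
    (hgen : Submodule.span (X.presheaf.stalk x) (⋃ i, Set.range ((DerSch.stalkFunctor X x).map (σ i)).hom) = ⊤) :
    Submodule.span (X.presheaf.stalk x)
      (⋃ i, Set.range ((DerSch.stalkFunctor X x).map (((shT X).map (σ i)).app M)).hom) = ⊤ := by
  let St := DerSch.stalkFunctor X x
  let R := X.presheaf.stalk x
  haveI : Epi (ModStalk.stalkTensorIso x Q M).inv := inferInstance
  refine span_range_of_square _ (fun i => St.map (σ i) ▷ St.obj M) (ModStalk.stalkTensorIso x P M).inv
    (ModStalk.stalkTensorIso x Q M).inv (fun i => ?_) ?_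
  · rw [Iso.comp_inv_eq, Category.assoc]
    refine ((Iso.inv_comp_eq _).2 ?_).symm
    exact stalkTensor_nat₁ x (σ i) M
  let N : ModuleCat.{u} R := St.obj Q
  let N' : ModuleCat.{u} R := St.obj M
  refine eq_top_iff.2 fun z hz₀ => ?_
  clear hz₀
  change N ⊗[R] N' at z
  induction z using TensorProduct.induction_on with
  | zero => exact Submodule.zero_mem _
  | add a b ha hb => exact Submodule.add_mem _ ha hb
  | tmul q m =>
    have hq : q ∈ Submodule.span R (⋃ i, Set.range (St.map (σ i)).hom) := by
      rw [hgen]; trivial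
    induction hq using Submodule.span_induction with
    | mem q hq =>
      obtain ⟨i, n, rfl⟩ := Set.mem_iUnion.1 hq
      exact Submodule.subset_span (Set.mem_iUnion.2 ⟨i, ((show (St.obj P : Type u) from n) ⊗ₜ[R] m), rfl⟩)
    | zero => rw [TensorProduct.zero_tmul]; exact Submodule.zero_mem _
    | add a b _ _ ha hb => rw [TensorProduct.add_tmul]; exact Submodule.add_mem _ ha hb
    | smul p a _ ha => rw [← TensorProduct.smul_tmul']; exact Submodule.smul_mem _ p ha

/-- Generation passes to the top cohomology of the tensor product with a complex bounded above. -/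
theorem span_range_top_tot (x : X) {ι : Type*} {P Q : X.Modules} (σ : ι → (P ⟶ Q))
    (N : CochainComplex X.Modules ℤ) (b : ℤ) (hN : ∀ n, b < n → IsZero (N.X n))
    (hgen : Submodule.span (X.presheaf.stalk x) (⋃ i, Set.range ((DerSch.stalkFunctor X x).map (σ i)).hom) = ⊤) :
    Submodule.span (X.presheaf.stalk x)
      (⋃ i, Set.range ((DerSch.stalkFunctor X x).map (HomologicalComplex.homologyMap
        (totMap₁ (shT X) ((HomologicalComplex.single X.Modules (ComplexShape.up ℤ) 0).map (σ i)) N) b)).hom) = ⊤ := by
  let sX := HomologicalComplex.single X.Modules (ComplexShape.up ℤ) 0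
  let T : X.Modules → CochainComplex X.Modules ℤ := fun F => tot (shT X) (sX.obj F) N
  have hzero : ∀ (F : X.Modules) (p q : ℤ), (p ≠ 0 ∨ b < q) → IsZero (((shT X).obj ((sX.obj F).X p)).obj (N.X q)) :=
    fun F p q hpq => by
      rcases hpq with hp | hq
      · exact ((shT X).flip.obj (N.X q)).map_isZero (HomologicalComplex.isZero_single_obj_X _ _ _ _ hp)
      · exact ((shT X).obj ((sX.obj F).X p)).map_isZero (hN q hq)
  have hcyc : ∀ F : X.Modules, IsIso ((T F).iCycles b) := fun F => by
    refine (T F).isIso_iCycles b (b + 1) (by simp) (IsZero.eq_of_tgt ?_ _ _)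
    refine (IsZero.iff_id_eq_zero _).2 (HomologicalComplex.mapBifunctor.hom_ext fun p q h => ?_)
    refine (hzero F p q ?_).eq_of_src _ _
    have : p + q = b + 1 := h
    omega
  let c : ∀ F : X.Modules, ((shT X).obj F).obj (N.X b) ⟶ (T F).homology b := fun F =>
    ((shT X).map (HomologicalComplex.singleObjXSelf (ComplexShape.up ℤ) 0 F).inv).app (N.X b) ≫
      HomologicalComplex.ιMapBifunctor (sX.obj F) N (shT X) (ComplexShape.up ℤ) 0 b b (zero_add b) ≫
      (haveI := hcyc F; inv ((T F).iCycles b)) ≫ (T F).homologyπ b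
  haveI : ∀ F : X.Modules, Epi (c F) := fun F => by
    haveI := hcyc F
    haveI : Epi (HomologicalComplex.ιMapBifunctor (sX.obj F) N (shT X) (ComplexShape.up ℤ) 0 b b (zero_add b)) :=
      ⟨fun {Z} u v huv => HomologicalComplex.mapBifunctor.hom_ext fun p q h => by
        have h' : p + q = b := h
        by_cases hp : p = 0
        · subst hp
          obtain rfl : q = b := by omega
          exact huv
        · exact (hzero F p q (Or.inl hp)).eq_of_src _ _⟩
    infer_instance
  let St := DerSch.stalkFunctor X x
  haveI : Epi (St.map (c Q)) := inferInstance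
  refine span_range_of_square _ _ (St.map (c P)) (St.map (c Q)) (fun i => ?_) (span_range_tensor x σ (N.X b) hgen)
  rw [← St.map_comp, ← St.map_comp]
  congr 1
  haveI := hcyc P
  haveI := hcyc Q
  let m := totMap₁ (shT X) (sX.map (σ i)) N
  have h1 : HomologicalComplex.ιMapBifunctor (sX.obj P) N (shT X) (ComplexShape.up ℤ) 0 b b (zero_add b) ≫ m.f b =
      ((shT X).map ((sX.map (σ i)).f 0)).app (N.X b) ≫
        HomologicalComplex.ιMapBifunctor (sX.obj Q) N (shT X) (ComplexShape.up ℤ) 0 b b (zero_add b) := by
    rw [HomologicalComplex.ι_mapBifunctorMap]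
    simp
  have h2 : HomologicalComplex.cyclesMap m b ≫ (T Q).iCycles b = (T P).iCycles b ≫ m.f b :=
    HomologicalComplex.cyclesMap_i m b
  have h3 : inv ((T P).iCycles b) ≫ (T P).homologyπ b ≫ HomologicalComplex.homologyMap m b =
      m.f b ≫ inv ((T Q).iCycles b) ≫ (T Q).homologyπ b := by
    rw [HomologicalComplex.homologyπ_naturality, IsIso.inv_comp_eq, ← reassoc_of% h2, IsIso.hom_inv_id_assoc]
  have h4 : ((shT X).map (σ i)).app (N.X b) ≫
      ((shT X).map (HomologicalComplex.singleObjXSelf (ComplexShape.up ℤ) 0 Q).inv).app (N.X b) =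
      ((shT X).map (HomologicalComplex.singleObjXSelf (ComplexShape.up ℤ) 0 P).inv).app (N.X b) ≫
        ((shT X).map ((sX.map (σ i)).f 0)).app (N.X b) := by
    rw [← NatTrans.comp_app, ← NatTrans.comp_app, ← Functor.map_comp, ← Functor.map_comp]
    congr 2
  simp only [c, Category.assoc]
  rw [h3, reassoc_of% h1]
  erw [← reassoc_of% h4]

end Groth.Agent.DualLib.RelTop
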