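import Groth.Agent.Coherent.CohBC.Perf
import Groth.Agent.Coherent.CohBC.BaseChange
import Groth.Agent.H8Lim.FibreDimVanish

/-!
# Base change of functionals on top cohomology
-/

set_option autoImplicit false
set_option backward.isDefEq.respectTransparency false
set_option backward.defeqAttrib.useBackward true
set_option linter.style.haveILetI false
set_option maxHeartbeats 800000

universe u

open CategoryTheory CategoryTheory.Limits AlgebraicGeometry TensorProduct

namespace Groth.Agent.DualLib.RelTop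

open Groth.Agent.Coherent Groth.Agent.Coherent.CohBC

section Split

variable {A : Type u} [CommRing A] (L : CochainComplex (ModuleCat.{u} A) ℤ)

/-- In an exact range bounded above of a complex of projectives, cycles are direct summands. -/
theorem exists_retraction (b : ℤ) (hb : ∀ i, b < i → IsZero (L.X i)) [∀ i, Projective (L.X i)] (n : ℤ)
    (hex : ∀ i, n < i → IsZero (L.homology i)) :
    ∀ (k : ℕ) (i : ℤ), n ≤ i → b < i + k → ∃ ρ : L.X i ⟶ L.cycles i, L.iCycles i ≫ ρ = 𝟙 _ := by
  intro k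
  induction k with
  | zero =>
    intro i _ hi
    exact ⟨0, (cancel_mono (L.iCycles i)).1 ((hb i (by omega)).eq_of_tgt _ _)⟩
  | succ k ih =>
    intro i hni hi
    obtain ⟨ρ, hρ⟩ := ih (i + 1) (by omega) (by omega)
    haveI : Projective (L.cycles (i + 1)) := Retract.projective ⟨L.iCycles (i + 1), ρ, hρ⟩
    haveI : Epi (L.toCycles i (i + 1)) :=
      Preadditive.epi_of_isZero_cokernel' (CokernelCofork.ofπ _ (L.toCycles_comp_homologyπ i (i + 1)))
        (L.homologyIsCokernel i (i + 1) (by simp)) (hex (i + 1) (by omega))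
    let s := Projective.factorThru (𝟙 (L.cycles (i + 1))) (L.toCycles i (i + 1))
    have hs : s ≫ L.toCycles i (i + 1) = 𝟙 _ := Projective.factorThru_comp _ _
    refine ⟨L.liftCycles (𝟙 _ - L.toCycles i (i + 1) ≫ s) (i + 1) (by simp) ?_, ?_⟩
    · rw [Preadditive.sub_comp, Category.id_comp, Category.assoc, ← L.toCycles_i i (i + 1), ← Category.assoc s, hs,
        Category.id_comp, sub_self]
    · have h0 : L.iCycles i ≫ L.toCycles i (i + 1) = 0 := by
        rw [← cancel_mono (L.iCycles (i + 1)), Category.assoc, L.toCycles_i, L.iCycles_d, zero_comp]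
      rw [← cancel_mono (L.iCycles i), Category.assoc, HomologicalComplex.liftCycles_i, Category.id_comp,
        Preadditive.comp_sub, Category.comp_id, reassoc_of% h0, zero_comp, sub_zero]

/-- A functional on homology in the top degree comes from one on cochains. -/
theorem exists_cochain_functional (b : ℤ) (hb : ∀ i, b < i → IsZero (L.X i)) [∀ i, Projective (L.X i)] (n : ℤ)
    (hex : ∀ i, n < i → IsZero (L.homology i)) {M : ModuleCat.{u} A} (γ : L.homology n ⟶ M) :
    ∃ f : L.X n ⟶ M, L.d (n - 1) n ≫ f = 0 ∧ L.iCycles n ≫ f = L.homologyπ n ≫ γ := by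
  obtain ⟨ρ, hρ⟩ := exists_retraction L b hb n hex (b + 1 - n).toNat n le_rfl (by omega)
  refine ⟨ρ ≫ L.homologyπ n ≫ γ, ?_, by rw [reassoc_of% hρ]⟩
  rw [← L.toCycles_i (n - 1) n, Category.assoc, reassoc_of% hρ,
    ← Category.assoc, L.toCycles_comp_homologyπ, zero_comp]

end Split

section BC

variable {A₁ A : Type u} [CommRing A₁] [CommRing A] (φ : A₁ →+* A) (L : CochainComplex (ModuleCat.{u} A₁) ℤ)

/-- The base change of a functional on cochains killing coboundaries, with one of its values. -/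
theorem exists_homology_functional (n : ℤ) (f : L.X n ⟶ ModuleCat.of A₁ A₁) (hf : L.d (n - 1) n ≫ f = 0)
    (z : L.cycles n) :
    ∃ (γ : (bcL φ L).homology n ⟶ ModuleCat.of A A) (y : (bcL φ L).homology n), γ y = φ (f (L.iCycles n z)) := by
  letI := φ.toAlgebra
  let f' : (bcL φ L).X n ⟶ ModuleCat.of A A := ModuleCat.ofHom (X := A ⊗[A₁] L.X n) (Y := A)
    ((TensorProduct.AlgebraTensorModule.rid A₁ A A).toLinearMap ∘ₗ LinearMap.baseChange A f.hom)
  have hf' : (bcL φ L).d (n - 1) n ≫ f' = 0 := by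
    refine ModuleCat.hom_ext (LinearMap.ext fun x => ?_)
    induction x using TensorProduct.induction_on with
    | zero => simp
    | add u v hu hv => exact ((map_add _ u v).trans (congrArg₂ (· + ·) hu hv)).trans (add_zero _)
    | tmul c m =>
      show TensorProduct.AlgebraTensorModule.rid A₁ A A (c ⊗ₜ[A₁] f.hom ((L.d (n - 1) n).hom m)) = 0
      rw [show f.hom ((L.d (n - 1) n).hom m) = 0 from ConcreteCategory.congr_hom hf m, tmul_zero, map_zero]
  let Γ₀ : (bcL φ L).opcycles n ⟶ ModuleCat.of A A := (bcL φ L).descOpcycles f' (n - 1) (by simp) hf'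
  have hlift : (ModuleCat.extendScalars φ).map (L.iCycles n) ≫ (bcL φ L).d n (n + 1) = 0 := by
    show (ModuleCat.extendScalars φ).map (L.iCycles n) ≫ (ModuleCat.extendScalars φ).map (L.d n (n + 1)) = 0
    rw [← Functor.map_comp, L.iCycles_d, Functor.map_zero]
  let ℓ := (bcL φ L).liftCycles ((ModuleCat.extendScalars φ).map (L.iCycles n)) (n + 1) (by simp) hlift
  let w : (ModuleCat.extendScalars φ).obj (L.cycles n) := ((1 : A) ⊗ₜ[A₁] z : A ⊗[A₁] L.cycles n)
  refine ⟨(bcL φ L).homologyι n ≫ Γ₀, ((bcL φ L).homologyπ n) (ℓ w), ?_⟩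
  have key : ℓ ≫ (bcL φ L).homologyπ n ≫ (bcL φ L).homologyι n ≫ Γ₀ =
      (ModuleCat.extendScalars φ).map (L.iCycles n) ≫ f' := by
    rw [HomologicalComplex.homology_π_ι_assoc, HomologicalComplex.p_descOpcycles,
      ← Category.assoc, HomologicalComplex.liftCycles_i]
  refine (ConcreteCategory.congr_hom key w).trans ?_
  show TensorProduct.AlgebraTensorModule.rid A₁ A A ((1 : A) ⊗ₜ[A₁] f.hom ((L.iCycles n).hom z)) = _
  rw [TensorProduct.AlgebraTensorModule.rid_tmul, Algebra.smul_def, mul_one]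
  rfl

end BC

/-- Cohomology is the homology of the finite free complex. -/
noncomputable def hhL {A : Type u} [CommRing A] {X : Scheme.{u}} [X.Over (Spec (CommRingCat.of A))]
    {F : X.Modules} (D : PerfData A X F) (n : ℕ) : Coh.HH X F n ≃ₗ[A] D.L.homology (n : ℤ) :=
  haveI := D.finite
  haveI := D.isQCoh
  (hhCech A D.W D.hcov D.hW F n).trans
    ((unitTIso (cxA A D.W F) n).symm ≪≫ ((D.R.isoNat n).app (ModuleCat.of A A)).symm ≪≫
      unitTIso D.L (n : ℤ)).toLinearEquiv

/-- **Functionals on top cohomology base change, with their values.** -/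
theorem exists_functional_baseChange {A₁ A : Type u} [CommRing A₁] [IsNoetherianRing A₁] [CommRing A]
    (φ : A₁ →+* A) {X₁ X : Scheme.{u}} [X₁.Over (Spec (CommRingCat.of A₁))] [X.Over (Spec (CommRingCat.of A))]
    [IsProper (X₁ ↘ Spec (CommRingCat.of A₁))] (g : X ⟶ X₁)
    (hsq : IsPullback g (X ↘ Spec (CommRingCat.of A)) (X₁ ↘ Spec (CommRingCat.of A₁)) (Spec.map (CommRingCat.ofHom φ)))
    (n : ℕ) (hdim : ∀ z, topologicalKrullDim ↥((X₁ ↘ Spec (CommRingCat.of A₁)).fiber z) ≤ (n : WithBot ℕ∞))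
    (F : X₁.Modules) (hF : Coh.IsCoh F) (hfl : FlatMod.IsFlatOver (X₁ ↘ Spec (CommRingCat.of A₁)) F)
    (γ₁ : Coh.HH X₁ F n →ₗ[A₁] A₁) (x : Coh.HH X₁ F n) :
    ∃ (γ : Coh.HH X ((Scheme.Modules.pullback g).obj F) n →ₗ[A] A)
      (y : Coh.HH X ((Scheme.Modules.pullback g).obj F) n), γ y = φ (γ₁ x) := by
  haveI : IsNoetherianRing (CommRingCat.of A₁) := ‹IsNoetherianRing A₁›
  haveI := hF.1
  haveI : IsSeparated (X₁ ↘ Spec (CommRingCat.of A₁)) := inferInstance
  obtain ⟨D⟩ := nonempty_perfData F hF hfl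
  haveI : ∀ i, Projective (D.L.X i) := fun i => by
    haveI := (D.R.finFree i).2
    exact (IsProjective.iff_projective _).1 (Module.Projective.of_free (R := A₁) (P := D.L.X i))
  have hex : ∀ i : ℤ, (n : ℤ) < i → IsZero (D.L.homology i) := fun i hi => by
    lift i to ℕ using (by omega)
    haveI := H8Lim.subsingleton_HH_of_fibre_dim (X₁ ↘ Spec (CommRingCat.of A₁)) n hdim F i (by omega)
    haveI := (hhL D i).symm.toEquiv.subsingleton
    exact ModuleCat.isZero_of_subsingleton _
  let γ' : D.L.homology (n : ℤ) ⟶ ModuleCat.of A₁ A₁ := ModuleCat.ofHom (γ₁ ∘ₗ (hhL D n).symm.toLinearMap)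
  obtain ⟨f, hf, hfi⟩ := exists_cochain_functional D.L D.R.bound D.R.isZero_X (n : ℤ) hex γ'
  obtain ⟨z, hz⟩ := (ModuleCat.epi_iff_surjective (D.L.homologyπ (n : ℤ))).1 inferInstance (hhL D n x)
  obtain ⟨γ₂, y₂, hy⟩ := exists_homology_functional φ D.L (n : ℤ) f hf z
  let D' := PerfData.baseChange φ g hsq D hfl
  let e : Coh.HH X ((Scheme.Modules.pullback g).obj F) n ≃ₗ[A] (bcL φ D.L).homology (n : ℤ) := hhL D' n
  refine ⟨γ₂.hom ∘ₗ e.toLinearMap, e.symm y₂, ?_⟩
  rw [LinearMap.comp_apply, LinearEquiv.coe_coe, LinearEquiv.apply_symm_apply]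
  refine hy.trans (congrArg φ ?_)
  refine (ConcreteCategory.congr_hom hfi z).trans ?_
  show γ₁ ((hhL D n).symm ((D.L.homologyπ (n : ℤ)) z)) = γ₁ x
  rw [hz, LinearEquiv.symm_apply_apply]

end Groth.Agent.DualLib.RelTop
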