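import Groth.Agent.DualLib.RelTop.RootFibre
import Groth.Agent.DualLib.RelTop.InvStalk
import Groth.Agent.PicLib.PicGroup
import Groth.Agent.ModStalk.Tensor
import Groth.Agent.Coherent.FinitePres

/-!
# Tools for comparing a virtual canonical sheaf with the canonical one
-/

set_option autoImplicit false
set_option backward.isDefEq.respectTransparency false
set_option linter.style.haveILetI false
set_option linter.unusedSectionVars false

universe u

open CategoryTheory CategoryTheory.Limits AlgebraicGeometry IsLocalRing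
open scoped TensorProduct

namespace Groth.Agent.DualLib.RelTop

open Groth.Agent PicLib

variable {X : Scheme.{u}}

/-- The set where a module is invertible is open. -/
theorem isOpen_invertibleLocus (F : X.Modules) : IsOpen {x : X | RelCanon.InvertibleAt F x} := by
  refine isOpen_iff_forall_mem_open.2 fun x hx => ?_
  obtain ⟨V, hxV, e⟩ := hx
  exact ⟨V, fun v hv => ⟨V, hv, e⟩, V.isOpen, hxV⟩

/-- Tensor products of modules invertible on an open are invertible there. -/
theorem invertibleAt_tensor (U : X.Opens) (L M : X.Modules) (hL : ∀ x : X, x ∈ U → RelCanon.InvertibleAt L x)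
    (hM : ∀ x : X, x ∈ U → RelCanon.InvertibleAt M x) (x : X) (hx : x ∈ U) :
    RelCanon.InvertibleAt (CohB1.tensorMod L M) x := by
  obtain ⟨W, hvW, ⟨eW⟩⟩ :=
    AmpleLib.isInvertible_tensorMod (isInvertible_restrict U hL) (isInvertible_restrict U hM) ⟨x, hx⟩
  exact invertibleAt_of_immersion (W.ι ≫ U.ι)
    ((Scheme.Modules.restrictFunctorComp W.ι U.ι).app _ ≪≫
      (Scheme.Modules.restrictFunctor W.ι).mapIso (Coherent.restrictTensorIso U.ι L M).symm ≪≫ eW)
    ⟨⟨x, hx⟩, hvW⟩

/-- The dual of the structure module is trivial. -/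
theorem nonempty_dual_unit : Nonempty (RefHull.dual (Coh.structureModule X) ≅ Coh.structureModule X) := by
  obtain ⟨e⟩ := VarietyLib.isInverseOf_dual (AmpleLib.isInvertible_structureModule (X := X))
  exact ⟨(AmpleLib.unitTensorIso _).symm ≪≫ e⟩

/-- A module invertible with trivial dual is trivial. -/
theorem nonempty_iso_unit_of_dual {L : X.Modules} (hL : PicF.IsInvertible L)
    (e : RefHull.dual L ≅ Coh.structureModule X) : Nonempty (L ≅ Coh.structureModule X) := by
  obtain ⟨e'⟩ := VarietyLib.isInverseOf_dual hL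
  exact ⟨((AmpleLib.tensorComm _ _) ≪≫ AmpleLib.unitTensorIso L).symm ≪≫
    AmpleLib.tensorIso (Iso.refl L) e.symm ≪≫ e'⟩

/-- Powers of a twisted inverse: if `Lⁿ` and `Mⁿ` are trivial then so is `(L ⊗ M^∨)ⁿ`. -/
theorem nonempty_pow_tensor_dual {L M : X.Modules} (hL : PicF.IsInvertible L) (hM : PicF.IsInvertible M)
    (hD : PicF.IsInvertible (RefHull.dual M)) (n : ℕ)
    (eL : CohB1.tensorPow L n ≅ Coh.structureModule X) (eM : CohB1.tensorPow M n ≅ Coh.structureModule X) :
    Nonempty (CohB1.tensorPow (CohB1.tensorMod L (RefHull.dual M)) n ≅ Coh.structureModule X) := by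
  have hT := AmpleLib.isInvertible_tensorMod hL hD
  refine (PicM.of_eq_one_iff (AmpleLib.isInvertible_tensorPow hT n)).1 ?_
  rw [PicM.of_tensorPow hT, ← PicM.of_mul hL hD, mul_pow, ← PicM.of_tensorPow hL,
    (PicM.of_eq_one_iff _).2 ⟨eL⟩, one_mul]
  have h1 : PicM.of hM * PicM.of hD = 1 :=
    (PicM.of_mul hM hD).trans ((PicM.of_eq_one_iff _).2 (VarietyLib.isInverseOf_dual hM))
  have h2 := congrArg (fun a => a ^ n) h1
  simp only [mul_pow, one_pow] at h2
  rwa [← PicM.of_tensorPow hM, (PicM.of_eq_one_iff _).2 ⟨eM⟩, one_mul] at h2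

/-- `L ⊗ M^∨` with trivial dual gives `L ≅ M`. -/
theorem nonempty_iso_of_tensor_dual {L M : X.Modules} (hL : PicF.IsInvertible L) (hM : PicF.IsInvertible M)
    (hD : PicF.IsInvertible (RefHull.dual M))
    (e : RefHull.dual (CohB1.tensorMod L (RefHull.dual M)) ≅ Coh.structureModule X) : Nonempty (L ≅ M) := by
  have hT := AmpleLib.isInvertible_tensorMod hL hD
  refine (PicM.of_eq_iff hL hM).1 (PicM.eq_of_mul_inv (c := PicM.of hD) ?_ ?_)
  · exact (PicM.of_mul hM hD).trans ((PicM.of_eq_one_iff _).2 (VarietyLib.isInverseOf_dual hM))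
  · exact (PicM.of_mul hL hD).trans ((PicM.of_eq_one_iff _).2 (nonempty_iso_unit_of_dual hT e))

variable [IsLocallyNoetherian X]

/-- `M ⊗ M^∨` is trivial where `M` is invertible. -/
theorem nonempty_tensor_dual_restrict (U : X.Opens) (M : X.Modules) (hM : ∀ x : X, x ∈ U → RelCanon.InvertibleAt M x) :
    Nonempty ((CohB1.tensorMod M (RefHull.dual M)).restrict U.ι ≅ (Coh.structureModule X).restrict U.ι) := by
  obtain ⟨d⟩ := nonempty_dual_restrict U M
  obtain ⟨e⟩ := VarietyLib.isInverseOf_dual (isInvertible_restrict U hM)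
  exact ⟨(Coherent.restrictTensorIso U.ι M (RefHull.dual M)).symm ≪≫ AmpleLib.tensorIso (Iso.refl _) d ≪≫ e ≪≫
    (Scheme.Modules.restrictUnitIso U.ι).symm⟩

/-- Duals with isomorphic stalks have isomorphic stalks. -/
theorem nonempty_dual_stalk_congr {P Q : X.Modules} (hP : Coh.IsCoh P) (hQ : Coh.IsCoh Q) (x : X)
    (e : P.presheaf.stalk x ≃ₗ[X.presheaf.stalk x] Q.presheaf.stalk x) :
    Nonempty ((RefHull.dual P).presheaf.stalk x ≃ₗ[X.presheaf.stalk x] (RefHull.dual Q).presheaf.stalk x) := by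
  obtain ⟨a⟩ := nonempty_dual_stalk_equiv hP x
  obtain ⟨b⟩ := nonempty_dual_stalk_equiv hQ x
  exact ⟨a.trans ((LinearEquiv.arrowCongr e (LinearEquiv.refl _ _)).trans b.symm)⟩

omit [IsLocallyNoetherian X] in
/-- Tensor products with isomorphic stalks have isomorphic stalks. -/
theorem nonempty_tensor_stalk_congr {P Q : X.Modules} (N : X.Modules) (x : X)
    (e : P.presheaf.stalk x ≃ₗ[X.presheaf.stalk x] Q.presheaf.stalk x) :
    Nonempty ((CohB1.tensorMod P N).presheaf.stalk x ≃ₗ[X.presheaf.stalk x]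
      (CohB1.tensorMod Q N).presheaf.stalk x) := by
  let e' : (DerSch.stalkFunctor X x).obj P ≅ (DerSch.stalkFunctor X x).obj Q := LinearEquiv.toModuleIso e
  exact ⟨((ModStalk.stalkTensorIso x P N) ≪≫ MonoidalCategory.tensorIso e' (Iso.refl _) ≪≫
    (ModStalk.stalkTensorIso x Q N).symm).toLinearEquiv⟩

end Groth.Agent.DualLib.RelTop
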